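import Cfsg.Agent.L0.Code

/-!
# Coded permutation groups as types with kernel-friendly multiplication
-/

set_option autoImplicit false

namespace Cfsg.Agent.H7.Asch

open L0.Code Equiv

theorem build_eq_sum (f : ℕ → ℕ) (n : ℕ) : build f n = ∑ i ∈ Finset.range n, f i * 16 ^ i := by
  induction n with
  | zero => rfl
  | succ n ih => rw [build, ih, Finset.sum_range_succ]

/-- The inverse of a code. -/
noncomputable def ivc (n c : ℕ) : ℕ :=
  frc c fun c => Nat.rec (nat_lit 0)
    (fun i ih => Nat.add ih (Nat.shiftLeft i (Nat.mul (nat_lit 4) (appR c i)))) n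

theorem ivc_eq (n c : ℕ) : ivc n c = ∑ i ∈ Finset.range n, i * 16 ^ app c i := by
  rw [ivc, frc_eq]
  induction n with
  | zero => rfl
  | succ n ih =>
    rw [Finset.sum_range_succ, ← ih]
    change _ + n <<< (4 * app c n) = _
    rw [Nat.shiftLeft_eq, pow_mul]
    rfl

theorem enc_inv {n : ℕ} (hn : n ≤ 16) (p : Perm (Fin n)) : enc p⁻¹ = ivc n (enc p) := by
  rw [ivc_eq, enc, build_eq_sum, Finset.sum_range, Finset.sum_range, ← Equiv.sum_comp p]
  refine Finset.sum_congr rfl fun i _ => ?_
  rw [app_enc hn p i]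
  simp

/-- The code of the identity. -/
noncomputable def onec (n : ℕ) : ℕ :=
  Nat.rec (nat_lit 0) (fun i ih => Nat.add ih (Nat.shiftLeft i (Nat.mul (nat_lit 4) i))) n

theorem enc_one (n : ℕ) : enc (1 : Perm (Fin n)) = onec n := by
  have h : ∀ m, onec m = build id m := fun m => by
    induction m with
    | zero => rfl
    | succ m ih =>
      rw [build, ← ih]
      change _ + m <<< (4 * m) = _
      rw [Nat.shiftLeft_eq, pow_mul]
      rfl
  rw [h, enc]
  exact build_congr _ _ _ fun j hj => by simp [hj]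

/-- Coded elements of a permutation group. -/
structure E {n : ℕ} (K : Subgroup (Perm (Fin n))) where
  /-- the code -/
  c : ℕ
  h : Cd K c

namespace E

variable {n : ℕ} {K : Subgroup (Perm (Fin n))}

theorem ext' {a b : E K} (h : a.c = b.c) : a = b := by
  cases a; cases b; cases h; rfl

instance instDecEqE : DecidableEq (E K) := fun a b =>
  match h : Nat.beq a.c b.c with
  | true => isTrue (ext' (Nat.eq_of_beq_eq_true h))
  | false => isFalse fun e => Nat.ne_of_beq_eq_false h (congrArg E.c e)

/-- Coding an element. -/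
def of (k : K) : E K := ⟨enc (k : Perm (Fin n)), k, k.2, rfl⟩

theorem of_surj : Function.Surjective (of : K → E K) := fun e => by
  obtain ⟨c, p, hp, rfl⟩ := e
  exact ⟨⟨p, hp⟩, rfl⟩

variable [hn : Fact (n ≤ 16)]

noncomputable instance instMulE : Mul (E K) := ⟨fun a b => ⟨mulc n a.c b.c, a.h.mul hn.out b.h⟩⟩

noncomputable instance instOneE : One (E K) := ⟨⟨onec n, 1, K.one_mem, enc_one n⟩⟩

noncomputable instance instInvE : Inv (E K) := ⟨fun a => ⟨ivc n a.c, by
  obtain ⟨p, hp, e⟩ := a.h
  exact ⟨p⁻¹, K.inv_mem hp, by rw [enc_inv hn.out, e]⟩⟩⟩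

theorem of_mul (a b : K) : of (a * b) = of a * of b := ext' (enc_mul hn.out _ _)

theorem of_one : of (1 : K) = 1 := ext' (enc_one n)

theorem of_inv (a : K) : of a⁻¹ = (of a)⁻¹ := ext' (enc_inv hn.out _)

theorem of_inj : Function.Injective (of : K → E K) := fun _ _ h =>
  Subtype.ext (enc_injective hn.out (congrArg E.c h))

noncomputable instance instGroupE : Group (E K) :=
  Group.ofLeftAxioms
    (fun a b c => by
      obtain ⟨a, rfl⟩ := of_surj a
      obtain ⟨b, rfl⟩ := of_surj b
      obtain ⟨c, rfl⟩ := of_surj c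
      simp only [← of_mul, mul_assoc])
    (fun a => by
      obtain ⟨a, rfl⟩ := of_surj a
      rw [← of_one, ← of_mul, one_mul])
    (fun a => by
      obtain ⟨a, rfl⟩ := of_surj a
      rw [← of_inv, ← of_mul, inv_mul_cancel, of_one])

/-- The coded group is isomorphic to the permutation group. -/
noncomputable def iso (K : Subgroup (Perm (Fin n))) : K ≃* E K :=
  MulEquiv.ofBijective (⟨⟨of, of_one⟩, of_mul⟩ : K →* E K) ⟨of_inj, of_surj⟩

theorem iso_apply (k : K) : iso K k = of k := rfl

instance instFiniteE : Finite (E K) := Finite.of_surjective _ of_surj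

theorem card_eq : Nat.card (E K) = Nat.card K := (Nat.card_congr (iso K).toEquiv).symm

/-- Replace the code by its value. -/
def lit (e : E K) (c : ℕ) (h : e.c = c) : E K := ⟨c, h ▸ e.h⟩

omit hn in
theorem lit_eq (e : E K) (c : ℕ) (h : e.c = c) : lit e c h = e := ext' h.symm

/-- An element given by its code. -/
def elt {L : List ℕ} (hL : Lists K L) (c : ℕ) (h : memb c L = true) : E K :=
  ⟨c, hL.cd c ((memb_iff _ _).1 h)⟩

/-- A list of elements from a list of codes. -/
def lst (L : List ℕ) (h : ∀ c ∈ L, Cd K c) : List (E K) := L.pmap E.mk h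

omit hn in
theorem mem_lst {L : List ℕ} {h : ∀ c ∈ L, Cd K c} {e : E K} : e ∈ lst L h ↔ e.c ∈ L := by
  rw [lst, List.mem_pmap]
  constructor
  · rintro ⟨c, hc, rfl⟩
    exact hc
  · exact fun he => ⟨e.c, he, rfl⟩

omit hn in
theorem mem_lst_all {L : List ℕ} (hL : Lists K L) (e : E K) : e ∈ lst L hL.cd := by
  obtain ⟨k, rfl⟩ := of_surj e
  exact mem_lst.2 (hL.mem _ k.2)

omit hn in
theorem cd_sub {L L' : List ℕ} (hL : ∀ c ∈ L, Cd K c) (h : allB (fun c => memb c L) L' = true) :
    ∀ c ∈ L', Cd K c := fun c hc => hL c ((memb_iff _ _).1 ((allB_iff _ _).1 h c hc))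

/-- A sublist of the elements. -/
def sub {L : List ℕ} (hL : Lists K L) (L' : List ℕ) (h : allB (fun c => memb c L) L' = true) :
    List (E K) := lst L' (cd_sub hL.cd h)

theorem card_of_lists {L : List ℕ} (hL : Lists K L) : Nat.card (E K) = L.length :=
  card_eq.trans hL.card_eq

/-- The inclusion of coded groups. -/
noncomputable def incl {K' : Subgroup (Perm (Fin n))} (h : K ≤ K') : E K →* E K' where
  toFun e := ⟨e.c, by obtain ⟨p, hp, e'⟩ := e.h; exact ⟨p, h hp, e'⟩⟩
  map_one' := rfl
  map_mul' _ _ := rfl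

theorem incl_inj {K' : Subgroup (Perm (Fin n))} (h : K ≤ K') : Function.Injective (incl h) :=
  fun _ _ e => ext' (congrArg (E.c (K := K')) e)

theorem closure_eq_top {S : Set (Perm (Fin n))} {S' : Set (E (Subgroup.closure S))}
    (h : ∀ g ∈ S, ∃ e ∈ Subgroup.closure S', e.c = enc g) : Subgroup.closure S' = ⊤ := by
  rw [eq_top_iff]
  rintro e -
  obtain ⟨⟨p, hp⟩, rfl⟩ := of_surj e
  induction hp using Subgroup.closure_induction with
  | mem x hx =>
    obtain ⟨e, he, h'⟩ := h x hx
    rwa [show of ⟨x, _⟩ = e from ext' h'.symm]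
  | one => exact (of_one (K := Subgroup.closure S)) ▸ Subgroup.one_mem _
  | mul x y hx hy h1 h2 =>
    exact (of_mul (K := Subgroup.closure S) ⟨x, hx⟩ ⟨y, hy⟩) ▸ Subgroup.mul_mem _ h1 h2
  | inv x hx h1 => exact (of_inv (K := Subgroup.closure S) ⟨x, hx⟩) ▸ Subgroup.inv_mem _ h1

end E

/-! ### Words -/

section Words

variable {M G : Type*} [Group M] [Group G]

/-- The value of a word in a list of elements. -/
noncomputable def ev (gs : List M) (w : List ℕ) : M :=
  List.rec 1 (fun i _ ih => gs.getD i 1 * ih) w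

theorem ev_nil (gs : List M) : ev gs [] = 1 := rfl

theorem ev_cons (gs : List M) (i : ℕ) (w : List ℕ) : ev gs (i :: w) = gs.getD i 1 * ev gs w := rfl

theorem map_ev (f : M →* G) (gs : List M) (w : List ℕ) : f (ev gs w) = ev (gs.map f) w := by
  induction w with
  | nil => exact map_one f
  | cons i w ih =>
    rw [ev_cons, ev_cons, map_mul, ih, ← map_one f, List.getD_map]

theorem ev_mem {H : Subgroup M} {gs : List M} (h : ∀ g ∈ gs, g ∈ H) (w : List ℕ) :
    ev gs w ∈ H := by
  induction w with
  | nil => exact H.one_mem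
  | cons i w ih =>
    refine H.mul_mem ?_ ih
    rw [List.getD_eq_getElem?_getD]
    cases e : gs[i]? with
    | none => exact H.one_mem
    | some g => exact h g (List.mem_of_getElem? e)

/-- Look up a word. -/
noncomputable def look (tb : List (ℕ × List ℕ)) (c : ℕ) : List ℕ :=
  frc c fun c => List.rec [] (fun p _ ih => Bool.rec ih p.2 (Nat.beq c p.1)) tb

end Words

end Cfsg.Agent.H7.Asch
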