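import Cfsg.Agent.H7.Asch.Gen
import Cfsg.Agent.H7.Asch.Elt
import Cfsg.Agent.H4.Small

/-!
# Groups with a self-centralizing four-group whose involutions are fused
-/

set_option autoImplicit false
set_option maxRecDepth 100000

namespace Cfsg.Agent.H7.Asch

open Subgroup H5 Equiv L0.Code

instance instFact5 : Fact (5 ≤ 16) := ⟨by decide⟩

/-- A generator. -/
def a5pp : Perm (Fin 5) :=
  ⟨![1, 2, 0, 3, 4], ![2, 0, 1, 3, 4], by decide, by decide⟩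

/-- A generator. -/
def a5pq : Perm (Fin 5) :=
  ⟨![1, 2, 3, 4, 0], ![4, 0, 1, 2, 3], by decide, by decide⟩

/-- The model. -/
def a5K : Subgroup (Perm (Fin 5)) := Subgroup.closure {a5pp, a5pq}

/-- Its elements. -/
def a5L : List ℕ :=
    [274960, 274465, 17185, 274690, 16690, 82690, 66610, 16915, 82480, 66115, 148240, 132115,
    136240, 135235, 81955, 66340, 147505, 131905, 135940, 197665, 5155, 200740, 9265, 204865, 8515,
    205060, 147715, 131380, 196930, 4930, 201730, 8980, 205840, 266290, 74755, 73780, 270640,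
    77890, 78340, 197140, 4660, 201280, 266755, 74560, 270355, 78880, 143380, 143680, 262705,
    12865, 267040, 271105, 144385, 262435, 12580, 213280, 213505, 262930, 13330, 213010]

/-- Words for its elements. -/
def a5W : List (List ℕ) :=
    [[], [0], [1], [0, 0], [1, 0], [0, 1], [1, 1], [1, 0, 0], [0, 1, 0], [1, 1, 0], [0, 0, 1], [1,
    0, 1], [0, 1, 1], [1, 1, 1], [0, 1, 0, 0], [1, 1, 0, 0], [0, 0, 1, 0], [1, 0, 1, 0], [1, 1, 1,
    0], [1, 0, 0, 1], [0, 1, 0, 1], [1, 1, 0, 1], [0, 0, 1, 1], [1, 0, 1, 1], [0, 1, 1, 1], [1, 1,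
    1, 1], [0, 0, 1, 0, 0], [1, 0, 1, 0, 0], [1, 0, 0, 1, 0], [0, 1, 0, 1, 0], [1, 1, 0, 1, 0], [0,
    1, 1, 1, 0], [1, 1, 1, 1, 0], [1, 1, 0, 0, 1], [0, 0, 1, 0, 1], [1, 0, 1, 0, 1], [1, 1, 1, 0,
    1], [1, 0, 0, 1, 1], [1, 0, 1, 1, 1], [0, 1, 1, 1, 1], [0, 1, 0, 1, 0, 0], [1, 1, 0, 1, 0, 0],
    [1, 1, 0, 0, 1, 0], [0, 0, 1, 0, 1, 0], [1, 1, 1, 0, 1, 0], [1, 0, 1, 1, 1, 0], [1, 0, 0, 1, 0,
    1], [1, 1, 0, 1, 0, 1], [0, 1, 1, 1, 0, 1], [1, 1, 1, 1, 0, 1], [1, 0, 1, 1, 1, 1], [1, 1, 1,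
    0, 1, 0, 0], [1, 0, 0, 1, 0, 1, 0], [0, 1, 1, 1, 0, 1, 0], [1, 1, 1, 1, 0, 1, 0], [1, 1, 0, 0,
    1, 0, 1], [1, 1, 1, 0, 1, 0, 1], [0, 1, 1, 1, 0, 1, 0, 0], [1, 1, 1, 1, 0, 1, 0, 0], [1, 1, 0,
    0, 1, 0, 1, 0]]

theorem a5enc_p : enc a5pp = 274465 := by decide +kernel

theorem a5enc_q : enc a5pq = 17185 := by decide +kernel

theorem a5lists : Lists a5K a5L :=
  lists_of_words (by decide) _ 274960 [274465, 17185] a5L a5W (by decide +kernel)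
    (by simp [a5enc_p, a5enc_q]) (by simp [← a5enc_p, ← a5enc_q])
    (by decide +kernel) (by decide +kernel) (by decide +kernel) (by decide +kernel)

theorem a5K_eq : a5K = alternatingGroup (Fin 5) := by
  refine eq_of_le_of_card_le ?_ (by rw [H4.Small.card_alt5, a5lists.card_eq]; rfl)
  rw [a5K, closure_le]
  rintro _ (rfl | rfl) <;> exact Perm.mem_alternatingGroup.2 (by decide)

/-- The elements of the model. -/
def a5E : List (E a5K) := E.lst a5L a5lists.cd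

/-- The properties of the third generator. -/
def A5Prop {G : Type*} [Group G] (ω δ c : G) (P : G → Prop) : Prop :=
  c * c * c = 1 ∧ c ≠ 1 ∧ ω * c * ω⁻¹ = c⁻¹ ∧ δ * c * (δ * c) = 1 ∧
    ∀ c', P c' → c' * c' * c' = 1 → ω * c' * ω⁻¹ = c'⁻¹ →
      (c' = 1 ∨ c' = c ∨ c' = c⁻¹ ∨ c' = δ * ω * δ⁻¹ * c * (δ * ω * δ⁻¹)⁻¹ ∨
        c' = (δ * ω * δ⁻¹ * c * (δ * ω * δ⁻¹)⁻¹)⁻¹) ∧ (δ * c' * (δ * c') = 1 → c' = c)

theorem a5_chk : ∀ ω ∈ a5E, ω * ω = 1 → ω ≠ 1 → ∀ δ ∈ a5E, δ * δ * δ = 1 →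
    δ * (δ * ω * δ⁻¹) * δ⁻¹ = ω * (δ * ω * δ⁻¹) → ∃ c ∈ a5E,
    (c * c * c = 1 ∧ c ≠ 1 ∧ ω * c * ω⁻¹ = c⁻¹ ∧ δ * c * (δ * c) = 1 ∧
    ∀ c' ∈ a5E, c' * c' * c' = 1 → ω * c' * ω⁻¹ = c'⁻¹ →
      (c' = 1 ∨ c' = c ∨ c' = c⁻¹ ∨ c' = δ * ω * δ⁻¹ * c * (δ * ω * δ⁻¹)⁻¹ ∨
        c' = (δ * ω * δ⁻¹ * c * (δ * ω * δ⁻¹)⁻¹)⁻¹) ∧ (δ * c' * (δ * c') = 1 → c' = c)) ∧
    ∃ g ∈ a5E, δ * c = g * ω * g⁻¹ := by decide +kernel

theorem a5_core {Y : Type*} [Group Y] [Finite Y] {ω δ : Y} (h2 : ω * ω = 1) (h1 : ω ≠ 1)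
    (h3 : δ * δ * δ = 1) (e2 : δ * (δ * ω * δ⁻¹) * δ⁻¹ = ω * (δ * ω * δ⁻¹))
    (hC : ∀ k, k * ω = ω * k → k = 1 ∨ k = ω ∨ k = δ * ω * δ⁻¹ ∨ k = ω * (δ * ω * δ⁻¹)) :
    closure {ω, δ} = ⊤ ∨ ∃ c, A5Prop ω δ c (fun _ => True) ∧ (∃ g, δ * c = g * ω * g⁻¹) ∧
      closure {ω, δ, c} = ⊤ := by
  obtain ⟨η, hη⟩ : ∃ η, η = δ * ω * δ⁻¹ := ⟨_, rfl⟩
  rw [← hη] at e2 hC
  have g2 : η * η = 1 := hη ▸ conj_mul_self_eq_one h2 δ
  have g3 : ω * η * (ω * η) = 1 := e2 ▸ conj_mul_self_eq_one g2 δ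
  have iω : ω⁻¹ = ω := inv_eq_of_mul_eq_one_left h2
  have iη : η⁻¹ = η := inv_eq_of_mul_eq_one_left g2
  have hc : η * ω = ω * η := by rw [← inv_eq_of_mul_eq_one_left g3, mul_inv_rev, iω, iη]
  have e3 : δ * (ω * η) * δ⁻¹ = ω := by
    calc _ = δ * ω * δ⁻¹ * (δ * η * δ⁻¹) := by group
      _ = ω := by rw [← hη, e2, ← mul_assoc, hc, mul_assoc, g2, mul_one]
  let V := centralizer ({ω} : Set Y)
  have hV : ∀ {k}, k ∈ V ↔ k = 1 ∨ k = ω ∨ k = η ∨ k = ω * η := fun {k} =>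
    ⟨fun h => hC k (mem_centralizer_singleton_iff.1 h), fun h => mem_centralizer_singleton_iff.2 (by
      rcases h with rfl | rfl | rfl | rfl
      · simp
      · rfl
      · exact hc
      · rw [mul_assoc, hc])⟩
  have hsq : ∀ k ∈ V, k * k = 1 := fun k hk => by
    rcases hV.1 hk with rfl | rfl | rfl | rfl
    exacts [mul_one 1, h2, g2, g3]
  have hδ : ∀ k ∈ V, δ * k * δ⁻¹ ∈ V := fun k hk => hV.2 (by
    rcases hV.1 hk with rfl | rfl | rfl | rfl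
    · simp
    · simp [hη]
    · simp [e2]
    · simp [e3])
  have hδN : δ ∈ normalizer (V : Set Y) := mem_normalizer_of_conj_mem hδ
  have hR : V ≤ closure {ω, δ} := fun k hk => by
    have a1 : ω ∈ closure ({ω, δ} : Set Y) := subset_closure (by simp)
    have a2 : δ ∈ closure ({ω, δ} : Set Y) := subset_closure (by simp)
    have a3 : η ∈ closure ({ω, δ} : Set Y) := hη ▸ mul_mem (mul_mem a2 a1) (inv_mem a2)
    rcases hV.1 hk with rfl | rfl | rfl | rfl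
    exacts [one_mem _, a1, a3, mul_mem a1 a3]
  have hcj : ∀ v ∈ V, v ≠ 1 → ∃ j : ℕ, δ ^ j * v * (δ ^ j)⁻¹ = ω := fun v hv hv1 => by
    rcases hV.1 hv with rfl | rfl | rfl | rfl
    · exact absurd rfl hv1
    · exact ⟨0, by simp⟩
    · exact ⟨2, by rw [← e3, ← e2, pow_two]; group⟩
    · exact ⟨1, by rw [pow_one, e3]⟩
  have hCv : ∀ v ∈ V, v ≠ 1 → ∀ k, k * v = v * k → k ∈ V := fun v hv hv1 k hk => by
    obtain ⟨j, hj⟩ := hcj v hv hv1
    have := conj_mem_of_mem_normalizer' (pow_mem hδN j)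
      (mem_centralizer_singleton_iff.2 (hj ▸ comm_conj hk : δ ^ j * k * (δ ^ j)⁻¹ * ω = _))
    simpa [mul_assoc] using this
  have hω : ω ∈ V := hV.2 (by simp)
  have hcm : ∀ a ∈ V, ∀ b ∈ V, a * b = b * a := fun a ha b hb => by
    rw [← inv_eq_of_mul_eq_one_left (hsq _ (V.mul_mem ha hb)), mul_inv_rev,
      inv_eq_of_mul_eq_one_left (hsq a ha), inv_eq_of_mul_eq_one_left (hsq b hb)]
  have hN : normalizer (V : Set Y) ≤ closure {ω, δ} := fun g hg => by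
    obtain ⟨j, hj⟩ := hcj _ (conj_mem_of_mem_normalizer hg hω) (by simpa using h1)
    have a2 : δ ^ j ∈ closure ({ω, δ} : Set Y) := pow_mem (subset_closure (by simp)) j
    have := hR (mem_centralizer_singleton_iff.2 (show δ ^ j * g * ω = ω * (δ ^ j * g) by
      rw [← conj_eq_iff_comm]; nth_rewrite 2 [← hj]; group))
    simpa using mul_mem (inv_mem a2) this
  have hS : IsSylowIn 2 V ⊤ := by
    refine isSylowIn_of_selfnorm le_top (isPGroup_two_iff.2 fun x hx => twoEl_of_sq (hsq x hx))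
      fun g _ hg hn => ?_
    by_contra hgV
    obtain ⟨j, k1, k2⟩ := hg.exists_pow_notMem hgV
    have k3 := conj_mem_of_mem_normalizer (pow_mem (mem_normalizer_of_conj_mem hn) j) hω
    generalize g ^ j = i at k1 k2 k3
    by_cases h : i * ω * i⁻¹ = ω
    · exact k1 (hCv ω hω h1 i (conj_eq_iff_comm.1 h))
    refine k1 (hCv _ (V.mul_mem hω k3) (fun e => h ?_) i ?_)
    · rw [eq_inv_of_mul_eq_one_right e, iω]
    · rw [← conj_eq_iff_comm, hcm _ hω _ k3]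
      calc _ = (i * i) * ω * (i * i)⁻¹ * (i * ω * i⁻¹) := by group
        _ = _ := by rw [hcm _ k2 _ hω, ← hcm _ hω _ k3]; group
  obtain ⟨S, hSV⟩ := exists_sylow_eq hS
  have hSm : ∀ {k}, k ∈ S ↔ k ∈ V := fun {k} => by rw [← hSV]; rfl
  have hcit : IsCIT Y := isCIT_of fun x t hx ht1 ht hxt => by
    obtain ⟨c, -, hc⟩ := IsSylowIn.conj_mem_one hS (twoEl_of_sq ht) (mem_top t)
    exact (twoEl_of_sq (hsq _ (hCv _ hc (by simpa using ht1) _ (comm_conj hxt)))).of_conj.eq_one_of_odd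
      hx
  have hti : SylTI Y := by
    have key : ∀ S' : Sylow 2 Y, ∀ u ∈ S', u ≠ 1 → ∀ k, k ∈ S' ↔ k * u = u * k := by
      intro S' u hu hu1 k
      obtain ⟨g, rfl⟩ := MulAction.exists_smul_eq Y S S'
      rw [sylow_mem_smul, hSm] at hu ⊢
      have e : ∀ a b : Y, a * b = g * (g⁻¹ * a * g * (g⁻¹ * b * g)) * g⁻¹ := fun a b => by group
      refine ⟨fun h => by rw [e k u, e u k, hcm _ h _ hu], fun h => hCv _ hu
        (Cj.ne_one ⟨g⁻¹, by group⟩ hu1) _ (by simpa using comm_conj (g := g⁻¹) h)⟩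
    exact fun S₁ S₂ u k1 k2 k3 => SetLike.ext fun k => (key _ u k1 k3 k).trans (key _ u k2 k3 k).symm
  by_cases hsub : ∀ b : Sylow 2 Y, S = b
  · left
    rw [eq_top_iff]
    exact fun g _ => hN (hSV ▸ Sylow.smul_eq_iff_mem_normalizer.1 (hsub _).symm)
  right
  push Not at hsub
  obtain ⟨b, hb⟩ := hsub
  have hη1 : η ≠ 1 := Cj.ne_one ⟨δ, hη.symm⟩ h1
  have hωη1 : ω * η ≠ 1 := Cj.ne_one ⟨δ, e2⟩ hη1
  have hωη : ω ≠ η := fun e => hωη1 (e ▸ h2)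
  have iu : ω ∈ invols (S : Subgroup Y) := ⟨hSm.2 hω, h1, h2⟩
  have iv : η ∈ invols (S : Subgroup Y) := ⟨hSm.2 (hV.2 (by simp)), hη1, g2⟩
  obtain ⟨c1, c2, c3⟩ := hti.card_eq hcit hb iu iv hωη
  have c4 : Nat.card S = 4 := by
    classical
    have : (S : Set Y) = ({1, ω, η, ω * η} : Finset Y) := Set.ext fun k => by
      simpa using hSm.trans hV
    rw [show Nat.card S = (S : Set Y).ncard from rfl, this, Set.ncard_coe_finset,
      Finset.card_eq_four]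
    exact ⟨1, ω, η, ω * η, h1.symm, hη1.symm, hωη1.symm, hωη, by simpa using hη1, by simpa using h1,
      rfl⟩
  have c5 : (invols (S : Subgroup Y)).ncard = 3 := by
    have := (Set.one_lt_ncard (Set.toFinite _)).2 ⟨ω, iu, η, iv, hωη⟩
    rw [c4] at c3
    rcases (Nat.dvd_prime Nat.prime_three).1 c3 with h | h <;> omega
  rw [c4] at c1 c2
  rw [c5] at c1
  have := Fintype.ofFinite (Sylow 2 Y)
  let q : Sylow 2 Y ≃ Fin 5 := Fintype.equivFinOfCardEq (by rw [← Nat.card_eq_fintype_card, c2])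
  obtain ⟨e⟩ := H4.Small.alt_of_injective
    (q.permCongrHom.toMonoidHom.comp (MulAction.toPermHom Y (Sylow 2 Y)))
    (q.permCongrHom.injective.comp ((injective_iff_map_eq_one _).2 fun g hg => by
      have k : ∀ a : Sylow 2 Y, g • a = a := fun a => congrArg (fun σ : Perm _ => σ a) hg
      exact hti.three hcit iu g (q.symm 0) (q.symm 1) (q.symm 2) (by simp) (by simp) (by simp)
        (k _) (k _) (k _))) (by rw [c1]; rfl)
  let f : Y ≃* E a5K := (e.trans (MulEquiv.subgroupCongr a5K_eq.symm)).trans (E.iso a5K)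
  have hall : ∀ k, k ∈ a5E := E.mem_lst_all a5lists
  subst hη
  obtain ⟨c, -, ⟨p1, p2, p3, p4, p5⟩, g, -, p6⟩ := a5_chk (f ω) (hall _) (by rw [← map_mul, h2, map_one])
    (by simpa using h1) (f δ) (hall _) (by rw [← map_mul, ← map_mul, h3, map_one])
    (by simpa using congrArg f e2)
  obtain ⟨c, rfl⟩ := f.surjective c
  obtain ⟨g, rfl⟩ := f.surjective g
  simp only [← map_mul, ← map_inv, f.map_eq_one_iff, f.injective.eq_iff, ne_eq] at p1 p2 p3 p4 p6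
  refine ⟨c, ⟨p1, p2, p3, p4, fun c' _ k1 k2 => ?_⟩, ⟨g, p6⟩, ?_⟩
  · simpa only [← map_mul, ← map_inv, f.map_eq_one_iff, f.injective.eq_iff] using
      p5 (f c') (hall _) (by rw [← map_mul, ← map_mul, k1, map_one]) (by simpa using congrArg f k2)
  · have k1 : normalizer (V : Set Y) ≤ closure {ω, δ, c} :=
      hN.trans (closure_mono fun x hx => by rcases hx with rfl | rfl <;> simp)
    have k2 : (normalizer (V : Set Y)).index = 5 := by
      rw [← hSV]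
      exact (S.card_eq_index_normalizer).symm.trans c2
    rcases (Nat.dvd_prime Nat.prime_five).1 (k2 ▸ index_dvd_of_le k1) with h | h
    · exact index_eq_one.1 h
    have k3 : c ∈ normalizer (V : Set Y) := by
      rw [eq_of_le_of_card_le k1 (by
        have a1 := (normalizer (V : Set Y)).card_mul_index
        have a2 := (closure {ω, δ, c}).card_mul_index
        rw [k2] at a1
        rw [h] at a2
        omega)]
      exact subset_closure (by simp)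
    have k4 := V.mul_mem (conj_mem_of_mem_normalizer k3 hω) (V.inv_mem hω)
    have k5 : c * ω * c⁻¹ * ω⁻¹ = c * c := by
      calc _ = c * (ω * c * ω⁻¹)⁻¹ := by group
        _ = _ := by rw [p3, inv_inv]
    have k6 := hsq _ (k5 ▸ k4)
    rw [← mul_assoc, p1, one_mul] at k6
    exact absurd k6 p2

/-- The same modulo a central subgroup `Z` of exponent two. -/
theorem a5_lemma {G : Type*} [Group G] [Finite G] {X Z : Subgroup G} {ω δ : G} (hZX : Z ≤ X)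
    (hZc : ∀ z ∈ Z, ∀ k ∈ X, k * z = z * k) (hZ2 : ∀ z ∈ Z, z * z = 1) (hω : ω ∈ X) (hδ : δ ∈ X)
    (h2 : ω * ω = 1) (h1 : ω ∉ Z) (h3 : δ * δ * δ = 1)
    (e2 : δ * (δ * ω * δ⁻¹) * δ⁻¹ = ω * (δ * ω * δ⁻¹))
    (hC : ∀ k ∈ X, k * ω * k⁻¹ * ω⁻¹ ∈ Z → k ∈ Z ∨ k * ω ∈ Z ∨ k * (δ * ω * δ⁻¹) ∈ Z ∨
      k * (ω * (δ * ω * δ⁻¹)) ∈ Z) {R : Subgroup G} (hZR : Z ≤ R) (hωR : ω ∈ R) (hδR : δ ∈ R) :
    X ≤ R ∨ ∃ c ∈ X, A5Prop ω δ c (· ∈ X) ∧
      ∀ R : Subgroup G, Z ≤ R → ω ∈ R → δ ∈ R → c ∈ R → X ≤ R := by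
  have hn : (Z.subgroupOf X).Normal := ⟨fun z hz k => by
    rw [mem_subgroupOf] at hz ⊢
    show (k : G) * z * (k : G)⁻¹ ∈ Z
    rwa [hZc _ hz _ k.2, mul_inv_cancel_right]⟩
  let π := QuotientGroup.mk' (Z.subgroupOf X)
  have hπ : ∀ k : X, π k = 1 ↔ (k : G) ∈ Z := fun k => QuotientGroup.eq_one_iff k
  have hs : Function.Surjective π := QuotientGroup.mk'_surjective _
  have hgen : ∀ (R : Subgroup G) (S : Set (X ⧸ Z.subgroupOf X)), Z ≤ R →
      (∀ y ∈ S, ∃ k : X, (k : G) ∈ R ∧ π k = y) → closure S = ⊤ → X ≤ R := by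
    intro R S hR hS ht k hk
    have h4 : closure S ≤ (R.subgroupOf X).map π := (closure_le _).2 hS
    obtain ⟨j, hj, e⟩ := h4 (ht ▸ mem_top (π ⟨k, hk⟩))
    have := R.mul_mem hj (hR ((hπ (j⁻¹ * ⟨k, hk⟩)).1 (by rw [map_mul, map_inv, e, inv_mul_cancel])))
    simpa using this
  have h3' : ∀ a b : X, π a = π b → (a : G) * a * a = 1 → (b : G) * b * b = 1 → (a : G) = b := by
    intro a b e ha hb
    have hz := (hπ (b⁻¹ * a)).1 (by rw [map_mul, map_inv, e, inv_mul_cancel])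
    obtain ⟨z, hz, e⟩ : ∃ z ∈ Z, (a : G) = b * z := ⟨_, hz, by simp⟩
    have c := hZc z hz b b.2
    rw [e, show (b : G) * z * (b * z) * (b * z) = b * (z * b) * (z * b) * z by group, ← c,
      show (b : G) * (b * z) * (b * z) * z = b * b * (z * b) * (z * z) by group, ← c, hZ2 z hz,
      ← mul_assoc, hb, one_mul, mul_one] at ha
    rw [e, ha, mul_one]
  let w : X := ⟨ω, hω⟩
  let d : X := ⟨δ, hδ⟩
  have w2 : w * w = 1 := Subtype.ext h2
  have d2 : d * (d * w * d⁻¹) * d⁻¹ = w * (d * w * d⁻¹) := Subtype.ext e2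
  have g2 : d * w * d⁻¹ * (d * w * d⁻¹) = 1 := conj_mul_self_eq_one w2 d
  have g3 : w * (d * w * d⁻¹) * (w * (d * w * d⁻¹)) = 1 := d2 ▸ conj_mul_self_eq_one g2 d
  have hi : ∀ k v : X, v * v = 1 → (k : G) * v ∈ Z → π k = π v := fun k v hv h => by
    rw [eq_inv_of_mul_eq_one_left ((map_mul π k v).symm.trans ((hπ (k * v)).2 h)), ← map_inv,
      inv_eq_of_mul_eq_one_left hv]
  rcases a5_core (ω := π w) (δ := π d) (by rw [← map_mul, w2, map_one]) (fun h => h1 ((hπ w).1 h))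
    (by rw [← map_mul, ← map_mul, show d * d * d = 1 from Subtype.ext h3, map_one])
    (by simpa using congrArg π d2) (fun k hk => by
      obtain ⟨k, rfl⟩ := hs k
      simp only [← map_mul, ← map_inv]
      rcases hC k k.2 ((hπ (k * w * k⁻¹ * w⁻¹)).1 (by simp [hk])) with h | h | h | h
      exacts [Or.inl ((hπ k).2 h), Or.inr (Or.inl (hi k w w2 h)), Or.inr (Or.inr (Or.inl (hi k _ g2 h))),
        Or.inr (Or.inr (Or.inr (hi k _ g3 h)))]) with h | ⟨c, ⟨p1, p2, p3, p4, p5⟩, ⟨g, p6⟩, p7⟩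
  · exact Or.inl (hgen R _ hZR (by
      rintro _ (rfl | rfl)
      exacts [⟨w, hωR, rfl⟩, ⟨d, hδR, rfl⟩]) h)
  right
  obtain ⟨b, rfl⟩ := hs c
  obtain ⟨g, rfl⟩ := hs g
  obtain ⟨c, hc, c3⟩ : ∃ c : X, π c = π b ∧ (c : G) * c * c = 1 := by
    refine ⟨b * b * b * b, by simp only [map_mul, p1, one_mul], ?_⟩
    have hz := (hπ (b * b * b)).1 (by simp only [map_mul, p1])
    have k1 := hZ2 _ hz
    simp only [coe_mul] at k1 ⊢
    calc _ = (b : G) * b * b * (b * b * b) * (b * b * b * (b * b * b)) := by group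
      _ = 1 := by rw [k1, mul_one]
  rw [← hc] at p1 p2 p3 p4 p5 p6 p7
  have cube : ∀ {a g : G}, a * a * a = 1 → g * a * g⁻¹ * (g * a * g⁻¹) * (g * a * g⁻¹) = 1 :=
    fun {a g} h => by
      calc _ = g * (a * a * a) * g⁻¹ := by group
        _ = 1 := by rw [h]; group
  have cubi : ∀ {a : G}, a * a * a = 1 → a⁻¹ * a⁻¹ * a⁻¹ = 1 := fun {a} h => by
    calc _ = (a * a * a)⁻¹ := by group
      _ = 1 := by rw [h, inv_one]
  refine ⟨c, c.2, ⟨c3, fun e => p2 (by rw [show c = 1 from Subtype.ext e, map_one]),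
    h3' (w * c * w⁻¹) c⁻¹ (by simpa using p3) (cube c3) (cubi c3), ?_, fun c' hc' k1 k2 => ?_⟩,
    fun R r1 r2 r3 r4 => hgen R _ r1 (by
      rintro _ (rfl | rfl | rfl)
      exacts [⟨w, r2, rfl⟩, ⟨d, r3, rfl⟩, ⟨c, r4, rfl⟩]) p7⟩
  · have hz := (hπ ((g * w * g⁻¹)⁻¹ * (d * c))).1 (by simp only [map_mul, map_inv, p6, inv_mul_cancel])
    obtain ⟨z, hz, e⟩ : ∃ z ∈ Z, δ * c = g * ω * (g : G)⁻¹ * z := ⟨_, hz, by simp [w, d, mul_assoc]⟩
    rw [e, mul_assoc, ← mul_assoc z, ← hZc z hz (g * ω * (g : G)⁻¹) (g * w * g⁻¹).2, mul_assoc _ z, hZ2 z hz, mul_one]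
    exact conj_mul_self_eq_one h2 _
  · obtain ⟨q1, q2⟩ := p5 (π ⟨c', hc'⟩) trivial
      (by rw [← map_mul, ← map_mul, show (⟨c', hc'⟩ * ⟨c', hc'⟩ * ⟨c', hc'⟩ : X) = 1 from
        Subtype.ext k1, map_one])
      (by simpa using congrArg π (show w * ⟨c', hc'⟩ * w⁻¹ = (⟨c', hc'⟩ : X)⁻¹ from Subtype.ext k2))
    refine ⟨q1.imp (fun h => h3' ⟨c', hc'⟩ 1 (by simpa using h) k1 (by simp)) (Or.imp
      (fun h => h3' ⟨c', hc'⟩ c h k1 c3) (Or.imp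
      (fun h => h3' ⟨c', hc'⟩ c⁻¹ (by simpa using h) k1 (cubi c3)) (Or.imp
      (fun h => h3' ⟨c', hc'⟩ (d * w * d⁻¹ * c * (d * w * d⁻¹)⁻¹) (by simpa using h) k1 (cube c3))
      (fun h => h3' ⟨c', hc'⟩ (d * w * d⁻¹ * c * (d * w * d⁻¹)⁻¹)⁻¹ (by simpa using h) k1
        (cubi (cube c3)))))), fun h => h3' ⟨c', hc'⟩ c (q2 ?_) k1 c3⟩
    rw [← map_mul, ← map_mul, show d * ⟨c', hc'⟩ * (d * ⟨c', hc'⟩) = 1 from Subtype.ext h, map_one]

end Cfsg.Agent.H7.Asch
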