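import Cfsg.Agent.H4.TC

/-!
# Collapsing coset enumerations
-/

set_option autoImplicit false
set_option maxRecDepth 100000
set_option linter.unusedSimpArgs false

namespace Cfsg.Agent.H7.Asch

open Cfsg.Agent.H4

/-- Certificate data. -/
def tc0_par : Trie :=
    (.node (.node (.node (.node (.node (.node (.node (.node (.leaf (nat_lit 0)) (.leaf (nat_lit
    16386))) (.leaf (nat_lit 9224))) (.node (.node (.leaf (nat_lit 3589)) (.leaf (nat_lit 27912)))
    (.leaf (nat_lit 14081)))) (.node (.node (.node (.leaf (nat_lit 2568)) (.leaf (nat_lit 17669)))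
    (.leaf (nat_lit 13059))) (.node (.leaf (nat_lit 4867)) (.leaf (nat_lit 14852))))) (.node (.node
    (.node (.node (.leaf (nat_lit 262)) (.leaf (nat_lit 16646))) (.leaf (nat_lit 11273))) (.node
    (.leaf (nat_lit 4101)) (.leaf (nat_lit 14342)))) (.node (.node (.node (.leaf (nat_lit 3078))
    (.leaf (nat_lit 18693))) (.leaf (nat_lit 13569))) (.node (.leaf (nat_lit 6665)) (.leaf (nat_lit
    15621)))))) (.node (.node (.node (.node (.node (.leaf (nat_lit 258)) (.leaf (nat_lit 16390)))
    (.leaf (nat_lit 10504))) (.node (.leaf (nat_lit 3846)) (.leaf (nat_lit 14085)))) (.node (.node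
    (.node (.leaf (nat_lit 3073)) (.leaf (nat_lit 18437))) (.leaf (nat_lit 13315))) (.node (.leaf
    (nat_lit 5897)) (.leaf (nat_lit 15110))))) (.node (.node (.node (.node (.leaf (nat_lit 1800))
    (.leaf (nat_lit 16900))) (.leaf (nat_lit 12553))) (.node (.leaf (nat_lit 4358)) (.leaf (nat_lit
    14596)))) (.node (.node (.node (.leaf (nat_lit 3585)) (.leaf (nat_lit 19717))) (.leaf (nat_lit
    13573))) (.node (.leaf (nat_lit 8456)) (.leaf (nat_lit 16131))))))) (.node (.node (.node (.node
    (.node (.node (.leaf (nat_lit 9)) (.leaf (nat_lit 16388))) (.leaf (nat_lit 10248))) (.node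
    (.leaf (nat_lit 3843)) (.leaf (nat_lit 14083)))) (.node (.node (.node (.leaf (nat_lit 2824))
    (.leaf (nat_lit 17925))) (.leaf (nat_lit 13061))) (.node (.leaf (nat_lit 4870)) (.leaf (nat_lit
    14854))))) (.node (.node (.node (.node (.leaf (nat_lit 517)) (.leaf (nat_lit 16898))) (.leaf
    (nat_lit 12040))) (.node (.leaf (nat_lit 4355)) (.leaf (nat_lit 14594)))) (.node (.node (.node
    (.leaf (nat_lit 3333)) (.leaf (nat_lit 19205))) (.leaf (nat_lit 13571))) (.node (.leaf (nat_lit
    6921)) (.leaf (nat_lit 15874)))))) (.node (.node (.node (.node (.node (.leaf (nat_lit 260))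
    (.leaf (nat_lit 16644))) (.leaf (nat_lit 11017))) (.node (.leaf (nat_lit 4098)) (.leaf (nat_lit
    14339)))) (.node (.node (.node (.leaf (nat_lit 3075)) (.leaf (nat_lit 18690))) (.leaf (nat_lit
    13317))) (.node (.leaf (nat_lit 6153)) (.leaf (nat_lit 15365))))) (.node (.node (.node (.node
    (.leaf (nat_lit 2056)) (.leaf (nat_lit 16902))) (.leaf (nat_lit 13057))) (.node (.leaf (nat_lit
    4613)) (.leaf (nat_lit 14598)))) (.node (.node (.node (.leaf (nat_lit 3587)) (.leaf (nat_lit
    25608))) (.leaf (nat_lit 13575))) (.node (.leaf (nat_lit 8968)) (.leaf (nat_lit 16134))))))))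
    (.node (.node (.node (.node (.node (.node (.node (.leaf (nat_lit 8)) (.leaf (nat_lit 16387)))
    (.leaf (nat_lit 9225))) (.node (.node (.leaf (nat_lit 3590)) (.leaf (nat_lit 27913))) (.leaf
    (nat_lit 14082)))) (.node (.node (.node (.leaf (nat_lit 2569)) (.leaf (nat_lit 17670))) (.leaf
    (nat_lit 13060))) (.node (.leaf (nat_lit 4869)) (.leaf (nat_lit 14853))))) (.node (.node (.node
    (.node (.leaf (nat_lit 515)) (.leaf (nat_lit 16897))) (.leaf (nat_lit 11784))) (.node (.leaf
    (nat_lit 4102)) (.leaf (nat_lit 14593)))) (.node (.node (.node (.leaf (nat_lit 3331)) (.leaf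
    (nat_lit 18694))) (.leaf (nat_lit 13570))) (.node (.leaf (nat_lit 6920)) (.leaf (nat_lit
    15622)))))) (.node (.node (.node (.node (.node (.leaf (nat_lit 259)) (.leaf (nat_lit 16643)))
    (.leaf (nat_lit 10505))) (.node (.leaf (nat_lit 4097)) (.leaf (nat_lit 14086)))) (.node (.node
    (.node (.leaf (nat_lit 3074)) (.leaf (nat_lit 18689))) (.leaf (nat_lit 13316))) (.node (.leaf
    (nat_lit 6152)) (.leaf (nat_lit 15364))))) (.node (.node (.node (.node (.leaf (nat_lit 1801))
    (.leaf (nat_lit 16901))) (.leaf (nat_lit 12808))) (.node (.leaf (nat_lit 4611)) (.leaf (nat_lit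
    14597)))) (.node (.node (.node (.leaf (nat_lit 3586)) (.leaf (nat_lit 23817))) (.leaf (nat_lit
    13574))) (.node (.leaf (nat_lit 8457)) (.leaf (nat_lit 16133))))))) (.node (.node (.node (.node
    (.node (.node (.leaf (nat_lit 257)) (.leaf (nat_lit 16389))) (.leaf (nat_lit 10249))) (.node
    (.leaf (nat_lit 3845)) (.leaf (nat_lit 14084)))) (.node (.node (.node (.leaf (nat_lit 2825))
    (.leaf (nat_lit 17926))) (.leaf (nat_lit 13062))) (.node (.leaf (nat_lit 5896)) (.leaf (nat_lit
    15109))))) (.node (.node (.node (.node (.leaf (nat_lit 518)) (.leaf (nat_lit 16899))) (.leaf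
    (nat_lit 12041))) (.node (.leaf (nat_lit 4357)) (.leaf (nat_lit 14595)))) (.node (.node (.node
    (.leaf (nat_lit 3334)) (.leaf (nat_lit 19462))) (.leaf (nat_lit 13572))) (.node (.leaf (nat_lit
    8201)) (.leaf (nat_lit 15878)))))) (.node (.node (.node (.node (.node (.leaf (nat_lit 261))
    (.leaf (nat_lit 16645))) (.leaf (nat_lit 11272))) (.node (.leaf (nat_lit 4099)) (.leaf (nat_lit
    14341)))) (.node (.node (.node (.leaf (nat_lit 3077)) (.leaf (nat_lit 18691))) (.leaf (nat_lit
    13318))) (.node (.leaf (nat_lit 6664)) (.leaf (nat_lit 15366))))) (.node (.node (.node (.node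
    (.leaf (nat_lit 2057)) (.leaf (nat_lit 17668))) (.leaf (nat_lit 13058))) (.node (.leaf (nat_lit
    4614)) (.leaf (nat_lit 14599)))) (.node (.node (.node (.leaf (nat_lit 3588)) (.leaf (nat_lit
    25609))) (.leaf (nat_lit 13830))) (.node (.leaf (nat_lit 8969)) (.leaf (nat_lit 16385)))))))))

/-- Certificate data. -/
def tc0_fact : Trie :=
    (.node (.node (.node (.node (.node (.node (.node (.node (.node (.node (.leaf (nat_lit 1))
    (.leaf (nat_lit 3735560))) (.leaf (nat_lit 6567685))) (.node (.leaf (nat_lit 2107655)) (.leaf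
    (nat_lit 9257477)))) (.node (.node (.leaf (nat_lit 1444867)) (.leaf (nat_lit 8536068))) (.node
    (.leaf (nat_lit 4137737)) (.leaf (nat_lit 10243333))))) (.node (.node (.node (.leaf (nat_lit
    527108)) (.leaf (nat_lit 7945478))) (.node (.leaf (nat_lit 1257475)) (.leaf (nat_lit
    7246082)))) (.node (.node (.leaf (nat_lit 1516289)) (.leaf (nat_lit 8732931))) (.node (.leaf
    (nat_lit 5124865)) (.leaf (nat_lit 4475392)))))) (.node (.node (.node (.node (.leaf (nat_lit
    460806)) (.leaf (nat_lit 7289095))) (.node (.leaf (nat_lit 2953731)) (.leaf (nat_lit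
    5073921)))) (.node (.node (.leaf (nat_lit 1904130)) (.leaf (nat_lit 5404674))) (.node (.leaf
    (nat_lit 4598537)) (.leaf (nat_lit 1782272))))) (.node (.node (.node (.leaf (nat_lit 986887))
    (.leaf (nat_lit 3628544))) (.node (.leaf (nat_lit 3421191)) (.leaf (nat_lit 4811008)))) (.node
    (.node (.leaf (nat_lit 2698242)) (.leaf (nat_lit 3498496))) (.node (.leaf (nat_lit 5780737))
    (.leaf (nat_lit 3328))))))) (.node (.node (.node (.node (.node (.leaf (nat_lit 131585)) (.leaf
    (nat_lit 6895873))) (.node (.leaf (nat_lit 855811)) (.leaf (nat_lit 4345089)))) (.node (.node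
    (.leaf (nat_lit 1710854)) (.leaf (nat_lit 6259714))) (.node (.leaf (nat_lit 4401161)) (.leaf
    (nat_lit 10513672))))) (.node (.node (.node (.leaf (nat_lit 131587)) (.leaf (nat_lit 8208133)))
    (.node (.leaf (nat_lit 3027203)) (.leaf (nat_lit 9783553)))) (.node (.node (.leaf (nat_lit
    2625541)) (.leaf (nat_lit 6129665))) (.node (.leaf (nat_lit 5518339)) (.leaf (nat_lit
    855808)))))) (.node (.node (.node (.node (.leaf (nat_lit 527105)) (.leaf (nat_lit 7566342)))
    (.node (.leaf (nat_lit 1182724)) (.leaf (nat_lit 9454853)))) (.node (.node (.leaf (nat_lit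
    791042)) (.leaf (nat_lit 4214784))) (.node (.leaf (nat_lit 4927241)) (.leaf (nat_lit
    4541184))))) (.node (.node (.node (.leaf (nat_lit 1248009)) (.leaf (nat_lit 5928192))) (.node
    (.leaf (nat_lit 3808009)) (.leaf (nat_lit 7641345)))) (.node (.node (.leaf (nat_lit 1055744))
    (.leaf (nat_lit 4277764))) (.node (.leaf (nat_lit 6173959)) (.leaf (nat_lit 3359232))))))))
    (.node (.node (.node (.node (.node (.node (.node (.leaf (nat_lit 65544)) (.leaf (nat_lit
    13312))) (.leaf (nat_lit 6764549))) (.node (.leaf (nat_lit 2823939)) (.leaf (nat_lit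
    4352512)))) (.node (.node (.leaf (nat_lit 1641731)) (.leaf (nat_lit 6849539))) (.node (.leaf
    (nat_lit 4269065)) (.leaf (nat_lit 10380296))))) (.node (.node (.node (.leaf (nat_lit 67072))
    (.leaf (nat_lit 8076806))) (.node (.leaf (nat_lit 1255936)) (.leaf (nat_lit 9605894)))) (.node
    (.node (.leaf (nat_lit 2428929)) (.leaf (nat_lit 6588161))) (.node (.leaf (nat_lit 5321476))
    (.leaf (nat_lit 66048)))))) (.node (.node (.node (.node (.leaf (nat_lit 721414)) (.leaf
    (nat_lit 7485958))) (.node (.leaf (nat_lit 1715714)) (.leaf (nat_lit 6908928)))) (.node (.node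
    (.leaf (nat_lit 2166278)) (.leaf (nat_lit 3698688))) (.node (.leaf (nat_lit 4671497)) (.leaf
    (nat_lit 856832))))) (.node (.node (.node (.leaf (nat_lit 1116681)) (.leaf (nat_lit 6061314)))
    (.node (.leaf (nat_lit 3676681)) (.leaf (nat_lit 4798721)))) (.node (.node (.leaf (nat_lit
    1058049)) (.leaf (nat_lit 5661700))) (.node (.leaf (nat_lit 5977348)) (.leaf (nat_lit
    3840))))))) (.node (.node (.node (.node (.node (.leaf (nat_lit 327939)) (.leaf (nat_lit
    7092484))) (.node (.leaf (nat_lit 921603)) (.leaf (nat_lit 3771392)))) (.node (.node (.leaf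
    (nat_lit 1316096)) (.leaf (nat_lit 3358727))) (.node (.leaf (nat_lit 4532489)) (.leaf (nat_lit
    7183360))))) (.node (.node (.node (.leaf (nat_lit 855303)) (.leaf (nat_lit 6651393))) (.node
    (.leaf (nat_lit 2175490)) (.leaf (nat_lit 9980165)))) (.node (.node (.leaf (nat_lit 2822405))
    (.leaf (nat_lit 6124547))) (.node (.leaf (nat_lit 5649413)) (.leaf (nat_lit 3490816))))))
    (.node (.node (.node (.node (.leaf (nat_lit 65799)) (.leaf (nat_lit 7814150))) (.node (.leaf
    (nat_lit 1519367)) (.leaf (nat_lit 4936704)))) (.node (.node (.leaf (nat_lit 2232067)) (.leaf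
    (nat_lit 4227076))) (.node (.leaf (nat_lit 3427074)) (.leaf (nat_lit 790016))))) (.node (.node
    (.node (.leaf (nat_lit 1118978)) (.leaf (nat_lit 8339457))) (.node (.leaf (nat_lit 3940616))
    (.leaf (nat_lit 10000897)))) (.node (.node (.leaf (nat_lit 925187)) (.leaf (nat_lit 9060866)))
    (.node (.leaf (nat_lit 6371074)) (.leaf (nat_lit 3686144))))))))) (.node (.node (.node (.node
    (.node (.node (.node (.node (.leaf (nat_lit 5)) (.leaf (nat_lit 14080))) (.leaf (nat_lit
    6579462))) (.node (.leaf (nat_lit 2301955)) (.leaf (nat_lit 9276934)))) (.node (.node (.leaf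
    (nat_lit 1575942)) (.leaf (nat_lit 8667142))) (.node (.leaf (nat_lit 4144903)) (.leaf (nat_lit
    8887300))))) (.node (.node (.node (.leaf (nat_lit 461315)) (.leaf (nat_lit 8011266))) (.node
    (.leaf (nat_lit 2633986)) (.leaf (nat_lit 9277955)))) (.node (.node (.leaf (nat_lit 2302982))
    (.leaf (nat_lit 8798468))) (.node (.leaf (nat_lit 3362567)) (.leaf (nat_lit 133120)))))) (.node
    (.node (.node (.node (.leaf (nat_lit 133379)) (.leaf (nat_lit 7354884))) (.node (.leaf (nat_lit
    3019269)) (.leaf (nat_lit 5081856)))) (.node (.node (.leaf (nat_lit 2035204)) (.leaf (nat_lit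
    8671751))) (.node (.leaf (nat_lit 4664328)) (.leaf (nat_lit 3422976))))) (.node (.node (.node
    (.leaf (nat_lit 855810)) (.leaf (nat_lit 3956736))) (.node (.leaf (nat_lit 3545097)) (.leaf
    (nat_lit 3774208)))) (.node (.node (.leaf (nat_lit 2696195)) (.leaf (nat_lit 3618052))) (.node
    (.leaf (nat_lit 3954951)) (.leaf (nat_lit 1792))))))) (.node (.node (.node (.node (.node (.leaf
    (nat_lit 262402)) (.leaf (nat_lit 5073415))) (.node (.leaf (nat_lit 1056256)) (.leaf (nat_lit
    9340931)))) (.node (.node (.leaf (nat_lit 1579778)) (.leaf (nat_lit 4214528))) (.node (.leaf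
    (nat_lit 3556098)) (.leaf (nat_lit 10526985))))) (.node (.node (.node (.leaf (nat_lit 853769))
    (.leaf (nat_lit 8224262))) (.node (.leaf (nat_lit 3224070)) (.leaf (nat_lit 4822535)))) (.node
    (.node (.leaf (nat_lit 2631942)) (.leaf (nat_lit 7165442))) (.node (.leaf (nat_lit 3888388))
    (.leaf (nat_lit 1584896)))))) (.node (.node (.node (.node (.leaf (nat_lit 66560)) (.leaf
    (nat_lit 7683076))) (.node (.leaf (nat_lit 3084806)) (.leaf (nat_lit 4543744)))) (.node (.node
    (.leaf (nat_lit 791047)) (.leaf (nat_lit 8421632))) (.node (.leaf (nat_lit 4541191)) (.leaf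
    (nat_lit 461568))))) (.node (.node (.node (.leaf (nat_lit 1250055)) (.leaf (nat_lit 5923585)))
    (.node (.leaf (nat_lit 3874825)) (.leaf (nat_lit 9476097)))) (.node (.node (.leaf (nat_lit
    921602)) (.leaf (nat_lit 6117124))) (.node (.leaf (nat_lit 6239750)) (.leaf (nat_lit
    16384)))))))) (.node (.node (.node (.node (.node (.node (.leaf (nat_lit 66057)) (.leaf (nat_lit
    6776838))) (.node (.leaf (nat_lit 989440)) (.leaf (nat_lit 5081600)))) (.node (.node (.leaf
    (nat_lit 1707269)) (.leaf (nat_lit 4082177))) (.node (.leaf (nat_lit 4145410)) (.leaf (nat_lit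
    10395401))))) (.node (.node (.node (.leaf (nat_lit 65796)) (.leaf (nat_lit 8142595))) (.node
    (.leaf (nat_lit 1249539)) (.leaf (nat_lit 9717765)))) (.node (.node (.leaf (nat_lit 1058311))
    (.leaf (nat_lit 8882182))) (.node (.leaf (nat_lit 5452550)) (.leaf (nat_lit 1583360))))))
    (.node (.node (.node (.node (.leaf (nat_lit 658183)) (.leaf (nat_lit 7551749))) (.node (.leaf
    (nat_lit 1185280)) (.leaf (nat_lit 5073153)))) (.node (.node (.leaf (nat_lit 1777923)) (.leaf
    (nat_lit 3684868))) (.node (.leaf (nat_lit 4795912)) (.leaf (nat_lit 2633216))))) (.node (.node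
    (.node (.leaf (nat_lit 1118471)) (.leaf (nat_lit 6642695))) (.node (.leaf (nat_lit 3684359))
    (.leaf (nat_lit 4798724)))) (.node (.node (.leaf (nat_lit 926976)) (.leaf (nat_lit 4291584)))
    (.node (.leaf (nat_lit 6108422)) (.leaf (nat_lit 6912))))))) (.node (.node (.node (.node (.node
    (.leaf (nat_lit 459013)) (.leaf (nat_lit 7223558))) (.node (.leaf (nat_lit 2628100)) (.leaf
    (nat_lit 3752452)))) (.node (.node (.leaf (nat_lit 791559)) (.leaf (nat_lit 5275905))) (.node
    (.leaf (nat_lit 3425537)) (.leaf (nat_lit 5665536))))) (.node (.node (.node (.leaf (nat_lit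
    985097)) (.leaf (nat_lit 3498240))) (.node (.leaf (nat_lit 3413769)) (.leaf (nat_lit
    10000646)))) (.node (.node (.leaf (nat_lit 2829318)) (.leaf (nat_lit 7562243))) (.node (.leaf
    (nat_lit 5658374)) (.leaf (nat_lit 3492352)))))) (.node (.node (.node (.node (.leaf (nat_lit
    461314)) (.leaf (nat_lit 7879941))) (.node (.leaf (nat_lit 2371329)) (.leaf (nat_lit
    3427076)))) (.node (.node (.leaf (nat_lit 2297605)) (.leaf (nat_lit 4673024))) (.node (.leaf
    (nat_lit 3820546)) (.leaf (nat_lit 2699008))))) (.node (.node (.node (.leaf (nat_lit 1379330))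
    (.leaf (nat_lit 4685831))) (.node (.leaf (nat_lit 3554567)) (.leaf (nat_lit 10177542)))) (.node
    (.node (.leaf (nat_lit 2696196)) (.leaf (nat_lit 9126403))) (.node (.leaf (nat_lit 6436611))
    (.leaf (nat_lit 5888)))))))))) (.node (.node (.node (.node (.node (.node (.node (.node (.node
    (.leaf (nat_lit 3)) (.leaf (nat_lit 3619072))) (.leaf (nat_lit 6633222))) (.node (.leaf
    (nat_lit 2629895)) (.leaf (nat_lit 9323014)))) (.node (.node (.leaf (nat_lit 1510405)) (.leaf
    (nat_lit 8601605))) (.node (.leaf (nat_lit 4079369)) (.leaf (nat_lit 5676034))))) (.node (.node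
    (.node (.leaf (nat_lit 526087)) (.leaf (nat_lit 7895302))) (.node (.leaf (nat_lit 3216133))
    (.leaf (nat_lit 9586181)))) (.node (.node (.leaf (nat_lit 2363142)) (.leaf (nat_lit 4752643)))
    (.node (.leaf (nat_lit 5190402)) (.leaf (nat_lit 3358722)))))) (.node (.node (.node (.node
    (.leaf (nat_lit 590339)) (.leaf (nat_lit 5074689))) (.node (.leaf (nat_lit 1191171)) (.leaf
    (nat_lit 9136385)))) (.node (.node (.leaf (nat_lit 1969667)) (.leaf (nat_lit 5468676))) (.node
    (.leaf (nat_lit 4277762)) (.leaf (nat_lit 4344064))))) (.node (.node (.node (.leaf (nat_lit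
    855809)) (.leaf (nat_lit 3487490))) (.node (.leaf (nat_lit 3479560)) (.leaf (nat_lit
    3773952)))) (.node (.node (.leaf (nat_lit 2698241)) (.leaf (nat_lit 3957504))) (.node (.leaf
    (nat_lit 5846274)) (.leaf (nat_lit 256))))))) (.node (.node (.node (.node (.node (.leaf
    (nat_lit 196865)) (.leaf (nat_lit 6961410))) (.node (.leaf (nat_lit 927488)) (.leaf (nat_lit
    5737985)))) (.node (.node (.leaf (nat_lit 1710855)) (.leaf (nat_lit 6257411))) (.node (.leaf
    (nat_lit 4014849)) (.leaf (nat_lit 10579209))))) (.node (.node (.node (.leaf (nat_lit 788232))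
    (.leaf (nat_lit 8273670))) (.node (.leaf (nat_lit 3281670)) (.leaf (nat_lit 9849090)))) (.node
    (.node (.leaf (nat_lit 2691078)) (.leaf (nat_lit 5732100))) (.node (.leaf (nat_lit 5583876))
    (.leaf (nat_lit 1517568)))))) (.node (.node (.node (.node (.leaf (nat_lit 657154)) (.leaf
    (nat_lit 7566343))) (.node (.leaf (nat_lit 1182723)) (.leaf (nat_lit 9277441)))) (.node (.node
    (.leaf (nat_lit 791041)) (.leaf (nat_lit 3375616))) (.node (.leaf (nat_lit 4868873)) (.leaf
    (nat_lit 4212480))))) (.node (.node (.node (.leaf (nat_lit 1184521)) (.leaf (nat_lit 3955203)))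
    (.node (.leaf (nat_lit 3684866)) (.leaf (nat_lit 10054919)))) (.node (.node (.leaf (nat_lit
    921601)) (.leaf (nat_lit 4736515))) (.node (.leaf (nat_lit 3956225)) (.leaf (nat_lit
    9216)))))))) (.node (.node (.node (.node (.node (.node (.node (.leaf (nat_lit 131081)) (.leaf
    (nat_lit 8))) (.leaf (nat_lit 6830086))) (.node (.leaf (nat_lit 860672)) (.leaf (nat_lit
    3770624)))) (.node (.node (.leaf (nat_lit 858371)) (.leaf (nat_lit 4880896))) (.node (.leaf
    (nat_lit 4210953)) (.leaf (nat_lit 10445833))))) (.node (.node (.node (.leaf (nat_lit 66816))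
    (.leaf (nat_lit 6847234))) (.node (.leaf (nat_lit 1126400)) (.leaf (nat_lit 7246595)))) (.node
    (.node (.leaf (nat_lit 2494466)) (.leaf (nat_lit 8929542))) (.node (.leaf (nat_lit 5387013))
    (.leaf (nat_lit 67584)))))) (.node (.node (.node (.node (.leaf (nat_lit 658182)) (.leaf
    (nat_lit 7434758))) (.node (.leaf (nat_lit 1715713)) (.leaf (nat_lit 3762435)))) (.node (.node
    (.leaf (nat_lit 2105606)) (.leaf (nat_lit 3827200))) (.node (.leaf (nat_lit 4605954)) (.leaf
    (nat_lit 1581312))))) (.node (.node (.node (.leaf (nat_lit 1052937)) (.leaf (nat_lit 7765249)))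
    (.node (.leaf (nat_lit 3618825)) (.leaf (nat_lit 4798727)))) (.node (.node (.leaf (nat_lit
    1058055)) (.leaf (nat_lit 4163072))) (.node (.leaf (nat_lit 6042885)) (.leaf (nat_lit
    8960))))))) (.node (.node (.node (.node (.node (.leaf (nat_lit 393476)) (.leaf (nat_lit
    7158021))) (.node (.leaf (nat_lit 2628099)) (.leaf (nat_lit 4352768)))) (.node (.node (.leaf
    (nat_lit 791553)) (.leaf (nat_lit 4207362))) (.node (.leaf (nat_lit 4474121)) (.leaf (nat_lit
    3755264))))) (.node (.node (.node (.leaf (nat_lit 919560)) (.leaf (nat_lit 8285699))) (.node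
    (.leaf (nat_lit 3348232)) (.leaf (nat_lit 10045702)))) (.node (.node (.leaf (nat_lit 2887942))
    (.leaf (nat_lit 7632643))) (.node (.leaf (nat_lit 5714950)) (.leaf (nat_lit 1516291))))))
    (.node (.node (.node (.node (.leaf (nat_lit 65794)) (.leaf (nat_lit 7763718))) (.node (.leaf
    (nat_lit 2371330)) (.leaf (nat_lit 4537091)))) (.node (.node (.leaf (nat_lit 991747)) (.leaf
    (nat_lit 3362307))) (.node (.leaf (nat_lit 4993289)) (.leaf (nat_lit 790528))))) (.node (.node
    (.node (.leaf (nat_lit 1313793)) (.leaf (nat_lit 8404994))) (.node (.leaf (nat_lit 4006153))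
    (.leaf (nat_lit 6068740)))) (.node (.node (.leaf (nat_lit 2826241)) (.leaf (nat_lit 4360711)))
    (.node (.leaf (nat_lit 3629319)) (.leaf (nat_lit 16640))))))))) (.node (.node (.node (.node
    (.node (.node (.node (.node (.leaf (nat_lit 7)) (.leaf (nat_lit 3407881))) (.leaf (nat_lit
    6699011))) (.node (.leaf (nat_lit 2301956)) (.leaf (nat_lit 7638530)))) (.node (.node (.leaf
    (nat_lit 1513478)) (.leaf (nat_lit 8619014))) (.node (.leaf (nat_lit 4203528)) (.leaf (nat_lit
    10312969))))) (.node (.node (.node (.leaf (nat_lit 461316)) (.leaf (nat_lit 4094471))) (.node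
    (.leaf (nat_lit 2633985)) (.leaf (nat_lit 9651718)))) (.node (.node (.leaf (nat_lit 2302983))
    (.leaf (nat_lit 8864005))) (.node (.leaf (nat_lit 5255939)) (.leaf (nat_lit 68096)))))) (.node
    (.node (.node (.node (.leaf (nat_lit 655877)) (.leaf (nat_lit 7420421))) (.node (.leaf (nat_lit
    1584647)) (.leaf (nat_lit 4345092)))) (.node (.node (.leaf (nat_lit 2100741)) (.leaf (nat_lit
    5400323))) (.node (.leaf (nat_lit 4729865)) (.leaf (nat_lit 4278272))))) (.node (.node (.node
    (.leaf (nat_lit 1051144)) (.leaf (nat_lit 3619842))) (.node (.leaf (nat_lit 3611144)) (.leaf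
    (nat_lit 5084416)))) (.node (.node (.leaf (nat_lit 2434560)) (.leaf (nat_lit 3619843))) (.node
    (.leaf (nat_lit 5911811)) (.leaf (nat_lit 3072))))))) (.node (.node (.node (.node (.node (.leaf
    (nat_lit 66567)) (.leaf (nat_lit 7026947))) (.node (.leaf (nat_lit 921604)) (.leaf (nat_lit
    9272580)))) (.node (.node (.leaf (nat_lit 1579777)) (.leaf (nat_lit 3374848))) (.node (.leaf
    (nat_lit 4466952)) (.leaf (nat_lit 10330370))))) (.node (.node (.node (.leaf (nat_lit 789769))
    (.leaf (nat_lit 8224263))) (.node (.leaf (nat_lit 3224071)) (.leaf (nat_lit 9914627)))) (.node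
    (.node (.leaf (nat_lit 2756867)) (.leaf (nat_lit 7564546))) (.node (.leaf (nat_lit 5526791))
    (.leaf (nat_lit 1778688)))))) (.node (.node (.node (.node (.leaf (nat_lit 66304)) (.leaf
    (nat_lit 7748613))) (.node (.leaf (nat_lit 3026694)) (.leaf (nat_lit 3903232)))) (.node (.node
    (.leaf (nat_lit 2169603)) (.leaf (nat_lit 5132544))) (.node (.leaf (nat_lit 3885825)) (.leaf
    (nat_lit 791040))))) (.node (.node (.node (.leaf (nat_lit 1118977)) (.leaf (nat_lit 6511361)))
    (.node (.leaf (nat_lit 3881735)) (.leaf (nat_lit 10111749)))) (.node (.node (.leaf (nat_lit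
    1974016)) (.leaf (nat_lit 8995329))) (.node (.leaf (nat_lit 6305537)) (.leaf (nat_lit
    4259849)))))))) (.node (.node (.node (.node (.node (.node (.leaf (nat_lit 131591)) (.leaf
    (nat_lit 6776839))) (.node (.leaf (nat_lit 855812)) (.leaf (nat_lit 4339970)))) (.node (.node
    (.leaf (nat_lit 1772806)) (.leaf (nat_lit 7963649))) (.node (.leaf (nat_lit 4335624)) (.leaf
    (nat_lit 10329857))))) (.node (.node (.node (.leaf (nat_lit 133376)) (.leaf (nat_lit 4619267)))
    (.node (.leaf (nat_lit 3027204)) (.leaf (nat_lit 7181315)))) (.node (.node (.leaf (nat_lit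
    2560003)) (.leaf (nat_lit 7833602))) (.node (.leaf (nat_lit 5395206)) (.leaf (nat_lit
    67328)))))) (.node (.node (.node (.node (.leaf (nat_lit 527106)) (.leaf (nat_lit 7617286)))
    (.node (.leaf (nat_lit 797952)) (.leaf (nat_lit 9389316)))) (.node (.node (.leaf (nat_lit
    1184768)) (.leaf (nat_lit 7439107))) (.node (.leaf (nat_lit 4861704)) (.leaf (nat_lit
    1515520))))) (.node (.node (.node (.leaf (nat_lit 1182472)) (.leaf (nat_lit 6120455))) (.node
    (.leaf (nat_lit 3742472)) (.leaf (nat_lit 4803842)))) (.node (.node (.leaf (nat_lit 1056000))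
    (.leaf (nat_lit 4621568))) (.node (.leaf (nat_lit 6053126)) (.leaf (nat_lit 6656))))))) (.node
    (.node (.node (.node (.node (.leaf (nat_lit 524550)) (.leaf (nat_lit 7171590))) (.node (.leaf
    (nat_lit 1518339)) (.leaf (nat_lit 7106304)))) (.node (.node (.leaf (nat_lit 1838593)) (.leaf
    (nat_lit 5341697))) (.node (.leaf (nat_lit 3884290)) (.leaf (nat_lit 8885248))))) (.node (.node
    (.node (.leaf (nat_lit 921353)) (.leaf (nat_lit 3627008))) (.node (.leaf (nat_lit 3355657))
    (.leaf (nat_lit 8952067)))) (.node (.node (.leaf (nat_lit 2829319)) (.leaf (nat_lit 3627776)))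
    (.node (.leaf (nat_lit 5658375)) (.leaf (nat_lit 3620352)))))) (.node (.node (.node (.node
    (.leaf (nat_lit 722948)) (.leaf (nat_lit 6256647))) (.node (.leaf (nat_lit 3150595)) (.leaf
    (nat_lit 9520390)))) (.node (.node (.leaf (nat_lit 1516290)) (.leaf (nat_lit 3360514))) (.node
    (.leaf (nat_lit 5059080)) (.leaf (nat_lit 2304768))))) (.node (.node (.node (.leaf (nat_lit
    791815)) (.leaf (nat_lit 8470531))) (.node (.leaf (nat_lit 4072200)) (.leaf (nat_lit
    8100610)))) (.node (.node (.leaf (nat_lit 2826242)) (.leaf (nat_lit 9191940))) (.node (.leaf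
    (nat_lit 6502148)) (.leaf (nat_lit 14336)))))))))))

/-- Certificate data. -/
def tc0_just : Trie :=
    (.node (.node (.node (.node (.node (.node (.node (.node (.node (.node (.leaf (nat_lit 1))
    (.leaf (nat_lit 3223686488391682))) (.leaf (nat_lit 0))) (.node (.leaf (nat_lit
    4595625318936674321)) (.leaf (nat_lit 0)))) (.node (.node (.leaf (nat_lit 0)) (.leaf (nat_lit
    0))) (.node (.leaf (nat_lit 0)) (.leaf (nat_lit 0))))) (.node (.node (.node (.leaf (nat_lit
    829093610577395728)) (.leaf (nat_lit 0))) (.node (.leaf (nat_lit 2180781528718704648)) (.leaf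
    (nat_lit 84080131403832967946521935911)))) (.node (.node (.leaf (nat_lit
    20746834689667684341222080539)) (.leaf (nat_lit 0))) (.node (.leaf (nat_lit 0)) (.leaf (nat_lit
    7394208769011548162)))))) (.node (.node (.node (.node (.leaf (nat_lit 246423748739079)) (.leaf
    (nat_lit 0))) (.node (.leaf (nat_lit 0)) (.leaf (nat_lit 4806098469126146)))) (.node (.node
    (.leaf (nat_lit 0)) (.leaf (nat_lit 70922488078349149747020169255))) (.node (.leaf (nat_lit 0))
    (.leaf (nat_lit 6619396166301974530))))) (.node (.node (.node (.leaf (nat_lit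
    14238805744132028020969308164)) (.leaf (nat_lit 9120609416675262466))) (.node (.leaf (nat_lit
    53860220803752860791788142596)) (.leaf (nat_lit 557796481318343297701080257555595326)))) (.node
    (.node (.leaf (nat_lit 279204092945092927746388335424336101386)) (.leaf (nat_lit
    8815508185646563330))) (.node (.leaf (nat_lit 0)) (.leaf (nat_lit 349516182113803829250)))))))
    (.node (.node (.node (.node (.node (.leaf (nat_lit 3170210000336439187964317597701)) (.leaf
    (nat_lit 0))) (.node (.leaf (nat_lit 1215016183398402)) (.leaf (nat_lit 6697181159489538))))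
    (.node (.node (.leaf (nat_lit 1232067203563527)) (.leaf (nat_lit
    664845097915286390922453730634349740075))) (.node (.leaf (nat_lit 0)) (.leaf (nat_lit 0)))))
    (.node (.node (.node (.leaf (nat_lit 316998651346946)) (.leaf (nat_lit 0))) (.node (.leaf
    (nat_lit 92566202633675334547252732952611)) (.leaf (nat_lit 0)))) (.node (.node (.leaf (nat_lit
    0)) (.leaf (nat_lit 76179421652115614305280720926))) (.node (.leaf (nat_lit 0)) (.leaf (nat_lit
    1575626954609197058)))))) (.node (.node (.node (.node (.leaf (nat_lit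
    39882032487473705808255837796236328971)) (.leaf (nat_lit 4893028607197191))) (.node (.leaf
    (nat_lit 2543372258639874)) (.leaf (nat_lit 0)))) (.node (.node (.leaf (nat_lit
    1082671061139458)) (.leaf (nat_lit 203881183971529461674819776348212))) (.node (.leaf (nat_lit
    0)) (.leaf (nat_lit 7484184026010550274))))) (.node (.node (.node (.leaf (nat_lit 0)) (.leaf
    (nat_lit 17941229425964240601104))) (.node (.leaf (nat_lit 0)) (.leaf (nat_lit
    176965293602725895049368746524735)))) (.node (.node (.leaf (nat_lit 4181425811146080258))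
    (.leaf (nat_lit 6204471101227010))) (.node (.leaf (nat_lit 0)) (.leaf (nat_lit
    6241586176948633602)))))))) (.node (.node (.node (.node (.node (.node (.node (.leaf (nat_lit
    0)) (.leaf (nat_lit 37933036030638543863810))) (.leaf (nat_lit 0))) (.node (.leaf (nat_lit
    4577971414212214818)) (.leaf (nat_lit 500653330050047561685866645570453552)))) (.node (.node
    (.leaf (nat_lit 0)) (.leaf (nat_lit 90723247766952804362838474776))) (.node (.leaf (nat_lit 0))
    (.leaf (nat_lit 0))))) (.node (.node (.node (.leaf (nat_lit 9195423449102782399507157418004))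
    (.leaf (nat_lit 0))) (.node (.leaf (nat_lit 209742648307440154463001506809905190)) (.leaf
    (nat_lit 7339545058213895)))) (.node (.node (.leaf (nat_lit 0)) (.leaf (nat_lit
    79892489288223010558421893147))) (.node (.leaf (nat_lit 0)) (.leaf (nat_lit
    72990536768969391238086658)))))) (.node (.node (.node (.node (.leaf (nat_lit 0)) (.leaf
    (nat_lit 0))) (.node (.leaf (nat_lit 21674761035303120793317539854)) (.leaf (nat_lit
    14472646293970944002)))) (.node (.node (.leaf (nat_lit 0)) (.leaf (nat_lit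
    165826607115765505308564103036978))) (.node (.leaf (nat_lit 3696175840624643)) (.leaf (nat_lit
    2584223212879675394))))) (.node (.node (.node (.leaf (nat_lit 0)) (.leaf (nat_lit
    76479994409135847200088522764))) (.node (.leaf (nat_lit 0)) (.leaf (nat_lit
    7489198898675714)))) (.node (.node (.leaf (nat_lit 1786599021084674)) (.leaf (nat_lit
    73074378950444404013084835895))) (.node (.leaf (nat_lit 0)) (.leaf (nat_lit
    8729916166242306))))))) (.node (.node (.node (.node (.node (.leaf (nat_lit 0)) (.leaf (nat_lit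
    0))) (.node (.leaf (nat_lit 2182620775579650)) (.leaf (nat_lit
    170899834401846991663566080638996)))) (.node (.node (.leaf (nat_lit
    332229996582020206787771728793008626860055)) (.leaf (nat_lit 3978673019551746))) (.node (.leaf
    (nat_lit 0)) (.leaf (nat_lit
    309166034958529424930732687642934508693552599830757494709540190266896069132044087269181873413570616833530236161674762277005557826)))))
    (.node (.node (.node (.leaf (nat_lit 13000488210783983322224001028)) (.leaf (nat_lit
    683455638970289199786091944047184248843))) (.node (.leaf (nat_lit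
    26480243715470699822867415079)) (.leaf (nat_lit 0)))) (.node (.node (.leaf (nat_lit 0)) (.leaf
    (nat_lit 156967128215974811441622770188323))) (.node (.leaf (nat_lit 0)) (.leaf (nat_lit
    13077952709969211293698)))))) (.node (.node (.node (.node (.leaf (nat_lit 193741679886338))
    (.leaf (nat_lit 0))) (.node (.leaf (nat_lit 2343456430121746441)) (.leaf (nat_lit
    7879506967851630594)))) (.node (.node (.leaf (nat_lit 0)) (.leaf (nat_lit 5623679853658114)))
    (.node (.leaf (nat_lit 110305741948364806226211085156374)) (.leaf (nat_lit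
    2404166458570637314))))) (.node (.node (.node (.leaf (nat_lit
    32964801941935424041841670422550)) (.leaf (nat_lit 0))) (.node (.leaf (nat_lit 0)) (.leaf
    (nat_lit 66898821963594350029242432)))) (.node (.node (.leaf (nat_lit 1452416205717506)) (.leaf
    (nat_lit 0))) (.node (.leaf (nat_lit 0)) (.leaf (nat_lit 6547936448891518978))))))))) (.node
    (.node (.node (.node (.node (.node (.node (.node (.leaf (nat_lit 1)) (.leaf (nat_lit
    76500104685107913129525250))) (.leaf (nat_lit 4505811535659015))) (.node (.leaf (nat_lit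
    3568866313986310162)) (.leaf (nat_lit 6758710860972039)))) (.node (.node (.leaf (nat_lit 0))
    (.leaf (nat_lit 0))) (.node (.leaf (nat_lit 59435330495222608487013285892)) (.leaf (nat_lit
    109921231481981856808077492279))))) (.node (.node (.node (.leaf (nat_lit 1207527843362439186))
    (.leaf (nat_lit 0))) (.node (.leaf (nat_lit 32202391998735595885002358798)) (.leaf (nat_lit
    119520779853083059904099778620)))) (.node (.node (.leaf (nat_lit 1654503006928903)) (.leaf
    (nat_lit 0))) (.node (.leaf (nat_lit 109671916648250691833403298742278)) (.leaf (nat_lit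
    746937968605986818)))))) (.node (.node (.node (.node (.leaf (nat_lit 288371263964119048))
    (.leaf (nat_lit 0))) (.node (.leaf (nat_lit 0)) (.leaf (nat_lit 28975752561962539810865))))
    (.node (.node (.leaf (nat_lit 0)) (.leaf (nat_lit 11840511668637597713))) (.node (.leaf
    (nat_lit 0)) (.leaf (nat_lit 8528940472939511810))))) (.node (.node (.node (.leaf (nat_lit
    26625001139468304751726241972246)) (.leaf (nat_lit 8976529438741299202))) (.node (.leaf
    (nat_lit 0)) (.leaf (nat_lit 14599275085341851650)))) (.node (.node (.leaf (nat_lit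
    71022175339120911151962886963228)) (.leaf (nat_lit 4480376739332098))) (.node (.leaf (nat_lit
    119185637117518581474244132536326)) (.leaf (nat_lit 8747499762352130))))))) (.node (.node
    (.node (.node (.node (.leaf (nat_lit 0)) (.leaf (nat_lit 141395834593655943494137419333638)))
    (.node (.leaf (nat_lit 3731400482195963906)) (.leaf (nat_lit 14183993361756782626)))) (.node
    (.node (.leaf (nat_lit 175511325368940338404716642338662318090)) (.leaf (nat_lit
    418837247695166084660234087406501936))) (.node (.leaf (nat_lit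
    112841813690683255609742653325334)) (.leaf (nat_lit 8025966731460611))))) (.node (.node (.node
    (.leaf (nat_lit 0)) (.leaf (nat_lit 5209842574819335))) (.node (.leaf (nat_lit
    2833797947195399)) (.leaf (nat_lit 135683822011943570928023344971782)))) (.node (.node (.leaf
    (nat_lit 1830493586849799)) (.leaf (nat_lit 171860011192278207543901671587893))) (.node (.leaf
    (nat_lit 7461595775093637136)) (.leaf (nat_lit 8553908406452226)))))) (.node (.node (.node
    (.node (.leaf (nat_lit 9831722815758786183877399871501)) (.leaf (nat_lit 0))) (.node (.leaf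
    (nat_lit 0)) (.leaf (nat_lit 530522987040749289011165306739490854)))) (.node (.node (.leaf
    (nat_lit 1372942130872322)) (.leaf (nat_lit 11427183236049207298))) (.node (.leaf (nat_lit
    63151047861842701978605846532)) (.leaf (nat_lit 1539457497411289090))))) (.node (.node (.node
    (.leaf (nat_lit 17334411789863664176943464452)) (.leaf (nat_lit 11300439657382346797))) (.node
    (.leaf (nat_lit 0)) (.leaf (nat_lit 126301261159875138308152885292)))) (.node (.node (.leaf
    (nat_lit 1399613877780482)) (.leaf (nat_lit 11211511015193903123))) (.node (.leaf (nat_lit 0))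
    (.leaf (nat_lit 36672280219455949373442)))))))) (.node (.node (.node (.node (.node (.node
    (.leaf (nat_lit 70415988948995)) (.leaf (nat_lit 4576214639575047))) (.node (.leaf (nat_lit
    3335012873796780034)) (.leaf (nat_lit 9590497844087947266)))) (.node (.node (.leaf (nat_lit 0))
    (.leaf (nat_lit 5113326069743618))) (.node (.leaf (nat_lit 121723569843822781434128473980950))
    (.leaf (nat_lit 7955563627544579))))) (.node (.node (.node (.leaf (nat_lit 220224448233474))
    (.leaf (nat_lit 0))) (.node (.leaf (nat_lit 2816171401412610)) (.leaf (nat_lit 0)))) (.node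
    (.node (.leaf (nat_lit 32330976641821309860449354186758)) (.leaf (nat_lit 6248296947515399)))
    (.node (.leaf (nat_lit 0)) (.leaf (nat_lit 4887056836146357338114)))))) (.node (.node (.node
    (.node (.leaf (nat_lit 684679260849504265)) (.leaf (nat_lit 0))) (.node (.leaf (nat_lit
    190262651010714524781448836992729126)) (.leaf (nat_lit 7040349046439938)))) (.node (.node
    (.leaf (nat_lit 23376094905997167338228940824)) (.leaf (nat_lit 4568105741320194))) (.node
    (.leaf (nat_lit 0)) (.leaf (nat_lit 7195927210040164354))))) (.node (.node (.node (.leaf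
    (nat_lit 16096092301268834056042577924)) (.leaf (nat_lit 10813910615404511249))) (.node (.leaf
    (nat_lit 55717883489208722618480721924)) (.leaf (nat_lit 7524391860699138)))) (.node (.node
    (.leaf (nat_lit 29819981204839834739837176840221)) (.leaf (nat_lit 12778781754446249986)))
    (.node (.leaf (nat_lit 0)) (.leaf (nat_lit 202483558706669944834))))))) (.node (.node (.node
    (.node (.node (.leaf (nat_lit 0)) (.leaf (nat_lit 0))) (.node (.leaf (nat_lit
    32821288562561223577315967012)) (.leaf (nat_lit 4709324266012674)))) (.node (.node (.leaf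
    (nat_lit 1108964850925570)) (.leaf (nat_lit 8184406661834932273))) (.node (.leaf (nat_lit
    110333905390846208470175866880005)) (.leaf (nat_lit 16185034185629696002))))) (.node (.node
    (.node (.leaf (nat_lit 0)) (.leaf (nat_lit 229806729719073045262100111890579481))) (.node
    (.leaf (nat_lit 0)) (.leaf (nat_lit 7533145004048391)))) (.node (.node (.leaf (nat_lit
    1900896690765831)) (.leaf (nat_lit 10130506985611919378))) (.node (.leaf (nat_lit
    4153796016078855)) (.leaf (nat_lit 8659478702587906)))))) (.node (.node (.node (.node (.leaf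
    (nat_lit 4335134129095514728916451342)) (.leaf (nat_lit 0))) (.node (.leaf (nat_lit
    30027531388532026512549216286)) (.leaf (nat_lit 4093726603476994)))) (.node (.node (.leaf
    (nat_lit 0)) (.leaf (nat_lit 23476820349919405801513))) (.node (.leaf (nat_lit
    116646314279044204963152360046614)) (.leaf (nat_lit 3845336541400596482))))) (.node (.node
    (.node (.leaf (nat_lit 0)) (.leaf (nat_lit 133137532809669532136775910621190))) (.node (.leaf
    (nat_lit 55098539148037385547212521476)) (.leaf (nat_lit 0)))) (.node (.node (.leaf (nat_lit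
    66589581201349260403555034398751)) (.leaf (nat_lit 0))) (.node (.leaf (nat_lit 0)) (.leaf
    (nat_lit 80836657515003906)))))))))) (.node (.node (.node (.node (.node (.node (.node (.node
    (.node (.leaf (nat_lit 1)) (.leaf (nat_lit 6458016734409588738))) (.leaf (nat_lit 0))) (.node
    (.leaf (nat_lit 3821313810061525025)) (.leaf (nat_lit 0)))) (.node (.node (.leaf (nat_lit 0))
    (.leaf (nat_lit 0))) (.node (.leaf (nat_lit 3361761097023491)) (.leaf (nat_lit
    54799315632207916993675296))))) (.node (.node (.node (.leaf (nat_lit 865087214634336273))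
    (.leaf (nat_lit 5033843404963847))) (.node (.leaf (nat_lit 0)) (.leaf (nat_lit 0)))) (.node
    (.node (.leaf (nat_lit 0)) (.leaf (nat_lit 7695836754477252616))) (.node (.leaf (nat_lit 0))
    (.leaf (nat_lit 6178924635750402)))))) (.node (.node (.node (.node (.leaf (nat_lit 0)) (.leaf
    (nat_lit 9588324277103558698))) (.node (.leaf (nat_lit 3190115481982009352)) (.leaf (nat_lit
    13770013219420831803)))) (.node (.node (.leaf (nat_lit 0)) (.leaf (nat_lit
    145883081035797183547905671626783))) (.node (.leaf (nat_lit 124260262901258410681493067595798))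
    (.leaf (nat_lit 14131410974800019458))))) (.node (.node (.node (.leaf (nat_lit
    26631032847914182646092676923397)) (.leaf (nat_lit 4233527788961794))) (.node (.leaf (nat_lit
    0)) (.leaf (nat_lit 9537229086997544962)))) (.node (.node (.leaf (nat_lit
    279204096754698577299391998432834551819)) (.leaf (nat_lit 11085314125734281218))) (.node (.leaf
    (nat_lit 0)) (.leaf (nat_lit 423284431492238016514))))))) (.node (.node (.node (.node (.node
    (.leaf (nat_lit 0)) (.leaf (nat_lit 0))) (.node (.leaf (nat_lit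
    52965124050396822194991460188181)) (.leaf (nat_lit 630321604866591204422215610893733527599))))
    (.node (.node (.leaf (nat_lit 2522799257786974217)) (.leaf (nat_lit
    101559756877689285579031052312))) (.node (.leaf (nat_lit 119833075755419148085823642468357))
    (.leaf (nat_lit 0))))) (.node (.node (.node (.leaf (nat_lit 0)) (.leaf (nat_lit 0))) (.node
    (.leaf (nat_lit 0)) (.leaf (nat_lit 0)))) (.node (.node (.leaf (nat_lit 0)) (.leaf (nat_lit
    73374492642206672408906432527))) (.node (.leaf (nat_lit 0)) (.leaf (nat_lit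
    2350264176624205826)))))) (.node (.node (.node (.node (.leaf (nat_lit
    6502208148725585419277041676)) (.leaf (nat_lit 10019306507042226185))) (.node (.leaf (nat_lit
    2552168351662082)) (.leaf (nat_lit 119519791842693281493304082459)))) (.node (.node (.leaf
    (nat_lit 1355349944827906)) (.leaf (nat_lit 8202614582980837378))) (.node (.leaf (nat_lit
    3784179720519683)) (.leaf (nat_lit 7105890388979941378))))) (.node (.node (.node (.leaf
    (nat_lit 968055563878403)) (.leaf (nat_lit 4972476912238594))) (.node (.leaf (nat_lit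
    114110238375506342928980099137558)) (.leaf (nat_lit 15464044021424521249)))) (.node (.node
    (.leaf (nat_lit 1417197473890306)) (.leaf (nat_lit 6213267194249218))) (.node (.leaf (nat_lit
    8723210730024927274)) (.leaf (nat_lit 8835495052312578)))))))) (.node (.node (.node (.node
    (.node (.node (.node (.leaf (nat_lit 0)) (.leaf (nat_lit 9073208607244290))) (.leaf (nat_lit
    0))) (.node (.leaf (nat_lit 44706980412154811004509170892820)) (.leaf (nat_lit
    9572483432693563394)))) (.node (.node (.leaf (nat_lit 1766300047735193608)) (.leaf (nat_lit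
    279185844184093154710442336923942937))) (.node (.leaf (nat_lit 3432164200939523)) (.leaf
    (nat_lit 0))))) (.node (.node (.node (.leaf (nat_lit 487030981921013762)) (.leaf (nat_lit
    694090711541619698864530033516185452587))) (.node (.leaf (nat_lit 3875990968532664322)) (.leaf
    (nat_lit 83621125097448758421408317501)))) (.node (.node (.leaf (nat_lit 0)) (.leaf (nat_lit
    0))) (.node (.leaf (nat_lit 0)) (.leaf (nat_lit 8518758394101762)))))) (.node (.node (.node
    (.node (.leaf (nat_lit 334427628634119)) (.leaf (nat_lit 4840226279260167))) (.node (.leaf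
    (nat_lit 22294183811796327260983001115)) (.leaf (nat_lit 4726976581599234)))) (.node (.node
    (.leaf (nat_lit 1460877291290631)) (.leaf (nat_lit 9895897150141956098))) (.node (.leaf
    (nat_lit 131869111969959419921117961715734)) (.leaf (nat_lit 2674295235491856386))))) (.node
    (.node (.node (.leaf (nat_lit 897652459962371)) (.leaf (nat_lit
    87630744876592354210714353708))) (.node (.leaf (nat_lit 3150551785275395)) (.leaf (nat_lit
    7497994991697922)))) (.node (.node (.leaf (nat_lit 1795395114106882)) (.leaf (nat_lit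
    385075261209695627845633082567163960))) (.node (.leaf (nat_lit 0)) (.leaf (nat_lit
    80854498809151490))))))) (.node (.node (.node (.node (.node (.leaf (nat_lit 0)) (.leaf (nat_lit
    0))) (.node (.leaf (nat_lit 65955446268430839510072631427107)) (.leaf (nat_lit
    13824021256346992642)))) (.node (.node (.leaf (nat_lit 1100168757903362)) (.leaf (nat_lit
    5570774446505986))) (.node (.leaf (nat_lit 3572970408771587)) (.leaf (nat_lit
    9717857050482114562))))) (.node (.node (.node (.leaf (nat_lit 0)) (.leaf (nat_lit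
    93039095403771402562174320664))) (.node (.leaf (nat_lit 0)) (.leaf (nat_lit 0)))) (.node (.node
    (.leaf (nat_lit 0)) (.leaf (nat_lit 13138832788470038554))) (.node (.leaf (nat_lit 0)) (.leaf
    (nat_lit 2519801478119426)))))) (.node (.node (.node (.node (.leaf (nat_lit 167361990754306))
    (.leaf (nat_lit 4981032487092231))) (.node (.leaf (nat_lit 30498709965481000702092640295))
    (.leaf (nat_lit 7172350571315202)))) (.node (.node (.leaf (nat_lit 1820317061143003144)) (.leaf
    (nat_lit 4022799513550850))) (.node (.leaf (nat_lit 0)) (.leaf (nat_lit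
    35054100236828313649154))))) (.node (.node (.node (.leaf (nat_lit 0)) (.leaf (nat_lit 0)))
    (.node (.leaf (nat_lit 0)) (.leaf (nat_lit 75861105333069568916012269623)))) (.node (.node
    (.leaf (nat_lit 34060510467461265978137378846)) (.leaf (nat_lit
    126163442404495731948162556297222))) (.node (.leaf (nat_lit 113476413075392230102383676817414))
    (.leaf (nat_lit 36821259148275843596290))))))))) (.node (.node (.node (.node (.node (.node
    (.node (.node (.leaf (nat_lit 1)) (.leaf (nat_lit 3065425533468674))) (.leaf (nat_lit 0)))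
    (.node (.leaf (nat_lit 3569077420218843155)) (.leaf (nat_lit 113004959328008055016321843257))))
    (.node (.node (.leaf (nat_lit 1144063323668487)) (.leaf (nat_lit 5649861974294535))) (.node
    (.leaf (nat_lit 0)) (.leaf (nat_lit 0))))) (.node (.node (.node (.leaf (nat_lit
    1207519047269416979)) (.leaf (nat_lit 121089744543708668361464785338374))) (.node (.leaf
    (nat_lit 32822495275617681498026934299)) (.leaf (nat_lit 0)))) (.node (.node (.leaf (nat_lit
    3387560978324586505)) (.leaf (nat_lit 0))) (.node (.leaf (nat_lit 0)) (.leaf (nat_lit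
    530756437643821058)))))) (.node (.node (.node (.node (.leaf (nat_lit 0)) (.leaf (nat_lit 0)))
    (.node (.leaf (nat_lit 2379485158421233697)) (.leaf (nat_lit 6732468610793474)))) (.node (.node
    (.leaf (nat_lit 0)) (.leaf (nat_lit 12201458718738677778))) (.node (.leaf (nat_lit 0)) (.leaf
    (nat_lit 12816386147332849666))))) (.node (.node (.node (.leaf (nat_lit 0)) (.leaf (nat_lit
    4427067605254146))) (.node (.leaf (nat_lit 0)) (.leaf (nat_lit 14635303856591011842)))) (.node
    (.node (.leaf (nat_lit 544592827451519095220919971495677656694807)) (.leaf (nat_lit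
    4497977515311106))) (.node (.leaf (nat_lit 0)) (.leaf (nat_lit 36672280094987797135362)))))))
    (.node (.node (.node (.node (.node (.leaf (nat_lit 2535920397186676310268824715270)) (.leaf
    (nat_lit 0))) (.node (.leaf (nat_lit 1434952868691970)) (.leaf (nat_lit
    244778384263972026926069805678650)))) (.node (.node (.leaf (nat_lit
    175511335508907123672892910850693201931)) (.leaf (nat_lit 8130310663978549250))) (.node (.leaf
    (nat_lit 0)) (.leaf (nat_lit 285931875170709040113621477556246))))) (.node (.node (.node (.leaf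
    (nat_lit 721644700172291)) (.leaf (nat_lit 10667948153304711177))) (.node (.leaf (nat_lit
    5801666918930907145)) (.leaf (nat_lit 0)))) (.node (.node (.leaf (nat_lit 0)) (.leaf (nat_lit
    42025453579811645596958774))) (.node (.leaf (nat_lit 8361787934986403881)) (.leaf (nat_lit
    2728795699008438274)))))) (.node (.node (.node (.node (.leaf (nat_lit 378768643233873922))
    (.leaf (nat_lit 0))) (.node (.leaf (nat_lit 2569786307510279)) (.leaf (nat_lit
    8437963595207344130)))) (.node (.node (.leaf (nat_lit 3117802204245983258)) (.leaf (nat_lit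
    8076522718356504578))) (.node (.leaf (nat_lit 117931136008340754815948920651781)) (.leaf
    (nat_lit 1557471908805672962))))) (.node (.node (.node (.leaf (nat_lit
    32965727527389902370754584313861)) (.leaf (nat_lit 11335333663912165422))) (.node (.leaf
    (nat_lit 57576763365400303969623212036)) (.leaf (nat_lit 0)))) (.node (.node (.leaf (nat_lit
    5981142731277482590224)) (.leaf (nat_lit 0))) (.node (.leaf (nat_lit 0)) (.leaf (nat_lit
    3452410676772866)))))))) (.node (.node (.node (.node (.node (.node (.leaf (nat_lit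
    1547727280597701825646690308)) (.leaf (nat_lit 9370700045151830025))) (.node (.leaf (nat_lit
    1206220090376194)) (.leaf (nat_lit 6679580383510530)))) (.node (.node (.leaf (nat_lit 0))
    (.leaf (nat_lit 765896366893974730136039834824846409775))) (.node (.leaf (nat_lit 0)) (.leaf
    (nat_lit 285951498897701670465673424732165))))) (.node (.node (.node (.leaf (nat_lit
    12370582186838930146202285965333)) (.leaf (nat_lit 7551527554138701832))) (.node (.leaf
    (nat_lit 92565893147890749968680393048104)) (.leaf (nat_lit 83934088425295918500587896892))))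
    (.node (.node (.leaf (nat_lit 0)) (.leaf (nat_lit 88404687062999607072954646567))) (.node
    (.leaf (nat_lit 4030590584225799)) (.leaf (nat_lit 35788331196289730740226)))))) (.node (.node
    (.node (.node (.leaf (nat_lit 39882033438211731943336210013369204746)) (.leaf (nat_lit 0)))
    (.node (.leaf (nat_lit 2326506277263572994)) (.leaf (nat_lit 0)))) (.node (.node (.leaf
    (nat_lit 71408990793750172723427491155804185)) (.leaf (nat_lit 85160154144495443990762881075)))
    (.node (.leaf (nat_lit 0)) (.leaf (nat_lit 6295224636233940994))))) (.node (.node (.node (.leaf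
    (nat_lit 0)) (.leaf (nat_lit 8922591856458661897))) (.node (.leaf (nat_lit 0)) (.leaf (nat_lit
    7471623892500482)))) (.node (.node (.leaf (nat_lit 3622979465942073346)) (.leaf (nat_lit
    10635086422220144642))) (.node (.leaf (nat_lit 4312202999889927)) (.leaf (nat_lit
    36985063938832956915714))))))) (.node (.node (.node (.node (.node (.leaf (nat_lit 0)) (.leaf
    (nat_lit 4734621623386119))) (.node (.leaf (nat_lit 42489207964781169906166752804901)) (.leaf
    (nat_lit 19789256006712168808474)))) (.node (.node (.leaf (nat_lit 0)) (.leaf (nat_lit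
    8220435467443830829))) (.node (.leaf (nat_lit 117917214091094750062009846792214)) (.leaf
    (nat_lit 16221063493749768194))))) (.node (.node (.node (.leaf (nat_lit 792047804088323))
    (.leaf (nat_lit 9102594949446303746))) (.node (.leaf (nat_lit 3044947129401347)) (.leaf
    (nat_lit 111606533575142861683839860760)))) (.node (.node (.leaf (nat_lit 3892069792785563657))
    (.leaf (nat_lit 163290072059010954427011076390962))) (.node (.leaf (nat_lit
    8505903157421998089)) (.leaf (nat_lit 11015490833813274626)))))) (.node (.node (.node (.node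
    (.leaf (nat_lit 6190684514907208139961401359)) (.leaf (nat_lit 9010544231105888289))) (.node
    (.leaf (nat_lit 0)) (.leaf (nat_lit 0)))) (.node (.node (.leaf (nat_lit
    20126580297058146899550666766)) (.leaf (nat_lit 3952456539176962))) (.node (.leaf (nat_lit 0))
    (.leaf (nat_lit 3449037112974966786))))) (.node (.node (.node (.leaf (nat_lit
    25991175839354190191852817678342)) (.leaf (nat_lit 0))) (.node (.leaf (nat_lit 0)) (.leaf
    (nat_lit 44371731077161409835237441)))) (.node (.node (.leaf (nat_lit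
    18895594648162456603787296)) (.leaf (nat_lit 0))) (.node (.leaf (nat_lit 0)) (.leaf (nat_lit
    76955333323780434507923458)))))))))))

/-- Certificate data. -/
def tc0_rel : Trie :=
    (.node (.node (.node (.node (.node (.node (.node (.leaf (nat_lit 0)) (.leaf (nat_lit
    11724489208091981591454363307686499776479466661961174812325788876833680307673167366409)))
    (.leaf (nat_lit 16974340))) (.node (.leaf (nat_lit 117704452)) (.leaf (nat_lit
    851039280694533)))) (.node (.node (.leaf (nat_lit 23648872276089278825985)) (.leaf (nat_lit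
    117573378))) (.node (.leaf (nat_lit 16843780)) (.leaf (nat_lit 360576059500004867))))) (.node
    (.node (.node (.leaf (nat_lit 74597474555463687)) (.leaf (nat_lit 289638876367356422))) (.node
    (.leaf (nat_lit 578437682867538177)) (.leaf (nat_lit 1125315118337)))) (.node (.node (.leaf
    (nat_lit 1691074687206657)) (.leaf (nat_lit 50528770))) (.node (.leaf (nat_lit
    1412876837455362)) (.leaf (nat_lit 145807357963011077)))))) (.node (.node (.node (.node (.leaf
    (nat_lit 2258409785460999)) (.leaf (nat_lit 1410694960776707))) (.node (.leaf (nat_lit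
    849935457322502)) (.leaf (nat_lit 1131418990543878)))) (.node (.node (.leaf (nat_lit
    1408495903966721)) (.leaf (nat_lit 1695451308950786))) (.node (.leaf (nat_lit
    362547471031075332)) (.leaf (nat_lit 1693269465695748))))) (.node (.node (.node (.leaf (nat_lit
    67174660)) (.leaf (nat_lit 432914029019727107))) (.node (.leaf (nat_lit 1417300687585796))
    (.leaf (nat_lit 217581282346205702)))) (.node (.node (.leaf (nat_lit 50463235)) (.leaf (nat_lit
    506938666539745541))) (.node (.leaf (nat_lit 6605693583617)) (.leaf (nat_lit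
    6601381839362))))))) (.node (.node (.node (.node (.node (.leaf (nat_lit 526344)) (.leaf
    (nat_lit 432632549748114692))) (.node (.leaf (nat_lit 117638915)) (.leaf (nat_lit
    1695459899016452)))) (.node (.node (.leaf (nat_lit 23759838999483288913410)) (.leaf (nat_lit
    23777925456686370850305))) (.node (.leaf (nat_lit 1691070442309122)) (.leaf (nat_lit
    33751810))))) (.node (.node (.node (.leaf (nat_lit 328965)) (.leaf (nat_lit 1409599777342721)))
    (.node (.leaf (nat_lit 4833192479796253493505)) (.leaf (nat_lit 1693273744016643)))) (.node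
    (.node (.leaf (nat_lit 287011307521539)) (.leaf (nat_lit 23778285743587046000130))) (.node
    (.leaf (nat_lit 360857534476649987)) (.leaf (nat_lit 361138996568655362)))))) (.node (.node
    (.node (.node (.leaf (nat_lit 578152905077885186)) (.leaf (nat_lit 360576055205037572))) (.node
    (.leaf (nat_lit 1132514240692998)) (.leaf (nat_lit 361139000863622657)))) (.node (.node (.leaf
    (nat_lit 286981225840901)) (.leaf (nat_lit 50398210))) (.node (.leaf (nat_lit
    1979146733618441)) (.leaf (nat_lit 1412885427521028))))) (.node (.node (.node (.leaf (nat_lit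
    84346119)) (.leaf (nat_lit 50791175))) (.node (.leaf (nat_lit 506094224413360392)) (.leaf
    (nat_lit 1417300687586049)))) (.node (.node (.leaf (nat_lit 17236231)) (.leaf (nat_lit
    67175170))) (.node (.leaf (nat_lit 101123591)) (.leaf (nat_lit 5506182021377))))))))

/-- Certificate data. -/
def tc0_rc : Trie :=
    (.node (.node (.node (.node (.node (.node (.node (.leaf (nat_lit 38)) (.leaf (nat_lit
    4456485))) (.leaf (nat_lit 262157))) (.node (.leaf (nat_lit 25)) (.leaf (nat_lit 262154))))
    (.node (.node (.leaf (nat_lit 131106)) (.leaf (nat_lit 23))) (.node (.leaf (nat_lit 262149))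
    (.leaf (nat_lit 262158))))) (.node (.node (.node (.leaf (nat_lit 131105)) (.leaf (nat_lit
    786447))) (.node (.leaf (nat_lit 131100)) (.leaf (nat_lit 131079)))) (.node (.node (.leaf
    (nat_lit 131080)) (.leaf (nat_lit 262148))) (.node (.leaf (nat_lit 524296)) (.leaf (nat_lit
    655374)))))) (.node (.node (.node (.node (.leaf (nat_lit 655391)) (.leaf (nat_lit 262155)))
    (.node (.leaf (nat_lit 393227)) (.leaf (nat_lit 655370)))) (.node (.node (.leaf (nat_lit
    262153)) (.leaf (nat_lit 655369))) (.node (.leaf (nat_lit 524321)) (.leaf (nat_lit 786442)))))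
    (.node (.node (.node (.leaf (nat_lit 393221)) (.leaf (nat_lit 17))) (.node (.leaf (nat_lit
    524318)) (.leaf (nat_lit 393230)))) (.node (.node (.leaf (nat_lit 131076)) (.leaf (nat_lit
    131101))) (.node (.leaf (nat_lit 7)) (.leaf (nat_lit 524294))))))) (.node (.node (.node (.node
    (.node (.leaf (nat_lit 26)) (.leaf (nat_lit 524305))) (.node (.leaf (nat_lit 131096)) (.leaf
    (nat_lit 655371)))) (.node (.node (.leaf (nat_lit 655394)) (.leaf (nat_lit 524323))) (.node
    (.leaf (nat_lit 786440)) (.leaf (nat_lit 393220))))) (.node (.node (.node (.leaf (nat_lit 0))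
    (.leaf (nat_lit 9))) (.node (.leaf (nat_lit 131107)) (.leaf (nat_lit 131082)))) (.node (.node
    (.leaf (nat_lit 262175)) (.leaf (nat_lit 1048611))) (.node (.leaf (nat_lit 131087)) (.leaf
    (nat_lit 655376)))))) (.node (.node (.node (.node (.leaf (nat_lit 786461)) (.leaf (nat_lit
    655375))) (.node (.leaf (nat_lit 10)) (.leaf (nat_lit 262161)))) (.node (.node (.leaf (nat_lit
    131081)) (.leaf (nat_lit 262156))) (.node (.leaf (nat_lit 262174)) (.leaf (nat_lit 524298)))))
    (.node (.node (.node (.leaf (nat_lit 18)) (.leaf (nat_lit 24))) (.node (.leaf (nat_lit 28))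
    (.leaf (nat_lit 131103)))) (.node (.node (.leaf (nat_lit 22)) (.leaf (nat_lit 393229))) (.node
    (.leaf (nat_lit 131091)) (.leaf (nat_lit 131078))))))))

/-- Certificate data. -/
def tc0_lv : Trie :=
    (.leaf (nat_lit 0))

/-- Certificate data. -/
def tc0_tb : Trie :=
    (.node (.node (.node (.leaf (nat_lit 0)) (.leaf (nat_lit 1034))) (.leaf (nat_lit 4))) (.node
    (.leaf (nat_lit 2)) (.leaf (nat_lit 7))))

/-- Certificate data. -/
def tc0_C : TC.Cert := ⟨8, 255, 11, 2047, 37945458376763718566400, 254, tc0_par, tc0_fact, tc0_just, tc0_rel, 65⟩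

/-- Certificate data. -/
def tc0_rs : List (List ℕ) := [[5, 5, 5], [1, 1, 1, 1], [3, 3, 2, 2], [5, 1, 1, 6, 2, 2], [6, 1, 5, 5, 2, 6, 2], [6, 3, 5, 5, 4, 6, 4], [1, 3, 2, 4], [1, 5, 3, 6, 2, 5, 4, 6], [5, 1, 6, 3, 5, 2, 6, 4], [7, 5, 7, 5], [7, 7], [7, 1, 7, 1], [7, 3, 7, 3], [8, 8, 8], [8, 1, 9, 5, 4, 2, 6, 7], [8, 7, 9, 5, 4, 2, 6], [8, 5, 1, 3, 6, 9, 7, 2], [5, 1, 6, 8, 5, 2, 6, 8, 2, 2], [8, 8, 5, 8, 5, 8, 5, 1, 1, 6, 9, 6, 9, 6, 9, 9, 1, 1, 8, 8, 5, 8, 5, 8, 5, 2, 2, 6, 9, 6, 9, 6, 9, 9, 2, 2]]

/-- Certificate data. -/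
def tc0_gl : List ℕ := [1, 259, 517, 775, 1032]

theorem tc0_h1 : allB tc0_C.factChk 518 = true := by decide +kernel

theorem tc0_h2 : tc0_C.finChk 518 1 tc0_lv tc0_tb tc0_gl = true := by decide +kernel

theorem tc0_h3 : TC.relChk tc0_C.ivc tc0_rs tc0_C.rel tc0_rc tc0_C.nrel = true := by decide +kernel

theorem tc0_bound {G : Type*} [Group G] {a b x y r : G}
    (r0 : x * x * x = 1)
    (r1 : a * a * a * a = 1)
    (r2 : b * b * a⁻¹ * a⁻¹ = 1)
    (r3 : x * a * a * x⁻¹ * a⁻¹ * a⁻¹ = 1)
    (r4 : x⁻¹ * a * x * x * a⁻¹ * x⁻¹ * a⁻¹ = 1)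
    (r5 : x⁻¹ * b * x * x * b⁻¹ * x⁻¹ * b⁻¹ = 1)
    (r6 : a * b * a⁻¹ * b⁻¹ = 1)
    (r7 : a * x * b * x⁻¹ * a⁻¹ * x * b⁻¹ * x⁻¹ = 1)
    (r8 : x * a * x⁻¹ * b * x * a⁻¹ * x⁻¹ * b⁻¹ = 1)
    (r9 : y * x * y * x = 1)
    (r10 : y * y = 1)
    (r11 : y * a * y * a = 1)
    (r12 : y * b * y * b = 1)
    (r13 : r * r * r = 1)
    (r14 : r * a * r⁻¹ * x * b⁻¹ * a⁻¹ * x⁻¹ * y = 1)
    (r15 : r * y * r⁻¹ * x * b⁻¹ * a⁻¹ * x⁻¹ = 1)
    (r16 : r * x * a * b * x⁻¹ * r⁻¹ * y * a⁻¹ = 1)
    (r17 : x * a * x⁻¹ * r * x * a⁻¹ * x⁻¹ * r * a⁻¹ * a⁻¹ = 1)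
    (r18 : r * r * x * r * x * r * x * a * a * x⁻¹ * r⁻¹ * x⁻¹ * r⁻¹ * x⁻¹ * r⁻¹ * r⁻¹ * a * a * r
    * r * x * r * x * r * x * a⁻¹ * a⁻¹ * x⁻¹ * r⁻¹ * x⁻¹ * r⁻¹ * x⁻¹ * r⁻¹ * r⁻¹ * a⁻¹ * a⁻¹ = 1)
    (H : Subgroup G) [Finite H] (m1 : a ∈ H) (m3 : b ∈ H) (m5 : x ∈ H) (m7 : y ∈ H) :
    Finite (Subgroup.closure ({a, b, x, y, r} : Set G)) ∧
      Nat.card (Subgroup.closure ({a, b, x, y, r} : Set G)) ≤ 1 * Nat.card H := by
  have hL : TC.Lett (TC.lett [a, a⁻¹, b, b⁻¹, x, x⁻¹, y, r, r⁻¹]) tc0_C.ivc :=
    TC.lett_ok (show Nat.shiftRight tc0_C.ivc (8 * 10) = 0 by decide +kernel) (by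
      intro a ha
      change a < 10 at ha
      interval_cases a
      · exact inv_one.symm
      · rfl
      · exact (inv_inv _).symm
      · rfl
      · exact (inv_inv _).symm
      · rfl
      · exact (inv_inv _).symm
      · exact (inv_eq_of_mul_eq_one_right r10).symm
      · rfl
      · exact (inv_inv _).symm)
  have h := TC.card_le tc0_h1 tc0_h2 tc0_h3 (by decide) hL (by
    simp only [tc0_rs, List.forall_mem_cons]
    refine ⟨?_, ?_, ?_, ?_, ?_, ?_, ?_, ?_, ?_, ?_, ?_, ?_, ?_, ?_, ?_, ?_, ?_, ?_, ?_,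
    List.forall_mem_nil _⟩
    · show x * (x * (x * 1)) = 1
      simp only [mul_assoc, mul_one] at r0 ⊢
      exact r0
    · show a * (a * (a * (a * 1))) = 1
      simp only [mul_assoc, mul_one] at r1 ⊢
      exact r1
    · show b * (b * (a⁻¹ * (a⁻¹ * 1))) = 1
      simp only [mul_assoc, mul_one] at r2 ⊢
      exact r2
    · show x * (a * (a * (x⁻¹ * (a⁻¹ * (a⁻¹ * 1))))) = 1
      simp only [mul_assoc, mul_one] at r3 ⊢
      exact r3
    · show x⁻¹ * (a * (x * (x * (a⁻¹ * (x⁻¹ * (a⁻¹ * 1)))))) = 1
      simp only [mul_assoc, mul_one] at r4 ⊢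
      exact r4
    · show x⁻¹ * (b * (x * (x * (b⁻¹ * (x⁻¹ * (b⁻¹ * 1)))))) = 1
      simp only [mul_assoc, mul_one] at r5 ⊢
      exact r5
    · show a * (b * (a⁻¹ * (b⁻¹ * 1))) = 1
      simp only [mul_assoc, mul_one] at r6 ⊢
      exact r6
    · show a * (x * (b * (x⁻¹ * (a⁻¹ * (x * (b⁻¹ * (x⁻¹ * 1))))))) = 1
      simp only [mul_assoc, mul_one] at r7 ⊢
      exact r7
    · show x * (a * (x⁻¹ * (b * (x * (a⁻¹ * (x⁻¹ * (b⁻¹ * 1))))))) = 1
      simp only [mul_assoc, mul_one] at r8 ⊢
      exact r8
    · show y * (x * (y * (x * 1))) = 1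
      simp only [mul_assoc, mul_one] at r9 ⊢
      exact r9
    · show y * (y * 1) = 1
      simp only [mul_one] at r10 ⊢
      exact r10
    · show y * (a * (y * (a * 1))) = 1
      simp only [mul_assoc, mul_one] at r11 ⊢
      exact r11
    · show y * (b * (y * (b * 1))) = 1
      simp only [mul_assoc, mul_one] at r12 ⊢
      exact r12
    · show r * (r * (r * 1)) = 1
      simp only [mul_assoc, mul_one] at r13 ⊢
      exact r13
    · show r * (a * (r⁻¹ * (x * (b⁻¹ * (a⁻¹ * (x⁻¹ * (y * 1))))))) = 1
      simp only [mul_assoc, mul_one] at r14 ⊢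
      exact r14
    · show r * (y * (r⁻¹ * (x * (b⁻¹ * (a⁻¹ * (x⁻¹ * 1)))))) = 1
      simp only [mul_assoc, mul_one] at r15 ⊢
      exact r15
    · show r * (x * (a * (b * (x⁻¹ * (r⁻¹ * (y * (a⁻¹ * 1))))))) = 1
      simp only [mul_assoc, mul_one] at r16 ⊢
      exact r16
    · show x * (a * (x⁻¹ * (r * (x * (a⁻¹ * (x⁻¹ * (r * (a⁻¹ * (a⁻¹ * 1))))))))) = 1
      simp only [mul_assoc, mul_one] at r17 ⊢
      exact r17
    · show r * (r * (x * (r * (x * (r * (x * (a * (a * (x⁻¹ * (r⁻¹ * (x⁻¹ * (r⁻¹ * (x⁻¹ * (r⁻¹ *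
    (r⁻¹ * (a * (a * (r * (r * (x * (r * (x * (r * (x * (a⁻¹ * (a⁻¹ * (x⁻¹ * (r⁻¹ * (x⁻¹ * (r⁻¹ *
    (x⁻¹ * (r⁻¹ * (r⁻¹ * (a⁻¹ * (a⁻¹ * 1))))))))))))))))))))))))))))))))))) = 1
      simp only [mul_assoc, mul_one] at r18 ⊢
      exact r18) H
    (TC.forall_subs (K := 10) (by decide +kernel) (by
      intro a ha hb
      interval_cases a
      · exact absurd hb (by decide +kernel)
      · exact m1
      · exact H.inv_mem m1
      · exact m3
      · exact H.inv_mem m3
      · exact m5
      · exact H.inv_mem m5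
      · exact m7
      · exact absurd hb (by decide +kernel)
      · exact absurd hb (by decide +kernel)))
  have e : {g₀ | ∃ ak ∈ tc0_gl, TC.lett [a, a⁻¹, b, b⁻¹, x, x⁻¹, y, r, r⁻¹] (ak % 256) = g₀} =
      {a, b, x, y, r} := by
    ext g₀
    simp only [tc0_gl, List.mem_cons, List.not_mem_nil, or_false, exists_eq_or_imp,
      exists_eq_left, Set.mem_ofPred_eq, Set.mem_insert_iff, Set.mem_singleton_iff]
    exact or_congr eq_comm (or_congr eq_comm (or_congr eq_comm (or_congr eq_comm (eq_comm))))
  rw [e] at h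
  exact h

theorem tc0_card {G : Type*} [Group G] {a b x y r : G}
    (e0 : x ^ 3 = 1)
    (e1 : a ^ 4 = 1)
    (e2 : b ^ 2 = a ^ 2)
    (e3 : x * a ^ 2 = a ^ 2 * x)
    (e4 : x⁻¹ * a * x = a * (x * a * x⁻¹))
    (e5 : x⁻¹ * b * x = b * (x * b * x⁻¹))
    (e6 : a * b = b * a)
    (e7 : a * (x * b * x⁻¹) = x * b * x⁻¹ * a)
    (e8 : x * a * x⁻¹ * b = b * (x * a * x⁻¹))
    (e9 : y * x * y⁻¹ = x⁻¹)
    (e10 : y * y = 1)
    (e11 : y * a * y⁻¹ = a⁻¹)
    (e12 : y * b * y⁻¹ = b⁻¹)
    (e13 : r ^ 3 = 1)
    (e14 : r * a * r⁻¹ = y * ((x * a * x⁻¹) * (x * b * x⁻¹)))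
    (e15 : r * y * r⁻¹ = ((x * a * x⁻¹) * (x * b * x⁻¹)))
    (e16 : r * ((x * a * x⁻¹) * (x * b * x⁻¹)) * r⁻¹ = a * y)
    (e17 : (x * a * x⁻¹) * r * (x * a * x⁻¹)⁻¹ * r = a ^ 2)
    (e18 : (r * r * x * r * x * r * x) * a ^ 2 * (r * r * x * r * x * r * x)⁻¹ * a ^ 2 = a ^ 2 *
    ((r * r * x * r * x * r * x) * a ^ 2 * (r * r * x * r * x * r * x)⁻¹))
    (H : Subgroup G) [Finite H] (ma : a ∈ H) (mb : b ∈ H) (mx : x ∈ H) (my : y ∈ H) :
    Finite (Subgroup.closure ({a, b, x, y, r} : Set G)) ∧
      Nat.card (Subgroup.closure ({a, b, x, y, r} : Set G)) ≤ 1 * Nat.card H := by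
  have iy : y⁻¹ = y := inv_eq_of_mul_eq_one_right e10
  refine tc0_bound ?_ ?_ ?_ ?_ ?_ ?_ ?_ ?_ ?_ ?_ ?_ ?_ ?_ ?_ ?_ ?_ ?_ ?_ ?_ H ma mb mx my
  · have h := mul_inv_eq_one.mpr e0
    simp only [pow_succ, pow_zero, mul_inv_rev, inv_inv, inv_one, one_mul, mul_one, mul_assoc,
      mul_inv_cancel_left, inv_mul_cancel_left, mul_inv_cancel, inv_mul_cancel, iy] at h ⊢
    exact h
  · have h := mul_inv_eq_one.mpr e1
    simp only [pow_succ, pow_zero, mul_inv_rev, inv_inv, inv_one, one_mul, mul_one, mul_assoc,
      mul_inv_cancel_left, inv_mul_cancel_left, mul_inv_cancel, inv_mul_cancel, iy] at h ⊢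
    exact h
  · have h := mul_inv_eq_one.mpr e2
    simp only [pow_succ, pow_zero, mul_inv_rev, inv_inv, inv_one, one_mul, mul_one, mul_assoc,
      mul_inv_cancel_left, inv_mul_cancel_left, mul_inv_cancel, inv_mul_cancel, iy] at h ⊢
    exact h
  · have h := mul_inv_eq_one.mpr e3
    simp only [pow_succ, pow_zero, mul_inv_rev, inv_inv, inv_one, one_mul, mul_one, mul_assoc,
      mul_inv_cancel_left, inv_mul_cancel_left, mul_inv_cancel, inv_mul_cancel, iy] at h ⊢
    exact h
  · have h := mul_inv_eq_one.mpr e4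
    simp only [pow_succ, pow_zero, mul_inv_rev, inv_inv, inv_one, one_mul, mul_one, mul_assoc,
      mul_inv_cancel_left, inv_mul_cancel_left, mul_inv_cancel, inv_mul_cancel, iy] at h ⊢
    exact h
  · have h := mul_inv_eq_one.mpr e5
    simp only [pow_succ, pow_zero, mul_inv_rev, inv_inv, inv_one, one_mul, mul_one, mul_assoc,
      mul_inv_cancel_left, inv_mul_cancel_left, mul_inv_cancel, inv_mul_cancel, iy] at h ⊢
    exact h
  · have h := mul_inv_eq_one.mpr e6
    simp only [pow_succ, pow_zero, mul_inv_rev, inv_inv, inv_one, one_mul, mul_one, mul_assoc,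
      mul_inv_cancel_left, inv_mul_cancel_left, mul_inv_cancel, inv_mul_cancel, iy] at h ⊢
    exact h
  · have h := mul_inv_eq_one.mpr e7
    simp only [pow_succ, pow_zero, mul_inv_rev, inv_inv, inv_one, one_mul, mul_one, mul_assoc,
      mul_inv_cancel_left, inv_mul_cancel_left, mul_inv_cancel, inv_mul_cancel, iy] at h ⊢
    exact h
  · have h := mul_inv_eq_one.mpr e8
    simp only [pow_succ, pow_zero, mul_inv_rev, inv_inv, inv_one, one_mul, mul_one, mul_assoc,
      mul_inv_cancel_left, inv_mul_cancel_left, mul_inv_cancel, inv_mul_cancel, iy] at h ⊢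
    exact h
  · have h := mul_inv_eq_one.mpr e9
    simp only [pow_succ, pow_zero, mul_inv_rev, inv_inv, inv_one, one_mul, mul_one, mul_assoc,
      mul_inv_cancel_left, inv_mul_cancel_left, mul_inv_cancel, inv_mul_cancel, iy] at h ⊢
    exact h
  · have h := mul_inv_eq_one.mpr e10
    simp only [pow_succ, pow_zero, mul_inv_rev, inv_inv, inv_one, one_mul, mul_one, mul_assoc,
      mul_inv_cancel_left, inv_mul_cancel_left, mul_inv_cancel, inv_mul_cancel, iy] at h ⊢
    exact h
  · have h := mul_inv_eq_one.mpr e11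
    simp only [pow_succ, pow_zero, mul_inv_rev, inv_inv, inv_one, one_mul, mul_one, mul_assoc,
      mul_inv_cancel_left, inv_mul_cancel_left, mul_inv_cancel, inv_mul_cancel, iy] at h ⊢
    exact h
  · have h := mul_inv_eq_one.mpr e12
    simp only [pow_succ, pow_zero, mul_inv_rev, inv_inv, inv_one, one_mul, mul_one, mul_assoc,
      mul_inv_cancel_left, inv_mul_cancel_left, mul_inv_cancel, inv_mul_cancel, iy] at h ⊢
    exact h
  · have h := mul_inv_eq_one.mpr e13
    simp only [pow_succ, pow_zero, mul_inv_rev, inv_inv, inv_one, one_mul, mul_one, mul_assoc,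
      mul_inv_cancel_left, inv_mul_cancel_left, mul_inv_cancel, inv_mul_cancel, iy] at h ⊢
    exact h
  · have h := mul_inv_eq_one.mpr e14
    simp only [pow_succ, pow_zero, mul_inv_rev, inv_inv, inv_one, one_mul, mul_one, mul_assoc,
      mul_inv_cancel_left, inv_mul_cancel_left, mul_inv_cancel, inv_mul_cancel, iy] at h ⊢
    exact h
  · have h := mul_inv_eq_one.mpr e15
    simp only [pow_succ, pow_zero, mul_inv_rev, inv_inv, inv_one, one_mul, mul_one, mul_assoc,
      mul_inv_cancel_left, inv_mul_cancel_left, mul_inv_cancel, inv_mul_cancel, iy] at h ⊢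
    exact h
  · have h := mul_inv_eq_one.mpr e16
    simp only [pow_succ, pow_zero, mul_inv_rev, inv_inv, inv_one, one_mul, mul_one, mul_assoc,
      mul_inv_cancel_left, inv_mul_cancel_left, mul_inv_cancel, inv_mul_cancel, iy] at h ⊢
    exact h
  · have h := mul_inv_eq_one.mpr e17
    simp only [pow_succ, pow_zero, mul_inv_rev, inv_inv, inv_one, one_mul, mul_one, mul_assoc,
      mul_inv_cancel_left, inv_mul_cancel_left, mul_inv_cancel, inv_mul_cancel, iy] at h ⊢
    exact h
  · have h := mul_inv_eq_one.mpr e18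
    simp only [pow_succ, pow_zero, mul_inv_rev, inv_inv, inv_one, one_mul, mul_one, mul_assoc,
      mul_inv_cancel_left, inv_mul_cancel_left, mul_inv_cancel, inv_mul_cancel, iy] at h ⊢
    exact h
/-- Certificate data. -/
def tc1_par : Trie :=
    (.node (.node (.node (.node (.node (.node (.leaf (nat_lit 0)) (.leaf (nat_lit 3589))) (.node
    (.leaf (nat_lit 2568)) (.leaf (nat_lit 4867)))) (.node (.node (.leaf (nat_lit 262)) (.leaf
    (nat_lit 4101))) (.node (.leaf (nat_lit 3078)) (.leaf (nat_lit 8201))))) (.node (.node (.node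
    (.leaf (nat_lit 258)) (.leaf (nat_lit 3846))) (.node (.leaf (nat_lit 3073)) (.leaf (nat_lit
    6152)))) (.node (.node (.leaf (nat_lit 1800)) (.leaf (nat_lit 4358))) (.leaf (nat_lit 3585)))))
    (.node (.node (.node (.node (.leaf (nat_lit 9)) (.leaf (nat_lit 3843))) (.node (.leaf (nat_lit
    2824)) (.leaf (nat_lit 4870)))) (.node (.node (.leaf (nat_lit 517)) (.leaf (nat_lit 4355)))
    (.leaf (nat_lit 3333)))) (.node (.node (.node (.leaf (nat_lit 260)) (.leaf (nat_lit 4098)))
    (.node (.leaf (nat_lit 3075)) (.leaf (nat_lit 6665)))) (.node (.node (.leaf (nat_lit 2056))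
    (.leaf (nat_lit 4613))) (.leaf (nat_lit 3587)))))) (.node (.node (.node (.node (.node (.leaf
    (nat_lit 8)) (.leaf (nat_lit 3590))) (.node (.leaf (nat_lit 2569)) (.leaf (nat_lit 4869))))
    (.node (.node (.leaf (nat_lit 515)) (.leaf (nat_lit 4102))) (.node (.leaf (nat_lit 3331))
    (.leaf (nat_lit 10505))))) (.node (.node (.node (.leaf (nat_lit 259)) (.leaf (nat_lit 4097)))
    (.node (.leaf (nat_lit 3074)) (.leaf (nat_lit 6664)))) (.node (.node (.leaf (nat_lit 1801))
    (.leaf (nat_lit 4611))) (.leaf (nat_lit 3586))))) (.node (.node (.node (.node (.leaf (nat_lit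
    257)) (.leaf (nat_lit 3845))) (.node (.leaf (nat_lit 2825)) (.leaf (nat_lit 5897)))) (.node
    (.node (.leaf (nat_lit 518)) (.leaf (nat_lit 4357))) (.leaf (nat_lit 3334)))) (.node (.node
    (.node (.leaf (nat_lit 261)) (.leaf (nat_lit 4099))) (.node (.leaf (nat_lit 3077)) (.leaf
    (nat_lit 8200)))) (.node (.node (.leaf (nat_lit 2057)) (.leaf (nat_lit 4614))) (.leaf (nat_lit
    3588)))))))

/-- Certificate data. -/
def tc1_fact : Trie :=
    (.node (.node (.node (.node (.node (.node (.node (.node (.leaf (nat_lit 1)) (.leaf (nat_lit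
    269824))) (.node (.leaf (nat_lit 382982)) (.leaf (nat_lit 20480)))) (.node (.node (.leaf
    (nat_lit 133892)) (.leaf (nat_lit 891401))) (.leaf (nat_lit 271879)))) (.node (.node (.node
    (.leaf (nat_lit 116742)) (.leaf (nat_lit 791299))) (.leaf (nat_lit 544262))) (.node (.node
    (.leaf (nat_lit 216833)) (.leaf (nat_lit 217344))) (.leaf (nat_lit 238848))))) (.node (.node
    (.node (.node (.leaf (nat_lit 33281)) (.leaf (nat_lit 437762))) (.node (.leaf (nat_lit 333056))
    (.leaf (nat_lit 849408)))) (.node (.node (.leaf (nat_lit 33283)) (.leaf (nat_lit 849920)))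
    (.leaf (nat_lit 715782)))) (.node (.node (.node (.leaf (nat_lit 133889)) (.leaf (nat_lit
    766211))) (.leaf (nat_lit 560899))) (.node (.node (.leaf (nat_lit 283393)) (.leaf (nat_lit
    438528))) (.leaf (nat_lit 680964)))))) (.node (.node (.node (.node (.node (.leaf (nat_lit
    16392)) (.leaf (nat_lit 387843))) (.node (.leaf (nat_lit 445702)) (.leaf (nat_lit 3072))))
    (.node (.node (.leaf (nat_lit 17920)) (.leaf (nat_lit 915465))) (.leaf (nat_lit 665862))))
    (.node (.node (.node (.leaf (nat_lit 180742)) (.leaf (nat_lit 667905))) (.leaf (nat_lit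
    201218))) (.node (.node (.leaf (nat_lit 266505)) (.leaf (nat_lit 3328))) (.leaf (nat_lit
    233474))))) (.node (.node (.node (.node (.leaf (nat_lit 82179)) (.leaf (nat_lit 297987)))
    (.node (.leaf (nat_lit 478722)) (.leaf (nat_lit 13312)))) (.node (.node (.leaf (nat_lit
    231432)) (.leaf (nat_lit 584448))) (.leaf (nat_lit 680963)))) (.node (.node (.node (.leaf
    (nat_lit 16647)) (.leaf (nat_lit 406019))) (.leaf (nat_lit 593670))) (.node (.node (.leaf
    (nat_lit 201991)) (.leaf (nat_lit 16896))) (.leaf (nat_lit 221696))))))) (.node (.node (.node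
    (.node (.node (.node (.leaf (nat_lit 5)) (.leaf (nat_lit 233475))) (.node (.leaf (nat_lit
    219395)) (.leaf (nat_lit 10240)))) (.node (.node (.leaf (nat_lit 117251)) (.leaf (nat_lit
    909320))) (.leaf (nat_lit 659461)))) (.node (.node (.node (.leaf (nat_lit 35075)) (.leaf
    (nat_lit 807685))) (.leaf (nat_lit 450819))) (.node (.node (.leaf (nat_lit 264712)) (.leaf
    (nat_lit 18432))) (.leaf (nat_lit 269312))))) (.node (.node (.node (.node (.leaf (nat_lit
    65794)) (.leaf (nat_lit 300544))) (.node (.leaf (nat_lit 201735)) (.leaf (nat_lit 13824))))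
    (.node (.node (.leaf (nat_lit 214793)) (.leaf (nat_lit 200192))) (.leaf (nat_lit 683010))))
    (.node (.node (.node (.leaf (nat_lit 17408)) (.leaf (nat_lit 815622))) (.leaf (nat_lit
    577285))) (.node (.node (.leaf (nat_lit 330753)) (.leaf (nat_lit 16646))) (.leaf (nat_lit
    534791)))))) (.node (.node (.node (.node (.node (.leaf (nat_lit 16905)) (.leaf (nat_lit
    306435))) (.node (.leaf (nat_lit 400130)) (.leaf (nat_lit 13568)))) (.node (.node (.leaf
    (nat_lit 16644)) (.leaf (nat_lit 850177))) (.leaf (nat_lit 708869)))) (.node (.node (.node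
    (.leaf (nat_lit 166663)) (.leaf (nat_lit 290816))) (.leaf (nat_lit 201223))) (.node (.node
    (.leaf (nat_lit 297736)) (.leaf (nat_lit 8960))) (.leaf (nat_lit 237059))))) (.node (.node
    (.node (.node (.leaf (nat_lit 114949)) (.leaf (nat_lit 765702))) (.leaf (nat_lit 511492)))
    (.node (.node (.leaf (nat_lit 233225)) (.leaf (nat_lit 216832))) (.leaf (nat_lit 271617))))
    (.node (.node (.node (.leaf (nat_lit 117250)) (.leaf (nat_lit 858120))) (.leaf (nat_lit
    610305))) (.node (.node (.leaf (nat_lit 379909)) (.leaf (nat_lit 6656))) (.leaf (nat_lit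
    216835)))))))) (.node (.node (.node (.node (.node (.node (.node (.leaf (nat_lit 3)) (.leaf
    (nat_lit 233476))) (.node (.leaf (nat_lit 412931)) (.leaf (nat_lit 12544)))) (.node (.node
    (.leaf (nat_lit 132871)) (.leaf (nat_lit 882185))) (.leaf (nat_lit 643075)))) (.node (.node
    (.node (.leaf (nat_lit 147971)) (.leaf (nat_lit 323587))) (.leaf (nat_lit 532742))) (.node
    (.node (.leaf (nat_lit 216834)) (.leaf (nat_lit 18176))) (.leaf (nat_lit 269568))))) (.node
    (.node (.node (.node (.leaf (nat_lit 49409)) (.leaf (nat_lit 437761))) (.node (.leaf (nat_lit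
    201729)) (.leaf (nat_lit 13056)))) (.node (.node (.leaf (nat_lit 198408)) (.leaf (nat_lit
    385024))) (.leaf (nat_lit 715783)))) (.node (.node (.node (.leaf (nat_lit 165634)) (.leaf
    (nat_lit 824070))) (.leaf (nat_lit 254467))) (.node (.node (.leaf (nat_lit 283394)) (.leaf
    (nat_lit 36864))) (.leaf (nat_lit 712706)))))) (.node (.node (.node (.node (.node (.leaf
    (nat_lit 32777)) (.leaf (nat_lit 741891))) (.node (.leaf (nat_lit 432902)) (.leaf (nat_lit
    6144)))) (.node (.node (.leaf (nat_lit 17664)) (.leaf (nat_lit 944393))) (.leaf (nat_lit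
    692483)))) (.node (.node (.node (.leaf (nat_lit 166662)) (.leaf (nat_lit 322048))) (.leaf
    (nat_lit 201217))) (.node (.node (.leaf (nat_lit 282887)) (.leaf (nat_lit 3840))) (.leaf
    (nat_lit 499456))))) (.node (.node (.node (.node (.leaf (nat_lit 98564)) (.leaf (nat_lit
    774662))) (.node (.leaf (nat_lit 495107)) (.leaf (nat_lit 9)))) (.node (.node (.leaf (nat_lit
    247817)) (.leaf (nat_lit 116736))) (.leaf (nat_lit 615936)))) (.node (.node (.node (.leaf
    (nat_lit 16642)) (.leaf (nat_lit 841481))) (.leaf (nat_lit 582663))) (.node (.node (.leaf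
    (nat_lit 363523)) (.leaf (nat_lit 19456))) (.leaf (nat_lit 252160))))))) (.node (.node (.node
    (.node (.node (.node (.leaf (nat_lit 7)) (.leaf (nat_lit 662020))) (.node (.leaf (nat_lit
    429317)) (.leaf (nat_lit 256)))) (.node (.node (.leaf (nat_lit 117252)) (.leaf (nat_lit
    925705))) (.leaf (nat_lit 675846)))) (.node (.node (.node (.leaf (nat_lit 164357)) (.leaf
    (nat_lit 667906))) (.leaf (nat_lit 300032))) (.node (.node (.leaf (nat_lit 281097)) (.leaf
    (nat_lit 19200))) (.leaf (nat_lit 233473))))) (.node (.node (.node (.node (.leaf (nat_lit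
    17415)) (.leaf (nat_lit 208128))) (.node (.leaf (nat_lit 462337)) (.leaf (nat_lit 851976))))
    (.node (.node (.leaf (nat_lit 199945)) (.leaf (nat_lit 401664))) (.leaf (nat_lit 683009))))
    (.node (.node (.node (.leaf (nat_lit 17152)) (.leaf (nat_lit 406020))) (.leaf (nat_lit
    385794))) (.node (.node (.leaf (nat_lit 347138)) (.leaf (nat_lit 35840))) (.leaf (nat_lit
    581636)))))) (.node (.node (.node (.node (.node (.leaf (nat_lit 33287)) (.leaf (nat_lit
    758277))) (.node (.leaf (nat_lit 400129)) (.leaf (nat_lit 884745)))) (.node (.node (.leaf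
    (nat_lit 35072)) (.leaf (nat_lit 932098))) (.leaf (nat_lit 725254)))) (.node (.node (.node
    (.leaf (nat_lit 133890)) (.leaf (nat_lit 315651))) (.leaf (nat_lit 547587))) (.node (.node
    (.leaf (nat_lit 314121)) (.leaf (nat_lit 4352))) (.leaf (nat_lit 712705))))) (.node (.node
    (.node (.node (.leaf (nat_lit 131334)) (.leaf (nat_lit 388871))) (.leaf (nat_lit 527877)))
    (.node (.node (.leaf (nat_lit 249607)) (.leaf (nat_lit 455168))) (.leaf (nat_lit 271623))))
    (.node (.node (.node (.leaf (nat_lit 182276)) (.leaf (nat_lit 875016))) (.leaf (nat_lit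
    626690))) (.node (.node (.leaf (nat_lit 396294)) (.leaf (nat_lit 5888))) (.leaf (nat_lit
    239360)))))))))

/-- Certificate data. -/
def tc1_just : Trie :=
    (.node (.node (.node (.node (.node (.node (.node (.node (.leaf (nat_lit 1)) (.leaf (nat_lit
    220112246376955906))) (.node (.leaf (nat_lit 273224344666119)) (.leaf (nat_lit
    828421882118146)))) (.node (.node (.leaf (nat_lit 51899418437419024)) (.leaf (nat_lit 0)))
    (.leaf (nat_lit 7742891560001081541491359750)))) (.node (.node (.node (.leaf (nat_lit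
    61705795272711)) (.leaf (nat_lit 0))) (.leaf (nat_lit 0))) (.node (.node (.leaf (nat_lit
    6509319729347897901648904197)) (.leaf (nat_lit 200812887024903389186))) (.leaf (nat_lit
    7146175805006795519958646812))))) (.node (.node (.node (.node (.leaf (nat_lit
    774771515239409031926185989)) (.leaf (nat_lit 20290025317676177508663310))) (.node (.leaf
    (nat_lit 1206362596463538920300253616422912023)) (.leaf (nat_lit 354376510347608066)))) (.node
    (.node (.leaf (nat_lit 79504139747330)) (.leaf (nat_lit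
    95368131681209255092173268187753372278692301829608621616304184426869846797786468923944043305733088788873255)))
    (.leaf (nat_lit 449489802493959)))) (.node (.node (.node (.leaf (nat_lit
    608789278283155950131469837991947)) (.leaf (nat_lit 20916115998238771994765492260))) (.leaf
    (nat_lit 0))) (.node (.node (.leaf (nat_lit 7898529569052862345007005701)) (.leaf (nat_lit
    156145172428816386))) (.leaf (nat_lit 15354765564734953668638867486)))))) (.node (.node (.node
    (.node (.node (.leaf (nat_lit 0)) (.leaf (nat_lit 9924717693519947465587359777))) (.node (.leaf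
    (nat_lit 0)) (.leaf (nat_lit 859242567434242)))) (.node (.node (.leaf (nat_lit
    2248620938816954674583109652)) (.leaf (nat_lit 713887989235715))) (.leaf (nat_lit
    431863256711175)))) (.node (.node (.node (.leaf (nat_lit 0)) (.leaf (nat_lit
    30286427852306870360735778))) (.leaf (nat_lit 258002980569090))) (.node (.node (.leaf (nat_lit
    220344707317763)) (.leaf (nat_lit 5589168747626889218))) (.leaf (nat_lit 333036059230210)))))
    (.node (.node (.node (.node (.leaf (nat_lit 0)) (.leaf (nat_lit 590536528494594))) (.node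
    (.leaf (nat_lit 0)) (.leaf (nat_lit 233254684360777662466)))) (.node (.node (.leaf (nat_lit 0))
    (.leaf (nat_lit 206783979309957122))) (.leaf (nat_lit 16433865500712435727603269659)))) (.node
    (.node (.node (.leaf (nat_lit 48606145019906)) (.leaf (nat_lit 19123674784066686899585062)))
    (.leaf (nat_lit 0))) (.node (.node (.leaf (nat_lit 6348696406414576502713024518)) (.leaf
    (nat_lit 420748087376674818))) (.leaf (nat_lit 10466024796983751300608360468))))))) (.node
    (.node (.node (.node (.node (.node (.leaf (nat_lit 1)) (.leaf (nat_lit 520073295036418)))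
    (.node (.leaf (nat_lit 108304657000103944)) (.leaf (nat_lit 1975989899034626)))) (.node (.node
    (.leaf (nat_lit 75576224520536082)) (.leaf (nat_lit 0))) (.leaf (nat_lit 0)))) (.node (.node
    (.node (.leaf (nat_lit 18049733205622792)) (.leaf (nat_lit 0))) (.leaf (nat_lit
    21646785007077482152984600))) (.node (.node (.leaf (nat_lit 0)) (.leaf (nat_lit
    779940291280898))) (.leaf (nat_lit 248193408278134786))))) (.node (.node (.node (.node (.leaf
    (nat_lit 0)) (.leaf (nat_lit 10756713439097331576692659453987))) (.node (.leaf (nat_lit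
    264505561055234)) (.leaf (nat_lit 885725335781378)))) (.node (.node (.leaf (nat_lit 0)) (.leaf
    (nat_lit 141481436820733954))) (.leaf (nat_lit 4019881452336874902641922913402890)))) (.node
    (.node (.node (.leaf (nat_lit 2405774209487645229799899149)) (.leaf (nat_lit 643433345712135)))
    (.leaf (nat_lit 0))) (.node (.node (.leaf (nat_lit 0)) (.leaf (nat_lit 65296387932162))) (.leaf
    (nat_lit 274056387074654225)))))) (.node (.node (.node (.node (.node (.leaf (nat_lit
    17639430815747)) (.leaf (nat_lit 190652064966311944))) (.node (.leaf (nat_lit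
    2558834139891584651846463114510346)) (.leaf (nat_lit 224829537596521840642)))) (.node (.node
    (.leaf (nat_lit 55297704067074)) (.leaf (nat_lit 24337876643850125284066394117))) (.leaf
    (nat_lit 0)))) (.node (.node (.node (.leaf (nat_lit 42817357902708745)) (.leaf (nat_lit
    229216434583175170))) (.leaf (nat_lit 326172701491202))) (.node (.node (.leaf (nat_lit 0))
    (.leaf (nat_lit 5300423435157506))) (.leaf (nat_lit 346255968567298))))) (.node (.node (.node
    (.node (.leaf (nat_lit 0)) (.leaf (nat_lit 594951754874887))) (.leaf (nat_lit 0))) (.node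
    (.node (.leaf (nat_lit 193904888643587)) (.leaf (nat_lit 98701354939383810))) (.leaf (nat_lit
    420954039779330)))) (.node (.node (.node (.leaf (nat_lit 4240416515979915179720718)) (.leaf
    (nat_lit 0))) (.leaf (nat_lit 0))) (.node (.node (.leaf (nat_lit 0)) (.leaf (nat_lit
    5295827820150786))) (.leaf (nat_lit 291349106655234)))))))) (.node (.node (.node (.node (.node
    (.node (.node (.leaf (nat_lit 1)) (.leaf (nat_lit 341952411336706))) (.node (.leaf (nat_lit 0))
    (.leaf (nat_lit 837209385205762)))) (.node (.node (.leaf (nat_lit 54142413568147473)) (.leaf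
    (nat_lit 700668079898627))) (.leaf (nat_lit 0)))) (.node (.node (.node (.leaf (nat_lit 0))
    (.leaf (nat_lit 129726021137268744))) (.leaf (nat_lit 348137164242951))) (.node (.node (.leaf
    (nat_lit 6503438911325213732444241942)) (.leaf (nat_lit 18261042448178610178))) (.leaf (nat_lit
    213290519755948034))))) (.node (.node (.node (.node (.leaf (nat_lit 0)) (.leaf (nat_lit
    20895660746401877445705762))) (.node (.leaf (nat_lit 262306537799682)) (.leaf (nat_lit
    5629252766867390466)))) (.node (.node (.leaf (nat_lit 0)) (.leaf (nat_lit 355398742628827138)))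
    (.leaf (nat_lit 229919765542666249)))) (.node (.node (.node (.leaf (nat_lit
    6358676315282158446313484)) (.leaf (nat_lit 0))) (.leaf (nat_lit 111675957219360776))) (.node
    (.node (.leaf (nat_lit 7897634064911628387930800150)) (.leaf (nat_lit 12064292551720962)))
    (.leaf (nat_lit 70336543948985573113887)))))) (.node (.node (.node (.node (.node (.leaf
    (nat_lit 0)) (.leaf (nat_lit 0))) (.node (.leaf (nat_lit 295257526894599)) (.leaf (nat_lit
    6492062111432706)))) (.node (.node (.leaf (nat_lit 30559933556785154)) (.leaf (nat_lit 0)))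
    (.leaf (nat_lit 0)))) (.node (.node (.node (.leaf (nat_lit 83738977501191)) (.leaf (nat_lit
    11629934765536779631440396025891))) (.leaf (nat_lit 321774654980098))) (.node (.node (.leaf
    (nat_lit 15425029134013571076063236)) (.leaf (nat_lit 793143020748802))) (.leaf (nat_lit
    89036673281796866064))))) (.node (.node (.node (.node (.leaf (nat_lit 0)) (.leaf (nat_lit 0)))
    (.node (.leaf (nat_lit 0)) (.leaf (nat_lit 896759106764802)))) (.node (.node (.leaf (nat_lit
    0)) (.leaf (nat_lit 94197738132144130))) (.leaf (nat_lit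
    1954421206032723690384604133805654039)))) (.node (.node (.node (.leaf (nat_lit 42017665187842))
    (.leaf (nat_lit 0))) (.leaf (nat_lit 202871685010096137))) (.node (.node (.leaf (nat_lit 0))
    (.leaf (nat_lit 828439061987330))) (.leaf (nat_lit 199832407237656578))))))) (.node (.node
    (.node (.node (.node (.node (.leaf (nat_lit 1)) (.leaf (nat_lit 30281735413500704469680160)))
    (.node (.leaf (nat_lit 0)) (.leaf (nat_lit 223888296497150951426)))) (.node (.node (.leaf
    (nat_lit 75574025497280531)) (.leaf (nat_lit 0))) (.leaf (nat_lit 0)))) (.node (.node (.node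
    (.leaf (nat_lit 0)) (.leaf (nat_lit 29677539455555922204950542))) (.leaf (nat_lit
    4281970721549508286763592319001))) (.node (.node (.leaf (nat_lit 0)) (.leaf (nat_lit
    67211144351383554))) (.leaf (nat_lit 337425515806722))))) (.node (.node (.node (.node (.leaf
    (nat_lit 619575368578323123337101318)) (.leaf (nat_lit 139095969034862594))) (.node (.leaf
    (nat_lit 0)) (.leaf (nat_lit 696587860967426)))) (.node (.node (.leaf (nat_lit
    180684979306499)) (.leaf (nat_lit 145985053627973634))) (.leaf (nat_lit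
    4019882387289535262650647905370123)))) (.node (.node (.node (.leaf (nat_lit 23760527880814594))
    (.leaf (nat_lit 19571968024692727111614501))) (.leaf (nat_lit 18775914845828521495232526)))
    (.node (.node (.leaf (nat_lit 0)) (.leaf (nat_lit 15415509503901698))) (.leaf (nat_lit
    209948399544500243)))))) (.node (.node (.node (.node (.node (.leaf (nat_lit
    1512337868401846054682628)) (.leaf (nat_lit 0))) (.node (.leaf (nat_lit
    2558836614562427189394162645008395)) (.leaf (nat_lit 705323824447490)))) (.node (.node (.leaf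
    (nat_lit 3028216344490968302569848853)) (.leaf (nat_lit 25246980866878538150886965270))) (.leaf
    (nat_lit 0)))) (.node (.node (.node (.leaf (nat_lit 608789510397214818637719093706762)) (.leaf
    (nat_lit 639009529397250))) (.leaf (nat_lit 186084156793618458))) (.node (.node (.leaf (nat_lit
    0)) (.leaf (nat_lit 793160200617986))) (.leaf (nat_lit 31495642511512296596307997))))) (.node
    (.node (.node (.node (.leaf (nat_lit 0)) (.leaf (nat_lit 139991035924381705))) (.leaf (nat_lit
    0))) (.node (.node (.leaf (nat_lit 13610184831043517305716740)) (.leaf (nat_lit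
    185403181138903042))) (.leaf (nat_lit 423153063034882)))) (.node (.node (.node (.leaf (nat_lit
    6048498316243767151427599)) (.leaf (nat_lit 0))) (.leaf (nat_lit 0))) (.node (.node (.leaf
    (nat_lit 0)) (.leaf (nat_lit 1927130351075330))) (.leaf (nat_lit
    12339407958591996141129629717)))))))))

/-- Certificate data. -/
def tc1_rel : Trie :=
    (.node (.node (.node (.node (.node (.node (.leaf (nat_lit 0)) (.leaf (nat_lit
    1691070442309122))) (.leaf (nat_lit 117704452))) (.node (.leaf (nat_lit
    23648872276089278825985)) (.leaf (nat_lit 16843780)))) (.node (.node (.node (.leaf (nat_lit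
    74597474555463687)) (.leaf (nat_lit 1412885427521028))) (.leaf (nat_lit 578437682867538177)))
    (.node (.leaf (nat_lit 1691074687206657)) (.leaf (nat_lit 360857534476649987))))) (.node (.node
    (.node (.node (.leaf (nat_lit 2258409785460999)) (.leaf (nat_lit 432632549748114692))) (.leaf
    (nat_lit 849935457322502))) (.node (.leaf (nat_lit 1408495903966721)) (.leaf (nat_lit
    1979146733618441)))) (.node (.node (.leaf (nat_lit 67174660)) (.leaf (nat_lit
    1417300687585796))) (.node (.leaf (nat_lit 50463235)) (.leaf (nat_lit 1410694960776707))))))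
    (.node (.node (.node (.node (.node (.leaf (nat_lit 526344)) (.leaf (nat_lit
    289638876367356422))) (.leaf (nat_lit 117638915))) (.node (.leaf (nat_lit
    23759838999483288913410)) (.leaf (nat_lit 362547471031075332)))) (.node (.node (.node (.leaf
    (nat_lit 328965)) (.leaf (nat_lit
    17552495884781564259350495712592856097824112975852680702507139293570259886311303807233)))
    (.leaf (nat_lit 4833192479796253493505))) (.node (.leaf (nat_lit 287011307521539)) (.leaf
    (nat_lit 6605693583617))))) (.node (.node (.node (.node (.leaf (nat_lit 578152905077885186))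
    (.leaf (nat_lit 1411798800729347))) (.leaf (nat_lit 1132514240692998))) (.node (.leaf (nat_lit
    286981225840901)) (.leaf (nat_lit 1412876837455362)))) (.node (.node (.leaf (nat_lit 84346119))
    (.leaf (nat_lit 506094224413360392))) (.node (.leaf (nat_lit 17236231)) (.leaf (nat_lit
    360576055205037572)))))))

/-- Certificate data. -/
def tc1_rc : Trie :=
    (.node (.node (.node (.node (.node (.node (.leaf (nat_lit 38)) (.leaf (nat_lit 786440))) (.leaf
    (nat_lit 25))) (.node (.leaf (nat_lit 131106)) (.leaf (nat_lit 262149)))) (.node (.node (.node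
    (.leaf (nat_lit 131105)) (.leaf (nat_lit 524298))) (.leaf (nat_lit 131100))) (.node (.leaf
    (nat_lit 131080)) (.leaf (nat_lit 131087))))) (.node (.node (.node (.node (.leaf (nat_lit
    655391)) (.leaf (nat_lit 524305))) (.leaf (nat_lit 393227))) (.node (.leaf (nat_lit 262153))
    (.leaf (nat_lit 262174)))) (.node (.node (.leaf (nat_lit 393221)) (.leaf (nat_lit 524318)))
    (.node (.leaf (nat_lit 131076)) (.leaf (nat_lit 262155)))))) (.node (.node (.node (.node (.node
    (.leaf (nat_lit 26)) (.leaf (nat_lit 786447))) (.leaf (nat_lit 131096))) (.node (.leaf (nat_lit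
    655394)) (.leaf (nat_lit 524321)))) (.node (.node (.node (.leaf (nat_lit 0)) (.leaf (nat_lit
    37))) (.leaf (nat_lit 131107))) (.node (.leaf (nat_lit 262175)) (.leaf (nat_lit 7))))) (.node
    (.node (.node (.node (.leaf (nat_lit 786461)) (.leaf (nat_lit 11))) (.leaf (nat_lit 10)))
    (.node (.leaf (nat_lit 131081)) (.leaf (nat_lit 524296)))) (.node (.node (.leaf (nat_lit 18))
    (.leaf (nat_lit 28))) (.node (.leaf (nat_lit 22)) (.leaf (nat_lit 655375)))))))

/-- Certificate data. -/
def tc1_lv : Trie :=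
    (.leaf (nat_lit 0))

/-- Certificate data. -/
def tc1_tb : Trie :=
    (.node (.node (.node (.leaf (nat_lit 0)) (.leaf (nat_lit 411))) (.leaf (nat_lit 4))) (.node
    (.leaf (nat_lit 2)) (.leaf (nat_lit 7))))

/-- Certificate data. -/
def tc1_C : TC.Cert := ⟨6, 63, 9, 511, 37945458376763718566400, 254, tc1_par, tc1_fact, tc1_just, tc1_rel, 38⟩

/-- Certificate data. -/
def tc1_rs : List (List ℕ) := [[5, 5, 5], [1, 1, 1, 1], [3, 3, 2, 2], [5, 1, 1, 6, 2, 2], [6, 1, 5, 5, 2, 6, 2], [6, 3, 5, 5, 4, 6, 4], [1, 3, 2, 4], [1, 5, 3, 6, 2, 5, 4, 6], [5, 1, 6, 3, 5, 2, 6, 4], [7, 5, 7, 5], [7, 7], [7, 1, 7, 1], [7, 3, 7, 3], [8, 8, 8], [8, 1, 9, 5, 4, 2, 6, 7], [8, 7, 9, 5, 4, 2, 6], [8, 5, 1, 3, 6, 9, 7, 2], [5, 1, 6, 8, 5, 2, 6, 8, 2, 2], [8, 8, 5, 8, 5, 8, 5, 1, 3, 6, 9, 6, 9, 6, 9, 9, 1, 1, 8, 8, 5, 8, 5, 8, 5, 4, 2, 6, 9, 6, 9, 6, 9, 9, 2, 2]]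

/-- Certificate data. -/
def tc1_gl : List ℕ := [1, 259, 517, 775, 1032]

theorem tc1_h1 : allB tc1_C.factChk 206 = true := by decide +kernel

theorem tc1_h2 : tc1_C.finChk 206 1 tc1_lv tc1_tb tc1_gl = true := by decide +kernel

theorem tc1_h3 : TC.relChk tc1_C.ivc tc1_rs tc1_C.rel tc1_rc tc1_C.nrel = true := by decide +kernel

theorem tc1_bound {G : Type*} [Group G] {a b x y r : G}
    (r0 : x * x * x = 1)
    (r1 : a * a * a * a = 1)
    (r2 : b * b * a⁻¹ * a⁻¹ = 1)
    (r3 : x * a * a * x⁻¹ * a⁻¹ * a⁻¹ = 1)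
    (r4 : x⁻¹ * a * x * x * a⁻¹ * x⁻¹ * a⁻¹ = 1)
    (r5 : x⁻¹ * b * x * x * b⁻¹ * x⁻¹ * b⁻¹ = 1)
    (r6 : a * b * a⁻¹ * b⁻¹ = 1)
    (r7 : a * x * b * x⁻¹ * a⁻¹ * x * b⁻¹ * x⁻¹ = 1)
    (r8 : x * a * x⁻¹ * b * x * a⁻¹ * x⁻¹ * b⁻¹ = 1)
    (r9 : y * x * y * x = 1)
    (r10 : y * y = 1)
    (r11 : y * a * y * a = 1)
    (r12 : y * b * y * b = 1)
    (r13 : r * r * r = 1)
    (r14 : r * a * r⁻¹ * x * b⁻¹ * a⁻¹ * x⁻¹ * y = 1)
    (r15 : r * y * r⁻¹ * x * b⁻¹ * a⁻¹ * x⁻¹ = 1)
    (r16 : r * x * a * b * x⁻¹ * r⁻¹ * y * a⁻¹ = 1)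
    (r17 : x * a * x⁻¹ * r * x * a⁻¹ * x⁻¹ * r * a⁻¹ * a⁻¹ = 1)
    (r18 : r * r * x * r * x * r * x * a * b * x⁻¹ * r⁻¹ * x⁻¹ * r⁻¹ * x⁻¹ * r⁻¹ * r⁻¹ * a * a * r
    * r * x * r * x * r * x * b⁻¹ * a⁻¹ * x⁻¹ * r⁻¹ * x⁻¹ * r⁻¹ * x⁻¹ * r⁻¹ * r⁻¹ * a⁻¹ * a⁻¹ = 1)
    (H : Subgroup G) [Finite H] (m1 : a ∈ H) (m3 : b ∈ H) (m5 : x ∈ H) (m7 : y ∈ H) :
    Finite (Subgroup.closure ({a, b, x, y, r} : Set G)) ∧
      Nat.card (Subgroup.closure ({a, b, x, y, r} : Set G)) ≤ 1 * Nat.card H := by
  have hL : TC.Lett (TC.lett [a, a⁻¹, b, b⁻¹, x, x⁻¹, y, r, r⁻¹]) tc1_C.ivc :=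
    TC.lett_ok (show Nat.shiftRight tc1_C.ivc (8 * 10) = 0 by decide +kernel) (by
      intro a ha
      change a < 10 at ha
      interval_cases a
      · exact inv_one.symm
      · rfl
      · exact (inv_inv _).symm
      · rfl
      · exact (inv_inv _).symm
      · rfl
      · exact (inv_inv _).symm
      · exact (inv_eq_of_mul_eq_one_right r10).symm
      · rfl
      · exact (inv_inv _).symm)
  have h := TC.card_le tc1_h1 tc1_h2 tc1_h3 (by decide) hL (by
    simp only [tc1_rs, List.forall_mem_cons]
    refine ⟨?_, ?_, ?_, ?_, ?_, ?_, ?_, ?_, ?_, ?_, ?_, ?_, ?_, ?_, ?_, ?_, ?_, ?_, ?_,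
    List.forall_mem_nil _⟩
    · show x * (x * (x * 1)) = 1
      simp only [mul_assoc, mul_one] at r0 ⊢
      exact r0
    · show a * (a * (a * (a * 1))) = 1
      simp only [mul_assoc, mul_one] at r1 ⊢
      exact r1
    · show b * (b * (a⁻¹ * (a⁻¹ * 1))) = 1
      simp only [mul_assoc, mul_one] at r2 ⊢
      exact r2
    · show x * (a * (a * (x⁻¹ * (a⁻¹ * (a⁻¹ * 1))))) = 1
      simp only [mul_assoc, mul_one] at r3 ⊢
      exact r3
    · show x⁻¹ * (a * (x * (x * (a⁻¹ * (x⁻¹ * (a⁻¹ * 1)))))) = 1
      simp only [mul_assoc, mul_one] at r4 ⊢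
      exact r4
    · show x⁻¹ * (b * (x * (x * (b⁻¹ * (x⁻¹ * (b⁻¹ * 1)))))) = 1
      simp only [mul_assoc, mul_one] at r5 ⊢
      exact r5
    · show a * (b * (a⁻¹ * (b⁻¹ * 1))) = 1
      simp only [mul_assoc, mul_one] at r6 ⊢
      exact r6
    · show a * (x * (b * (x⁻¹ * (a⁻¹ * (x * (b⁻¹ * (x⁻¹ * 1))))))) = 1
      simp only [mul_assoc, mul_one] at r7 ⊢
      exact r7
    · show x * (a * (x⁻¹ * (b * (x * (a⁻¹ * (x⁻¹ * (b⁻¹ * 1))))))) = 1
      simp only [mul_assoc, mul_one] at r8 ⊢
      exact r8
    · show y * (x * (y * (x * 1))) = 1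
      simp only [mul_assoc, mul_one] at r9 ⊢
      exact r9
    · show y * (y * 1) = 1
      simp only [mul_one] at r10 ⊢
      exact r10
    · show y * (a * (y * (a * 1))) = 1
      simp only [mul_assoc, mul_one] at r11 ⊢
      exact r11
    · show y * (b * (y * (b * 1))) = 1
      simp only [mul_assoc, mul_one] at r12 ⊢
      exact r12
    · show r * (r * (r * 1)) = 1
      simp only [mul_assoc, mul_one] at r13 ⊢
      exact r13
    · show r * (a * (r⁻¹ * (x * (b⁻¹ * (a⁻¹ * (x⁻¹ * (y * 1))))))) = 1
      simp only [mul_assoc, mul_one] at r14 ⊢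
      exact r14
    · show r * (y * (r⁻¹ * (x * (b⁻¹ * (a⁻¹ * (x⁻¹ * 1)))))) = 1
      simp only [mul_assoc, mul_one] at r15 ⊢
      exact r15
    · show r * (x * (a * (b * (x⁻¹ * (r⁻¹ * (y * (a⁻¹ * 1))))))) = 1
      simp only [mul_assoc, mul_one] at r16 ⊢
      exact r16
    · show x * (a * (x⁻¹ * (r * (x * (a⁻¹ * (x⁻¹ * (r * (a⁻¹ * (a⁻¹ * 1))))))))) = 1
      simp only [mul_assoc, mul_one] at r17 ⊢
      exact r17
    · show r * (r * (x * (r * (x * (r * (x * (a * (b * (x⁻¹ * (r⁻¹ * (x⁻¹ * (r⁻¹ * (x⁻¹ * (r⁻¹ *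
    (r⁻¹ * (a * (a * (r * (r * (x * (r * (x * (r * (x * (b⁻¹ * (a⁻¹ * (x⁻¹ * (r⁻¹ * (x⁻¹ * (r⁻¹ *
    (x⁻¹ * (r⁻¹ * (r⁻¹ * (a⁻¹ * (a⁻¹ * 1))))))))))))))))))))))))))))))))))) = 1
      simp only [mul_assoc, mul_one] at r18 ⊢
      exact r18) H
    (TC.forall_subs (K := 10) (by decide +kernel) (by
      intro a ha hb
      interval_cases a
      · exact absurd hb (by decide +kernel)
      · exact m1
      · exact H.inv_mem m1
      · exact m3
      · exact H.inv_mem m3
      · exact m5
      · exact H.inv_mem m5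
      · exact m7
      · exact absurd hb (by decide +kernel)
      · exact absurd hb (by decide +kernel)))
  have e : {g₀ | ∃ ak ∈ tc1_gl, TC.lett [a, a⁻¹, b, b⁻¹, x, x⁻¹, y, r, r⁻¹] (ak % 256) = g₀} =
      {a, b, x, y, r} := by
    ext g₀
    simp only [tc1_gl, List.mem_cons, List.not_mem_nil, or_false, exists_eq_or_imp,
      exists_eq_left, Set.mem_ofPred_eq, Set.mem_insert_iff, Set.mem_singleton_iff]
    exact or_congr eq_comm (or_congr eq_comm (or_congr eq_comm (or_congr eq_comm (eq_comm))))
  rw [e] at h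
  exact h

theorem tc1_card {G : Type*} [Group G] {a b x y r : G}
    (e0 : x ^ 3 = 1)
    (e1 : a ^ 4 = 1)
    (e2 : b ^ 2 = a ^ 2)
    (e3 : x * a ^ 2 = a ^ 2 * x)
    (e4 : x⁻¹ * a * x = a * (x * a * x⁻¹))
    (e5 : x⁻¹ * b * x = b * (x * b * x⁻¹))
    (e6 : a * b = b * a)
    (e7 : a * (x * b * x⁻¹) = x * b * x⁻¹ * a)
    (e8 : x * a * x⁻¹ * b = b * (x * a * x⁻¹))
    (e9 : y * x * y⁻¹ = x⁻¹)
    (e10 : y * y = 1)
    (e11 : y * a * y⁻¹ = a⁻¹)
    (e12 : y * b * y⁻¹ = b⁻¹)
    (e13 : r ^ 3 = 1)
    (e14 : r * a * r⁻¹ = y * ((x * a * x⁻¹) * (x * b * x⁻¹)))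
    (e15 : r * y * r⁻¹ = ((x * a * x⁻¹) * (x * b * x⁻¹)))
    (e16 : r * ((x * a * x⁻¹) * (x * b * x⁻¹)) * r⁻¹ = a * y)
    (e17 : (x * a * x⁻¹) * r * (x * a * x⁻¹)⁻¹ * r = a ^ 2)
    (e18 : (r * r * x * r * x * r * x) * (a * b) * (r * r * x * r * x * r * x)⁻¹ * a ^ 2 = a ^ 2 *
    ((r * r * x * r * x * r * x) * (a * b) * (r * r * x * r * x * r * x)⁻¹))
    (H : Subgroup G) [Finite H] (ma : a ∈ H) (mb : b ∈ H) (mx : x ∈ H) (my : y ∈ H) :
    Finite (Subgroup.closure ({a, b, x, y, r} : Set G)) ∧
      Nat.card (Subgroup.closure ({a, b, x, y, r} : Set G)) ≤ 1 * Nat.card H := by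
  have iy : y⁻¹ = y := inv_eq_of_mul_eq_one_right e10
  refine tc1_bound ?_ ?_ ?_ ?_ ?_ ?_ ?_ ?_ ?_ ?_ ?_ ?_ ?_ ?_ ?_ ?_ ?_ ?_ ?_ H ma mb mx my
  · have h := mul_inv_eq_one.mpr e0
    simp only [pow_succ, pow_zero, mul_inv_rev, inv_inv, inv_one, one_mul, mul_one, mul_assoc,
      mul_inv_cancel_left, inv_mul_cancel_left, mul_inv_cancel, inv_mul_cancel, iy] at h ⊢
    exact h
  · have h := mul_inv_eq_one.mpr e1
    simp only [pow_succ, pow_zero, mul_inv_rev, inv_inv, inv_one, one_mul, mul_one, mul_assoc,
      mul_inv_cancel_left, inv_mul_cancel_left, mul_inv_cancel, inv_mul_cancel, iy] at h ⊢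
    exact h
  · have h := mul_inv_eq_one.mpr e2
    simp only [pow_succ, pow_zero, mul_inv_rev, inv_inv, inv_one, one_mul, mul_one, mul_assoc,
      mul_inv_cancel_left, inv_mul_cancel_left, mul_inv_cancel, inv_mul_cancel, iy] at h ⊢
    exact h
  · have h := mul_inv_eq_one.mpr e3
    simp only [pow_succ, pow_zero, mul_inv_rev, inv_inv, inv_one, one_mul, mul_one, mul_assoc,
      mul_inv_cancel_left, inv_mul_cancel_left, mul_inv_cancel, inv_mul_cancel, iy] at h ⊢
    exact h
  · have h := mul_inv_eq_one.mpr e4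
    simp only [pow_succ, pow_zero, mul_inv_rev, inv_inv, inv_one, one_mul, mul_one, mul_assoc,
      mul_inv_cancel_left, inv_mul_cancel_left, mul_inv_cancel, inv_mul_cancel, iy] at h ⊢
    exact h
  · have h := mul_inv_eq_one.mpr e5
    simp only [pow_succ, pow_zero, mul_inv_rev, inv_inv, inv_one, one_mul, mul_one, mul_assoc,
      mul_inv_cancel_left, inv_mul_cancel_left, mul_inv_cancel, inv_mul_cancel, iy] at h ⊢
    exact h
  · have h := mul_inv_eq_one.mpr e6
    simp only [pow_succ, pow_zero, mul_inv_rev, inv_inv, inv_one, one_mul, mul_one, mul_assoc,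
      mul_inv_cancel_left, inv_mul_cancel_left, mul_inv_cancel, inv_mul_cancel, iy] at h ⊢
    exact h
  · have h := mul_inv_eq_one.mpr e7
    simp only [pow_succ, pow_zero, mul_inv_rev, inv_inv, inv_one, one_mul, mul_one, mul_assoc,
      mul_inv_cancel_left, inv_mul_cancel_left, mul_inv_cancel, inv_mul_cancel, iy] at h ⊢
    exact h
  · have h := mul_inv_eq_one.mpr e8
    simp only [pow_succ, pow_zero, mul_inv_rev, inv_inv, inv_one, one_mul, mul_one, mul_assoc,
      mul_inv_cancel_left, inv_mul_cancel_left, mul_inv_cancel, inv_mul_cancel, iy] at h ⊢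
    exact h
  · have h := mul_inv_eq_one.mpr e9
    simp only [pow_succ, pow_zero, mul_inv_rev, inv_inv, inv_one, one_mul, mul_one, mul_assoc,
      mul_inv_cancel_left, inv_mul_cancel_left, mul_inv_cancel, inv_mul_cancel, iy] at h ⊢
    exact h
  · have h := mul_inv_eq_one.mpr e10
    simp only [pow_succ, pow_zero, mul_inv_rev, inv_inv, inv_one, one_mul, mul_one, mul_assoc,
      mul_inv_cancel_left, inv_mul_cancel_left, mul_inv_cancel, inv_mul_cancel, iy] at h ⊢
    exact h
  · have h := mul_inv_eq_one.mpr e11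
    simp only [pow_succ, pow_zero, mul_inv_rev, inv_inv, inv_one, one_mul, mul_one, mul_assoc,
      mul_inv_cancel_left, inv_mul_cancel_left, mul_inv_cancel, inv_mul_cancel, iy] at h ⊢
    exact h
  · have h := mul_inv_eq_one.mpr e12
    simp only [pow_succ, pow_zero, mul_inv_rev, inv_inv, inv_one, one_mul, mul_one, mul_assoc,
      mul_inv_cancel_left, inv_mul_cancel_left, mul_inv_cancel, inv_mul_cancel, iy] at h ⊢
    exact h
  · have h := mul_inv_eq_one.mpr e13
    simp only [pow_succ, pow_zero, mul_inv_rev, inv_inv, inv_one, one_mul, mul_one, mul_assoc,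
      mul_inv_cancel_left, inv_mul_cancel_left, mul_inv_cancel, inv_mul_cancel, iy] at h ⊢
    exact h
  · have h := mul_inv_eq_one.mpr e14
    simp only [pow_succ, pow_zero, mul_inv_rev, inv_inv, inv_one, one_mul, mul_one, mul_assoc,
      mul_inv_cancel_left, inv_mul_cancel_left, mul_inv_cancel, inv_mul_cancel, iy] at h ⊢
    exact h
  · have h := mul_inv_eq_one.mpr e15
    simp only [pow_succ, pow_zero, mul_inv_rev, inv_inv, inv_one, one_mul, mul_one, mul_assoc,
      mul_inv_cancel_left, inv_mul_cancel_left, mul_inv_cancel, inv_mul_cancel, iy] at h ⊢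
    exact h
  · have h := mul_inv_eq_one.mpr e16
    simp only [pow_succ, pow_zero, mul_inv_rev, inv_inv, inv_one, one_mul, mul_one, mul_assoc,
      mul_inv_cancel_left, inv_mul_cancel_left, mul_inv_cancel, inv_mul_cancel, iy] at h ⊢
    exact h
  · have h := mul_inv_eq_one.mpr e17
    simp only [pow_succ, pow_zero, mul_inv_rev, inv_inv, inv_one, one_mul, mul_one, mul_assoc,
      mul_inv_cancel_left, inv_mul_cancel_left, mul_inv_cancel, inv_mul_cancel, iy] at h ⊢
    exact h
  · have h := mul_inv_eq_one.mpr e18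
    simp only [pow_succ, pow_zero, mul_inv_rev, inv_inv, inv_one, one_mul, mul_one, mul_assoc,
      mul_inv_cancel_left, inv_mul_cancel_left, mul_inv_cancel, inv_mul_cancel, iy] at h ⊢
    exact h
/-- Certificate data. -/
def tc2_par : Trie :=
    (.node (.node (.node (.node (.node (.node (.leaf (nat_lit 0)) (.leaf (nat_lit 3589))) (.node
    (.leaf (nat_lit 2568)) (.leaf (nat_lit 4867)))) (.node (.node (.leaf (nat_lit 262)) (.leaf
    (nat_lit 4101))) (.node (.leaf (nat_lit 3078)) (.leaf (nat_lit 8201))))) (.node (.node (.node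
    (.leaf (nat_lit 258)) (.leaf (nat_lit 3846))) (.node (.leaf (nat_lit 3073)) (.leaf (nat_lit
    6152)))) (.node (.node (.leaf (nat_lit 1800)) (.leaf (nat_lit 4358))) (.leaf (nat_lit 3585)))))
    (.node (.node (.node (.node (.leaf (nat_lit 9)) (.leaf (nat_lit 3843))) (.node (.leaf (nat_lit
    2824)) (.leaf (nat_lit 4870)))) (.node (.node (.leaf (nat_lit 517)) (.leaf (nat_lit 4355)))
    (.leaf (nat_lit 3333)))) (.node (.node (.node (.leaf (nat_lit 260)) (.leaf (nat_lit 4098)))
    (.node (.leaf (nat_lit 3075)) (.leaf (nat_lit 6665)))) (.node (.node (.leaf (nat_lit 2056))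
    (.leaf (nat_lit 4613))) (.leaf (nat_lit 3587)))))) (.node (.node (.node (.node (.node (.leaf
    (nat_lit 8)) (.leaf (nat_lit 3590))) (.node (.leaf (nat_lit 2569)) (.leaf (nat_lit 4869))))
    (.node (.node (.leaf (nat_lit 515)) (.leaf (nat_lit 4102))) (.node (.leaf (nat_lit 3331))
    (.leaf (nat_lit 10505))))) (.node (.node (.node (.leaf (nat_lit 259)) (.leaf (nat_lit 4097)))
    (.node (.leaf (nat_lit 3074)) (.leaf (nat_lit 6664)))) (.node (.node (.leaf (nat_lit 1801))
    (.leaf (nat_lit 4611))) (.leaf (nat_lit 3586))))) (.node (.node (.node (.node (.leaf (nat_lit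
    257)) (.leaf (nat_lit 3845))) (.node (.leaf (nat_lit 2825)) (.leaf (nat_lit 5897)))) (.node
    (.node (.leaf (nat_lit 518)) (.leaf (nat_lit 4357))) (.leaf (nat_lit 3334)))) (.node (.node
    (.node (.leaf (nat_lit 261)) (.leaf (nat_lit 4099))) (.node (.leaf (nat_lit 3077)) (.leaf
    (nat_lit 8200)))) (.node (.node (.leaf (nat_lit 2057)) (.leaf (nat_lit 4614))) (.leaf (nat_lit
    3588)))))))

/-- Certificate data. -/
def tc2_fact : Trie :=
    (.node (.node (.node (.node (.node (.node (.node (.node (.leaf (nat_lit 1)) (.leaf (nat_lit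
    269824))) (.node (.leaf (nat_lit 382982)) (.leaf (nat_lit 20480)))) (.node (.node (.leaf
    (nat_lit 133892)) (.leaf (nat_lit 891401))) (.leaf (nat_lit 271879)))) (.node (.node (.node
    (.leaf (nat_lit 116742)) (.leaf (nat_lit 791299))) (.leaf (nat_lit 544262))) (.node (.node
    (.leaf (nat_lit 216833)) (.leaf (nat_lit 217344))) (.leaf (nat_lit 238848))))) (.node (.node
    (.node (.node (.leaf (nat_lit 33281)) (.leaf (nat_lit 437762))) (.node (.leaf (nat_lit 333056))
    (.leaf (nat_lit 849408)))) (.node (.node (.leaf (nat_lit 33283)) (.leaf (nat_lit 849920)))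
    (.leaf (nat_lit 715782)))) (.node (.node (.node (.leaf (nat_lit 133889)) (.leaf (nat_lit
    766211))) (.leaf (nat_lit 560899))) (.node (.node (.leaf (nat_lit 283393)) (.leaf (nat_lit
    438528))) (.leaf (nat_lit 680964)))))) (.node (.node (.node (.node (.node (.leaf (nat_lit
    16392)) (.leaf (nat_lit 387843))) (.node (.leaf (nat_lit 445702)) (.leaf (nat_lit 3072))))
    (.node (.node (.leaf (nat_lit 17920)) (.leaf (nat_lit 915465))) (.leaf (nat_lit 665862))))
    (.node (.node (.node (.leaf (nat_lit 180742)) (.leaf (nat_lit 667905))) (.leaf (nat_lit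
    201218))) (.node (.node (.leaf (nat_lit 266505)) (.leaf (nat_lit 3328))) (.leaf (nat_lit
    233474))))) (.node (.node (.node (.node (.leaf (nat_lit 82179)) (.leaf (nat_lit 297987)))
    (.node (.leaf (nat_lit 478722)) (.leaf (nat_lit 13312)))) (.node (.node (.leaf (nat_lit
    231432)) (.leaf (nat_lit 584448))) (.leaf (nat_lit 680963)))) (.node (.node (.node (.leaf
    (nat_lit 16647)) (.leaf (nat_lit 406019))) (.leaf (nat_lit 593670))) (.node (.node (.leaf
    (nat_lit 201991)) (.leaf (nat_lit 16896))) (.leaf (nat_lit 221696))))))) (.node (.node (.node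
    (.node (.node (.node (.leaf (nat_lit 5)) (.leaf (nat_lit 233475))) (.node (.leaf (nat_lit
    219395)) (.leaf (nat_lit 10240)))) (.node (.node (.leaf (nat_lit 117251)) (.leaf (nat_lit
    909320))) (.leaf (nat_lit 659461)))) (.node (.node (.node (.leaf (nat_lit 35075)) (.leaf
    (nat_lit 807685))) (.leaf (nat_lit 450819))) (.node (.node (.leaf (nat_lit 264712)) (.leaf
    (nat_lit 18432))) (.leaf (nat_lit 269312))))) (.node (.node (.node (.node (.leaf (nat_lit
    65794)) (.leaf (nat_lit 300544))) (.node (.leaf (nat_lit 201735)) (.leaf (nat_lit 13824))))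
    (.node (.node (.leaf (nat_lit 214793)) (.leaf (nat_lit 200192))) (.leaf (nat_lit 683010))))
    (.node (.node (.node (.leaf (nat_lit 17408)) (.leaf (nat_lit 815622))) (.leaf (nat_lit
    577285))) (.node (.node (.leaf (nat_lit 330753)) (.leaf (nat_lit 16646))) (.leaf (nat_lit
    534791)))))) (.node (.node (.node (.node (.node (.leaf (nat_lit 16905)) (.leaf (nat_lit
    306435))) (.node (.leaf (nat_lit 400130)) (.leaf (nat_lit 13568)))) (.node (.node (.leaf
    (nat_lit 16644)) (.leaf (nat_lit 850177))) (.leaf (nat_lit 708869)))) (.node (.node (.node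
    (.leaf (nat_lit 166663)) (.leaf (nat_lit 290816))) (.leaf (nat_lit 201223))) (.node (.node
    (.leaf (nat_lit 297736)) (.leaf (nat_lit 8960))) (.leaf (nat_lit 237059))))) (.node (.node
    (.node (.node (.leaf (nat_lit 114949)) (.leaf (nat_lit 765702))) (.leaf (nat_lit 511492)))
    (.node (.node (.leaf (nat_lit 233225)) (.leaf (nat_lit 216832))) (.leaf (nat_lit 271617))))
    (.node (.node (.node (.leaf (nat_lit 117250)) (.leaf (nat_lit 858120))) (.leaf (nat_lit
    610305))) (.node (.node (.leaf (nat_lit 379909)) (.leaf (nat_lit 6656))) (.leaf (nat_lit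
    216835)))))))) (.node (.node (.node (.node (.node (.node (.node (.leaf (nat_lit 3)) (.leaf
    (nat_lit 233476))) (.node (.leaf (nat_lit 412931)) (.leaf (nat_lit 12544)))) (.node (.node
    (.leaf (nat_lit 132871)) (.leaf (nat_lit 882185))) (.leaf (nat_lit 643075)))) (.node (.node
    (.node (.leaf (nat_lit 147971)) (.leaf (nat_lit 323587))) (.leaf (nat_lit 532742))) (.node
    (.node (.leaf (nat_lit 216834)) (.leaf (nat_lit 18176))) (.leaf (nat_lit 269568))))) (.node
    (.node (.node (.node (.leaf (nat_lit 49409)) (.leaf (nat_lit 437761))) (.node (.leaf (nat_lit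
    201729)) (.leaf (nat_lit 13056)))) (.node (.node (.leaf (nat_lit 198408)) (.leaf (nat_lit
    385024))) (.leaf (nat_lit 715783)))) (.node (.node (.node (.leaf (nat_lit 165634)) (.leaf
    (nat_lit 824070))) (.leaf (nat_lit 254467))) (.node (.node (.leaf (nat_lit 283394)) (.leaf
    (nat_lit 36864))) (.leaf (nat_lit 712706)))))) (.node (.node (.node (.node (.node (.leaf
    (nat_lit 32777)) (.leaf (nat_lit 741891))) (.node (.leaf (nat_lit 432902)) (.leaf (nat_lit
    6144)))) (.node (.node (.leaf (nat_lit 17664)) (.leaf (nat_lit 944393))) (.leaf (nat_lit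
    692483)))) (.node (.node (.node (.leaf (nat_lit 166662)) (.leaf (nat_lit 322048))) (.leaf
    (nat_lit 201217))) (.node (.node (.leaf (nat_lit 282887)) (.leaf (nat_lit 3840))) (.leaf
    (nat_lit 499456))))) (.node (.node (.node (.node (.leaf (nat_lit 98564)) (.leaf (nat_lit
    774662))) (.node (.leaf (nat_lit 495107)) (.leaf (nat_lit 9)))) (.node (.node (.leaf (nat_lit
    247817)) (.leaf (nat_lit 116736))) (.leaf (nat_lit 615936)))) (.node (.node (.node (.leaf
    (nat_lit 16642)) (.leaf (nat_lit 841481))) (.leaf (nat_lit 582663))) (.node (.node (.leaf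
    (nat_lit 363523)) (.leaf (nat_lit 19456))) (.leaf (nat_lit 252160))))))) (.node (.node (.node
    (.node (.node (.node (.leaf (nat_lit 7)) (.leaf (nat_lit 662020))) (.node (.leaf (nat_lit
    429317)) (.leaf (nat_lit 256)))) (.node (.node (.leaf (nat_lit 117252)) (.leaf (nat_lit
    925705))) (.leaf (nat_lit 675846)))) (.node (.node (.node (.leaf (nat_lit 164357)) (.leaf
    (nat_lit 667906))) (.leaf (nat_lit 300032))) (.node (.node (.leaf (nat_lit 281097)) (.leaf
    (nat_lit 19200))) (.leaf (nat_lit 233473))))) (.node (.node (.node (.node (.leaf (nat_lit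
    17415)) (.leaf (nat_lit 208128))) (.node (.leaf (nat_lit 462337)) (.leaf (nat_lit 851976))))
    (.node (.node (.leaf (nat_lit 199945)) (.leaf (nat_lit 401664))) (.leaf (nat_lit 683009))))
    (.node (.node (.node (.leaf (nat_lit 17152)) (.leaf (nat_lit 406020))) (.leaf (nat_lit
    385794))) (.node (.node (.leaf (nat_lit 347138)) (.leaf (nat_lit 35840))) (.leaf (nat_lit
    581636)))))) (.node (.node (.node (.node (.node (.leaf (nat_lit 33287)) (.leaf (nat_lit
    758277))) (.node (.leaf (nat_lit 400129)) (.leaf (nat_lit 884745)))) (.node (.node (.leaf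
    (nat_lit 35072)) (.leaf (nat_lit 932098))) (.leaf (nat_lit 725254)))) (.node (.node (.node
    (.leaf (nat_lit 133890)) (.leaf (nat_lit 315651))) (.leaf (nat_lit 547587))) (.node (.node
    (.leaf (nat_lit 314121)) (.leaf (nat_lit 4352))) (.leaf (nat_lit 712705))))) (.node (.node
    (.node (.node (.leaf (nat_lit 131334)) (.leaf (nat_lit 388871))) (.leaf (nat_lit 527877)))
    (.node (.node (.leaf (nat_lit 249607)) (.leaf (nat_lit 455168))) (.leaf (nat_lit 271623))))
    (.node (.node (.node (.leaf (nat_lit 182276)) (.leaf (nat_lit 875016))) (.leaf (nat_lit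
    626690))) (.node (.node (.leaf (nat_lit 396294)) (.leaf (nat_lit 5888))) (.leaf (nat_lit
    239360)))))))))

/-- Certificate data. -/
def tc2_just : Trie :=
    (.node (.node (.node (.node (.node (.node (.node (.node (.leaf (nat_lit 1)) (.leaf (nat_lit
    220112246376955906))) (.node (.leaf (nat_lit 273224344666119)) (.leaf (nat_lit
    828421882118146)))) (.node (.node (.leaf (nat_lit 51899418437419024)) (.leaf (nat_lit 0)))
    (.leaf (nat_lit 7742891560001081541491359750)))) (.node (.node (.node (.leaf (nat_lit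
    61705795272711)) (.leaf (nat_lit 0))) (.leaf (nat_lit 0))) (.node (.node (.leaf (nat_lit
    6509319729347897901648904197)) (.leaf (nat_lit 200812887024903389186))) (.leaf (nat_lit
    7146175805006795519958646812))))) (.node (.node (.node (.node (.leaf (nat_lit
    774771515239409031926185989)) (.leaf (nat_lit 20290025317676177508663310))) (.node (.leaf
    (nat_lit 1206362596463538920300253616422912023)) (.leaf (nat_lit 354376510347608066)))) (.node
    (.node (.leaf (nat_lit 79504139747330)) (.leaf (nat_lit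
    6553648106422643973654490436198851989126896545409949990036674742621506509832635753619654398133379640486165430487482407)))
    (.leaf (nat_lit 449489802493959)))) (.node (.node (.node (.leaf (nat_lit
    608789278283155950131469837991947)) (.leaf (nat_lit 20916115998238771994765492260))) (.leaf
    (nat_lit 0))) (.node (.node (.leaf (nat_lit 7898529569052862345007005701)) (.leaf (nat_lit
    156145172428816386))) (.leaf (nat_lit 15354765564734953668638867486)))))) (.node (.node (.node
    (.node (.node (.leaf (nat_lit 0)) (.leaf (nat_lit 9924717693519947465587359777))) (.node (.leaf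
    (nat_lit 0)) (.leaf (nat_lit 859242567434242)))) (.node (.node (.leaf (nat_lit
    2248620938816954674583109652)) (.leaf (nat_lit 713887989235715))) (.leaf (nat_lit
    431863256711175)))) (.node (.node (.node (.leaf (nat_lit 0)) (.leaf (nat_lit
    30286427852306870360735778))) (.leaf (nat_lit 258002980569090))) (.node (.node (.leaf (nat_lit
    220344707317763)) (.leaf (nat_lit 5589168747626889218))) (.leaf (nat_lit 333036059230210)))))
    (.node (.node (.node (.node (.leaf (nat_lit 0)) (.leaf (nat_lit 590536528494594))) (.node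
    (.leaf (nat_lit 0)) (.leaf (nat_lit 233254684360777662466)))) (.node (.node (.leaf (nat_lit 0))
    (.leaf (nat_lit 206783979309957122))) (.leaf (nat_lit 16433865500712435727603269659)))) (.node
    (.node (.node (.leaf (nat_lit 48606145019906)) (.leaf (nat_lit 19123674784066686899585062)))
    (.leaf (nat_lit 0))) (.node (.node (.leaf (nat_lit 6348696406414576502713024518)) (.leaf
    (nat_lit 420748087376674818))) (.leaf (nat_lit 10466024796983751300608360468))))))) (.node
    (.node (.node (.node (.node (.node (.leaf (nat_lit 1)) (.leaf (nat_lit 520073295036418)))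
    (.node (.leaf (nat_lit 108304657000103944)) (.leaf (nat_lit 1975989899034626)))) (.node (.node
    (.leaf (nat_lit 75576224520536082)) (.leaf (nat_lit 0))) (.leaf (nat_lit 0)))) (.node (.node
    (.node (.leaf (nat_lit 18049733205622792)) (.leaf (nat_lit 0))) (.leaf (nat_lit
    21646785007077482152984600))) (.node (.node (.leaf (nat_lit 0)) (.leaf (nat_lit
    779940291280898))) (.leaf (nat_lit 248193408278134786))))) (.node (.node (.node (.node (.leaf
    (nat_lit 0)) (.leaf (nat_lit 10756713439097331576692659453987))) (.node (.leaf (nat_lit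
    264505561055234)) (.leaf (nat_lit 885725335781378)))) (.node (.node (.leaf (nat_lit 0)) (.leaf
    (nat_lit 141481436820733954))) (.leaf (nat_lit 4019881452336874902641922913402890)))) (.node
    (.node (.node (.leaf (nat_lit 2405774209487645229799899149)) (.leaf (nat_lit 643433345712135)))
    (.leaf (nat_lit 0))) (.node (.node (.leaf (nat_lit 0)) (.leaf (nat_lit 65296387932162))) (.leaf
    (nat_lit 274056387074654225)))))) (.node (.node (.node (.node (.node (.leaf (nat_lit
    17639430815747)) (.leaf (nat_lit 190652064966311944))) (.node (.leaf (nat_lit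
    2558834139891584651846463114510346)) (.leaf (nat_lit 224829537596521840642)))) (.node (.node
    (.leaf (nat_lit 55297704067074)) (.leaf (nat_lit 24337876643850125284066394117))) (.leaf
    (nat_lit 0)))) (.node (.node (.node (.leaf (nat_lit 42817357902708745)) (.leaf (nat_lit
    229216434583175170))) (.leaf (nat_lit 326172701491202))) (.node (.node (.leaf (nat_lit 0))
    (.leaf (nat_lit 5300423435157506))) (.leaf (nat_lit 346255968567298))))) (.node (.node (.node
    (.node (.leaf (nat_lit 0)) (.leaf (nat_lit 594951754874887))) (.leaf (nat_lit 0))) (.node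
    (.node (.leaf (nat_lit 193904888643587)) (.leaf (nat_lit 98701354939383810))) (.leaf (nat_lit
    420954039779330)))) (.node (.node (.node (.leaf (nat_lit 4240416515979915179720718)) (.leaf
    (nat_lit 0))) (.leaf (nat_lit 0))) (.node (.node (.leaf (nat_lit 0)) (.leaf (nat_lit
    5295827820150786))) (.leaf (nat_lit 291349106655234)))))))) (.node (.node (.node (.node (.node
    (.node (.node (.leaf (nat_lit 1)) (.leaf (nat_lit 341952411336706))) (.node (.leaf (nat_lit 0))
    (.leaf (nat_lit 837209385205762)))) (.node (.node (.leaf (nat_lit 54142413568147473)) (.leaf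
    (nat_lit 700668079898627))) (.leaf (nat_lit 0)))) (.node (.node (.node (.leaf (nat_lit 0))
    (.leaf (nat_lit 129726021137268744))) (.leaf (nat_lit 348137164242951))) (.node (.node (.leaf
    (nat_lit 6503438911325213732444241942)) (.leaf (nat_lit 18261042448178610178))) (.leaf (nat_lit
    213290519755948034))))) (.node (.node (.node (.node (.leaf (nat_lit 0)) (.leaf (nat_lit
    20895660746401877445705762))) (.node (.leaf (nat_lit 262306537799682)) (.leaf (nat_lit
    5629252766867390466)))) (.node (.node (.leaf (nat_lit 0)) (.leaf (nat_lit 355398742628827138)))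
    (.leaf (nat_lit 229919765542666249)))) (.node (.node (.node (.leaf (nat_lit
    6358676315282158446313484)) (.leaf (nat_lit 0))) (.leaf (nat_lit 111675957219360776))) (.node
    (.node (.leaf (nat_lit 7897634064911628387930800150)) (.leaf (nat_lit 12064292551720962)))
    (.leaf (nat_lit 70336543948985573113887)))))) (.node (.node (.node (.node (.node (.leaf
    (nat_lit 0)) (.leaf (nat_lit 0))) (.node (.leaf (nat_lit 295257526894599)) (.leaf (nat_lit
    6492062111432706)))) (.node (.node (.leaf (nat_lit 30559933556785154)) (.leaf (nat_lit 0)))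
    (.leaf (nat_lit 0)))) (.node (.node (.node (.leaf (nat_lit 83738977501191)) (.leaf (nat_lit
    11629934765536779631440396025891))) (.leaf (nat_lit 321774654980098))) (.node (.node (.leaf
    (nat_lit 15425029134013571076063236)) (.leaf (nat_lit 793143020748802))) (.leaf (nat_lit
    89036673281796866064))))) (.node (.node (.node (.node (.leaf (nat_lit 0)) (.leaf (nat_lit 0)))
    (.node (.leaf (nat_lit 0)) (.leaf (nat_lit 896759106764802)))) (.node (.node (.leaf (nat_lit
    0)) (.leaf (nat_lit 94197738132144130))) (.leaf (nat_lit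
    1954421206032723690384604133805654039)))) (.node (.node (.node (.leaf (nat_lit 42017665187842))
    (.leaf (nat_lit 0))) (.leaf (nat_lit 202871685010096137))) (.node (.node (.leaf (nat_lit 0))
    (.leaf (nat_lit 828439061987330))) (.leaf (nat_lit 199832407237656578))))))) (.node (.node
    (.node (.node (.node (.node (.leaf (nat_lit 1)) (.leaf (nat_lit 30281735413500704469680160)))
    (.node (.leaf (nat_lit 0)) (.leaf (nat_lit 223888296497150951426)))) (.node (.node (.leaf
    (nat_lit 75574025497280531)) (.leaf (nat_lit 0))) (.leaf (nat_lit 0)))) (.node (.node (.node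
    (.leaf (nat_lit 0)) (.leaf (nat_lit 29677539455555922204950542))) (.leaf (nat_lit
    4281970721549508286763592319001))) (.node (.node (.leaf (nat_lit 0)) (.leaf (nat_lit
    67211144351383554))) (.leaf (nat_lit 337425515806722))))) (.node (.node (.node (.node (.leaf
    (nat_lit 619575368578323123337101318)) (.leaf (nat_lit 139095969034862594))) (.node (.leaf
    (nat_lit 0)) (.leaf (nat_lit 696587860967426)))) (.node (.node (.leaf (nat_lit
    180684979306499)) (.leaf (nat_lit 145985053627973634))) (.leaf (nat_lit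
    4019882387289535262650647905370123)))) (.node (.node (.node (.leaf (nat_lit 23760527880814594))
    (.leaf (nat_lit 19571968024692727111614501))) (.leaf (nat_lit 18775914845828521495232526)))
    (.node (.node (.leaf (nat_lit 0)) (.leaf (nat_lit 15415509503901698))) (.leaf (nat_lit
    209948399544500243)))))) (.node (.node (.node (.node (.node (.leaf (nat_lit
    1512337868401846054682628)) (.leaf (nat_lit 0))) (.node (.leaf (nat_lit
    2558836614562427189394162645008395)) (.leaf (nat_lit 705323824447490)))) (.node (.node (.leaf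
    (nat_lit 3028216344490968302569848853)) (.leaf (nat_lit 25246980866878538150886965270))) (.leaf
    (nat_lit 0)))) (.node (.node (.node (.leaf (nat_lit 608789510397214818637719093706762)) (.leaf
    (nat_lit 639009529397250))) (.leaf (nat_lit 186084156793618458))) (.node (.node (.leaf (nat_lit
    0)) (.leaf (nat_lit 793160200617986))) (.leaf (nat_lit 31495642511512296596307997))))) (.node
    (.node (.node (.node (.leaf (nat_lit 0)) (.leaf (nat_lit 139991035924381705))) (.leaf (nat_lit
    0))) (.node (.node (.leaf (nat_lit 13610184831043517305716740)) (.leaf (nat_lit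
    185403181138903042))) (.leaf (nat_lit 423153063034882)))) (.node (.node (.node (.leaf (nat_lit
    6048498316243767151427599)) (.leaf (nat_lit 0))) (.leaf (nat_lit 0))) (.node (.node (.leaf
    (nat_lit 0)) (.leaf (nat_lit 1927130351075330))) (.leaf (nat_lit
    12339407958591996141129629717)))))))))

/-- Certificate data. -/
def tc2_rel : Trie :=
    (.node (.node (.node (.node (.node (.node (.leaf (nat_lit 0)) (.leaf (nat_lit
    1691070442309122))) (.leaf (nat_lit 117704452))) (.node (.leaf (nat_lit
    23648872276089278825985)) (.leaf (nat_lit 16843780)))) (.node (.node (.node (.leaf (nat_lit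
    74597474555463687)) (.leaf (nat_lit 1412885427521028))) (.leaf (nat_lit 578437682867538177)))
    (.node (.leaf (nat_lit 1691074687206657)) (.leaf (nat_lit 360857534476649987))))) (.node (.node
    (.node (.node (.leaf (nat_lit 2258409785460999)) (.leaf (nat_lit 432632549748114692))) (.leaf
    (nat_lit 849935457322502))) (.node (.leaf (nat_lit 1408495903966721)) (.leaf (nat_lit
    1979146733618441)))) (.node (.node (.leaf (nat_lit 67174660)) (.leaf (nat_lit
    1417300687585796))) (.node (.leaf (nat_lit 50463235)) (.leaf (nat_lit 1410694960776707))))))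
    (.node (.node (.node (.node (.node (.leaf (nat_lit 526344)) (.leaf (nat_lit
    289638876367356422))) (.leaf (nat_lit 117638915))) (.node (.leaf (nat_lit
    23759838999483288913410)) (.leaf (nat_lit 362547471031075332)))) (.node (.node (.node (.leaf
    (nat_lit 328965)) (.leaf (nat_lit
    75387395788311402596722887441628277192714580461957038348680574811368845657620311850276539072769)))
    (.leaf (nat_lit 4833192479796253493505))) (.node (.leaf (nat_lit 287011307521539)) (.leaf
    (nat_lit 6605693583617))))) (.node (.node (.node (.node (.leaf (nat_lit 578152905077885186))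
    (.leaf (nat_lit 1411798800729347))) (.leaf (nat_lit 1132514240692998))) (.node (.leaf (nat_lit
    286981225840901)) (.leaf (nat_lit 1412876837455362)))) (.node (.node (.leaf (nat_lit 84346119))
    (.leaf (nat_lit 506094224413360392))) (.node (.leaf (nat_lit 17236231)) (.leaf (nat_lit
    360576055205037572)))))))

/-- Certificate data. -/
def tc2_rc : Trie :=
    (.node (.node (.node (.node (.node (.node (.leaf (nat_lit 38)) (.leaf (nat_lit 786440))) (.leaf
    (nat_lit 25))) (.node (.leaf (nat_lit 131106)) (.leaf (nat_lit 262149)))) (.node (.node (.node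
    (.leaf (nat_lit 131105)) (.leaf (nat_lit 524298))) (.leaf (nat_lit 131100))) (.node (.leaf
    (nat_lit 131080)) (.leaf (nat_lit 131087))))) (.node (.node (.node (.node (.leaf (nat_lit
    655391)) (.leaf (nat_lit 524305))) (.leaf (nat_lit 393227))) (.node (.leaf (nat_lit 262153))
    (.leaf (nat_lit 262174)))) (.node (.node (.leaf (nat_lit 393221)) (.leaf (nat_lit 524318)))
    (.node (.leaf (nat_lit 131076)) (.leaf (nat_lit 262155)))))) (.node (.node (.node (.node (.node
    (.leaf (nat_lit 26)) (.leaf (nat_lit 786447))) (.leaf (nat_lit 131096))) (.node (.leaf (nat_lit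
    655394)) (.leaf (nat_lit 524321)))) (.node (.node (.node (.leaf (nat_lit 0)) (.leaf (nat_lit
    37))) (.leaf (nat_lit 131107))) (.node (.leaf (nat_lit 262175)) (.leaf (nat_lit 7))))) (.node
    (.node (.node (.node (.leaf (nat_lit 786461)) (.leaf (nat_lit 11))) (.leaf (nat_lit 10)))
    (.node (.leaf (nat_lit 131081)) (.leaf (nat_lit 524296)))) (.node (.node (.leaf (nat_lit 18))
    (.leaf (nat_lit 28))) (.node (.leaf (nat_lit 22)) (.leaf (nat_lit 655375)))))))

/-- Certificate data. -/
def tc2_lv : Trie :=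
    (.leaf (nat_lit 0))

/-- Certificate data. -/
def tc2_tb : Trie :=
    (.node (.node (.node (.leaf (nat_lit 0)) (.leaf (nat_lit 411))) (.leaf (nat_lit 4))) (.node
    (.leaf (nat_lit 2)) (.leaf (nat_lit 7))))

/-- Certificate data. -/
def tc2_C : TC.Cert := ⟨6, 63, 9, 511, 37945458376763718566400, 254, tc2_par, tc2_fact, tc2_just, tc2_rel, 38⟩

/-- Certificate data. -/
def tc2_rs : List (List ℕ) := [[5, 5, 5], [1, 1, 1, 1], [3, 3, 2, 2], [5, 1, 1, 6, 2, 2], [6, 1, 5, 5, 2, 6, 2], [6, 3, 5, 5, 4, 6, 4], [1, 3, 2, 4], [1, 5, 3, 6, 2, 5, 4, 6], [5, 1, 6, 3, 5, 2, 6, 4], [7, 5, 7, 5], [7, 7], [7, 1, 7, 1], [7, 3, 7, 3], [8, 8, 8], [8, 1, 9, 5, 4, 2, 6, 7], [8, 7, 9, 5, 4, 2, 6], [8, 5, 1, 3, 6, 9, 7, 2], [5, 1, 6, 8, 5, 2, 6, 8, 2, 2], [8, 8, 5, 8, 5, 8, 5, 1, 1, 1, 3, 6, 9, 6, 9, 6, 9, 9, 1, 1, 8, 8, 5, 8, 5, 8, 5, 4, 2, 2, 2, 6, 9, 6, 9, 6, 9, 9, 2, 2]]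

/-- Certificate data. -/
def tc2_gl : List ℕ := [1, 259, 517, 775, 1032]

theorem tc2_h1 : allB tc2_C.factChk 206 = true := by decide +kernel

theorem tc2_h2 : tc2_C.finChk 206 1 tc2_lv tc2_tb tc2_gl = true := by decide +kernel

theorem tc2_h3 : TC.relChk tc2_C.ivc tc2_rs tc2_C.rel tc2_rc tc2_C.nrel = true := by decide +kernel

theorem tc2_bound {G : Type*} [Group G] {a b x y r : G}
    (r0 : x * x * x = 1)
    (r1 : a * a * a * a = 1)
    (r2 : b * b * a⁻¹ * a⁻¹ = 1)
    (r3 : x * a * a * x⁻¹ * a⁻¹ * a⁻¹ = 1)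
    (r4 : x⁻¹ * a * x * x * a⁻¹ * x⁻¹ * a⁻¹ = 1)
    (r5 : x⁻¹ * b * x * x * b⁻¹ * x⁻¹ * b⁻¹ = 1)
    (r6 : a * b * a⁻¹ * b⁻¹ = 1)
    (r7 : a * x * b * x⁻¹ * a⁻¹ * x * b⁻¹ * x⁻¹ = 1)
    (r8 : x * a * x⁻¹ * b * x * a⁻¹ * x⁻¹ * b⁻¹ = 1)
    (r9 : y * x * y * x = 1)
    (r10 : y * y = 1)
    (r11 : y * a * y * a = 1)
    (r12 : y * b * y * b = 1)
    (r13 : r * r * r = 1)
    (r14 : r * a * r⁻¹ * x * b⁻¹ * a⁻¹ * x⁻¹ * y = 1)
    (r15 : r * y * r⁻¹ * x * b⁻¹ * a⁻¹ * x⁻¹ = 1)
    (r16 : r * x * a * b * x⁻¹ * r⁻¹ * y * a⁻¹ = 1)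
    (r17 : x * a * x⁻¹ * r * x * a⁻¹ * x⁻¹ * r * a⁻¹ * a⁻¹ = 1)
    (r18 : r * r * x * r * x * r * x * a * a * a * b * x⁻¹ * r⁻¹ * x⁻¹ * r⁻¹ * x⁻¹ * r⁻¹ * r⁻¹ * a
    * a * r * r * x * r * x * r * x * b⁻¹ * a⁻¹ * a⁻¹ * a⁻¹ * x⁻¹ * r⁻¹ * x⁻¹ * r⁻¹ * x⁻¹ * r⁻¹ *
    r⁻¹ * a⁻¹ * a⁻¹ = 1)
    (H : Subgroup G) [Finite H] (m1 : a ∈ H) (m3 : b ∈ H) (m5 : x ∈ H) (m7 : y ∈ H) :
    Finite (Subgroup.closure ({a, b, x, y, r} : Set G)) ∧
      Nat.card (Subgroup.closure ({a, b, x, y, r} : Set G)) ≤ 1 * Nat.card H := by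
  have hL : TC.Lett (TC.lett [a, a⁻¹, b, b⁻¹, x, x⁻¹, y, r, r⁻¹]) tc2_C.ivc :=
    TC.lett_ok (show Nat.shiftRight tc2_C.ivc (8 * 10) = 0 by decide +kernel) (by
      intro a ha
      change a < 10 at ha
      interval_cases a
      · exact inv_one.symm
      · rfl
      · exact (inv_inv _).symm
      · rfl
      · exact (inv_inv _).symm
      · rfl
      · exact (inv_inv _).symm
      · exact (inv_eq_of_mul_eq_one_right r10).symm
      · rfl
      · exact (inv_inv _).symm)
  have h := TC.card_le tc2_h1 tc2_h2 tc2_h3 (by decide) hL (by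
    simp only [tc2_rs, List.forall_mem_cons]
    refine ⟨?_, ?_, ?_, ?_, ?_, ?_, ?_, ?_, ?_, ?_, ?_, ?_, ?_, ?_, ?_, ?_, ?_, ?_, ?_,
    List.forall_mem_nil _⟩
    · show x * (x * (x * 1)) = 1
      simp only [mul_assoc, mul_one] at r0 ⊢
      exact r0
    · show a * (a * (a * (a * 1))) = 1
      simp only [mul_assoc, mul_one] at r1 ⊢
      exact r1
    · show b * (b * (a⁻¹ * (a⁻¹ * 1))) = 1
      simp only [mul_assoc, mul_one] at r2 ⊢
      exact r2
    · show x * (a * (a * (x⁻¹ * (a⁻¹ * (a⁻¹ * 1))))) = 1
      simp only [mul_assoc, mul_one] at r3 ⊢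
      exact r3
    · show x⁻¹ * (a * (x * (x * (a⁻¹ * (x⁻¹ * (a⁻¹ * 1)))))) = 1
      simp only [mul_assoc, mul_one] at r4 ⊢
      exact r4
    · show x⁻¹ * (b * (x * (x * (b⁻¹ * (x⁻¹ * (b⁻¹ * 1)))))) = 1
      simp only [mul_assoc, mul_one] at r5 ⊢
      exact r5
    · show a * (b * (a⁻¹ * (b⁻¹ * 1))) = 1
      simp only [mul_assoc, mul_one] at r6 ⊢
      exact r6
    · show a * (x * (b * (x⁻¹ * (a⁻¹ * (x * (b⁻¹ * (x⁻¹ * 1))))))) = 1
      simp only [mul_assoc, mul_one] at r7 ⊢
      exact r7
    · show x * (a * (x⁻¹ * (b * (x * (a⁻¹ * (x⁻¹ * (b⁻¹ * 1))))))) = 1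
      simp only [mul_assoc, mul_one] at r8 ⊢
      exact r8
    · show y * (x * (y * (x * 1))) = 1
      simp only [mul_assoc, mul_one] at r9 ⊢
      exact r9
    · show y * (y * 1) = 1
      simp only [mul_one] at r10 ⊢
      exact r10
    · show y * (a * (y * (a * 1))) = 1
      simp only [mul_assoc, mul_one] at r11 ⊢
      exact r11
    · show y * (b * (y * (b * 1))) = 1
      simp only [mul_assoc, mul_one] at r12 ⊢
      exact r12
    · show r * (r * (r * 1)) = 1
      simp only [mul_assoc, mul_one] at r13 ⊢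
      exact r13
    · show r * (a * (r⁻¹ * (x * (b⁻¹ * (a⁻¹ * (x⁻¹ * (y * 1))))))) = 1
      simp only [mul_assoc, mul_one] at r14 ⊢
      exact r14
    · show r * (y * (r⁻¹ * (x * (b⁻¹ * (a⁻¹ * (x⁻¹ * 1)))))) = 1
      simp only [mul_assoc, mul_one] at r15 ⊢
      exact r15
    · show r * (x * (a * (b * (x⁻¹ * (r⁻¹ * (y * (a⁻¹ * 1))))))) = 1
      simp only [mul_assoc, mul_one] at r16 ⊢
      exact r16
    · show x * (a * (x⁻¹ * (r * (x * (a⁻¹ * (x⁻¹ * (r * (a⁻¹ * (a⁻¹ * 1))))))))) = 1
      simp only [mul_assoc, mul_one] at r17 ⊢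
      exact r17
    · show r * (r * (x * (r * (x * (r * (x * (a * (a * (a * (b * (x⁻¹ * (r⁻¹ * (x⁻¹ * (r⁻¹ * (x⁻¹ *
    (r⁻¹ * (r⁻¹ * (a * (a * (r * (r * (x * (r * (x * (r * (x * (b⁻¹ * (a⁻¹ * (a⁻¹ * (a⁻¹ * (x⁻¹ *
    (r⁻¹ * (x⁻¹ * (r⁻¹ * (x⁻¹ * (r⁻¹ * (r⁻¹ * (a⁻¹ * (a⁻¹ *
    1))))))))))))))))))))))))))))))))))))))) = 1
      simp only [mul_assoc, mul_one] at r18 ⊢
      exact r18) H
    (TC.forall_subs (K := 10) (by decide +kernel) (by
      intro a ha hb
      interval_cases a
      · exact absurd hb (by decide +kernel)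
      · exact m1
      · exact H.inv_mem m1
      · exact m3
      · exact H.inv_mem m3
      · exact m5
      · exact H.inv_mem m5
      · exact m7
      · exact absurd hb (by decide +kernel)
      · exact absurd hb (by decide +kernel)))
  have e : {g₀ | ∃ ak ∈ tc2_gl, TC.lett [a, a⁻¹, b, b⁻¹, x, x⁻¹, y, r, r⁻¹] (ak % 256) = g₀} =
      {a, b, x, y, r} := by
    ext g₀
    simp only [tc2_gl, List.mem_cons, List.not_mem_nil, or_false, exists_eq_or_imp,
      exists_eq_left, Set.mem_ofPred_eq, Set.mem_insert_iff, Set.mem_singleton_iff]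
    exact or_congr eq_comm (or_congr eq_comm (or_congr eq_comm (or_congr eq_comm (eq_comm))))
  rw [e] at h
  exact h

theorem tc2_card {G : Type*} [Group G] {a b x y r : G}
    (e0 : x ^ 3 = 1)
    (e1 : a ^ 4 = 1)
    (e2 : b ^ 2 = a ^ 2)
    (e3 : x * a ^ 2 = a ^ 2 * x)
    (e4 : x⁻¹ * a * x = a * (x * a * x⁻¹))
    (e5 : x⁻¹ * b * x = b * (x * b * x⁻¹))
    (e6 : a * b = b * a)
    (e7 : a * (x * b * x⁻¹) = x * b * x⁻¹ * a)
    (e8 : x * a * x⁻¹ * b = b * (x * a * x⁻¹))
    (e9 : y * x * y⁻¹ = x⁻¹)
    (e10 : y * y = 1)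
    (e11 : y * a * y⁻¹ = a⁻¹)
    (e12 : y * b * y⁻¹ = b⁻¹)
    (e13 : r ^ 3 = 1)
    (e14 : r * a * r⁻¹ = y * ((x * a * x⁻¹) * (x * b * x⁻¹)))
    (e15 : r * y * r⁻¹ = ((x * a * x⁻¹) * (x * b * x⁻¹)))
    (e16 : r * ((x * a * x⁻¹) * (x * b * x⁻¹)) * r⁻¹ = a * y)
    (e17 : (x * a * x⁻¹) * r * (x * a * x⁻¹)⁻¹ * r = a ^ 2)
    (e18 : (r * r * x * r * x * r * x) * (a ^ 2 * (a * b)) * (r * r * x * r * x * r * x)⁻¹ * a ^ 2
    = a ^ 2 * ((r * r * x * r * x * r * x) * (a ^ 2 * (a * b)) * (r * r * x * r * x * r * x)⁻¹))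
    (H : Subgroup G) [Finite H] (ma : a ∈ H) (mb : b ∈ H) (mx : x ∈ H) (my : y ∈ H) :
    Finite (Subgroup.closure ({a, b, x, y, r} : Set G)) ∧
      Nat.card (Subgroup.closure ({a, b, x, y, r} : Set G)) ≤ 1 * Nat.card H := by
  have iy : y⁻¹ = y := inv_eq_of_mul_eq_one_right e10
  refine tc2_bound ?_ ?_ ?_ ?_ ?_ ?_ ?_ ?_ ?_ ?_ ?_ ?_ ?_ ?_ ?_ ?_ ?_ ?_ ?_ H ma mb mx my
  · have h := mul_inv_eq_one.mpr e0
    simp only [pow_succ, pow_zero, mul_inv_rev, inv_inv, inv_one, one_mul, mul_one, mul_assoc,
      mul_inv_cancel_left, inv_mul_cancel_left, mul_inv_cancel, inv_mul_cancel, iy] at h ⊢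
    exact h
  · have h := mul_inv_eq_one.mpr e1
    simp only [pow_succ, pow_zero, mul_inv_rev, inv_inv, inv_one, one_mul, mul_one, mul_assoc,
      mul_inv_cancel_left, inv_mul_cancel_left, mul_inv_cancel, inv_mul_cancel, iy] at h ⊢
    exact h
  · have h := mul_inv_eq_one.mpr e2
    simp only [pow_succ, pow_zero, mul_inv_rev, inv_inv, inv_one, one_mul, mul_one, mul_assoc,
      mul_inv_cancel_left, inv_mul_cancel_left, mul_inv_cancel, inv_mul_cancel, iy] at h ⊢
    exact h
  · have h := mul_inv_eq_one.mpr e3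
    simp only [pow_succ, pow_zero, mul_inv_rev, inv_inv, inv_one, one_mul, mul_one, mul_assoc,
      mul_inv_cancel_left, inv_mul_cancel_left, mul_inv_cancel, inv_mul_cancel, iy] at h ⊢
    exact h
  · have h := mul_inv_eq_one.mpr e4
    simp only [pow_succ, pow_zero, mul_inv_rev, inv_inv, inv_one, one_mul, mul_one, mul_assoc,
      mul_inv_cancel_left, inv_mul_cancel_left, mul_inv_cancel, inv_mul_cancel, iy] at h ⊢
    exact h
  · have h := mul_inv_eq_one.mpr e5
    simp only [pow_succ, pow_zero, mul_inv_rev, inv_inv, inv_one, one_mul, mul_one, mul_assoc,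
      mul_inv_cancel_left, inv_mul_cancel_left, mul_inv_cancel, inv_mul_cancel, iy] at h ⊢
    exact h
  · have h := mul_inv_eq_one.mpr e6
    simp only [pow_succ, pow_zero, mul_inv_rev, inv_inv, inv_one, one_mul, mul_one, mul_assoc,
      mul_inv_cancel_left, inv_mul_cancel_left, mul_inv_cancel, inv_mul_cancel, iy] at h ⊢
    exact h
  · have h := mul_inv_eq_one.mpr e7
    simp only [pow_succ, pow_zero, mul_inv_rev, inv_inv, inv_one, one_mul, mul_one, mul_assoc,
      mul_inv_cancel_left, inv_mul_cancel_left, mul_inv_cancel, inv_mul_cancel, iy] at h ⊢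
    exact h
  · have h := mul_inv_eq_one.mpr e8
    simp only [pow_succ, pow_zero, mul_inv_rev, inv_inv, inv_one, one_mul, mul_one, mul_assoc,
      mul_inv_cancel_left, inv_mul_cancel_left, mul_inv_cancel, inv_mul_cancel, iy] at h ⊢
    exact h
  · have h := mul_inv_eq_one.mpr e9
    simp only [pow_succ, pow_zero, mul_inv_rev, inv_inv, inv_one, one_mul, mul_one, mul_assoc,
      mul_inv_cancel_left, inv_mul_cancel_left, mul_inv_cancel, inv_mul_cancel, iy] at h ⊢
    exact h
  · have h := mul_inv_eq_one.mpr e10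
    simp only [pow_succ, pow_zero, mul_inv_rev, inv_inv, inv_one, one_mul, mul_one, mul_assoc,
      mul_inv_cancel_left, inv_mul_cancel_left, mul_inv_cancel, inv_mul_cancel, iy] at h ⊢
    exact h
  · have h := mul_inv_eq_one.mpr e11
    simp only [pow_succ, pow_zero, mul_inv_rev, inv_inv, inv_one, one_mul, mul_one, mul_assoc,
      mul_inv_cancel_left, inv_mul_cancel_left, mul_inv_cancel, inv_mul_cancel, iy] at h ⊢
    exact h
  · have h := mul_inv_eq_one.mpr e12
    simp only [pow_succ, pow_zero, mul_inv_rev, inv_inv, inv_one, one_mul, mul_one, mul_assoc,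
      mul_inv_cancel_left, inv_mul_cancel_left, mul_inv_cancel, inv_mul_cancel, iy] at h ⊢
    exact h
  · have h := mul_inv_eq_one.mpr e13
    simp only [pow_succ, pow_zero, mul_inv_rev, inv_inv, inv_one, one_mul, mul_one, mul_assoc,
      mul_inv_cancel_left, inv_mul_cancel_left, mul_inv_cancel, inv_mul_cancel, iy] at h ⊢
    exact h
  · have h := mul_inv_eq_one.mpr e14
    simp only [pow_succ, pow_zero, mul_inv_rev, inv_inv, inv_one, one_mul, mul_one, mul_assoc,
      mul_inv_cancel_left, inv_mul_cancel_left, mul_inv_cancel, inv_mul_cancel, iy] at h ⊢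
    exact h
  · have h := mul_inv_eq_one.mpr e15
    simp only [pow_succ, pow_zero, mul_inv_rev, inv_inv, inv_one, one_mul, mul_one, mul_assoc,
      mul_inv_cancel_left, inv_mul_cancel_left, mul_inv_cancel, inv_mul_cancel, iy] at h ⊢
    exact h
  · have h := mul_inv_eq_one.mpr e16
    simp only [pow_succ, pow_zero, mul_inv_rev, inv_inv, inv_one, one_mul, mul_one, mul_assoc,
      mul_inv_cancel_left, inv_mul_cancel_left, mul_inv_cancel, inv_mul_cancel, iy] at h ⊢
    exact h
  · have h := mul_inv_eq_one.mpr e17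
    simp only [pow_succ, pow_zero, mul_inv_rev, inv_inv, inv_one, one_mul, mul_one, mul_assoc,
      mul_inv_cancel_left, inv_mul_cancel_left, mul_inv_cancel, inv_mul_cancel, iy] at h ⊢
    exact h
  · have h := mul_inv_eq_one.mpr e18
    simp only [pow_succ, pow_zero, mul_inv_rev, inv_inv, inv_one, one_mul, mul_one, mul_assoc,
      mul_inv_cancel_left, inv_mul_cancel_left, mul_inv_cancel, inv_mul_cancel, iy] at h ⊢
    exact h

end Cfsg.Agent.H7.Asch
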