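import Cfsg.Agent.H7.Asch.Rel

/-!
# Sylow subgroups described by a model
-/

set_option autoImplicit false

namespace Cfsg.Agent.H7.Asch

open Subgroup H5

variable {G M : Type*} [Group G] [Group M] [Finite G] [Finite M]

omit [Finite G] in
theorem mem_map_lsub {φ : M →* G} {l : List M} {h1 : (1 : M) ∈ l}
    {hm : ∀ a ∈ l, ∀ b ∈ l, a * b ∈ l} {g : G} :
    g ∈ (lsub l h1 hm).map φ ↔ ∃ k ∈ l, φ k = g := Iff.rfl

omit [Finite G] in
theorem isPGroup_map_lsub {φ : M →* G} {l : List M} {h1 : (1 : M) ∈ l}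
    {hm : ∀ a ∈ l, ∀ b ∈ l, a * b ∈ l} (h2 : ∀ k ∈ l, k ^ 8 = 1) :
    IsPGroup 2 ((lsub l h1 hm).map φ) :=
  isPGroup_two_iff.2 (by
    rintro _ ⟨k, hk, rfl⟩
    exact ⟨3, by simpa using congrArg φ (h2 k hk)⟩)

theorem sylow_of_model {φ : M →* G} {s : M} (h : Emb φ s) {l : List M} (h1 : (1 : M) ∈ l)
    (hm : ∀ a ∈ l, ∀ b ∈ l, a * b ∈ l) (hs : s ∈ l) (h2 : ∀ k ∈ l, k ^ 8 = 1) {C : Subgroup G}
    (hC : ∀ k ∈ l, φ k ∈ C)
    (hZ : ∀ k ∈ l, (∀ j ∈ l, k * j = j * k) → k = s ∨ ¬ Cj (φ s) (φ k))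
    (hN : ∀ k, φ k ∈ C → (∀ j ∈ l, k * j * k⁻¹ ∈ l) → k ∈ l) :
    IsSylowIn 2 ((lsub l h1 hm).map φ) C := by
  refine isSylowIn_of_selfnorm (by rintro _ ⟨k, hk, rfl⟩; exact hC k hk) (isPGroup_map_lsub h2)
    fun g hg _ hn => ?_
  obtain ⟨k, hk, e⟩ := hn _ ⟨s, hs, rfl⟩
  rcases hZ k hk (fun j hj => by
    obtain ⟨i, -, e'⟩ := conj_mem_of_mem_normalizer' (mem_normalizer_of_conj_mem hn) ⟨j, hj, rfl⟩
    rw [← h.comm_iff, e]
    have := comm_conj (g := g) (h.comm_iff.2 (h.comm i))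
    rw [e'] at this
    simpa [mul_assoc] using this.symm) with rfl | h3
  · obtain ⟨j, rfl⟩ := h.cent g (conj_eq_iff_comm.1 e.symm)
    refine ⟨j, hN j hg fun i hi => ?_, rfl⟩
    obtain ⟨i', hi', e'⟩ := hn _ ⟨i, hi, rfl⟩
    rwa [← h.inj (show φ i' = φ (j * i * j⁻¹) by simpa using e')]
  · exact absurd ⟨g, e.symm⟩ h3

/-- The final step: a subgroup containing both centralizers and fusing the involutions of a
Sylow subgroup is everything. -/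
theorem eq_top_of_model {φ : M →* G} {s t : M} (h : Emb φ s) (hs : s * s = 1) (hs1 : s ≠ 1)
    (ht : t * t = 1) (ht1 : t ≠ 1) (hst : ¬ Cj (φ s) (φ t)) {l : List M} {h1 : (1 : M) ∈ l}
    {hm : ∀ a ∈ l, ∀ b ∈ l, a * b ∈ l} (hS : IsSylowIn 2 ((lsub l h1 hm).map φ) ⊤)
    {H : Subgroup G} (hH : ∀ k, φ k ∈ H) (hCt : ∀ g, g * φ t = φ t * g → g ∈ H)
    (hI : ∀ k ∈ l, k * k = 1 → k ≠ 1 → ∃ g ∈ H, g * φ k * g⁻¹ = φ s ∨ g * φ k * g⁻¹ = φ t) :
    H = ⊤ := by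
  refine eq_top_of_two (s := φ s) (t := φ t) (by rw [← map_mul, hs, map_one])
    (fun e => hs1 (h.inj (by simpa using e))) (by rw [← map_mul, ht, map_one])
    (fun e => ht1 (h.inj (by simpa using e))) (hH t) hst (fun g hg => ?_) hCt fun i hi i1 i2 => ?_
  · obtain ⟨k, rfl⟩ := h.cent g hg
    exact hH k
  · obtain ⟨c, hc, k, hk, e⟩ := IsSylowIn.conj_mem_one (hS.mono (K := H)
      (by rintro _ ⟨k, -, rfl⟩; exact hH k) le_top) (twoEl_of_sq i1) hi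
    obtain ⟨g, hg, e'⟩ := hI k hk (h.inj (by rw [map_mul, e, map_one]; exact conj_mul_self_eq_one i1 c))
      (fun e' => i2 (by simpa [e', eq_comm] using e))
    refine ⟨g * c, H.mul_mem hg hc, ?_⟩
    rwa [e, show g * (c * i * c⁻¹) * g⁻¹ = g * c * i * (g * c)⁻¹ by group] at e'

omit [Finite G] [Finite M] in
theorem cube_fix {c v z : G} (h3 : c * c * c = 1) (hz : c * z = z * c) (hz2 : z * z = 1) (hz1 : z ≠ 1)
    (h : c * v * c⁻¹ = v ∨ c * v * c⁻¹ = v * z) : c * v = v * c := by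
  rcases h with h | h
  · exact conj_eq_iff_comm.1 h
  exfalso
  have k : c * (v * z) * c⁻¹ = v := by
    calc _ = (c * v * c⁻¹) * (c * z * c⁻¹) := by group
      _ = v := by rw [h, conj_eq_iff_comm.2 hz, mul_assoc, hz2, mul_one]
  have k2 : c * c * c * v * (c * c * c)⁻¹ = v * z := by
    calc _ = c * (c * (c * v * c⁻¹) * c⁻¹) * c⁻¹ := by simp only [mul_inv_rev, mul_assoc]
      _ = _ := by rw [h, k, h]
  rw [h3] at k2
  exact hz1 (by simpa using k2)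

end Cfsg.Agent.H7.Asch
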