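import Cfsg.Agent.H7.Asch.Mod12
import Cfsg.Agent.H7.Asch.Pres4
import Cfsg.Agent.H7.Asch.Syl
import Cfsg.Agent.H7.Asch.A5
import Cfsg.Agent.H9.FixityTwo

/-!
# The Mathieu case
-/

set_option autoImplicit false
set_option maxRecDepth 100000

namespace Cfsg.Agent.H7.Asch

open Subgroup H5

variable {G : Type*} [Group G] [Finite G]

theorem exists_index_two {T F H : Subgroup G} (hT : IsSylowIn 2 T H) (hF : F ≤ T)
    (hc : Nat.card T = 2 * Nat.card F)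
    (hfus : ∀ h ∈ H, ∀ f ∈ F, h * f * h⁻¹ ∈ T → h * f * h⁻¹ ∈ F) :
    ∃ N : Subgroup G, N ≤ H ∧ (∀ h ∈ H, ∀ n ∈ N, h * n * h⁻¹ ∈ N) ∧
      (∀ a ∈ H, ∀ b ∈ H, a * b ∈ N ↔ (a ∈ N ↔ b ∈ N)) ∧ ∀ t ∈ T, t ∈ N ↔ t ∈ F := by
  obtain ⟨P, hP⟩ := hT.exists_sylow
  have mP : ∀ {x : H}, x ∈ (P : Subgroup H) ↔ (x : G) ∈ T := fun {x} => by rw [hP, mem_subgroupOf]
  obtain ⟨N, hN, h2, h3⟩ := H9.exists_normal_index_two_of_fusion P
    ((F.subgroupOf H).subgroupOf (P : Subgroup H)) (by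
      have h1 := card_mul_relIndex hF
      rw [hc, mul_comm] at h1
      change (F.subgroupOf H).relIndex (P : Subgroup H) = 2
      rw [hP, relIndex_subgroupOf hT.1]
      exact Nat.eq_of_mul_eq_mul_right Nat.card_pos h1)
    fun x y u e hx => by
      have e' : (u : G) * x * (u : G)⁻¹ = y := congrArg Subtype.val e
      have := hfus u u.2 x hx (e' ▸ mP.1 y.2)
      rwa [e'] at this
  refine ⟨N.map H.subtype, map_subtype_le N, ?_, fun a ha b hb => ?_, fun t ht => ?_⟩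
  · rintro h hh _ ⟨n, hn, rfl⟩
    exact ⟨_, hN.conj_mem n hn ⟨h, hh⟩, rfl⟩
  · have k : ∀ x : H, (x : G) ∈ N.map H.subtype ↔ x ∈ N := fun x =>
      mem_map_iff_mem H.subtype_injective
    exact (k (⟨a, ha⟩ * ⟨b, hb⟩)).trans ((mul_mem_iff_of_index_two h2).trans
      (iff_congr (k ⟨a, ha⟩).symm (k ⟨b, hb⟩).symm))
  · exact (mem_map_iff_mem (x := (⟨t, hT.1 ht⟩ : H)) H.subtype_injective).trans
      (h3 ⟨⟨t, hT.1 ht⟩, mP.2 ht⟩)

omit [Finite G] in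
theorem A5Prop.fix {ω δ c g : G} {P : G → Prop} (h : A5Prop ω δ c P) (hP : P (g * c * g⁻¹))
    (h1 : g * ω * g⁻¹ = ω) (h2 : g * δ * g⁻¹ = ω * δ⁻¹ * ω⁻¹) : g * c = c * g := by
  obtain ⟨c3, -, cω, cδ, cu⟩ := h
  have a4 : ω * (g * c * g⁻¹) * ω⁻¹ = (g * c * g⁻¹)⁻¹ := by
    rw [← h1]
    calc _ = g * (ω * c * ω⁻¹) * g⁻¹ := by group
      _ = _ := by rw [cω]; group
  refine conj_eq_iff_comm.1 ((cu _ hP (by
    calc _ = g * (c * c * c) * g⁻¹ := by group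
      _ = 1 := by rw [c3]; group) a4).2 ?_)
  have a5 : ω * δ⁻¹ * ω⁻¹ * (g * c * g⁻¹) * (ω * δ⁻¹ * ω⁻¹ * (g * c * g⁻¹)) = 1 := by
    rw [← h2]
    calc _ = g * (δ * c * (δ * c)) * g⁻¹ := by group
      _ = 1 := by rw [cδ]; group
  generalize g * c * g⁻¹ = c' at a4 a5
  have a6 : c' = ω * c'⁻¹ * ω⁻¹ := by
    rw [← inv_inv c', ← a4]
    nth_rewrite 2 [a4]
    group
  rw [a6] at a5
  calc _ = c'⁻¹ * (ω⁻¹ * (ω * δ⁻¹ * ω⁻¹ * (ω * c'⁻¹ * ω⁻¹) *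
      (ω * δ⁻¹ * ω⁻¹ * (ω * c'⁻¹ * ω⁻¹))) * ω)⁻¹ * c' := by group
    _ = 1 := by rw [a5]; group

theorem HM.mathieu {a b x y ρ : G} (h : HM a b x y) (hρ : PM a b x y ρ) : Concl G := by
  obtain ⟨φ, hφ, rfl, rfl, rfl, rfl⟩ := h.emb
  have hst := M_unfused hφ
  have act := hρ.act
  obtain ⟨m1, m2, m3, m4, m5, m6, m7, m8, m9, n1, n2, n3, n4, n5, n6, n7, n8, n9, k1, k2, k3, k4, k5,
    k6⟩ := M_misc'
  have s1 : φ Ms ≠ 1 := fun e => Mmisc.2.1 (hφ.inj (by simpa using e))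
  have t1 : φ Mt ≠ 1 := fun e => m2 (hφ.inj (by simpa using e))
  have ss : φ Ms * φ Ms = 1 := by rw [← map_mul, Mmisc.1, map_one]
  have tt : φ Mt * φ Mt = 1 := by rw [← map_mul, m1, map_one]
  have r3 := hρ.1
  have rs : ρ * φ Ms * ρ⁻¹ = φ Mu := by rw [act _ m5, m6]
  have ru : ρ * φ Mu * ρ⁻¹ = φ (Ms * Mu) := by rw [act _ m7, m8]
  have rsu : ρ * φ (Ms * Mu) * ρ⁻¹ = φ Ms := by rw [act _ m9, n1]
  have rt : ρ * φ Mt = φ Mt * ρ := conj_eq_iff_comm.1 (by rw [act _ m3, m4])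
  have ctl : ∀ {k}, tl k → Cj (φ Mt) (φ k) := fun ⟨l, _, e⟩ =>
    Cj.symm ⟨φ l, by simpa using congrArg φ e⟩
  have vcases : ∀ {k}, k ∈ MV → k = 1 ∨ k = Ms ∨ k = Mu ∨ k = Ms * Mu := fun hk => by
    simpa [MV] using hk
  have cV : ∀ {k}, k ∈ MV → ¬ Cj (φ Mt) (φ k) := fun hk h => by
    rcases vcases hk with rfl | rfl | rfl | rfl
    · exact h.ne_one t1 (map_one φ)
    · exact hst h.symm
    · exact hst (Cj.trans ⟨ρ, rs⟩ h.symm)
    · exact hst (Cj.trans (Cj.symm ⟨ρ, rsu⟩) h.symm)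
  let H := centralizer ({φ Mt} : Set G)
  have mk : ∀ {g}, g ∈ H ↔ g * φ Mt = φ Mt * g := mem_centralizer_singleton_iff
  have mU : ∀ {k}, φ k ∈ H ↔ k ∈ MU := fun {k} => by rw [mk, hφ.comm_iff, MU_iff k (Mall k)]
  have hU := sylow_of_model hφ MU_one MU_mul MU_pow.1 MU_pow.2.1 (C := H) (fun k hk => mU.2 hk)
    (fun k hk h => (MU_Z k hk h).imp_right fun h h' => by
      rcases h with rfl | h
      · exact h'.ne_one s1 (map_one φ)
      · exact hst (h'.trans (ctl h).symm)) fun k hk _ => mU.1 hk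
  obtain ⟨N, NH, Nn, N2, NF⟩ := exists_index_two (F := (lsub MF MF_one MF_mul).map φ) hU
    (by rintro _ ⟨k, hk, rfl⟩; exact ⟨k, (MF_cls k hk).1, rfl⟩)
    (by rw [card_map_of_injective hφ.inj, card_map_of_injective hφ.inj, card_lsub MU_pow.2.2.1,
      card_lsub MF_pow.2.2.1, MU_pow.2.2.2, MF_pow.2.2.2]) (by
      rintro g hg _ ⟨f, hf, rfl⟩ ⟨k, hk, e⟩
      obtain ⟨-, f2, f3, -⟩ := MF_cls f hf
      rcases ((MU_cls k hk).2 (hφ.inj (by
        rw [map_mul, e, map_one]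
        exact conj_mul_self_eq_one (by rw [← map_mul, f2, map_one]) g))).2 with h | ⟨h1, h2⟩
      · exact ⟨k, h, e⟩
      rcases f3 with f3 | f3
      · exact absurd (e ▸ ctl h1).of_conj (cV f3)
      · have e' : φ (k * Mt) = g * φ (f * Mt) * g⁻¹ := by
          rw [map_mul, map_mul, e, mul_assoc _ _ (φ Mt), (Commute.inv_left (mk.1 hg)).eq]
          group
        exact absurd (e' ▸ ctl h2).of_conj (cV f3))
  have mF : ∀ {k}, k ∈ MU → (φ k ∈ N ↔ k ∈ MF) := fun {k} hk =>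
    (NF _ ⟨k, hk, rfl⟩).trans (mem_map_iff_mem hφ.inj)
  have cub : ∀ {g}, g ∈ H → g * g * g = 1 → g ∈ N := fun {g} hg h3 => by
    have := (N2 _ (H.mul_mem hg hg) _ hg).1 (h3 ▸ N.one_mem)
    exact this.1 ((N2 _ hg _ hg).2 Iff.rfl)
  have r3' : ρ * ρ * ρ = 1 := by rw [← r3, pow_three, mul_assoc]
  have wH := mU.2 n3
  have split : ∀ R : Subgroup G, N ≤ R → φ Mw ∈ R → H ≤ R := fun R h1 h2 g hg => by
    by_cases h : g ∈ N
    · exact h1 h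
    · have := h1 ((N2 g hg _ wH).2 (iff_of_false h fun h' => n4 ((mF n3).1 h')))
      simpa using R.mul_mem this (R.inv_mem h2)
  let Z := (lsub MZ MZ_one MZ_mul).map φ
  have mZ : ∀ {z}, z ∈ Z → z = 1 ∨ z = φ Mt := by
    rintro _ ⟨k, hk, rfl⟩
    rcases List.mem_pair.1 hk with rfl | rfl
    exacts [Or.inl (map_one φ), Or.inr rfl]
  let V := (lsub MV MV_one MV_mul).map φ
  have UV : ∀ k ∈ MU, φ k ∈ normalizer (V : Set G) := fun k hk => mem_normalizer_of_conj_mem (by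
    rintro _ ⟨v, hv, rfl⟩
    exact ⟨_, (MU_cls k hk).1 v hv, by simp⟩)
  rcases a5_lemma (X := N) (Z := Z) (ω := φ Ms) (δ := ρ) (fun z hz => by
      rcases mZ hz with rfl | rfl
      exacts [N.one_mem, (mF (MF_cls _ n2).1).2 n2]) (fun z hz k hk => by
      rcases mZ hz with rfl | rfl
      exacts [by simp, mk.1 (NH hk)]) (fun z hz => by
      rcases mZ hz with rfl | rfl
      exacts [mul_one 1, tt]) ((mF MU_pow.1).2 MF_pow.1) (cub (mk.2 rt) r3') ss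
    (fun h => n6 ((mem_map_iff_mem hφ.inj).1 h)) r3' (by rw [rs, ru, map_mul]) (fun k hk hz => by
      rcases mZ hz with e | e
      · obtain ⟨j, rfl⟩ := hφ.cent k (conj_eq_iff_comm.1 (mul_inv_eq_one.1 e))
        rw [rs]
        simpa only [← map_mul, Z, mem_map_iff_mem hφ.inj, mem_lsub] using
          (MF_cls j ((mF (mU.1 (NH hk))).1 hk)).2.2.2
      · exact absurd (Cj.trans ⟨k, by rw [map_mul, ← e]; group⟩ (ctl n7).symm) hst)
    (R := normalizer (V : Set G)) (fun z hz => by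
      rcases mZ hz with rfl | rfl
      exacts [one_mem _, UV _ (MF_cls _ n2).1]) (UV _ MU_pow.1) (mem_normalizer_of_conj_mem (by
      rintro _ ⟨v, hv, rfl⟩
      rcases vcases hv with rfl | rfl | rfl | rfl
      · simp
      · exact ⟨_, by simp [mem_lsub, MV], rs.symm⟩
      · exact ⟨_, by simp [mem_lsub, MV], ru.symm⟩
      · exact ⟨_, by simp [mem_lsub, MV], rsu.symm⟩)) with hs | ⟨c, cN, hc, cg⟩
  · exfalso
    have HV := split _ hs (UV _ n3)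
    have sV : ∀ i ∈ H, Cj (φ Ms) i → i ∈ V := fun i hi h => by
      obtain ⟨c, hc, k, hk, e⟩ := IsSylowIn.conj_mem_one hU (twoEl_of_sq (h.sq ss)) hi
      rcases ((MU_cls k hk).2 (hφ.inj (by
        rw [map_mul, e, map_one]; exact conj_mul_self_eq_one (h.sq ss) c))).1 with h1 | h1
      · have := conj_mem_of_mem_normalizer' (HV hc) (show φ k ∈ V from ⟨k, h1, rfl⟩)
        rw [e] at this
        simpa [mul_assoc] using this
      · exact absurd ((e ▸ h.conj c).trans (ctl h1).symm) hst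
    have Vc : ∀ v ∈ V, v * φ Mt = φ Mt * v ∧ ∀ v' ∈ V, v * v' = v' * v := by
      rintro _ ⟨v, hv, rfl⟩
      refine ⟨hφ.comm_iff.2 (k6 v hv).1, ?_⟩
      rintro _ ⟨v', hv', rfl⟩
      exact hφ.comm_iff.2 ((k6 v hv).2 v' hv')
    have sV' : φ Ms ∈ V := ⟨_, by simp [mem_lsub, MV], rfl⟩
    have key : ∀ s', Cj (φ Ms) s' → ∃ v ∈ V, v ≠ 1 ∧ v * s' = s' * v := fun s' h => by
      obtain ⟨n, z1, z2, z3, z4⟩ := exists_central (h.sq ss) tt fun h' => hst (h.trans h')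
      obtain ⟨c, hc, k, hk, e⟩ := IsSylowIn.conj_mem_one hU (twoEl_of_sq z2) (mk.2 z4)
      rcases ((MU_cls k hk).2 (hφ.inj (by
        rw [map_mul, e, map_one]; exact conj_mul_self_eq_one z2 c))).1 with h1 | h1
      · have := conj_mem_of_mem_normalizer' (HV hc) (show φ k ∈ V from ⟨k, h1, rfl⟩)
        rw [e] at this
        exact ⟨_, by simpa [mul_assoc] using this, z1, z3⟩
      obtain ⟨g, hg⟩ : Cj ((s' * φ Mt) ^ n) (φ Mt) := (e ▸ ctl h1).of_conj.symm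
      have a1 := sV _ (mk.2 (hg ▸ (comm_conj z3).symm)) (h.conj g)
      have a2 := HV (mk.2 (show g * φ Mt * g⁻¹ * φ Mt = _ from by
        nth_rewrite 2 [← hg]; nth_rewrite 3 [← hg]; exact (comm_conj z4).symm))
      have a3 : (g * s' * g⁻¹ * (g * φ Mt * g⁻¹)) ^ n = φ Mt := by
        rw [show g * s' * g⁻¹ * (g * φ Mt * g⁻¹) = g * (s' * φ Mt) * g⁻¹ by group, conj_pow, hg]
      have a4 : (g * s' * g⁻¹ * (g * φ Mt * g⁻¹)) ^ 2 ∈ V := by
        have := V.mul_mem a1 (conj_mem_of_mem_normalizer a2 a1)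
        rw [inv_eq_of_mul_eq_one_left (conj_mul_self_eq_one tt g)] at this
        generalize g * s' * g⁻¹ = p at this ⊢
        generalize g * φ Mt * g⁻¹ = q at this ⊢
        simpa only [pow_two, mul_assoc] using this
      have a5 : g * s' * g⁻¹ * (g * φ Mt * g⁻¹) = g * φ Mt * g⁻¹ * (g * s' * g⁻¹) := by
        generalize g * s' * g⁻¹ = p at a1 a3 a4
        generalize g * φ Mt * g⁻¹ = q at a3 a4
        rcases Nat.even_or_odd' n with ⟨j, rfl | rfl⟩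
        · rw [pow_mul] at a3
          exact absurd ((mem_map_iff_mem hφ.inj).1 (a3 ▸ V.pow_mem a4 j)) n5
        · rw [pow_succ, pow_mul] at a3
          have e2 : q = p⁻¹ * (((p * q) ^ 2) ^ j)⁻¹ * φ Mt := by rw [← a3]; group
          have c1 : Commute p (((p * q) ^ 2) ^ j)⁻¹ := (Vc p a1).2 _ (V.inv_mem (V.pow_mem a4 j))
          generalize (((p * q) ^ 2) ^ j)⁻¹ = v at e2 c1
          rw [e2]
          exact (((Commute.refl p).inv_right.mul_right c1).mul_right (Vc p a1).1).eq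
      have a6 : s' * φ Mt = φ Mt * s' := by simpa [mul_assoc] using comm_conj (g := g⁻¹) a5
      exact ⟨_, sV', s1, (Vc _ sV').2 _ (sV _ (mk.2 a6) h)⟩
    obtain ⟨_, ⟨v, hv, rfl⟩, v1, v2⟩ := key _ ⟨(ρ * ρ * φ Mx * ρ * φ Mx * ρ * φ Mx)⁻¹, rfl⟩
    have v3 := comm_of_conj v2
    rw [inv_inv] at v3
    have fin : Nat.card (closure ({φ Ma, φ Mb, φ Mx, φ My, ρ} : Set G)) ≤ 1 * Nat.card φ.range →
        False := fun hc => by
      obtain ⟨j, hj⟩ := le_of_card_le_one_mul (H := φ.range) (by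
        rw [MonoidHom.range_eq_map, ← Mtop, MonoidHom.map_closure]
        refine closure_mono ?_
        rintro _ ⟨k, hk, rfl⟩
        have : k ∈ [Ma, Mb, Mx, My] := hk
        simp only [List.mem_cons, List.not_mem_nil, or_false] at this
        rcases this with rfl | rfl | rfl | rfl <;> simp) hc
        (subset_closure (show ρ ∈ ({φ Ma, φ Mb, φ Mx, φ My, ρ} : Set G) by simp))
      rw [← hj, conj_eq_iff_comm.2 (hφ.comm_iff.2 (hφ.comm j))] at rs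
      exact Mmisc.2.2.1 (hφ.inj rs).symm
    obtain ⟨⟨e0, e1, e2, e3, e4, e5, e6, e7, e8⟩, e9, e10, e11, e12⟩ := h.rel
    obtain ⟨e13, e14, e15, e16, e17⟩ := hρ
    obtain ⟨l1, l2, -⟩ := M_lit
    rcases vcases hv with rfl | rfl | rfl | rfl
    · exact v1 (map_one φ)
    all_goals simp only [l1, l2, map_mul, map_pow] at v3
    · exact fin (tc0_card e0 e1 e2 e3 e4 e5 e6 e7 e8 e9 e10 e11 e12 e13 e14 e15 e16 e17 v3 φ.range
        ⟨_, rfl⟩ ⟨_, rfl⟩ ⟨_, rfl⟩ ⟨_, rfl⟩).2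
    · exact fin (tc1_card e0 e1 e2 e3 e4 e5 e6 e7 e8 e9 e10 e11 e12 e13 e14 e15 e16 e17 v3 φ.range
        ⟨_, rfl⟩ ⟨_, rfl⟩ ⟨_, rfl⟩ ⟨_, rfl⟩).2
    · exact fin (tc2_card e0 e1 e2 e3 e4 e5 e6 e7 e8 e9 e10 e11 e12 e13 e14 e15 e16 e17 v3 φ.range
        ⟨_, rfl⟩ ⟨_, rfl⟩ ⟨_, rfl⟩ ⟨_, rfl⟩).2
  have rq : φ Ma1 * ρ * (φ Ma1)⁻¹ * ρ = φ Ms := by
    simpa [M_lit.1, M_lit.2.2.1] using hρ.2.2.2.2
  have cw : φ Mw * c = c * φ Mw := by
    refine hc.fix (Nn _ wH c cN) (conj_eq_iff_comm.2 (hφ.comm_iff.2 (hφ.comm _))) ?_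
    have a1 : ρ⁻¹ * φ Ms * ρ = φ (Ms * Mu) := by rw [← rsu]; group
    calc _ = φ (Ma1 * Mm * Mam Mm⁻¹ * Ma1⁻¹ * Ms) * ρ⁻¹ := by
          simp only [n8, map_mul, ← act _ n9, map_inv, ← rq]; group
      _ = φ Ms * (ρ⁻¹ * φ Ms * ρ) * ρ⁻¹ := by rw [k1, a1, map_mul, ← mul_assoc, ss, one_mul]
      _ = _ := by rw [inv_eq_of_mul_eq_one_left ss]; group
  obtain ⟨c3, c1, cω, cδ, cu⟩ := hc
  have ct := mk.1 (NH cN)
  have x3 : φ Mx ^ 3 = 1 := by rw [← map_pow, k5, map_one]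
  have sq1 : ∀ {g : G}, g * c * g⁻¹ ≠ (g * c * g⁻¹)⁻¹ := fun {g} e => c1 (by
    have : c = c⁻¹ := by simpa [mul_assoc] using congrArg (g⁻¹ * · * g) e
    rw [← c3]
    nth_rewrite 2 [this]
    group)
  have cx : (φ Mx)⁻¹ * c * φ Mx = c := by
    have a1 : (φ Mx)⁻¹ * c * φ Mx * φ Mt = φ Mt * ((φ Mx)⁻¹ * c * φ Mx) := comm_of_conj (by
      rw [← map_inv, ← map_mul, ← map_mul, k2, map_mul]
      exact (Commute.mul_right cw.symm ct).eq)
    have a2 : (φ Mx)⁻¹ * c * φ Mx * φ Mw = φ Mw * ((φ Mx)⁻¹ * c * φ Mx) := comm_of_conj (by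
      rw [← map_inv, ← map_mul, ← map_mul, k3]
      exact ct)
    have a3 : (φ Mx)⁻¹ * c * φ Mx * ((φ Mx)⁻¹ * c * φ Mx) * ((φ Mx)⁻¹ * c * φ Mx) = 1 := by
      calc _ = (φ Mx)⁻¹ * (c * c * c) * φ Mx := by group
        _ = 1 := by rw [c3]; group
    have a4 : φ Ms * ((φ Mx)⁻¹ * c * φ Mx) * (φ Ms)⁻¹ = ((φ Mx)⁻¹ * c * φ Mx)⁻¹ := by
      have := conj_eq_iff_comm.2 (hφ.comm_iff.2 (hφ.comm Mx⁻¹))
      rw [← this, map_inv]
      calc _ = (φ Mx)⁻¹ * (φ Ms * c * (φ Ms)⁻¹) * φ Mx := by group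
        _ = _ := by rw [cω]; group
    have a5 : φ Mw * (φ Mu * c * (φ Mu)⁻¹) * (φ Mw)⁻¹ = (φ Mu * c * (φ Mu)⁻¹)⁻¹ := by
      have b1 : φ Mw * φ Mu * (φ Mw)⁻¹ = φ Mu * φ Ms := by simpa using congrArg φ k4
      calc _ = (φ Mw * φ Mu * (φ Mw)⁻¹) * (φ Mw * c * (φ Mw)⁻¹) * (φ Mw * φ Mu * (φ Mw)⁻¹)⁻¹ := by group
        _ = φ Mu * (φ Ms * c * (φ Ms)⁻¹) * (φ Mu)⁻¹ := by rw [b1, conj_eq_iff_comm.2 cw]; group
        _ = _ := by rw [cω]; group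
    rcases (cu _ (cub (mk.2 a1) a3) a3 a4).1 with e | e | e | e | e
    · exact absurd e (Cj.ne_one ⟨(φ Mx)⁻¹, by group⟩ c1)
    · exact e
    · refine absurd ?_ (sq1 (g := 1))
      have b1 : (φ Mx)⁻¹ * c⁻¹ * φ Mx = c := by
        calc _ = ((φ Mx)⁻¹ * c * φ Mx)⁻¹ := by group
          _ = c := by rw [e, inv_inv]
      have b2 : (φ Mx ^ 3)⁻¹ * c * φ Mx ^ 3 = c⁻¹ := by
        calc _ = (φ Mx)⁻¹ * ((φ Mx)⁻¹ * ((φ Mx)⁻¹ * c * φ Mx) * φ Mx) * φ Mx := by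
              simp only [pow_three, mul_inv_rev, mul_assoc]
          _ = _ := by rw [e, b1, e]
      rw [x3] at b2
      simpa using b2
    · rw [rs] at e
      rw [e, ← conj_eq_iff_comm.trans eq_comm, a5] at a2
      exact absurd a2.symm sq1
    · rw [rs] at e
      rw [e] at a2
      have := (Commute.inv_left a2).eq
      rw [inv_inv, ← conj_eq_iff_comm.trans eq_comm, a5] at this
      exact absurd this.symm sq1
  obtain ⟨ψ, hψ, ei, er, ec⟩ := exists_hom_Z hφ.inj hρ c3 cω cδ ct cw.symm cx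
  have hR : ∀ k, φ k ∈ ψ.range := fun k => ⟨im k, ei k⟩
  have hS := sylow_of_model hφ MS_one MS_mul MS_pow.1 MS_pow.2.1 (C := ⊤) (fun _ _ => trivial)
    (fun k hk h => (MS_Z k hk h).imp_right fun e h' => h'.ne_one s1 (by rw [e, map_one]))
    fun k _ => MS_N k (Mall k)
  have := eq_top_of_model hφ Mmisc.1 Mmisc.2.1 m1 m2 hst hS hR (fun g hg => split _
    (cg _ (by rintro _ ⟨k, -, rfl⟩; exact hR k) (hR _) ⟨_, er⟩ ⟨_, ec⟩) (hR _) (mk.2 hg))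
    fun k hk k1 k2 => by
      obtain ⟨g, -, e⟩ := (MS_cls k hk k1).resolve_left k2
      exact ⟨ψ g, ⟨g, rfl⟩, e.imp (fun e => by simpa [ei] using congrArg ψ e)
        fun e => by simpa [ei] using congrArg ψ e⟩
  exact Or.inr (Or.inr (Or.inr ⟨((MulEquiv.ofBijective ψ ⟨hψ, MonoidHom.range_eq_top.1 this⟩).symm.trans
    (E.iso _).symm).trans H4.Golay.isoM12.symm⟩))

end Cfsg.Agent.H7.Asch
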