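import Cfsg.Agent.H7.Asch.ModB

/-!
# Generators and relations for the centralizer
-/

set_option autoImplicit false
set_option maxRecDepth 100000

namespace Cfsg.Agent.H7.Asch

open Subgroup H5

variable {G : Type*} [Group G]

/-- The properties of the extraspecial group. -/
structure XS (Q : Subgroup G) (s : G) : Prop where
  sQ : s ∈ Q
  ss : s * s = 1
  s1 : s ≠ 1
  cen : ∀ q ∈ Q, q * s = s * q
  com : ∀ p ∈ Q, ∀ q ∈ Q, p * q = q * p ∨ p * q = q * p * s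
  zen : ∀ q ∈ Q, (∀ p ∈ Q, p * q = q * p) → q = 1 ∨ q = s
  card : Nat.card Q = 32

theorem XS.sq {Q : Subgroup G} {s : G} (h : XS Q s) {q : G} (hq : q ∈ Q) : q * q = 1 ∨ q * q = s := by
  refine h.zen _ (Q.mul_mem hq hq) fun p hp => ?_
  rcases h.com p hp q hq with e | e
  · exact (Commute.mul_right e e).eq
  · calc p * (q * q) = p * q * q := by group
      _ = q * (p * q) * s := by
        nth_rewrite 1 [e]
        rw [mul_assoc _ s, ← h.cen q hq]; simp only [mul_assoc]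
      _ = q * q * p * (s * s) := by rw [e]; simp only [mul_assoc]
      _ = _ := by rw [h.ss, mul_one]

theorem XS.norm {Q : Subgroup G} {s x : G} (h : XS Q s) (x3 : x ^ 3 = 1) (xs : x * s = s * x)
    (xQ : ∀ q ∈ Q, x * q * x⁻¹ ∈ Q) (xC : ∀ q ∈ Q, q * x = x * q → q = 1 ∨ q = s) {a : G}
    (ha : a ∈ Q) (h2 : a * a ≠ 1) :
    ∃ a', (a' = a ∨ a' = a * s) ∧ a' ^ 2 = s ∧ x⁻¹ * a' * x = a' * (x * a' * x⁻¹) := by
  have aa := (h.sq ha).resolve_left h2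
  have xi : x⁻¹ = x * x := inv_eq_of_mul_eq_one_right (by rw [← x3, pow_three])
  have xs' : x * s * x⁻¹ = s := conj_eq_iff_comm.2 xs
  obtain ⟨b, hb⟩ : ∃ b, b = x * a * x⁻¹ := ⟨_, rfl⟩
  obtain ⟨c, hc⟩ : ∃ c, c = x * b * x⁻¹ := ⟨_, rfl⟩
  have bQ : b ∈ Q := hb ▸ xQ a ha
  have cQ : c ∈ Q := hc ▸ xQ b bQ
  have e1 : x⁻¹ * a * x = c := by
    rw [hc, hb]
    calc _ = x * x * a * (x * x)⁻¹ := by rw [← xi, inv_inv]
      _ = _ := by group
  have e2 : x * c * x⁻¹ = a := by rw [← e1]; group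
  have cc : c * c = s := by
    rw [← e1]
    calc _ = x⁻¹ * (a * a) * x := by group
      _ = s := by rw [aa, mul_assoc, ← xs, inv_mul_cancel_left]
  have e3 : x * (a * b * c) * x⁻¹ = b * c * a := by
    calc _ = (x * a * x⁻¹) * (x * b * x⁻¹) * (x * c * x⁻¹) := by group
      _ = _ := by rw [← hb, ← hc, e2]
  have nQ := Q.mul_mem (Q.mul_mem ha bQ) cQ
  have e4 : a * b * c = 1 ∨ a * b * c = s := by
    rcases h.com _ (Q.mul_mem bQ cQ) a ha with e | e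
    · exact xC _ nQ (conj_eq_iff_comm.1 (by rw [e3, e, mul_assoc])).symm
    · rw [e, ← mul_assoc a] at e3
      generalize a * b * c = n at e3
      have k : x * (n * s) * x⁻¹ = n := by
        calc _ = (x * n * x⁻¹) * (x * s * x⁻¹) := by group
          _ = n := by rw [e3, xs', mul_assoc, h.ss, mul_one]
      have k2 : x ^ 3 * n * (x ^ 3)⁻¹ = n * s := by
        calc _ = x * (x * (x * n * x⁻¹) * x⁻¹) * x⁻¹ := by
              simp only [pow_three, mul_inv_rev, mul_assoc]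
          _ = _ := by rw [e3, k, e3]
      rw [x3] at k2
      exact absurd (by simpa using k2) h.s1
  have ci : c⁻¹ = c * s := inv_eq_of_mul_eq_one_right (by rw [← mul_assoc, cc, h.ss])
  rcases e4 with e | e
  · refine ⟨a * s, Or.inr rfl, ?_, ?_⟩
    · rw [pow_two, mul_assoc, ← mul_assoc s, ← h.cen a ha, mul_assoc, h.ss, mul_one, aa]
    · calc _ = (x⁻¹ * a * x) * (x⁻¹ * (s * x)) := by group
        _ = a * b := by rw [e1, ← xs, inv_mul_cancel_left, ← ci, eq_inv_of_mul_eq_one_left e]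
        _ = a * (b * s) * s := by rw [mul_assoc, mul_assoc, h.ss, mul_one]
        _ = a * s * ((x * a * x⁻¹) * (x * s * x⁻¹)) := by rw [h.cen b bQ, ← hb, xs']; group
        _ = _ := by group
  · refine ⟨a, Or.inl rfl, by rw [pow_two, aa], ?_⟩
    rw [e1, ← hb, eq_mul_inv_of_mul_eq e, ci, ← mul_assoc, ← h.cen c cQ, mul_assoc, h.ss, mul_one]

theorem XS.base [Finite G] {Q : Subgroup G} {s x : G} (h : XS Q s) (x3 : x ^ 3 = 1)
    (xs : x * s = s * x) (xQ : ∀ q ∈ Q, x * q * x⁻¹ ∈ Q)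
    (xC : ∀ q ∈ Q, q * x = x * q → q = 1 ∨ q = s) :
    ∃ φ : E BK →* G, Function.Injective φ ∧ φ Bs = s ∧ φ Bx = x ∧ ∀ q, q ∈ Q ↔ ∃ k ∈ BQ, φ k = q := by
  have ab : ∀ R : Subgroup G, (∀ q ∈ R, q * q = 1) → ∀ p ∈ R, ∀ q ∈ R, p * q = q * p :=
    fun R hR p hp q hq => by
      rw [← inv_eq_of_mul_eq_one_left (hR _ (R.mul_mem hp hq)), mul_inv_rev,
        inv_eq_of_mul_eq_one_left (hR p hp), inv_eq_of_mul_eq_one_left (hR q hq)]
  have small : ∀ a b : G, ¬ ∀ q ∈ Q, ∃ z ∈ [1, s], ∃ i ∈ [1, a], ∃ j ∈ [1, b], q = z * i * j := by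
    intro a b hq
    have : (Q : Set G) ⊆ (fun p : Bool × Bool × Bool =>
        (if p.1 then 1 else s) * (if p.2.1 then 1 else a) * (if p.2.2 then 1 else b)) '' Set.univ := by
      intro q hq'
      obtain ⟨z, hz, i, hi, j, hj, rfl⟩ := hq q hq'
      have k : ∀ {c z : G}, z ∈ [1, c] → ∃ p : Bool, (if p then 1 else c) = z := fun {c z} hz => by
        rcases List.mem_pair.1 hz with rfl | rfl
        exacts [⟨true, rfl⟩, ⟨false, rfl⟩]
      obtain ⟨p1, rfl⟩ := k hz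
      obtain ⟨p2, rfl⟩ := k hi
      obtain ⟨p3, rfl⟩ := k hj
      exact ⟨(p1, p2, p3), trivial, rfl⟩
    have h1 := (Set.ncard_le_ncard this).trans (Set.ncard_image_le (Set.toFinite _))
    rw [Set.ncard_univ, show (Q : Set G).ncard = Nat.card Q from rfl, h.card] at h1
    simp at h1
  obtain ⟨a0, ha0, h0⟩ : ∃ a ∈ Q, a * a ≠ 1 := by
    by_contra hn
    push Not at hn
    exact small 1 1 fun q hq => ⟨q, List.mem_pair.2 (h.zen q hq fun p hp => ab Q hn p hp q hq),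
      1, by simp, 1, by simp, by simp⟩
  obtain ⟨a, ha', a2, a3⟩ := h.norm x3 xs xQ xC ha0 h0
  have ha : a ∈ Q := by rcases ha' with rfl | rfl; exacts [ha0, Q.mul_mem ha0 h.sQ]
  have ha1 := xQ a ha
  have anc : a * (x * a * x⁻¹) = x * a * x⁻¹ * a * s := (h.com _ ha _ ha1).resolve_left fun e => by
    have k1 : x⁻¹ * a * x * (x⁻¹ * a * x) = s := by
      calc _ = x⁻¹ * a ^ 2 * x := by rw [pow_two]; group
        _ = s := by rw [a2, mul_assoc, ← xs, inv_mul_cancel_left]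
    have k2 : x * a * x⁻¹ * (x * a * x⁻¹) = s := by
      calc _ = x * a ^ 2 * x⁻¹ := by rw [pow_two]; group
        _ = s := by rw [a2, xs, mul_inv_cancel_right]
    rw [a3, mul_assoc, ← mul_assoc _ a, ← e, mul_assoc, k2, ← mul_assoc, ← pow_two, a2, h.ss] at k1
    exact h.s1 k1.symm
  generalize hb : x * a * x⁻¹ = a1 at a3 ha1 anc
  let R := Q ⊓ centralizer {a, a1}
  have hR : ∀ {q}, q ∈ R ↔ q ∈ Q ∧ a * q = q * a ∧ a1 * q = q * a1 := fun {q} => by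
    simp [R, mem_centralizer_iff]
  have dec : ∀ q ∈ Q, ∃ r ∈ R, ∃ i ∈ [1, a], ∃ j ∈ [1, a1], q = r * i * j := by
    have st1 : ∀ q ∈ Q, ∃ j ∈ [1, a1], a * (q * j⁻¹) = q * j⁻¹ * a := fun q hq => by
      rcases h.com a ha q hq with e | e
      · exact ⟨1, by simp, by simpa using e⟩
      · refine ⟨a1, by simp, ?_⟩
        calc _ = q * (a * s) * a1⁻¹ := by rw [← mul_assoc, e, mul_assoc q]
          _ = q * a1⁻¹ * (a1 * a * s) * a1⁻¹ := by group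
          _ = _ := by rw [← anc]; group
    have st2 : ∀ q ∈ Q, ∃ i ∈ [1, a], a1 * (q * i⁻¹) = q * i⁻¹ * a1 := fun q hq => by
      rcases h.com a1 ha1 q hq with e | e
      · exact ⟨1, by simp, by simpa using e⟩
      · refine ⟨a, by simp, ?_⟩
        calc _ = q * (a1 * s) * a⁻¹ := by rw [← mul_assoc, e, mul_assoc q]
          _ = q * a⁻¹ * (a * a1 * s) * a⁻¹ := by group
          _ = q * a⁻¹ * (a1 * a * (s * s)) * a⁻¹ := by rw [anc]; group
          _ = _ := by rw [h.ss]; group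
    intro q hq
    obtain ⟨j, hj, e1⟩ := st1 q hq
    have jQ : j ∈ Q := by rcases List.mem_pair.1 hj with rfl | rfl; exacts [Q.one_mem, ha1]
    obtain ⟨i, hi, e2⟩ := st2 _ (Q.mul_mem hq (Q.inv_mem jQ))
    refine ⟨q * j⁻¹ * i⁻¹, hR.2 ⟨?_, ?_, e2⟩, i, hi, j, hj, by group⟩
    · rcases List.mem_pair.1 hi with rfl | rfl
      · simpa using Q.mul_mem hq (Q.inv_mem jQ)
      · exact Q.mul_mem (Q.mul_mem hq (Q.inv_mem jQ)) (Q.inv_mem ha)
    · rcases List.mem_pair.1 hi with rfl | rfl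
      · simpa using e1
      · rw [← mul_assoc, e1]; group
  obtain ⟨b0, hb0, h1⟩ : ∃ b ∈ R, b * b ≠ 1 := by
    by_contra hn
    push Not at hn
    refine small a a1 fun q hq => ?_
    obtain ⟨r, hr, i, hi, j, hj, rfl⟩ := dec q hq
    refine ⟨r, List.mem_pair.2 (h.zen r (hR.1 hr).1 fun p hp => ?_), i, hi, j, hj, rfl⟩
    obtain ⟨r', hr', i', hi', j', hj', rfl⟩ := dec p hp
    refine (Commute.mul_left (Commute.mul_left (ab R hn _ hr' _ hr) ?_) ?_).eq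
    · rcases List.mem_pair.1 hi' with rfl | rfl
      exacts [Commute.one_left r, (hR.1 hr).2.1]
    · rcases List.mem_pair.1 hj' with rfl | rfl
      exacts [Commute.one_left r, (hR.1 hr).2.2]
  obtain ⟨b, hb', b2, b3⟩ := h.norm x3 xs xQ xC (hR.1 hb0).1 h1
  have hbR : b ∈ R := by
    rcases hb' with rfl | rfl
    exacts [hb0, R.mul_mem hb0 (hR.2 ⟨h.sQ, h.cen a ha, h.cen a1 ha1⟩)]
  obtain ⟨bQ, c1, c2⟩ := hR.1 hbR
  subst hb
  have hrel : RB a b x := ⟨x3, by rw [show 4 = 2 * 2 from rfl, pow_mul, a2, pow_two, h.ss],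
    b2.trans a2.symm, by rw [a2, xs], a3, b3, c1, by
      have := comm_conj (g := x) (a3 ▸ (Commute.mul_left c1 c2).eq)
      simpa [mul_assoc] using this, c2⟩
  obtain ⟨φ, hφ, ea, eb, ex⟩ := hrel.emb (a2 ▸ h.s1)
  refine ⟨φ, hφ, by rw [B_lit.1, map_pow, ea, a2], ex, fun q =>
    surj_of_words hφ BQ_one BQ_mul BQ_nodup BQ_wd ?_ (h.card.trans BQ_len.symm)⟩
  simp only [List.forall_mem_cons, B_lit.2.1, B_lit.2.2, map_mul, map_inv, ea, eb, ex]
  exact ⟨ha, ha1, bQ, xQ b bQ, by simp⟩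

theorem perm3_comm : ∀ c d : Equiv.Perm (Fin 3),
    c * d * c⁻¹ * d⁻¹ * (c * d * c⁻¹ * d⁻¹) = 1 → c * d * c⁻¹ * d⁻¹ = 1 := by decide +kernel

set_option synthInstance.maxSize 2000 in
theorem perm3_cyc : ∀ z x : Equiv.Perm (Fin 3), z * z = 1 → z ≠ 1 → x ^ 3 = 1 → x ≠ 1 →
    (z * (x * z * x⁻¹)) ^ 3 = 1 ∧ (z * (x * z * x⁻¹)) ^ 4 ≠ 1 := by
  decide +kernel

theorem local_rel [Finite G] {Q : Subgroup G} {s : G} (h : XS Q s)
    (π : centralizer ({s} : Set G) →* Equiv.Perm (Fin 3)) (hπ : ∀ l, π l = 1 ↔ (l : G) ∈ Q)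
    (hx : ∃ x, x ^ 3 = 1 ∧ x ≠ 1 ∧ x * s = s * x)
    (hC : ∀ x, x ^ 3 = 1 → x ≠ 1 → x * s = s * x → ∀ q ∈ Q, q * x = x * q → q = 1 ∨ q = s)
    {u : G} (hu : u ∈ Q) (hus : u ≠ s) (hf : Cj s u) :
    ∃ a b x y : G, (RA a b x y ∨ RM a b x y) ∧ a ^ 2 = s ∧ a ∈ Q ∧ b ∈ Q ∧ x * a * x⁻¹ ∈ Q ∧
      x * b * x⁻¹ ∈ Q := by
  have mk : ∀ {g}, g * s = s * g → g ∈ centralizer ({s} : Set G) := mem_centralizer_singleton_iff.2
  have nQ : ∀ g, g * s = s * g → ∀ q ∈ Q, g * q * g⁻¹ ∈ Q := fun g hg q hq =>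
    (hπ (⟨g, mk hg⟩ * ⟨q, mk (h.cen q hq)⟩ * (⟨g, mk hg⟩ : centralizer ({s} : Set G))⁻¹)).1
      (by rw [map_mul, map_mul, (hπ ⟨q, mk (h.cen q hq)⟩).2 hq]; simp)
  obtain ⟨x, x3, x1, xs⟩ := hx
  obtain ⟨φ, hφ, es, -, hQ⟩ := h.base x3 xs (nQ x xs) (hC x x3 x1 xs)
  have cm : ∀ v ∈ Q, v ≠ s → Cj s v → ∃ c d : G, c * c = 1 ∧ d * d = 1 ∧ c * v = v * c ∧
      d * v = v * d ∧ c * d * c⁻¹ * d⁻¹ = s := fun v hv h1 h2 => by
    obtain ⟨k, hk, rfl⟩ := (hQ v).1 hv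
    rcases B_comm k hk (hφ (by simpa using h2.sq h.ss)) with rfl | rfl | ⟨c, -, c1, c2, d, -, d1, d2, e⟩
    · exact absurd (map_one φ) (h2.ne_one h.s1)
    · exact absurd es h1
    · exact ⟨φ c, φ d, by simpa using congrArg φ c1, by simpa using congrArg φ d1,
        by simpa using congrArg φ c2, by simpa using congrArg φ d2, by simpa [es] using congrArg φ e⟩
  obtain ⟨g, rfl⟩ := hf
  have hs' : g⁻¹ * s * g ∈ Q := by
    obtain ⟨c, d, -, -, c2, d2, e⟩ := cm _ hu hus ⟨g, rfl⟩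
    let c' : centralizer ({s} : Set G) := ⟨g⁻¹ * c * g, mk (comm_of_conj c2)⟩
    let d' : centralizer ({s} : Set G) := ⟨g⁻¹ * d * g, mk (comm_of_conj d2)⟩
    have e' : ((c' * d' * c'⁻¹ * d'⁻¹ : centralizer ({s} : Set G)) : G) = g⁻¹ * s * g := by
      simp only [c', d', coe_mul, coe_inv]
      rw [← e]
      group
    rw [← e', ← hπ]
    simp only [map_mul, map_inv]
    refine perm3_comm _ _ ?_
    simp only [← map_mul, ← map_inv]
    rw [← map_one π]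
    congr 1
    exact Subtype.ext (by rw [coe_mul, e']; simpa using conj_mul_self_eq_one h.ss g⁻¹)
  obtain ⟨z, z2, zs, zQ⟩ : ∃ z : G, z * z = 1 ∧ z * s = s * z ∧ z ∉ Q := by
    obtain ⟨c, d, c1, d1, c2, d2, e⟩ := cm _ hs' (fun e => hus (by
      nth_rewrite 1 [← e]; group)) ⟨g⁻¹, by group⟩
    have k : ∀ {c : G}, c * (g⁻¹ * s * g) = g⁻¹ * s * g * c → g * c * g⁻¹ * s = s * (g * c * g⁻¹) :=
      fun hc => by simpa [mul_assoc] using comm_conj (g := g) hc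
    by_contra hn
    push Not at hn
    have k1 := hn _ (conj_mul_self_eq_one c1 g) (k c2)
    have k2 := hn _ (conj_mul_self_eq_one d1 g) (k d2)
    have e2 : g * c * g⁻¹ * (g * d * g⁻¹) = g * s * g⁻¹ * (g * d * g⁻¹ * (g * c * g⁻¹)) := by
      rw [← e]; group
    rcases h.com _ k1 _ k2 with k3 | k3
    · rw [k3, right_eq_mul] at e2
      exact h.s1 (by simpa using e2)
    · rw [k3, h.cen _ (Q.mul_mem k2 k1)] at e2
      exact hus (mul_right_cancel e2).symm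
  have xQ : x ∉ Q := fun hq => x1 ((twoEl_of_sq (show x * x * (x * x) = 1 by
    rcases h.sq hq with e | e <;> simp [e, h.ss])).of_sq.eq_one_of_pow_odd (by decide) x3)
  obtain ⟨p1, p2⟩ := perm3_cyc (π ⟨z, mk zs⟩) (π ⟨x, mk xs⟩)
    (by rw [← map_mul, ← map_one π]; exact congrArg π (Subtype.ext z2)) (fun e => zQ ((hπ _).1 e))
    (by rw [← map_pow, ← map_one π]; exact congrArg π (Subtype.ext x3)) (fun e => xQ ((hπ _).1 e))
  simp only [← map_mul, ← map_inv, ← map_pow, ne_eq, hπ, coe_mul, coe_inv, coe_pow] at p1 p2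
  have zi : z⁻¹ = z := inv_eq_of_mul_eq_one_left z2
  have m1 : z * (z * (x * z * x⁻¹)) * z⁻¹ = (z * (x * z * x⁻¹))⁻¹ := by
    simp only [mul_inv_rev, zi, inv_inv, ← mul_assoc, z2, one_mul]
  have m2 : z * (x * z * x⁻¹) * s = s * (z * (x * z * x⁻¹)) :=
    (Commute.mul_left zs (Commute.mul_left (Commute.mul_left xs zs) (Commute.inv_left xs))).eq
  generalize z * (x * z * x⁻¹) = m at p1 p2 m1 m2
  have y3 : (m ^ 4) ^ 3 = 1 := by
    rw [← pow_mul, mul_comm, pow_mul, show 4 = 2 * 2 from rfl, pow_mul, pow_two (m ^ 3), pow_two]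
    rcases h.sq p1 with e | e <;> simp [e, h.ss]
  have ys : m ^ 4 * s = s * m ^ 4 := (Commute.pow_left m2 4).eq
  have yz : z * m ^ 4 * z⁻¹ = (m ^ 4)⁻¹ := by rw [← conj_pow, m1, inv_pow]
  have y1 : m ^ 4 ≠ 1 := fun e => p2 (e ▸ Q.one_mem)
  generalize m ^ 4 = y at y3 ys yz y1
  clear cm hQ es hφ φ
  obtain ⟨φ, hφ, es, rfl, hQ⟩ := h.base y3 ys (nQ y ys) (hC y y3 y1 ys)
  obtain ⟨A, hA, eA⟩ := (hQ _).1 (nQ z zs _ ((hQ _).2 ⟨Ba, (B_six _ (by simp)).1, rfl⟩))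
  obtain ⟨B, hB, eB⟩ := (hQ _).1 (nQ z zs _ ((hQ _).2 ⟨Bb, (B_six _ (by simp)).1, rfl⟩))
  have f3 : List.Forall₂ (fun g A => z * φ g * z⁻¹ = φ A) [Ba, Bb, Bx] [A, B, Bx⁻¹] :=
    .cons eA.symm (.cons eB.symm (.cons (by rw [yz, map_inv]) .nil))
  have hal := act_of_words f3 BQ_wx
  have zz : ∀ g : G, z * (z * g * z⁻¹) * z⁻¹ = g := fun g => by
    calc _ = z * z * g * (z * z)⁻¹ := by group
      _ = g := by rw [z2]; group
  obtain ⟨a, ha, b, hb, r1, r2, r3⟩ := B_norm A hA (hφ (by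
      rw [map_mul, eA, es, ← conj_eq_iff_comm.2 zs, ← es, B_lit.1, map_pow, pow_two]; group)) B hB
    (RB.of_map hφ (by
      rw [eA, eB, map_inv, ← yz]
      exact (B_rel.map φ).map (MulAut.conj z).toMonoidHom))
    (hφ (by rw [← hal A hA, eA, zz])) (hφ (by rw [← hal B hB, eB, zz]))
  obtain ⟨a1, a2⟩ := B_six a ha
  obtain ⟨b1, b2⟩ := B_six b hb
  refine ⟨φ a, φ b, φ Bx, z, r3.imp (fun r => ?_) fun r => ?_, by rw [← map_pow, r2, es],
    (hQ _).2 ⟨a, a1, rfl⟩, (hQ _).2 ⟨b, b1, rfl⟩, (hQ _).2 ⟨_, a2, by simp⟩, (hQ _).2 ⟨_, b2, by simp⟩⟩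
  · exact ⟨r1.map φ, yz, z2, by rw [hal a a1, r.1, map_inv], by rw [hal b b1, r.2, map_inv]⟩
  · exact ⟨r1.map φ, yz, z2, by rw [hal a a1, r.1, map_inv], by rw [hal b b1, r.2, map_inv]⟩

end Cfsg.Agent.H7.Asch
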