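import Cfsg.Agent.H7.Asch.Alt
import Cfsg.Agent.H7.Asch.CaseM
import Cfsg.Agent.H7.Asch.Local

/-!
# Assembly of the cases
-/

set_option autoImplicit false
set_option maxRecDepth 100000

namespace Cfsg.Agent.H7.Asch

open Subgroup H5

variable {G : Type*} [Group G] [Finite G]

omit [Finite G] in
theorem HA.sq_rot {a b x y : G} (h : HA a b x y) : (x⁻¹ * a * x) ^ 2 = a ^ 2 := by
  calc _ = x⁻¹ * (a ^ 2 * x) := by rw [pow_two, pow_two]; group
    _ = _ := by rw [← h.rel.1.2.2.2.1, inv_mul_cancel_left]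

omit [Finite G] in
theorem HA.sq_rot₂ {a b x y : G} (h : HA a b x y) : (x * a * x⁻¹) ^ 2 = a ^ 2 := by
  rw [conj_pow, h.rel.1.2.2.2.1, mul_inv_cancel_right]

theorem HA.rot₂ {a b x y : G} (h : HA a b x y) : HA (x * a * x⁻¹) (x⁻¹ * b * x) x y := by
  have xi : x⁻¹ = x * x := inv_eq_of_mul_eq_one_right (by rw [← h.rel.1.1, pow_three])
  have e1 : x⁻¹ * (x⁻¹ * a * x) * x = x * a * x⁻¹ := by
    calc _ = (x * x)⁻¹ * a * (x * x) := by group
      _ = _ := by rw [← xi, inv_inv]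
  have e2 : x * (x * b * x⁻¹) * x⁻¹ = x⁻¹ * b * x := by
    calc _ = x * x * b * (x * x)⁻¹ := by group
      _ = _ := by rw [← xi, inv_inv]
  exact e1 ▸ e2 ▸ h.rot.rot

theorem HA.core {a b x y r : G} (h : HA a b x y) (hr : PA a b x y r)
    (hv : Cj (a ^ 2) (x⁻¹ * a * x * (x * b * x⁻¹))) : Concl G := by
  have xi : x⁻¹ = x * x := inv_eq_of_mul_eq_one_right (by rw [← h.rel.1.1, pow_three])
  have e1 : x⁻¹ * (x⁻¹ * a * x) * x = x * a * x⁻¹ := by
    calc _ = (x * x)⁻¹ * a * (x * x) := by group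
      _ = _ := by rw [← xi, inv_inv]
  have e2 : x * (x * b * x⁻¹) * x⁻¹ = x⁻¹ * b * x := by
    calc _ = x * x * b * (x * x)⁻¹ := by group
      _ = _ := by rw [← xi, inv_inv]
  obtain ⟨p, hp | hp⟩ := h.rot.step (by rwa [h.sq_rot])
  · exact (h.same hr hp).elim
  rw [h.sq_rot] at hp
  obtain ⟨p', hp', hc⟩ := h.comm hr hp
  obtain ⟨ψ, hψ, hφ, ea, eb, ex⟩ := h.alt8 hr hp' hc
  refine alt_case hψ hφ fun ht => ?_
  simp only [A_lit.1, A_lit.2.2.2.2.2.2.2.1, map_mul, map_inv, map_pow, ea, eb, ex] at ht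
  obtain ⟨q, hq | hq⟩ := h.rot₂.step (by rwa [h.sq_rot₂])
  · exact h.rot₂.same hq (by simpa [mul_assoc] using hr)
  · rw [h.sq_rot₂, ← e1, ← e2] at hq
    exact h.sy.rot.same hp hq

theorem HA.pair {a b x y : G} (h : HA a b x y) (hu : Cj (a ^ 2) (a * b))
    (hv : Cj (a ^ 2) (x⁻¹ * a * x * (x * b * x⁻¹))) : Concl G := by
  obtain ⟨r, hr | hr⟩ := h.step hu
  exacts [h.core hr hv, h.sy.core hr hv]

theorem HA.concl {a b x y : G} (h : HA a b x y) (hu : Cj (a ^ 2) (a * b)) : Concl G := by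
  by_cases hv : Cj (a ^ 2) (x⁻¹ * a * x * (x * b * x⁻¹))
  · exact h.pair hu hv
  by_cases ht : Cj (a ^ 2) (x * a * x⁻¹ * (x⁻¹ * b * x))
  · exact h.rot₂.pair (by rwa [h.sq_rot₂]) (by rw [h.sq_rot₂]; simpa [mul_assoc] using hu)
  obtain ⟨r, hr | hr⟩ := h.step hu
  exacts [h.enormal hr hv ht, h.sy.enormal hr hv ht]

theorem HM.concl {a b x y : G} (h : HM a b x y) (hu : Cj (a ^ 2) (a * b)) : Concl G := by
  obtain ⟨r, z, hz, hr⟩ := h.step hu
  have h' : HM a b x z := by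
    rcases List.mem_pair.1 hz with rfl | rfl
    exacts [h, h.sy]
  exact hr.elim h'.mathieu h'.enormal

theorem concl_of_rel {Q : Subgroup G} {a b x y u : G} (hQ : Nat.card Q = 32)
    (hr : RA a b x y ∨ RM a b x y) (h1 : a ^ 2 ≠ 1)
    (hc : Nat.card (centralizer ({a ^ 2} : Set G)) = 192) (ha : a ∈ Q) (hb : b ∈ Q)
    (ha1 : x * a * x⁻¹ ∈ Q) (hb1 : x * b * x⁻¹ ∈ Q) (hu : u ∈ Q) (hus : u ≠ a ^ 2)
    (hf : Cj (a ^ 2) u) : Concl G := by
  rcases hr with hr | hr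
  · have h : HA a b x y := ⟨hr, h1, hc⟩
    obtain ⟨φ, hφ, rfl, rfl, rfl, rfl⟩ := h.emb
    obtain ⟨l1, l2, l3, l4, -, -, l7, l8, -⟩ := A_lit
    obtain ⟨k, hk, rfl⟩ := (surj_of_words hφ.inj AQ_one AQ_mul AQ_nodup AQ_wd (by
      simp only [List.forall_mem_cons, l3, l4, map_mul, map_inv]
      exact ⟨ha, ha1, hb, hb1, by simp⟩) (hQ.trans AQ_len.symm)).1 hu
    have es : φ Aa ^ 2 = φ As := by rw [l1, map_pow]
    rcases A_cls k hk (hφ.inj (by
      simpa using hf.sq (by rw [es, ← map_mul, Amisc.1, map_one]))) with rfl | rfl | ⟨l, -, hl⟩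
    · exact absurd (map_one φ) (hf.ne_one h1)
    · exact absurd es.symm hus
    have hf' := hf.conj (φ l)
    rw [← map_inv, ← map_mul, ← map_mul] at hf'
    simp only [List.mem_cons, List.not_mem_nil, or_false] at hl
    rcases hl with e | e | e <;> simp only [e, l2, l7, l8, map_mul, map_inv] at hf'
    · exact h.concl hf'
    · exact h.rot.concl (by rwa [h.sq_rot])
    · exact h.rot₂.concl (by rwa [h.sq_rot₂])
  · have h : HM a b x y := ⟨hr, h1, hc⟩
    obtain ⟨φ, hφ, rfl, rfl, rfl, rfl⟩ := h.emb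
    obtain ⟨l1, l2, l3, l4, -⟩ := M_lit
    obtain ⟨k, hk, rfl⟩ := (surj_of_words hφ.inj MQ_one MQ_mul MQ_nodup MQ_wd (by
      simp only [List.forall_mem_cons, l3, l4, map_mul, map_inv]
      exact ⟨ha, ha1, hb, hb1, by simp⟩) (hQ.trans MQ_len.symm)).1 hu
    have es : φ Ma ^ 2 = φ Ms := by rw [l1, map_pow]
    rcases M_cls k hk (hφ.inj (by
      simpa using hf.sq (by rw [es, ← map_mul, Mmisc.1, map_one]))) with rfl | rfl | ⟨l, -, hl⟩
    · exact absurd (map_one φ) (hf.ne_one h1)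
    · exact absurd es.symm hus
    have hf' := hf.conj (φ l)
    rw [← map_inv, ← map_mul, ← map_mul] at hf'
    rcases List.mem_pair.1 hl with e | e <;> rw [e] at hf'
    · exact h.concl (by simpa only [l2, map_mul] using hf')
    · exact absurd (es ▸ hf') (M_unfused hφ)

end Cfsg.Agent.H7.Asch
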