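import Cfsg.Agent.H7.Asch.Mod8
import Cfsg.Agent.H7.Asch.Syl
import Cfsg.Agent.H7.Asch.A5

/-!
# The alternating groups of degrees eight and nine
-/

set_option autoImplicit false
set_option maxRecDepth 100000

namespace Cfsg.Agent.H7.Asch

open Subgroup H5

variable {G : Type*} [Group G]

theorem cj_of_sty (ψ : E N8 →* G) {k : E AK} (h : sty k) : Cj (ψ (ia As)) (ψ (ia k)) := by
  obtain ⟨g, -, e⟩ := h
  exact Cj.symm ⟨ψ g, by simpa using congrArg ψ e⟩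

theorem cj_of_tty (ψ : E N8 →* G) {k : E AK} (h : tty k) : Cj (ψ (ia At)) (ψ (ia k)) := by
  obtain ⟨g, -, e⟩ := h
  exact Cj.symm ⟨ψ g, by simpa using congrArg ψ e⟩

variable [Finite G]

theorem alt_normal {ψ : E N8 →* G} (hφ : Emb (ψ.comp ia) As)
    (hst : ¬ Cj (ψ (ia As)) (ψ (ia At))) {g : G} (hg : g * ψ (ia At) = ψ (ia At) * g) :
    g * ψ (ia At2) * g⁻¹ = ψ (ia At2) ∨ g * ψ (ia At2) * g⁻¹ = ψ (ia At2) * ψ (ia At) := by
  set φ := ψ.comp ia with hφ'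
  have ee : ∀ k, ψ (ia k) = φ k := fun _ => rfl
  have cs := fun k => @cj_of_sty G _ ψ k
  have ct := fun k => @cj_of_tty G _ ψ k
  simp only [ee] at hst hg cs ct ⊢
  obtain ⟨m1, m2, m3, m4, m5, m6, -⟩ := N_misc
  have s1 : φ As ≠ 1 := fun e => Amisc.2.1 (hφ.inj (by simpa using e))
  have nz : ∀ {k}, k = As ∨ k = 1 ∨ tty k → k = As ∨ ¬ Cj (φ As) (φ k) := fun h =>
    h.imp_right fun h h' => by
      rcases h with rfl | h
      · exact h'.ne_one s1 (map_one φ)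
      · exact hst (h'.trans (ct _ h).symm)
  have mk : ∀ {g}, g ∈ centralizer ({φ At} : Set G) ↔ g * φ At = φ At * g :=
    mem_centralizer_singleton_iff
  have hU := sylow_of_model hφ AU_one AU_mul AU_pow.1 AU_pow.2.1 (C := centralizer {φ At})
    (fun k hk => mk.2 (hφ.comm_iff.2 ((AU_iff k (Aall k)).1 hk))) (fun k hk h => nz (AU_Z k hk h))
    (fun k hk _ => (AU_iff k (Aall k)).2 (hφ.comm_iff.1 (mk.1 hk)))
  have fus : ∀ h : G, h * φ At = φ At * h → h * φ At2 * h⁻¹ ∈ (lsub AU AU_one AU_mul).map φ →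
      h * φ At2 * h⁻¹ = φ At2 ∨ h * φ At2 * h⁻¹ = φ At2 * φ At := by
    rintro h hh ⟨k, hk, e⟩
    have e' : φ (k * At) = h * φ (At2 * At) * h⁻¹ := by
      rw [map_mul, map_mul, e, mul_assoc _ _ (φ At), (Commute.inv_left hh).eq]
      group
    rcases AU_fus k hk (hφ.inj (by
      rw [map_mul, e, map_one]
      exact conj_mul_self_eq_one (by rw [← map_mul, m3, map_one]) h)) with
      rfl | rfl | hr | rfl | rfl | h1 | h1
    · exact Or.inl e.symm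
    · exact Or.inr (by rw [← e, map_mul])
    · exfalso
      obtain ⟨f1, f2⟩ := AF_R k hr
      have hF := sylow_of_model hφ AF_one AF_mul AF_pow.1 AF_pow.2.1
        (C := centralizer {φ At} ⊓ centralizer {φ k})
        (fun j hj => ⟨mk.2 (hφ.comm_iff.2 (f1 j hj).1),
          mem_centralizer_singleton_iff.2 (hφ.comm_iff.2 (f1 j hj).2)⟩)
        (fun j hj _ => nz (AF_Z j hj)) (fun j hj _ => f2 j (Aall j) (hφ.comm_iff.1 (mk.1 hj.1))
          (hφ.comm_iff.1 (mem_centralizer_singleton_iff.1 hj.2)))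
      have := IsSylowIn.card_le hF (R := ((lsub AA AA_one AA_mul).map φ).map
        (MulAut.conj h).toMonoidHom) ((isPGroup_map_lsub fun j hj => (AA_pow.1 j hj).1).map _) (by
          rintro _ ⟨_, ⟨j, hj, rfl⟩, rfl⟩
          refine ⟨mk.2 ?_, mem_centralizer_singleton_iff.2 ?_⟩
          · have := comm_conj (g := h) (hφ.comm_iff.2 (AA_pow.1 j hj).2.1)
            rwa [conj_eq_iff_comm.2 hh] at this
          · exact e ▸ comm_conj (g := h) (hφ.comm_iff.2 (AA_pow.1 j hj).2.2))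
      rw [card_map_of_injective (MulAut.conj h).injective, card_map_of_injective hφ.inj,
        card_map_of_injective hφ.inj, card_lsub AA_pow.2.1, card_lsub AF_pow.2.2.1, AA_pow.2.2,
        AF_pow.2.2.2] at this
      omega
    · exact absurd (hφ.inj (by simpa using e.symm)) m4
    · rw [← conj_eq_iff_comm.2 hh] at e
      exact absurd (hφ.inj (by simpa using e.symm)) m5
    · exact absurd ((e ▸ cs _ h1).of_conj.trans (ct _ AV_misc.2.2.1).symm) hst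
    · exact absurd ((e' ▸ cs _ h1).of_conj.trans (ct _ AV_misc.2.2.2.1).symm) hst
  have tt : φ At * φ At = 1 := by rw [← map_mul, m1, map_one]
  have t2 : φ At2 * φ At = φ At * φ At2 := hφ.comm_iff.2 m6
  have two : ∀ e ∈ [Ae1, Ae2, Ae1 * Ae2], ∀ k ∈ centralizer ({φ At} : Set G),
      k * φ e = φ e * k → TwoEl k := fun e he k hk hke => by
    obtain ⟨-, -, g, -, g1, g2⟩ := A_four' e he
    have g3 : ψ g * φ e * (ψ g)⁻¹ = φ As := by simpa [ee] using congrArg ψ g1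
    obtain ⟨j, hj⟩ := hφ.cent _ (g3 ▸ comm_conj hke)
    have g4 := comm_conj (g := ψ g) (mk.1 hk)
    rw [← hj] at g4
    have g5 : φ j ^ 8 = 1 := by
      by_cases hi : Function.Injective ψ
      · rw [← map_pow, g2 j (Aall j) (hi (by simpa [ee] using g4)), map_one]
      · exact absurd (inj_of_simple ψ s1) hi
    exact TwoEl.of_conj (g := ψ g) ⟨3, hj ▸ g5⟩
  refine central_of_isolated_mod (H := centralizer {φ At}) (mk.2 rfl) tt (fun h hh => mk.1 hh)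
    (mk.2 t2) (by rw [← map_mul, m3, map_one]) (fun e => m4 (hφ.inj (by simpa using e)))
    (fun e => m5 (hφ.inj e)) (fun g hg hc => ?_) (e := φ Ae1) (f := φ Ae2)
    (mk.2 (hφ.comm_iff.2 (A_four' _ (by simp)).2.1)) (mk.2 (hφ.comm_iff.2 (A_four' _ (by simp)).2.1))
    (by rw [← map_mul, (A_four' _ (by simp)).1, map_one])
    (by rw [← map_mul, (A_four' _ (by simp)).1, map_one]) (two _ (by simp)) (two _ (by simp))
    (by simpa using two (Ae1 * Ae2) (by simp)) (mk.2 hg)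
  have vt : g * φ At2 * g⁻¹ * φ At = φ At * (g * φ At2 * g⁻¹) := by
    have := comm_conj (g := g) t2
    rwa [conj_eq_iff_comm.2 (mk.1 hg)] at this
  have hX : IsPGroup 2 ((lsub AV AV_one AV_mul).map φ) :=
    isPGroup_map_lsub fun k hk => (AV_misc.1 k hk).2.1
  have hv : g * φ At2 * g⁻¹ ∈ normalizer ((lsub AV AV_one AV_mul).map φ : Set G) := by
    generalize g * φ At2 * g⁻¹ = v at hc vt
    have k1 : v * φ At * v⁻¹ = φ At := conj_eq_iff_comm.2 vt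
    have a1 : φ At ∈ (lsub AV AV_one AV_mul).map φ := ⟨At, by simp [mem_lsub, AV], rfl⟩
    have a2 : φ At2 ∈ (lsub AV AV_one AV_mul).map φ := ⟨At2, by simp [mem_lsub, AV], rfl⟩
    have k2 : v * φ At2 * v⁻¹ ∈ (lsub AV AV_one AV_mul).map φ := by
      rcases hc with hc | hc
      · rwa [conj_eq_iff_comm.2 hc]
      · rw [hc, mul_assoc (φ At2), vt, ← mul_assoc, mul_inv_cancel_right]
        exact mul_mem a2 a1
    refine mem_normalizer_of_conj_mem ?_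
    rintro _ ⟨k, hk, rfl⟩
    have : k ∈ [1, At, At2, At2 * At] := hk
    simp only [List.mem_cons, List.not_mem_nil, or_false] at this
    rcases this with rfl | rfl | rfl | rfl
    · simp
    · rwa [k1]
    · exact k2
    · have := mul_mem k2 a1
      rw [← k1] at this
      simpa [mul_assoc] using this
  obtain ⟨c, hc', h1⟩ := IsSylowIn.conj_mem hU ((twoEl_of_sq (conj_mul_self_eq_one
    (show φ At2 * φ At2 = 1 by rw [← map_mul, m3, map_one]) g)).isPGroup_sup hX hv) (sup_le (by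
      rintro _ ⟨k, hk, rfl⟩
      exact mk.2 (hφ.comm_iff.2 (AV_misc.1 k hk).2.2.1)) (zpowers_le.2 (mk.2 vt)))
  have c1 := mk.1 hc'
  have c2 := conj_eq_iff_comm.2 c1
  have h2 := fus c c1 (h1 _ (mem_sup_left ⟨At2, by simp [mem_lsub, AV], rfl⟩))
  have h3 := fus (c * g) (Commute.mul_left c1 (mk.1 hg)).eq (by
    simpa [mul_assoc] using h1 _ (mem_sup_right (mem_zpowers _)))
  have e1 : c * g * φ At2 * (c * g)⁻¹ = c * (g * φ At2 * g⁻¹) * c⁻¹ := by group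
  have e2 : c * (φ At2 * φ At) * c⁻¹ = c * φ At2 * c⁻¹ * φ At := by
    nth_rewrite 2 [← c2]
    group
  have inj : ∀ {a b : G}, c * a * c⁻¹ = c * b * c⁻¹ → a = b := fun h => by simpa using h
  rw [e1] at h3
  rcases h2 with h2 | h2 <;> rcases h3 with h3 | h3
  · exact Or.inl (inj (h3.trans h2.symm))
  · exact Or.inr (inj (by rw [h3, e2, h2]))
  · exact Or.inr (inj (by rw [h3, e2, h2, mul_assoc, tt, mul_one]))
  · exact Or.inl (inj (h3.trans h2.symm))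

theorem alt_case {ψ : E N8 →* G} (hψ : Function.Injective ψ) (hφ : Emb (ψ.comp ia) As)
    (hst : ¬ Cj (ψ (ia As)) (ψ (ia At))) : Concl G := by
  have hN := fun g => @alt_normal G _ _ ψ hφ hst g
  set φ := ψ.comp ia with hφ'
  have ee : ∀ k, ψ (ia k) = φ k := fun _ => rfl
  have cs := fun k => @cj_of_sty G _ ψ k
  have ct := fun k => @cj_of_tty G _ ψ k
  simp only [ee] at hst cs ct hN
  obtain ⟨m1, m2, m3, m4, m5, m6, m7, m8, m9, n1, n2, n3, n4, n5, n6⟩ := N_misc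
  obtain ⟨d1, d2, d3, d4, d5, ⟨z1, z1V, d6⟩, ⟨z2, z2V, d7⟩, d8, d9, f1, f2, f3, f4, f5, f6⟩ := N_misc'
  have s1 : φ As ≠ 1 := fun e => Amisc.2.1 (hφ.inj (by simpa using e))
  let X := centralizer ({φ At} : Set G) ⊓ centralizer {φ At2}
  have mX : ∀ {g}, g ∈ X ↔ g * φ At = φ At * g ∧ g * φ At2 = φ At2 * g := fun {g} => by
    simp only [X, mem_inf, mem_centralizer_singleton_iff]
  let Z := (lsub AV AV_one AV_mul).map φ
  have hZc : ∀ z ∈ Z, ∀ k ∈ X, k * z = z * k := by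
    rintro _ ⟨z, hz, rfl⟩ k hk
    have : z ∈ [1, At, At2, At2 * At] := hz
    simp only [List.mem_cons, List.not_mem_nil, or_false] at this
    rcases this with rfl | rfl | rfl | rfl
    · simp
    · exact (mX.1 hk).1
    · exact (mX.1 hk).2
    · rw [map_mul]
      exact (Commute.mul_right (mX.1 hk).2 (mX.1 hk).1).eq
  have hS := sylow_of_model hφ AS_one AS_mul AS_pow.1 AS_pow.2.1 (C := ⊤) (fun _ _ => trivial)
    (fun k hk h => (AS_Z k hk h).imp_right fun e h' => h'.ne_one s1 (by rw [e, map_one]))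
    fun k _ => AS_N k (Aall k)
  have fin : ∀ H : Subgroup G, ψ.range ≤ H → X ≤ H → H = ⊤ := fun H h1 h2 => by
    refine eq_top_of_model hφ Amisc.1 Amisc.2.1 m1 m2 hst hS (fun k => h1 ⟨ia k, rfl⟩)
      (fun g hg => ?_) fun k hk k1 k2 => ?_
    · rcases hN g hg with h | h
      · exact h2 (mX.2 ⟨hg, conj_eq_iff_comm.1 h⟩)
      · have r1 := hφ.comm_iff.2 n2
        have r2 : φ Ar0 * φ At2 * (φ Ar0)⁻¹ = φ At2 * φ At := by simpa using congrArg φ n3
        have := h2 (mX.2 ⟨(Commute.mul_left (Commute.inv_left r1) hg).eq, conj_eq_iff_comm.1 (by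
          calc _ = (φ Ar0)⁻¹ * (g * φ At2 * g⁻¹) * φ Ar0 := by group
            _ = _ := by rw [h, ← r2]; group)⟩)
        simpa [ee] using H.mul_mem (h1 ⟨ia Ar0, rfl⟩) this
    · obtain ⟨g, -, e⟩ := (AS_cls k hk k1).resolve_left k2
      exact ⟨ψ g, h1 ⟨g, rfl⟩, e.imp (fun e => by simpa [ee] using congrArg ψ e)
        fun e => by simpa [ee] using congrArg ψ e⟩
  obtain ⟨δ, hδ⟩ : ∃ δ, δ = ψ (Nx4 * Nx5) := ⟨_, rfl⟩
  have tr : ∀ {a b : E N8}, a = b → ψ a = ψ b := congrArg ψ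
  have δ2 : δ * φ Aom * δ⁻¹ = φ Aom2 := by simpa [hδ, ee] using tr d2
  have oo : φ Aom * φ Aom = 1 := by rw [← map_mul, m7, map_one]
  rcases a5_lemma (X := X) (Z := Z) (ω := φ Aom) (δ := δ) (by
      rintro _ ⟨k, hk, rfl⟩
      exact mX.2 ⟨hφ.comm_iff.2 (AV_misc.1 k hk).2.2.1, hφ.comm_iff.2 (AV_misc.1 k hk).2.2.2.1⟩) hZc
    (by rintro _ ⟨k, hk, rfl⟩; rw [← map_mul, (AV_misc.1 k hk).1, map_one])
    (mX.2 ⟨hφ.comm_iff.2 m8, hφ.comm_iff.2 m9⟩)
    (mX.2 ⟨by simpa [hδ, ee] using tr d4, by simpa [hδ, ee] using tr d5⟩) oo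
    (fun h => AV_misc.2.1 ((mem_map_iff_mem hφ.inj).1 h)) (by simpa [hδ, ee] using tr d1)
    (by rw [δ2]; simpa [hδ, ee] using tr d3) (fun k hk hz => by
      obtain ⟨z, hz, e⟩ := hz
      have e2 : k * φ Aom * k⁻¹ = φ (z * Aom) := by rw [map_mul, e]; group
      rcases (AV_misc.1 z hz).2.2.2.2 with rfl | h
      · rw [one_mul, conj_eq_iff_comm] at e2
        obtain ⟨j, rfl⟩ := hφ.cent k (by
          rw [n1, map_mul]
          exact (Commute.mul_right (mX.1 hk).1 e2).eq)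
        rw [δ2]
        simpa only [← map_mul, Z, mem_map_iff_mem hφ.inj, mem_lsub] using AV_misc.2.2.2.2.2 j (Aall j)
          (hφ.comm_iff.1 (mX.1 hk).1) (hφ.comm_iff.1 (mX.1 hk).2)
      · exact absurd ((e2 ▸ cs _ h).of_conj.trans (ct _ AV_misc.2.2.2.2.1).symm) hst)
    (R := ψ.range) (by rintro _ ⟨k, -, rfl⟩; exact ⟨ia k, rfl⟩) ⟨ia Aom, rfl⟩ ⟨_, hδ.symm⟩ with
    h | ⟨c, cX, ⟨c3, c1, cω, cδ, cu⟩, cg⟩
  · exact Or.inr (Or.inl ⟨(MulEquiv.ofBijective ψ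
      ⟨hψ, MonoidHom.range_eq_top.1 (fin _ le_rfl h)⟩).symm.trans (E.iso N8).symm⟩)
  have cube : ∀ g : G, g * c * g⁻¹ * (g * c * g⁻¹) * (g * c * g⁻¹) = 1 := fun g => by
    calc _ = g * (c * c * c) * g⁻¹ := by group
      _ = 1 := by rw [c3]; group
  have inv : ∀ g : G, g * φ Aom * g⁻¹ = φ Aom →
      φ Aom * (g * c * g⁻¹) * (φ Aom)⁻¹ = (g * c * g⁻¹)⁻¹ := fun g hg => by
    rw [← hg]
    calc _ = g * (φ Aom * c * (φ Aom)⁻¹) * g⁻¹ := by group
      _ = _ := by rw [cω]; group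
  have c0 : ψ Nx0 * c = c * ψ Nx0 := by
    have a1 : ψ Nx0 * φ z1 * (ψ Nx0)⁻¹ = φ At := by simpa [ee] using tr d6
    have a2 : ψ Nx0 * φ z2 * (ψ Nx0)⁻¹ = φ At2 := by simpa [ee] using tr d7
    have a3 : ψ Nx0 * δ * (ψ Nx0)⁻¹ = δ := by simpa [hδ, ee] using tr d9
    refine conj_eq_iff_comm.1 ((cu _ (mX.2 ⟨a1 ▸ comm_conj (hZc _ ⟨z1, z1V, rfl⟩ c cX),
      a2 ▸ comm_conj (hZc _ ⟨z2, z2V, rfl⟩ c cX)⟩) (cube _) (inv _ (by simpa [ee] using tr d8))).2 ?_)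
    rw [← a3]
    calc _ = ψ Nx0 * (δ * c * (δ * c)) * (ψ Nx0)⁻¹ := by group
      _ = 1 := by rw [cδ]; group
  have tt : φ At * φ At = 1 := by rw [← map_mul, m1, map_one]
  have cr : φ Ar0 * c = c * φ Ar0 := by
    have a1 : φ Ar0 * φ At * (φ Ar0)⁻¹ = φ At := conj_eq_iff_comm.2 (hφ.comm_iff.2 n2)
    have a2 : φ Ar0 * φ (At2 * At) * (φ Ar0)⁻¹ = φ At2 := by
      have r2 : φ Ar0 * φ At2 * (φ Ar0)⁻¹ = φ At2 * φ At := by simpa using congrArg φ n3
      calc _ = (φ Ar0 * φ At2 * (φ Ar0)⁻¹) * (φ Ar0 * φ At * (φ Ar0)⁻¹) := by rw [map_mul]; group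
        _ = _ := by rw [r2, a1, mul_assoc, tt, mul_one]
    have a3 : φ Ar0 * δ * (φ Ar0)⁻¹ = φ Aom * δ⁻¹ * (φ Aom)⁻¹ := by simpa [hδ, ee] using tr f1
    have a4 := inv _ (conj_eq_iff_comm.2 (hφ.comm_iff.2 n4))
    refine conj_eq_iff_comm.1 ((cu _ (mX.2 ⟨a1 ▸ comm_conj (mX.1 cX).1,
      a2 ▸ comm_conj (hZc _ ⟨_, by simp [mem_lsub, AV], rfl⟩ c cX)⟩) (cube _) a4).2 ?_)
    have a5 : φ Aom * δ⁻¹ * (φ Aom)⁻¹ * (φ Ar0 * c * (φ Ar0)⁻¹) *
        (φ Aom * δ⁻¹ * (φ Aom)⁻¹ * (φ Ar0 * c * (φ Ar0)⁻¹)) = 1 := by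
      rw [← a3]
      calc _ = φ Ar0 * (δ * c * (δ * c)) * (φ Ar0)⁻¹ := by group
        _ = 1 := by rw [cδ]; group
    generalize φ Ar0 * c * (φ Ar0)⁻¹ = c' at a4 a5
    have a6 : c' = φ Aom * c'⁻¹ * (φ Aom)⁻¹ := by
      rw [← inv_inv c', ← a4]
      nth_rewrite 2 [a4]
      group
    rw [a6] at a5
    calc _ = c'⁻¹ * ((φ Aom)⁻¹ * (φ Aom * δ⁻¹ * (φ Aom)⁻¹ * (φ Aom * c'⁻¹ * (φ Aom)⁻¹) *
        (φ Aom * δ⁻¹ * (φ Aom)⁻¹ * (φ Aom * c'⁻¹ * (φ Aom)⁻¹))) * φ Aom)⁻¹ * c' := by group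
      _ = 1 := by rw [a5]; group
  have cv : c * (ψ Ng * φ At2 * (ψ Ng)⁻¹) = ψ Ng * φ At2 * (ψ Ng)⁻¹ * c := by
    have a1 : ψ Ng * φ At * (ψ Ng)⁻¹ = φ At * φ Ar0 := by simpa [ee] using tr f5
    have a2 : (ψ Ng)⁻¹ * c * ψ Ng * φ At = φ At * ((ψ Ng)⁻¹ * c * ψ Ng) :=
      comm_of_conj (a1 ▸ (Commute.mul_right (mX.1 cX).1 cr.symm).eq)
    have := comm_conj (g := ψ Ng) (cube_fix (by simpa using cube (ψ Ng)⁻¹) a2 tt
      (fun e => m2 (hφ.inj (by simpa using e))) (hN _ a2))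
    simpa [mul_assoc] using this
  have c2 : ψ Nx2 * c = c * ψ Nx2 := by
    refine mem_centralizer_singleton_iff.1 (show Nx2 ∈ (centralizer {c}).comap ψ from ?_)
    rw [f6]
    refine ev_mem ?_ _
    simp only [List.forall_mem_cons, mem_comap, mem_centralizer_singleton_iff, map_mul, map_inv, ee]
    exact ⟨(mX.1 cX).1.symm, (mX.1 cX).2.symm, c0, cr, cv.symm, by simp⟩
  have x5 : ψ Nx5 * c * (ψ Nx5)⁻¹ = c⁻¹ := by
    rw [f4, map_mul, ee, ee]
    calc _ = φ Ar0 * (φ Aom * c * (φ Aom)⁻¹) * (φ Ar0)⁻¹ := by group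
      _ = (φ Ar0 * c * (φ Ar0)⁻¹)⁻¹ := by rw [cω]; group
      _ = _ := by rw [conj_eq_iff_comm.2 cr]
  have ci : c⁻¹ * c⁻¹ = c := by
    rw [← mul_inv_rev]
    exact inv_eq_of_mul_eq_one_right c3
  have p := N_presAlt
  have x55 : ψ Nx5 * ψ Nx5 = 1 := by
    rw [← map_mul, ← pow_two, show Nx5 ^ 2 = 1 from p.sq 5 (by norm_num) (by norm_num), map_one]
  have x5i : (ψ Nx5)⁻¹ = ψ Nx5 := inv_eq_of_mul_eq_one_left x55
  have x56 : ψ Nx5 * (c * ψ Nx5 * c⁻¹) = c := by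
    calc _ = ψ Nx5 * c * (ψ Nx5)⁻¹ * c⁻¹ := by rw [x5i]; group
      _ = c := by rw [x5, ci]
  let x : ℕ → G := fun i => if i = 6 then c * ψ Nx5 * c⁻¹ else ψ (Nxs.getD i 1)
  have hx : ∀ i < 6, x i = ψ (Nxs.getD i 1) := fun i hi => if_neg (by omega)
  have hx6 : x 6 = c * ψ Nx5 * c⁻¹ := if_pos rfl
  have hP : H4.PresAlt x 7 := by
    refine ⟨by rw [hx 0 (by norm_num), ← map_pow, p.zero, map_one], fun i h1 h2 => ?_,
      fun i h1 => ?_, fun i j h1 h2 => ?_⟩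
    · rcases Nat.lt_succ_iff_lt_or_eq.1 h2 with h | rfl
      · rw [hx i h, ← map_pow, p.sq i h1 h, map_one]
      · rw [hx6, conj_pow, pow_two, x55]; group
    · rcases Nat.lt_succ_iff_lt_or_eq.1 h1 with h | h
      · rw [hx i (by omega), hx _ h, ← map_mul, ← map_pow, p.braid i h, map_one]
      · obtain rfl : i = 5 := by omega
        rw [hx 5 (by norm_num), hx6]
        exact (congrArg (· ^ 3) x56).trans (by rw [pow_three, ← mul_assoc, c3])
    · rcases Nat.lt_succ_iff_lt_or_eq.1 h2 with h | rfl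
      · rw [hx i (by omega), hx _ h, ← map_mul, ← map_pow, p.comm i j h1 h, map_one]
      rw [hx i (by omega), hx6]
      by_cases h4 : i = 4
      · subst h4
        have : ψ Nx4 * (c * ψ Nx5 * c⁻¹) = δ * c := by
          rw [hδ, map_mul, mul_assoc (ψ Nx4), eq_inv_mul_of_mul_eq x56, x5i]
        exact (congrArg (· ^ 2) this).trans (by rw [pow_two, cδ])
      have k : ψ (Nxs.getD i 1) * c = c * ψ (Nxs.getD i 1) := by
        have : i < 4 := by omega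
        interval_cases i
        exacts [c0, (congrArg (fun a => ψ a * c) f2).trans ((mX.1 cX).1.symm.trans
          (congrArg (fun a => c * ψ a) f2).symm), c2, (congrArg (fun a => ψ a * c) f3).trans
          (cr.trans (congrArg (fun a => c * ψ a) f3).symm)]
      have k2 := tr (p.comm i 5 (by omega) (by norm_num))
      rw [map_pow, map_mul, map_one] at k2
      rw [show ψ (Nxs.getD i 1) * (c * ψ Nx5 * c⁻¹) = c * (ψ (Nxs.getD i 1) * ψ Nx5) * c⁻¹ by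
        rw [← mul_assoc, ← mul_assoc, k]; group, conj_pow]
      exact (congrArg (c * · * c⁻¹) k2).trans (by group)
  obtain ⟨f, hf, e⟩ := exists_alt (m := 6) (by norm_num) hP
    (by rw [hx 0 (by norm_num)]; exact fun e => N_pres.2.2.2.2 (hψ (e.trans (map_one ψ).symm)))
  have h1 : ψ.range ≤ f.range := by
    rw [e, MonoidHom.range_eq_map, ← N_top, MonoidHom.map_closure]
    refine closure_mono ?_
    rintro _ ⟨_, ⟨i, hi, rfl⟩, rfl⟩
    exact ⟨i, show i < 7 from Nat.lt_succ_of_lt hi, hx i hi⟩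
  have h2 : c ∈ f.range := by
    rw [← x56]
    exact mul_mem (h1 ⟨_, rfl⟩) (e ▸ subset_closure ⟨6, by simp, hx6⟩)
  exact Or.inr (Or.inr (Or.inl ⟨(MulEquiv.ofBijective f ⟨hf, MonoidHom.range_eq_top.1 (fin _ h1
    (cg _ (by rintro _ ⟨k, -, rfl⟩; exact h1 ⟨ia k, rfl⟩) (h1 ⟨ia Aom, rfl⟩) (h1 ⟨_, hδ.symm⟩)
      h2))⟩).symm⟩))

end Cfsg.Agent.H7.Asch
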