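import Cfsg.Agent.H7.Asch.Gen
import Cfsg.Agent.H7.GammaL1

/-!
# The case of a normal elementary abelian subgroup of order eight
-/

set_option autoImplicit false

namespace Cfsg.Agent.H7.Asch

open Subgroup H5

theorem gl3_equiv_psl3 :
    Nonempty (GL (Fin 3) (ZMod 2) ≃* Matrix.ProjectiveSpecialLinearGroup (Fin 3) (ZMod 2)) := by
  have h1 : Function.Bijective
      (Matrix.SpecialLinearGroup.toGL : Matrix.SpecialLinearGroup (Fin 3) (ZMod 2) →* _) := by
    refine ⟨Matrix.SpecialLinearGroup.toGL_injective, fun g => ?_⟩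
    have h : ∀ x : ZMod 2, IsUnit x → x = 1 := by decide
    exact ⟨⟨g, h _ (Matrix.isUnits_det_units g)⟩, Units.ext rfl⟩
  have h2 : center (Matrix.SpecialLinearGroup (Fin 3) (ZMod 2)) = ⊥ := by
    rw [eq_bot_iff]
    intro A hA
    obtain ⟨r, hr, e⟩ := Matrix.SpecialLinearGroup.mem_center_iff.1 hA
    have h : ∀ x : ZMod 2, x ^ Fintype.card (Fin 3) = 1 → x = 1 := by decide
    rw [h r hr, map_one] at e
    exact Subtype.ext e.symm
  exact ⟨(MulEquiv.ofBijective _ h1).symm.trans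
    ((QuotientGroup.quotientMulEquivOfEq h2).trans QuotientGroup.quotientBot).symm⟩

theorem card_gl3 : Nat.card (GL (Fin 3) (ZMod 2)) = 168 := by
  have : Fact (Nat.Prime 2) := ⟨Nat.prime_two⟩
  rw [Matrix.card_GL_field, ZMod.card]
  decide

variable {G : Type*} [Group G] [Finite G]

/-- The involutions outside `E` in normal position. -/
structure Good (s : G) (E : Subgroup G) (t : G) : Prop where
  ncj : ¬ Cj s t
  act : ∀ e ∈ E, t * e * t⁻¹ = e ∨ t * e * t⁻¹ = e * s
  two : ∀ g, g * s = s * g → g * t = t * g → TwoEl g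
  ex : ∃ u ∈ E, u ≠ 1 ∧ u ≠ s ∧ u * t = t * u

theorem enormal {s : G} {E : Subgroup G} (hs1 : s ≠ 1) (hsE : s ∈ E)
    (hc : Nat.card (centralizer ({s} : Set G)) = 192) (hE : Nat.card E = 8)
    (hsq : ∀ e ∈ E, e * e = 1) (hL : ∀ g, g * s = s * g → ∀ e ∈ E, g * e * g⁻¹ ∈ E)
    (htr : ∀ e ∈ E, e ≠ 1 → ∃ n, (∀ e ∈ E, n * e * n⁻¹ ∈ E) ∧ n * s * n⁻¹ = e)
    (hC : ∀ g, (∀ e ∈ E, g * e = e * g) → g ∈ E)
    (hI : ∀ i, i * s = s * i → i * i = 1 → i ∉ E →
      ∃ n, (∀ e ∈ E, n * e * n⁻¹ ∈ E) ∧ Good s E (n * i * n⁻¹))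
    (hex : ∃ i, i * s = s * i ∧ i * i = 1 ∧ i ∉ E) :
    ∃ (N : Subgroup G) (_ : N.Normal), IsMulCommutative N ∧ (∀ n ∈ N, n ^ 2 = 1) ∧
      Nat.card N = 8 ∧
      Nonempty (G ⧸ N ≃* Matrix.ProjectiveSpecialLinearGroup (Fin 3) (ZMod 2)) := by
  have hcm : ∀ a ∈ E, ∀ b ∈ E, a * b = b * a := fun a ha b hb => by
    have h := hsq _ (E.mul_mem ha hb)
    rw [← inv_eq_of_mul_eq_one_left h, mul_inv_rev, inv_eq_of_mul_eq_one_left (hsq a ha),
      inv_eq_of_mul_eq_one_left (hsq b hb)]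
  set N := normalizer (E : Set G) with hN
  have hmem : ∀ {n : G}, (∀ e ∈ E, n * e * n⁻¹ ∈ E) → n ∈ N := mem_normalizer_of_conj_mem
  have hLN : ∀ g, g * s = s * g → g ∈ N := fun g hg => hmem (hL g hg)
  have hcj : ∀ {n g x : G}, n ∈ N → n * g * n⁻¹ ∈ N → g ∈ N := fun {n g _} hn h => by
    simpa [mul_assoc] using N.mul_mem (N.mul_mem (N.inv_mem hn) h) hn
  -- involutions of `N`
  have hinv : ∀ i ∈ N, i * i = 1 → i ≠ 1 →
      ∃ n ∈ N, n * i * n⁻¹ = s ∨ (Good s E (n * i * n⁻¹) ∧ n * i * n⁻¹ ∉ E) := by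
    intro i hi h1 h2
    obtain ⟨e, he, he1, hie⟩ : ∃ e ∈ E, e ≠ 1 ∧ i * e = e * i := by
      by_cases h : i * s * i⁻¹ = s
      · exact ⟨s, hsE, hs1, conj_eq_iff_comm.1 h⟩
      have h3 := conj_mem_of_mem_normalizer hi hsE
      refine ⟨s * (i * s * i⁻¹), E.mul_mem hsE h3, fun e => h ?_, ?_⟩
      · rw [eq_inv_of_mul_eq_one_right e, inv_eq_of_mul_eq_one_left (hsq s hsE)]
      · rw [← conj_eq_iff_comm, hcm _ hsE _ h3]
        calc _ = (i * i) * s * (i * i)⁻¹ * (i * s * i⁻¹) := by group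
          _ = _ := by rw [h1, ← hcm _ hsE _ h3]; group
    obtain ⟨n, hn, rfl⟩ := htr e he he1
    have hn' := hmem hn
    by_cases hE' : n⁻¹ * i * n ∈ E
    · obtain ⟨m, hm, e⟩ := htr _ hE' (Cj.ne_one ⟨n⁻¹, by group⟩ h2)
      refine ⟨m⁻¹ * n⁻¹, N.mul_mem (N.inv_mem (hmem hm)) (N.inv_mem hn'), Or.inl ?_⟩
      calc _ = m⁻¹ * (n⁻¹ * i * n) * m := by group
        _ = s := by rw [← e]; group
    · obtain ⟨m, hm, e⟩ := hI _ (comm_of_conj hie) (by
        simpa using conj_mul_self_eq_one h1 n⁻¹) hE'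
      have e2 : m * n⁻¹ * i * (m * n⁻¹)⁻¹ = m * (n⁻¹ * i * n) * m⁻¹ := by group
      refine ⟨m * n⁻¹, N.mul_mem (hmem hm) (N.inv_mem hn'), Or.inr ⟨by rw [e2]; exact e, fun h => hE' ?_⟩⟩
      rw [e2] at h
      simpa [mul_assoc] using conj_mem_of_mem_normalizer' (hmem hm) h
  have hF : ∀ g, g * s * g⁻¹ ∈ N → g ∈ N := fun g hg => by
    obtain ⟨n, hn, e | e⟩ := hinv _ hg (conj_mul_self_eq_one (hsq s hsE) g) (by simpa using hs1)
    · have := hLN (n * g) (by rw [← conj_eq_iff_comm]; nth_rewrite 2 [← e]; group)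
      simpa using N.mul_mem (N.inv_mem hn) this
    · exact absurd ⟨n * g, by group⟩ e.1.ncj
  have hG : ∀ t, t * t = 1 → Good s E t → t ∉ E → ∀ g, g * t = t * g → g ∈ N := by
    intro t ht h htE g hg
    obtain ⟨e, he, hte⟩ : ∃ e ∈ E, t * e * t⁻¹ = e * s := by
      by_contra hn
      exact htE (hC t fun e he => conj_eq_iff_comm.1
        ((h.act e he).resolve_right fun h' => hn ⟨e, he, h'⟩))
    have key : ∀ k ∈ N, k * t = t * k → k * s * k⁻¹ = s := fun k hk hkt => by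
      have e1 : t * (k * e * k⁻¹) * t⁻¹ = k * e * k⁻¹ * (k * s * k⁻¹) := by
        calc _ = (t * k) * e * (t * k)⁻¹ := by group
          _ = k * (t * e * t⁻¹) * k⁻¹ := by rw [← hkt]; group
          _ = _ := by rw [hte]; group
      rcases h.act _ (conj_mem_of_mem_normalizer hk he) with h1 | h1
      · rw [e1, mul_eq_left] at h1
        exact absurd (by simpa using h1) hs1
      · rw [e1] at h1
        exact mul_left_cancel h1
    have hts : s * t = t * s := by
      rcases h.act s hsE with h1 | h1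
      · exact (conj_eq_iff_comm.1 h1).symm
      · rw [hsq s hsE] at h1
        exact absurd (by simpa using h1) hs1
    obtain ⟨u, hu, hu1, hus, hut⟩ := h.ex
    have two : ∀ v ∈ E, v ≠ 1 → ∀ k ∈ centralizer ({t} : Set G), k * v = v * k → TwoEl k := by
      intro v hv hv1 k hk hkv
      obtain ⟨n, hn, rfl⟩ := htr v hv hv1
      have h1 := mem_centralizer_singleton_iff.1 hk
      have h2 : k ∈ N := hcj (x := 1) (N.inv_mem (hmem hn))
        (by rw [inv_inv]; exact hLN _ (comm_of_conj hkv))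
      exact h.two k (conj_eq_iff_comm.1 (key k h2 h1)) h1
    have := central_of_isolated_mod (H := centralizer ({t} : Set G)) (z := 1) (w := s) (e := s)
      (f := u) (one_mem _) (mul_one 1) (by simp) (mem_centralizer_singleton_iff.2 hts)
      (hsq s hsE) hs1 hs1 (fun g hg hc => Or.inl (key g (hF g (hLN _ (by simpa using hc)))
        (mem_centralizer_singleton_iff.1 hg)))
      (mem_centralizer_singleton_iff.2 hts) (mem_centralizer_singleton_iff.2 hut) (hsq s hsE)
      (hsq u hu) (two s hsE hs1) (two u hu hu1) (two _ (E.mul_mem hsE hu) fun e => hus (by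
        rw [eq_inv_of_mul_eq_one_right e, inv_eq_of_mul_eq_one_left (hsq s hsE)]))
      (mem_centralizer_singleton_iff.2 hg)
    exact hLN g (conj_eq_iff_comm.1 (by simpa using this))
  have htop : N = ⊤ := by
    obtain ⟨i, h1, h2, h3⟩ := hex
    obtain ⟨n, hn, e | e⟩ := hinv i (hLN i h1) h2 (fun e => h3 (e ▸ E.one_mem))
    · have h4 := conj_mem_of_mem_normalizer' hn hsE
      rw [← e] at h4
      exact absurd (by simpa [mul_assoc] using h4) h3
    refine eq_top_of_se (hsq s hsE) (conj_mul_self_eq_one h2 n) (fun h => e.2 (by rw [h]; exact E.one_mem))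
      (N.mul_mem (N.mul_mem hn (hLN i h1)) (N.inv_mem hn)) e.1.ncj (fun j hj k1 k2 g hg => ?_) hF
    obtain ⟨m, hm, e | e⟩ := hinv j hj k1 k2
    · exact hcj (x := 1) hm (hLN _ (e ▸ comm_conj hg))
    · exact hcj (x := 1) hm (hG _ (conj_mul_self_eq_one k1 m) e.1 e.2 _ (comm_conj hg))
  have hn : E.Normal := normalizer_eq_top_iff.1 htop
  have hcomm : IsMulCommutative E := ⟨⟨fun a b => Subtype.ext (hcm _ a.2 _ b.2)⟩⟩
  suffices h : Nonempty (G ⧸ E ≃* Matrix.ProjectiveSpecialLinearGroup (Fin 3) (ZMod 2)) from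
    ⟨E, hn, hcomm, fun n h => by rw [sq, hsq n h], hE, h⟩
  obtain ⟨d, hd, ψ, hψ⟩ := exists_mulAut_hom_GL (V := E) Nat.prime_two
    (fun x => Subtype.ext (by simpa [sq] using hsq x x.2))
  obtain rfl : d = 3 := Nat.pow_right_injective le_rfl (by simpa [hE] using hd.symm)
  have hker : (ψ.comp (MulAut.conjNormal (H := E))).ker = E := by
    ext g
    rw [MonoidHom.mem_ker, MonoidHom.comp_apply, map_eq_one_iff _ hψ]
    constructor
    · exact fun h => hC g fun e he =>
        conj_eq_iff_comm.1 (congrArg (fun σ : MulAut E => (σ ⟨e, he⟩ : G)) h)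
    · exact fun h => MulEquiv.ext fun e => Subtype.ext (conj_eq_iff_comm.2 (hcm g h e e.2))
  have h7 : 7 ≤ (centralizer ({s} : Set G)).index := by
    choose! n hn using htr
    have hinj : Function.Injective fun e : {e : E // e ≠ 1} =>
        (n e.1 : G ⧸ centralizer ({s} : Set G)) := by
      intro a b hab
      have h1 := mem_centralizer_singleton_iff.1 (QuotientGroup.eq.1 hab)
      have h2 := (hn a.1 a.1.2 fun e => a.2 (Subtype.ext e)).2
      have h3 := (hn b.1 b.1.2 fun e => b.2 (Subtype.ext e)).2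
      refine Subtype.ext (Subtype.ext ?_)
      rw [← h2, ← h3]
      calc _ = n a.1 * (s * ((n a.1)⁻¹ * n b.1)) * (n b.1)⁻¹ := by group
        _ = _ := by rw [← h1]; group
    have h1 := Nat.card_le_card_of_injective _ hinj
    have := Fintype.ofFinite E
    classical
    rw [Nat.card_eq_fintype_card, Fintype.card_subtype_compl, Fintype.card_subtype_eq,
      ← Nat.card_eq_fintype_card, hE] at h1
    exact h1
  have h1 := (centralizer ({s} : Set G)).card_mul_index
  have h2 := card_eq_card_quotient_mul_card_subgroup E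
  obtain ⟨f, hf⟩ : ∃ f : G ⧸ E →* GL (Fin 3) (ZMod 2), Function.Injective f :=
    ⟨QuotientGroup.lift E _ hker.ge, (injective_iff_map_eq_one _).2 fun q hq => by
      obtain ⟨g, rfl⟩ := QuotientGroup.mk_surjective q
      exact (QuotientGroup.eq_one_iff g).2 (hker.le hq)⟩
  obtain ⟨e⟩ := gl3_equiv_psl3
  have h3 := Nat.card_le_card_of_injective f hf
  rw [hc] at h1
  rw [hE] at h2
  exact ⟨(MulEquiv.ofBijective f ((Nat.bijective_iff_injective_and_card f).2
    ⟨hf, le_antisymm h3 (by rw [card_gl3]; omega)⟩)).trans e⟩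

end Cfsg.Agent.H7.Asch
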