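import Cfsg.Agent.H7.Asch.Rel
import Cfsg.Agent.H7.Asch.ENorm
import Cfsg.Prelude.Def_Spor_Mathieu

/-!
# The normal subgroup case in terms of a model of the centralizer
-/

set_option autoImplicit false

namespace Cfsg.Agent.H7.Asch

open Subgroup H5

variable {G M : Type*} [Group G] [Group M]

/-- The conclusion of the theorem. -/
def Concl (G : Type*) [Group G] : Prop :=
  (∃ (N : Subgroup G) (_ : N.Normal), IsMulCommutative N ∧ (∀ n ∈ N, n ^ 2 = 1) ∧ Nat.card N = 8 ∧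
    Nonempty (G ⧸ N ≃* Matrix.ProjectiveSpecialLinearGroup (Fin 3) (ZMod 2))) ∨
  Nonempty (G ≃* alternatingGroup (Fin 8)) ∨ Nonempty (G ≃* alternatingGroup (Fin 9)) ∨
    Cfsg.Spor.IsoM12 G

/-- The facts about the model needed in the normal subgroup case. -/
structure EData (s u : M) (al : M → M) (L T E R Y : List M) : Prop where
  one : (1 : M) ∈ E
  mul : ∀ a ∈ E, ∀ b ∈ E, a * b ∈ E
  nodup : E.Nodup
  len : E.length = 8
  s1 : s ≠ 1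
  sE : s ∈ E
  sq : ∀ e ∈ E, e * e = 1
  norm : ∀ k ∈ L, ∀ e ∈ E, k * e * k⁻¹ ∈ E
  act : ∀ e ∈ E, e ∈ T ∧ al e ∈ E
  als : al s = u
  tr : ∀ e ∈ E, e = 1 ∨ e = s ∨ ∃ l ∈ L, l * u * l⁻¹ = e
  cent : ∀ k ∈ L, (∀ e ∈ E, k * e = e * k) → k ∈ E
  cls : ∀ k ∈ L, k * k = 1 → k ∈ E ∨ ∃ l ∈ L, l * k * l⁻¹ ∈ Y
  fus : ∀ k ∈ Y, k ∈ R ∨ (k ∈ T ∧ al k ∈ T ∧ ∃ l ∈ L, l * al k * l⁻¹ ∈ R ∨ l * al (al k) * l⁻¹ ∈ R)
  good : ∀ t ∈ R, (∀ e ∈ E, t * e * t⁻¹ = e ∨ t * e * t⁻¹ = e * s) ∧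
    (∀ k ∈ L, k * t = t * k → k ^ 8 = 1) ∧ ∃ v ∈ E, v ≠ 1 ∧ v ≠ s ∧ v * t = t * v
  ex : ∃ t ∈ R, t * t = 1 ∧ t ∉ E

theorem enormal_of_model [Finite G] [Finite M] {φ : M →* G} {s u : M} (h : Emb φ s)
    (hc : Nat.card M = 192) {al : M → M} {L T E R Y : List M} (hL : ∀ k, k ∈ L)
    (D : EData s u al L T E R Y) {ρ : G} (hρ : ∀ k ∈ T, ρ * φ k * ρ⁻¹ = φ (al k))
    (hR : ∀ t ∈ R, ¬ Cj (φ s) (φ t)) : Concl G := by
  let F := (lsub E D.one D.mul).map φ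
  have hF : ∀ {k}, φ k ∈ F ↔ k ∈ E := fun {k} => mem_map_iff_mem h.inj
  have n1 : ∀ l, ∀ e ∈ F, φ l * e * (φ l)⁻¹ ∈ F := by
    rintro l _ ⟨e, he, rfl⟩
    simpa using hF.2 (D.norm l (hL l) e he)
  have n2 : ∀ e ∈ F, ρ * e * ρ⁻¹ ∈ F := by
    rintro _ ⟨e, he, rfl⟩
    rw [hρ e (D.act e he).1]
    exact hF.2 (D.act e he).2
  have n3 : ∀ {a b : G}, (∀ e ∈ F, a * e * a⁻¹ ∈ F) → (∀ e ∈ F, b * e * b⁻¹ ∈ F) →
      ∀ e ∈ F, a * b * e * (a * b)⁻¹ ∈ F := fun ha hb e he => by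
    simpa [mul_assoc] using ha _ (hb e he)
  have good : ∀ t ∈ R, Good (φ s) F (φ t) := fun t ht => by
    obtain ⟨g1, g2, v, hv, v1, v2, v3⟩ := D.good t ht
    refine ⟨hR t ht, ?_, fun g k1 k2 => ?_, φ v, hF.2 hv, fun e => v1 (h.inj (by simpa using e)),
      fun e => v2 (h.inj e), h.comm_iff.2 v3⟩
    · rintro _ ⟨e, he, rfl⟩
      simpa only [← map_mul, ← map_inv, h.inj.eq_iff] using g1 e he
    · obtain ⟨k, hk, rfl⟩ := h.cent₂ k1 k2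
      exact ⟨3, by simpa using congrArg φ (g2 k (hL k) hk)⟩
  refine Or.inl (enormal (s := φ s) (E := F) (fun e => D.s1 (h.inj (by simpa using e))) (hF.2 D.sE)
    (h.card.trans hc) (by rw [card_map_of_injective h.inj, card_lsub D.nodup, D.len]) ?_ ?_ ?_ ?_ ?_ ?_)
  · rintro _ ⟨e, he, rfl⟩
    rw [← map_mul, D.sq e he, map_one]
  · intro g hg
    obtain ⟨k, rfl⟩ := h.cent g hg
    exact n1 k
  · rintro _ ⟨e, he, rfl⟩ he1
    rcases D.tr e he with rfl | rfl | ⟨l, -, rfl⟩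
    · exact absurd (map_one φ) he1
    · exact ⟨1, by simp, by simp⟩
    · refine ⟨φ l * ρ, n3 (n1 l) n2, ?_⟩
      rw [map_mul, map_mul, map_inv, ← D.als, ← hρ s (D.act s D.sE).1]
      group
  · intro g hg
    obtain ⟨k, rfl⟩ := h.cent g (hg _ (hF.2 D.sE))
    exact hF.2 (D.cent k (hL k) fun e he => h.comm_iff.1 (hg _ (hF.2 he)))
  · intro i h1 h2 h3
    obtain ⟨k, rfl⟩ := h.cent i h1
    obtain ⟨l, -, hl⟩ := (D.cls k (hL k) (h.inj (by simpa using h2))).resolve_left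
      fun e => h3 (hF.2 e)
    rcases D.fus _ hl with k1 | ⟨k1, k2, m, -, k3 | k3⟩
    · exact ⟨φ l, n1 l, by simpa using good _ k1⟩
    · refine ⟨φ m * (ρ * φ l), n3 (n1 m) (n3 n2 (n1 l)), ?_⟩
      have := good _ k3
      rw [map_mul, map_mul, ← hρ _ k1] at this
      simpa [mul_assoc] using this
    · refine ⟨φ m * (ρ * (ρ * φ l)), n3 (n1 m) (n3 n2 (n3 n2 (n1 l))), ?_⟩
      have := good _ k3
      rw [map_mul, map_mul, ← hρ _ k2, ← hρ _ k1] at this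
      simpa [mul_assoc] using this
  · obtain ⟨t, -, t1, t2⟩ := D.ex
    exact ⟨φ t, h.comm_iff.2 (h.comm t), by rw [← map_mul, t1, map_one], fun e => t2 (hF.1 e)⟩

end Cfsg.Agent.H7.Asch
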