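import Cfsg.Agent.H5.CITTI
import Cfsg.Agent.H3.ZStar
import Cfsg.Agent.H7.Fitting
import Cfsg.Agent.H7.SylowIn

/-!
# General lemmas for the recognition of groups with centralizer `2^(1+4).S₃`
-/

set_option autoImplicit false

namespace Cfsg.Agent.H7.Asch

open Subgroup H5

variable {G : Type*} [Group G]

/-- `a` is conjugate to `b`. -/
def Cj (a b : G) : Prop := ∃ g : G, g * a * g⁻¹ = b

theorem Cj.refl (a : G) : Cj a a := ⟨1, by simp⟩

theorem Cj.symm {a b : G} (h : Cj a b) : Cj b a := by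
  obtain ⟨g, rfl⟩ := h
  exact ⟨g⁻¹, by group⟩

theorem Cj.trans {a b c : G} (h : Cj a b) (h' : Cj b c) : Cj a c := by
  obtain ⟨g, rfl⟩ := h
  obtain ⟨k, rfl⟩ := h'
  exact ⟨k * g, by group⟩

theorem Cj.conj {a b : G} (h : Cj a b) (g : G) : Cj a (g * b * g⁻¹) := h.trans ⟨g, rfl⟩

theorem Cj.of_conj {a b g : G} (h : Cj a (g * b * g⁻¹)) : Cj a b := h.trans (Cj.symm ⟨g, rfl⟩)

theorem Cj.ne_one {a b : G} (h : Cj a b) (ha : a ≠ 1) : b ≠ 1 := by
  obtain ⟨g, rfl⟩ := h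
  simpa using ha

theorem Cj.sq {a b : G} (h : Cj a b) (ha : a * a = 1) : b * b = 1 := by
  obtain ⟨g, rfl⟩ := h
  exact conj_mul_self_eq_one ha g

theorem conj_eq_iff_comm {g a : G} : g * a * g⁻¹ = a ↔ g * a = a * g := mul_inv_eq_iff_eq_mul

theorem comm_conj {g a b : G} (h : a * b = b * a) :
    g * a * g⁻¹ * (g * b * g⁻¹) = g * b * g⁻¹ * (g * a * g⁻¹) := by
  calc _ = g * (a * b) * g⁻¹ := by group
    _ = _ := by rw [h]; group

theorem comm_of_conj {g a b : G} (h : a * (g * b * g⁻¹) = g * b * g⁻¹ * a) :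
    g⁻¹ * a * g * b = b * (g⁻¹ * a * g) := by
  calc _ = g⁻¹ * (a * (g * b * g⁻¹)) * g := by group
    _ = _ := by rw [h]; group

variable [Finite G]

/-- Two non-conjugate involutions centralize a common involution. -/
theorem exists_central {s t : G} (hs : s * s = 1) (ht : t * t = 1) (h : ¬ Cj s t) :
    ∃ k : ℕ, (s * t) ^ k ≠ 1 ∧ (s * t) ^ k * (s * t) ^ k = 1 ∧
      (s * t) ^ k * s = s * (s * t) ^ k ∧ (s * t) ^ k * t = t * (s * t) ^ k :=
  (conj_or_central hs ht).resolve_left fun ⟨_, _, hk⟩ => h (Cj.symm ⟨_, hk⟩)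

/-- A subgroup containing the centralizers of its involutions and controlling the class of `s`
is everything if it has an involution not conjugate to `s`. -/
theorem eq_top_of_se {H : Subgroup G} {s t : G} (hs : s * s = 1) (ht : t * t = 1) (ht1 : t ≠ 1)
    (htH : t ∈ H) (hst : ¬ Cj s t)
    (hC : ∀ i ∈ H, i * i = 1 → i ≠ 1 → ∀ g, g * i = i * g → g ∈ H)
    (hF : ∀ g, g * s * g⁻¹ ∈ H → g ∈ H) : H = ⊤ := by
  rw [eq_top_iff]
  rintro g -
  obtain ⟨k, h1, h2, h3, h4⟩ := exists_central (conj_mul_self_eq_one hs g) ht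
    fun h => hst (Cj.trans ⟨g, rfl⟩ h)
  exact hF g (hC _ (hC t htH ht ht1 _ h4) h2 h1 _ h3.symm)

/-- The usual form: every involution of `H` is conjugate in `H` to `s` or to `t`. -/
theorem eq_top_of_two {H : Subgroup G} {s t : G} (hs : s * s = 1) (hs1 : s ≠ 1) (ht : t * t = 1)
    (ht1 : t ≠ 1) (htH : t ∈ H) (hst : ¬ Cj s t)
    (hCs : ∀ g, g * s = s * g → g ∈ H) (hCt : ∀ g, g * t = t * g → g ∈ H)
    (hI : ∀ i ∈ H, i * i = 1 → i ≠ 1 → ∃ h ∈ H, h * i * h⁻¹ = s ∨ h * i * h⁻¹ = t) : H = ⊤ := by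
  have key : ∀ {r i h g : G}, (∀ g, g * r = r * g → g ∈ H) → h ∈ H → h * i * h⁻¹ = r →
      g * i = i * g → g ∈ H := by
    rintro _ i h g hr hh rfl hg
    have := H.mul_mem (H.mul_mem (H.inv_mem hh) (hr _ (comm_conj hg))) hh
    simpa [mul_assoc] using this
  refine eq_top_of_se hs ht ht1 htH hst (fun i hi h1 h2 g hg => ?_) fun g hg => ?_
  · obtain ⟨h, hh, e | e⟩ := hI i hi h1 h2
    · exact key hCs hh e hg
    · exact key hCt hh e hg
  · obtain ⟨h, hh, e | e⟩ := hI _ hg (conj_mul_self_eq_one hs g) (Cj.ne_one ⟨g, rfl⟩ hs1)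
    · have := hCs (h * g) (by rw [← conj_eq_iff_comm]; nth_rewrite 2 [← e]; group)
      simpa using H.mul_mem (H.inv_mem hh) this
    · exact absurd ⟨h * g, by rw [← e]; group⟩ hst

/-- A self-normalizing `2`-subgroup is a Sylow subgroup. -/
theorem isSylowIn_of_selfnorm {P C : Subgroup G} (hPC : P ≤ C) (hP : IsPGroup 2 P)
    (h : ∀ g ∈ C, TwoEl g → (∀ p ∈ P, g * p * g⁻¹ ∈ P) → g ∈ P) : IsSylowIn 2 P C := by
  obtain ⟨T, h1, h2⟩ := exists_isSylowIn_ge hP hPC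
  by_cases e : P = T
  · exact e ▸ h2
  exfalso
  have := h2.2.1.isNilpotent
  have h3 : P.subgroupOf T < ⊤ := lt_top_iff_ne_top.2 fun e' =>
    e (le_antisymm h1 (subgroupOf_eq_top.1 e'))
  obtain ⟨x, hx1, hx2⟩ := SetLike.exists_of_lt (Group.normalizerCondition_of_isNilpotent _ h3)
  refine hx2 (h x (h2.1 x.2) (twoEl_of_mem h2.2.1 x.2) fun p hp => ?_)
  exact (mem_normalizer_iff.1 hx1 ⟨p, h1 hp⟩).1 hp

theorem IsSylowIn.conj_mem {P C R : Subgroup G} (h : IsSylowIn 2 P C) (hR : IsPGroup 2 R)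
    (hRC : R ≤ C) : ∃ c ∈ C, ∀ r ∈ R, c * r * c⁻¹ ∈ P := by
  obtain ⟨g, hg, h1⟩ := h.exists_le_conj hR hRC
  exact ⟨g⁻¹, C.inv_mem hg, fun r hr => by simpa using mem_conj_smul.1 (h1 hr)⟩

theorem IsSylowIn.conj_mem_one {P C : Subgroup G} (h : IsSylowIn 2 P C) {r : G} (hr : TwoEl r)
    (hrC : r ∈ C) : ∃ c ∈ C, c * r * c⁻¹ ∈ P := by
  obtain ⟨c, hc, h1⟩ := IsSylowIn.conj_mem h hr.isPGroup_zpowers (zpowers_le.2 hrC)
  exact ⟨c, hc, h1 r (mem_zpowers r)⟩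

theorem IsSylowIn.card_le {P C R : Subgroup G} (h : IsSylowIn 2 P C) (hR : IsPGroup 2 R)
    (hRC : R ≤ C) : Nat.card R ≤ Nat.card P := by
  obtain ⟨g, -, h1⟩ := h.exists_le_conj hR hRC
  exact (card_le_of_le h1).trans (card_conj_smul g P).le

omit [Finite G] in
theorem inverts_of_fpf {N : Subgroup G} [Finite N] {t : G} (h2 : t * t = 1)
    (hn : ∀ x ∈ N, t * x * t⁻¹ ∈ N) (hf : ∀ a ∈ N, t * a = a * t → a = 1) {x : G} (hx : x ∈ N) :
    t * x * t⁻¹ = x⁻¹ := by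
  obtain ⟨a, -, rfl⟩ := H5.exists_inv_mul_conj hn hf hx
  have : t⁻¹ = t := inv_eq_of_mul_eq_one_left h2
  calc t * (a⁻¹ * (t * a * t⁻¹)) * t⁻¹ = t * a⁻¹ * t * a * (t * t)⁻¹ := by group
    _ = t * a⁻¹ * t⁻¹ * a := by rw [h2, this]; group
    _ = (a⁻¹ * (t * a * t⁻¹))⁻¹ := by group

/-- An isolated involution is central if a four-group has `2`-groups as centralizers. -/
theorem central_of_isolated {w e f : G} (hw : w * w = 1) (hw1 : w ≠ 1)
    (hi : ∀ g, g * w * g⁻¹ * w = w * (g * w * g⁻¹) → g * w * g⁻¹ = w)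
    (he : e * e = 1) (hf : f * f = 1)
    (h1 : ∀ k, k * e = e * k → TwoEl k) (h2 : ∀ k, k * f = f * k → TwoEl k)
    (h3 : ∀ k, k * (e * f) = e * f * k → TwoEl k) (g : G) : g * w * g⁻¹ = w := by
  have hz := H3.zStar_of_isIsolated (orderOf_eq_two_iff'.2 ⟨hw1, hw⟩) (fun g hg => hi g hg.eq.symm) g
  have hn : (pPrimeCore 2 G).Normal := by
    have := pPrimeCore_characteristic 2 G
    infer_instance
  have ho : ∀ k ∈ pPrimeCore 2 G, TwoEl k → k = 1 := fun k hk h =>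
    h.eq_one_of_pow_odd (Nat.coprime_two_right.1 (pPrimeCore_coprime 2 G))
      (congrArg Subtype.val (pow_card_eq_one' (x := (⟨k, hk⟩ : pPrimeCore 2 G))))
  have k1 := inverts_of_fpf he (fun x hx => hn.conj_mem x hx e)
    (fun a ha hc => ho a ha (h1 a hc.symm)) (inv_mem hz)
  have k2 := inverts_of_fpf hf (fun x hx => hn.conj_mem x hx f)
    (fun a ha hc => ho a ha (h2 a hc.symm)) hz
  refine mul_inv_eq_one.1 (ho _ hz (h3 _ ?_))
  generalize g * w * g⁻¹ * w⁻¹ = x at k1 k2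
  calc x * (e * f) = e * (f * x * f⁻¹) * e⁻¹ * (e * f) := by rw [k2, k1, inv_inv]
    _ = _ := by group

/-- The same inside a subgroup `H` and modulo a central element `z` with `z² = 1`. -/
theorem central_of_isolated_mod {H : Subgroup G} {z w e f : G} (hzH : z ∈ H) (hz : z * z = 1)
    (hzc : ∀ h ∈ H, h * z = z * h) (hwH : w ∈ H) (hw : w * w = 1) (hw1 : w ≠ 1) (hwz : w ≠ z)
    (hi : ∀ g ∈ H, (g * w * g⁻¹ * w = w * (g * w * g⁻¹) ∨
      g * w * g⁻¹ * w = w * (g * w * g⁻¹) * z) → g * w * g⁻¹ = w ∨ g * w * g⁻¹ = w * z)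
    (heH : e ∈ H) (hfH : f ∈ H) (he : e * e = 1) (hf : f * f = 1)
    (h1 : ∀ k ∈ H, k * e = e * k → TwoEl k) (h2 : ∀ k ∈ H, k * f = f * k → TwoEl k)
    (h3 : ∀ k ∈ H, k * (e * f) = e * f * k → TwoEl k) {g : G} (hg : g ∈ H) :
    g * w * g⁻¹ = w ∨ g * w * g⁻¹ = w * z := by
  let Z : Subgroup H :=
    { carrier := {k | (k : G) = 1 ∨ (k : G) = z}
      one_mem' := Or.inl rfl
      mul_mem' := by
        intro a b ha hb
        show (a : G) * b = 1 ∨ (a : G) * b = z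
        rcases ha with ha | ha <;> rcases hb with hb | hb <;> simp [ha, hb, hz]
      inv_mem' := by
        intro a ha
        show (a : G)⁻¹ = 1 ∨ (a : G)⁻¹ = z
        rcases ha with ha | ha <;> simp [ha, inv_eq_of_mul_eq_one_left hz] }
  have hZ : Z.Normal := ⟨by
    rintro a (ha | ha) k
    · left
      show (k : G) * a * (k : G)⁻¹ = 1
      simp [ha]
    · right
      show (k : G) * a * (k : G)⁻¹ = z
      rw [ha, hzc _ k.2, mul_inv_cancel_right]⟩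
  have hq : ∀ a b : H, (a : H ⧸ Z) = b ↔ (b : G) = a ∨ (b : G) = a * z := fun a b => by
    rw [QuotientGroup.eq]
    show (a : G)⁻¹ * b = 1 ∨ (a : G)⁻¹ * b = z ↔ _
    rw [inv_mul_eq_iff_eq_mul, inv_mul_eq_iff_eq_mul, mul_one]
  have hc : ∀ e : H, (∀ k ∈ H, k * e = e * k → TwoEl k) →
      ∀ k : H ⧸ Z, k * e = e * k → TwoEl k := fun e h k hk => by
    obtain ⟨k, rfl⟩ := QuotientGroup.mk_surjective k
    have h4 : (k : G) * k * e = e * (k * k) := by
      rcases (hq (e * k) (k * e)).1 hk.symm with h5 | h5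
      · exact ((Commute.mul_left h5 h5 : Commute ((k : G) * k) e)).eq
      · have h6 : (k : G) * e = e * k * z := h5
        calc (k : G) * k * e = k * (k * e) := mul_assoc _ _ _
          _ = k * (e * k * z) := by rw [h6]
          _ = k * e * k * z := by group
          _ = e * k * z * k * z := by rw [h6]
          _ = e * k * (z * k) * z := by group
          _ = e * k * k * (z * z) := by rw [← hzc _ k.2]; group
          _ = _ := by rw [hz]; group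
    obtain ⟨j, hj⟩ := (h _ (H.mul_mem k.2 k.2) h4).of_sq
    exact ⟨j, by rw [← QuotientGroup.mk_pow, show k ^ 2 ^ j = 1 from Subtype.ext hj]; rfl⟩
  have key := central_of_isolated (G := H ⧸ Z) (w := ((⟨w, hwH⟩ : H) : H ⧸ Z))
    (e := ((⟨e, heH⟩ : H) : H ⧸ Z)) (f := ((⟨f, hfH⟩ : H) : H ⧸ Z))
    (by rw [← QuotientGroup.mk_mul, show (⟨w, hwH⟩ * ⟨w, hwH⟩ : H) = 1 from Subtype.ext hw]; rfl)
    (fun h => by
      rcases (hq 1 ⟨w, hwH⟩).1 h.symm with h | h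
      · exact hw1 h
      · exact hwz (by simpa using h))
    (fun k hk => by
      obtain ⟨k, rfl⟩ := QuotientGroup.mk_surjective k
      exact ((hq ⟨w, hwH⟩ (k * (⟨w, hwH⟩ : H) * k⁻¹)).2 (hi k k.2
        ((hq ((⟨w, hwH⟩ : H) * (k * (⟨w, hwH⟩ : H) * k⁻¹))
          (k * (⟨w, hwH⟩ : H) * k⁻¹ * (⟨w, hwH⟩ : H))).1 hk.symm))).symm)
    (by rw [← QuotientGroup.mk_mul, show (⟨e, heH⟩ * ⟨e, heH⟩ : H) = 1 from Subtype.ext he]; rfl)
    (by rw [← QuotientGroup.mk_mul, show (⟨f, hfH⟩ * ⟨f, hfH⟩ : H) = 1 from Subtype.ext hf]; rfl)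
    (hc _ h1) (hc _ h2) (hc ((⟨e, heH⟩ : H) * (⟨f, hfH⟩ : H)) h3) ((⟨g, hg⟩ : H) : H ⧸ Z)
  exact (hq ⟨w, hwH⟩ ((⟨g, hg⟩ : H) * (⟨w, hwH⟩ : H) * (⟨g, hg⟩ : H)⁻¹)).1 key.symm

/-! ### Subgroups given by lists -/

/-- The subgroup formed by the elements of a closed list. -/
def lsub (l : List G) (h1 : (1 : G) ∈ l) (hm : ∀ a ∈ l, ∀ b ∈ l, a * b ∈ l) : Subgroup G where
  carrier := {a | a ∈ l}
  one_mem' := h1
  mul_mem' ha hb := hm _ ha _ hb
  inv_mem' {a} ha := by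
    have h : ∀ k : ℕ, a ^ k ∈ l := fun k => by
      induction k with
      | zero => simpa using h1
      | succ k ih => rw [pow_succ]; exact hm _ ih _ ha
    have e : a⁻¹ = a ^ (orderOf a - 1) := by
      rw [inv_eq_iff_mul_eq_one, ← pow_succ', Nat.sub_add_cancel (orderOf_pos a), pow_orderOf_eq_one]
    exact e ▸ h _

theorem mem_lsub {l : List G} {h1 : (1 : G) ∈ l} {hm : ∀ a ∈ l, ∀ b ∈ l, a * b ∈ l} {a : G} :
    a ∈ lsub l h1 hm ↔ a ∈ l := Iff.rfl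

theorem card_lsub {l : List G} {h1 : (1 : G) ∈ l} {hm : ∀ a ∈ l, ∀ b ∈ l, a * b ∈ l}
    (hn : l.Nodup) : Nat.card (lsub l h1 hm) = l.length := by
  classical
  rw [← List.toFinset_card_of_nodup hn, ← Fintype.card_coe, ← Nat.card_eq_fintype_card]
  exact Nat.card_congr (Equiv.subtypeEquivRight fun a => by rw [mem_lsub, List.mem_toFinset])

theorem le_of_card_le_one_mul {H K : Subgroup G} (h : H ≤ K) (hc : Nat.card K ≤ 1 * Nat.card H) :
    K ≤ H := (eq_of_le_of_card_le h (by simpa using hc)).ge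

end Cfsg.Agent.H7.Asch
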