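import Cfsg.Agent.H4.TC

/-!
# Coset enumerations for the Mathieu group of degree twelve
-/

set_option autoImplicit false
set_option maxRecDepth 100000
set_option linter.unusedSimpArgs false

namespace Cfsg.Agent.H7.Asch

open Cfsg.Agent.H4

/-- Certificate data. -/
def t12_par : Trie :=
    (.node (.node (.node (.node (.node (.node (.node (.node (.node (.node (.leaf (nat_lit 0))
    (.leaf (nat_lit 58883))) (.leaf (nat_lit 17418))) (.node (.leaf (nat_lit 7946)) (.leaf (nat_lit
    34056)))) (.node (.node (.node (.leaf (nat_lit 4873)) (.leaf (nat_lit 105224))) (.leaf (nat_lit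
    27393))) (.node (.leaf (nat_lit 11271)) (.leaf (nat_lit 46337))))) (.node (.node (.node (.node
    (.leaf (nat_lit 2570)) (.leaf (nat_lit 72452))) (.leaf (nat_lit 20232))) (.node (.leaf (nat_lit
    9479)) (.leaf (nat_lit 38409)))) (.node (.node (.leaf (nat_lit 6407)) (.leaf (nat_lit 29703)))
    (.node (.leaf (nat_lit 13323)) (.leaf (nat_lit 51716)))))) (.node (.node (.node (.node (.node
    (.leaf (nat_lit 522)) (.leaf (nat_lit 64770))) (.leaf (nat_lit 19208))) (.node (.leaf (nat_lit
    8714)) (.leaf (nat_lit 35079)))) (.node (.node (.leaf (nat_lit 5889)) (.leaf (nat_lit 28938)))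
    (.node (.leaf (nat_lit 12295)) (.leaf (nat_lit 49929))))) (.node (.node (.node (.node (.leaf
    (nat_lit 3851)) (.leaf (nat_lit 78603))) (.leaf (nat_lit 25865))) (.node (.leaf (nat_lit
    10497)) (.leaf (nat_lit 41729)))) (.node (.node (.leaf (nat_lit 7172)) (.leaf (nat_lit 32266)))
    (.node (.leaf (nat_lit 15623)) (.leaf (nat_lit 56322))))))) (.node (.node (.node (.node (.node
    (.node (.leaf (nat_lit 260)) (.leaf (nat_lit 61451))) (.leaf (nat_lit 18437))) (.node (.leaf
    (nat_lit 8455)) (.leaf (nat_lit 34561)))) (.node (.node (.node (.leaf (nat_lit 5384)) (.leaf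
    (nat_lit 112394))) (.leaf (nat_lit 27914))) (.node (.leaf (nat_lit 11781)) (.leaf (nat_lit
    47369))))) (.node (.node (.node (.node (.leaf (nat_lit 3080)) (.leaf (nat_lit 74251))) (.leaf
    (nat_lit 22792))) (.node (.leaf (nat_lit 9995)) (.leaf (nat_lit 39943)))) (.node (.node (.leaf
    (nat_lit 6915)) (.leaf (nat_lit 31243))) (.node (.leaf (nat_lit 14854)) (.leaf (nat_lit
    54787)))))) (.node (.node (.node (.node (.node (.leaf (nat_lit 1031)) (.leaf (nat_lit 70404)))
    (.leaf (nat_lit 19972))) (.node (.leaf (nat_lit 9221)) (.leaf (nat_lit 36618)))) (.node (.node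
    (.leaf (nat_lit 6154)) (.leaf (nat_lit 29449))) (.node (.leaf (nat_lit 12805)) (.leaf (nat_lit
    50436))))) (.node (.node (.node (.node (.leaf (nat_lit 4612)) (.leaf (nat_lit 90373))) (.leaf
    (nat_lit 26888))) (.node (.leaf (nat_lit 10757)) (.leaf (nat_lit 44810)))) (.node (.node (.leaf
    (nat_lit 7684)) (.leaf (nat_lit 32771))) (.node (.leaf (nat_lit 16647)) (.leaf (nat_lit
    57601)))))))) (.node (.node (.node (.node (.node (.node (.node (.leaf (nat_lit 11)) (.leaf
    (nat_lit 59907))) (.leaf (nat_lit 17927))) (.node (.leaf (nat_lit 8195)) (.leaf (nat_lit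
    34312)))) (.node (.node (.node (.leaf (nat_lit 5128)) (.leaf (nat_lit 110858))) (.leaf (nat_lit
    27399))) (.node (.leaf (nat_lit 11526)) (.leaf (nat_lit 47112))))) (.node (.node (.node (.node
    (.leaf (nat_lit 2819)) (.leaf (nat_lit 72966))) (.leaf (nat_lit 22283))) (.node (.leaf (nat_lit
    9739)) (.leaf (nat_lit 39434)))) (.node (.node (.leaf (nat_lit 6661)) (.leaf (nat_lit 30987)))
    (.node (.leaf (nat_lit 13835)) (.leaf (nat_lit 54280)))))) (.node (.node (.node (.node (.node
    (.leaf (nat_lit 771)) (.leaf (nat_lit 66059))) (.leaf (nat_lit 19723))) (.node (.leaf (nat_lit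
    8968)) (.leaf (nat_lit 36103)))) (.node (.node (.leaf (nat_lit 5893)) (.leaf (nat_lit 29187)))
    (.node (.leaf (nat_lit 12549)) (.leaf (nat_lit 50185))))) (.node (.node (.node (.node (.leaf
    (nat_lit 4100)) (.leaf (nat_lit 81163))) (.leaf (nat_lit 26114))) (.node (.leaf (nat_lit
    10502)) (.leaf (nat_lit 41985)))) (.node (.node (.leaf (nat_lit 7432)) (.leaf (nat_lit 32522)))
    (.node (.leaf (nat_lit 16133)) (.leaf (nat_lit 56840))))))) (.node (.node (.node (.node (.node
    (.node (.leaf (nat_lit 267)) (.leaf (nat_lit 64514))) (.leaf (nat_lit 18698))) (.node (.leaf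
    (nat_lit 8709)) (.leaf (nat_lit 34567)))) (.node (.node (.leaf (nat_lit 5640)) (.leaf (nat_lit
    28170))) (.node (.leaf (nat_lit 12033)) (.leaf (nat_lit 48651))))) (.node (.node (.node (.node
    (.leaf (nat_lit 3595)) (.leaf (nat_lit 76292))) (.leaf (nat_lit 25609))) (.node (.leaf (nat_lit
    10244)) (.leaf (nat_lit 40713)))) (.node (.node (.leaf (nat_lit 6923)) (.leaf (nat_lit 31492)))
    (.node (.leaf (nat_lit 15110)) (.leaf (nat_lit 55044)))))) (.node (.node (.node (.node (.node
    (.leaf (nat_lit 2314)) (.leaf (nat_lit 70915))) (.leaf (nat_lit 20226))) (.node (.leaf (nat_lit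
    9226)) (.leaf (nat_lit 37124)))) (.node (.node (.leaf (nat_lit 6403)) (.leaf (nat_lit 29698)))
    (.node (.leaf (nat_lit 13066)) (.leaf (nat_lit 51211))))) (.node (.node (.node (.node (.leaf
    (nat_lit 4618)) (.leaf (nat_lit 93195))) (.leaf (nat_lit 27144))) (.node (.leaf (nat_lit
    11011)) (.leaf (nat_lit 46088)))) (.node (.node (.leaf (nat_lit 7691)) (.leaf (nat_lit 33800)))
    (.node (.leaf (nat_lit 17162)) (.leaf (nat_lit 58627))))))))) (.node (.node (.node (.node
    (.node (.node (.node (.node (.leaf (nat_lit 9)) (.leaf (nat_lit 58888))) (.leaf (nat_lit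
    17671))) (.node (.leaf (nat_lit 8193)) (.leaf (nat_lit 34058)))) (.node (.node (.node (.leaf
    (nat_lit 4875)) (.leaf (nat_lit 110602))) (.leaf (nat_lit 27395))) (.node (.leaf (nat_lit
    11523)) (.leaf (nat_lit 46339))))) (.node (.node (.node (.node (.leaf (nat_lit 2817)) (.leaf
    (nat_lit 72709))) (.leaf (nat_lit 22278))) (.node (.leaf (nat_lit 9483)) (.leaf (nat_lit
    38919)))) (.node (.node (.leaf (nat_lit 6658)) (.leaf (nat_lit 30985))) (.node (.leaf (nat_lit
    13579)) (.leaf (nat_lit 52746)))))) (.node (.node (.node (.node (.node (.leaf (nat_lit 769))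
    (.leaf (nat_lit 64772))) (.leaf (nat_lit 19718))) (.node (.leaf (nat_lit 8965)) (.leaf (nat_lit
    35848)))) (.node (.node (.leaf (nat_lit 5891)) (.leaf (nat_lit 29185))) (.node (.leaf (nat_lit
    12547)) (.leaf (nat_lit 49931))))) (.node (.node (.node (.node (.leaf (nat_lit 4098)) (.leaf
    (nat_lit 78858))) (.leaf (nat_lit 25867))) (.node (.leaf (nat_lit 10499)) (.leaf (nat_lit
    41731)))) (.node (.node (.leaf (nat_lit 7177)) (.leaf (nat_lit 32520))) (.node (.leaf (nat_lit
    15882)) (.leaf (nat_lit 56578))))))) (.node (.node (.node (.node (.node (.node (.leaf (nat_lit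
    262)) (.leaf (nat_lit 63498))) (.leaf (nat_lit 18442))) (.node (.leaf (nat_lit 8707)) (.leaf
    (nat_lit 34563)))) (.node (.node (.node (.leaf (nat_lit 5386)) (.leaf (nat_lit 124423))) (.leaf
    (nat_lit 28168))) (.node (.leaf (nat_lit 11786)) (.leaf (nat_lit 47371))))) (.node (.node
    (.node (.node (.leaf (nat_lit 3593)) (.leaf (nat_lit 75781))) (.leaf (nat_lit 24587))) (.node
    (.leaf (nat_lit 10242)) (.leaf (nat_lit 40200)))) (.node (.node (.leaf (nat_lit 6918)) (.leaf
    (nat_lit 31490))) (.node (.leaf (nat_lit 14859)) (.leaf (nat_lit 54793)))))) (.node (.node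
    (.node (.node (.node (.leaf (nat_lit 2312)) (.leaf (nat_lit 70657))) (.leaf (nat_lit 19977)))
    (.node (.leaf (nat_lit 9223)) (.leaf (nat_lit 36873)))) (.node (.node (.leaf (nat_lit 6401))
    (.leaf (nat_lit 29451))) (.node (.leaf (nat_lit 12811)) (.leaf (nat_lit 51209))))) (.node
    (.node (.node (.node (.leaf (nat_lit 4616)) (.leaf (nat_lit 92938))) (.leaf (nat_lit 26890)))
    (.node (.leaf (nat_lit 10762)) (.leaf (nat_lit 45832)))) (.node (.node (.leaf (nat_lit 7686))
    (.leaf (nat_lit 32775))) (.node (.leaf (nat_lit 16903)) (.leaf (nat_lit 58625)))))))) (.node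
    (.node (.node (.node (.node (.node (.node (.leaf (nat_lit 258)) (.leaf (nat_lit 60930))) (.leaf
    (nat_lit 18186))) (.node (.leaf (nat_lit 8199)) (.leaf (nat_lit 34314)))) (.node (.node (.node
    (.leaf (nat_lit 5131)) (.leaf (nat_lit 112138))) (.leaf (nat_lit 27912))) (.node (.leaf
    (nat_lit 11531)) (.leaf (nat_lit 47114))))) (.node (.node (.node (.node (.leaf (nat_lit 2823))
    (.leaf (nat_lit 73734))) (.leaf (nat_lit 22537))) (.node (.leaf (nat_lit 9993)) (.leaf (nat_lit
    39937)))) (.node (.node (.leaf (nat_lit 6666)) (.leaf (nat_lit 31241))) (.node (.leaf (nat_lit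
    14603)) (.leaf (nat_lit 54538)))))) (.node (.node (.node (.node (.node (.leaf (nat_lit 775))
    (.leaf (nat_lit 69899))) (.leaf (nat_lit 19970))) (.node (.leaf (nat_lit 8970)) (.leaf (nat_lit
    36362)))) (.node (.node (.leaf (nat_lit 6152)) (.leaf (nat_lit 29189))) (.node (.leaf (nat_lit
    12554)) (.leaf (nat_lit 50434))))) (.node (.node (.node (.node (.leaf (nat_lit 4359)) (.leaf
    (nat_lit 82182))) (.leaf (nat_lit 26116))) (.node (.leaf (nat_lit 10507)) (.leaf (nat_lit
    41987)))) (.node (.node (.leaf (nat_lit 7682)) (.leaf (nat_lit 32769))) (.node (.leaf (nat_lit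
    16138)) (.leaf (nat_lit 57097))))))) (.node (.node (.node (.node (.node (.node (.leaf (nat_lit
    517)) (.leaf (nat_lit 64516))) (.leaf (nat_lit 18953))) (.node (.leaf (nat_lit 8711)) (.leaf
    (nat_lit 34825)))) (.node (.node (.leaf (nat_lit 5642)) (.leaf (nat_lit 28936))) (.node (.leaf
    (nat_lit 12039)) (.leaf (nat_lit 49162))))) (.node (.node (.node (.node (.leaf (nat_lit 3849))
    (.leaf (nat_lit 78344))) (.leaf (nat_lit 25611))) (.node (.leaf (nat_lit 10246)) (.leaf
    (nat_lit 41479)))) (.node (.node (.leaf (nat_lit 7170)) (.leaf (nat_lit 32264))) (.node (.leaf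
    (nat_lit 15115)) (.leaf (nat_lit 55816)))))) (.node (.node (.node (.node (.node (.leaf (nat_lit
    2568)) (.leaf (nat_lit 71432))) (.leaf (nat_lit 20228))) (.node (.leaf (nat_lit 9477)) (.leaf
    (nat_lit 37128)))) (.node (.node (.leaf (nat_lit 6405)) (.leaf (nat_lit 29700))) (.node (.leaf
    (nat_lit 13318)) (.leaf (nat_lit 51465))))) (.node (.node (.node (.node (.leaf (nat_lit 4871))
    (.leaf (nat_lit 93963))) (.leaf (nat_lit 27146))) (.node (.leaf (nat_lit 11015)) (.leaf
    (nat_lit 46090)))) (.node (.node (.leaf (nat_lit 7941)) (.leaf (nat_lit 33802))) (.node (.leaf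
    (nat_lit 17413)) (.leaf (nat_lit 58881)))))))))) (.node (.node (.node (.node (.node (.node
    (.node (.node (.node (.leaf (nat_lit 8)) (.leaf (nat_lit 58884))) (.leaf (nat_lit 17419)))
    (.node (.leaf (nat_lit 7947)) (.leaf (nat_lit 34057)))) (.node (.node (.node (.leaf (nat_lit
    4874)) (.leaf (nat_lit 108040))) (.leaf (nat_lit 27394))) (.node (.leaf (nat_lit 11272)) (.leaf
    (nat_lit 46338))))) (.node (.node (.node (.node (.leaf (nat_lit 2571)) (.leaf (nat_lit 72456)))
    (.leaf (nat_lit 22277))) (.node (.leaf (nat_lit 9482)) (.leaf (nat_lit 38664)))) (.node (.node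
    (.leaf (nat_lit 6657)) (.leaf (nat_lit 30984))) (.node (.leaf (nat_lit 13578)) (.leaf (nat_lit
    52745)))))) (.node (.node (.node (.node (.node (.leaf (nat_lit 523)) (.leaf (nat_lit 64771)))
    (.leaf (nat_lit 19717))) (.node (.leaf (nat_lit 8715)) (.leaf (nat_lit 35847)))) (.node (.node
    (.leaf (nat_lit 5890)) (.leaf (nat_lit 28939))) (.node (.leaf (nat_lit 12296)) (.leaf (nat_lit
    49930))))) (.node (.node (.node (.node (.leaf (nat_lit 4097)) (.leaf (nat_lit 78854))) (.leaf
    (nat_lit 25866))) (.node (.leaf (nat_lit 10498)) (.leaf (nat_lit 41730)))) (.node (.node (.leaf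
    (nat_lit 7175)) (.leaf (nat_lit 32267))) (.node (.leaf (nat_lit 15624)) (.leaf (nat_lit
    56577))))))) (.node (.node (.node (.node (.node (.node (.leaf (nat_lit 261)) (.leaf (nat_lit
    62729))) (.leaf (nat_lit 18438))) (.node (.leaf (nat_lit 8456)) (.leaf (nat_lit 34562))))
    (.node (.node (.node (.leaf (nat_lit 5385)) (.leaf (nat_lit 112395))) (.leaf (nat_lit 27915)))
    (.node (.leaf (nat_lit 11782)) (.leaf (nat_lit 47370))))) (.node (.node (.node (.node (.leaf
    (nat_lit 3592)) (.leaf (nat_lit 74497))) (.leaf (nat_lit 24586))) (.node (.leaf (nat_lit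
    10241)) (.leaf (nat_lit 39945)))) (.node (.node (.leaf (nat_lit 6917)) (.leaf (nat_lit 31489)))
    (.node (.leaf (nat_lit 14858)) (.leaf (nat_lit 54788)))))) (.node (.node (.node (.node (.node
    (.leaf (nat_lit 1032)) (.leaf (nat_lit 70407))) (.leaf (nat_lit 19975))) (.node (.leaf (nat_lit
    9222)) (.leaf (nat_lit 36619)))) (.node (.node (.leaf (nat_lit 6155)) (.leaf (nat_lit 29450)))
    (.node (.leaf (nat_lit 12810)) (.leaf (nat_lit 51208))))) (.node (.node (.node (.node (.leaf
    (nat_lit 4615)) (.leaf (nat_lit 92933))) (.leaf (nat_lit 26889))) (.node (.leaf (nat_lit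
    10758)) (.leaf (nat_lit 44811)))) (.node (.node (.leaf (nat_lit 7685)) (.leaf (nat_lit 32772)))
    (.node (.leaf (nat_lit 16649)) (.leaf (nat_lit 57859)))))))) (.node (.node (.node (.node (.node
    (.node (.node (.leaf (nat_lit 257)) (.leaf (nat_lit 60675))) (.leaf (nat_lit 17928))) (.node
    (.leaf (nat_lit 8196)) (.leaf (nat_lit 34313)))) (.node (.node (.node (.leaf (nat_lit 5130))
    (.leaf (nat_lit 110859))) (.leaf (nat_lit 27655))) (.node (.leaf (nat_lit 11530)) (.leaf
    (nat_lit 47113))))) (.node (.node (.node (.node (.leaf (nat_lit 2820)) (.leaf (nat_lit 73729)))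
    (.leaf (nat_lit 22535))) (.node (.leaf (nat_lit 9992)) (.leaf (nat_lit 39435)))) (.node (.node
    (.leaf (nat_lit 6662)) (.leaf (nat_lit 31240))) (.node (.leaf (nat_lit 14602)) (.leaf (nat_lit
    54281)))))) (.node (.node (.node (.node (.node (.leaf (nat_lit 772)) (.leaf (nat_lit 69386)))
    (.leaf (nat_lit 19969))) (.node (.leaf (nat_lit 8969)) (.leaf (nat_lit 36106)))) (.node (.node
    (.leaf (nat_lit 5894)) (.leaf (nat_lit 29188))) (.node (.leaf (nat_lit 12553)) (.leaf (nat_lit
    50433))))) (.node (.node (.node (.node (.leaf (nat_lit 4103)) (.leaf (nat_lit 81412))) (.leaf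
    (nat_lit 26115))) (.node (.leaf (nat_lit 10506)) (.leaf (nat_lit 41986)))) (.node (.node (.leaf
    (nat_lit 7681)) (.leaf (nat_lit 32523))) (.node (.leaf (nat_lit 16134)) (.leaf (nat_lit
    56841))))))) (.node (.node (.node (.node (.node (.node (.leaf (nat_lit 515)) (.leaf (nat_lit
    64515))) (.leaf (nat_lit 18699))) (.node (.leaf (nat_lit 8710)) (.leaf (nat_lit 34824))))
    (.node (.node (.leaf (nat_lit 5641)) (.leaf (nat_lit 28171))) (.node (.leaf (nat_lit 12034))
    (.leaf (nat_lit 49161))))) (.node (.node (.node (.node (.leaf (nat_lit 3848)) (.leaf (nat_lit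
    77574))) (.leaf (nat_lit 25610))) (.node (.leaf (nat_lit 10245)) (.leaf (nat_lit 41225))))
    (.node (.node (.leaf (nat_lit 7169)) (.leaf (nat_lit 31495))) (.node (.leaf (nat_lit 15114))
    (.leaf (nat_lit 55048)))))) (.node (.node (.node (.node (.node (.leaf (nat_lit 2315)) (.leaf
    (nat_lit 70917))) (.leaf (nat_lit 20227))) (.node (.leaf (nat_lit 9227)) (.leaf (nat_lit
    37127)))) (.node (.node (.leaf (nat_lit 6404)) (.leaf (nat_lit 29699))) (.node (.leaf (nat_lit
    13067)) (.leaf (nat_lit 51464))))) (.node (.node (.node (.node (.leaf (nat_lit 4619)) (.leaf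
    (nat_lit 93958))) (.leaf (nat_lit 27145))) (.node (.leaf (nat_lit 11012)) (.leaf (nat_lit
    46089)))) (.node (.node (.leaf (nat_lit 7939)) (.leaf (nat_lit 33801))) (.node (.leaf (nat_lit
    17163)) (.leaf (nat_lit 58628))))))))) (.node (.node (.node (.node (.node (.node (.node (.node
    (.leaf (nat_lit 10)) (.leaf (nat_lit 59649))) (.leaf (nat_lit 17673))) (.node (.leaf (nat_lit
    8194)) (.leaf (nat_lit 34059)))) (.node (.node (.node (.leaf (nat_lit 5127)) (.leaf (nat_lit
    110603))) (.leaf (nat_lit 27396))) (.node (.leaf (nat_lit 11525)) (.leaf (nat_lit 46340)))))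
    (.node (.node (.node (.node (.leaf (nat_lit 2818)) (.leaf (nat_lit 72714))) (.leaf (nat_lit
    22282))) (.node (.leaf (nat_lit 9738)) (.leaf (nat_lit 39175)))) (.node (.node (.leaf (nat_lit
    6659)) (.leaf (nat_lit 30986))) (.node (.leaf (nat_lit 13834)) (.leaf (nat_lit 53259))))))
    (.node (.node (.node (.node (.node (.leaf (nat_lit 770)) (.leaf (nat_lit 64776))) (.leaf
    (nat_lit 19722))) (.node (.leaf (nat_lit 8966)) (.leaf (nat_lit 35849)))) (.node (.node (.leaf
    (nat_lit 5892)) (.leaf (nat_lit 29186))) (.node (.leaf (nat_lit 12548)) (.leaf (nat_lit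
    50184))))) (.node (.node (.node (.node (.leaf (nat_lit 4099)) (.leaf (nat_lit 80133))) (.leaf
    (nat_lit 26113))) (.node (.leaf (nat_lit 10501)) (.leaf (nat_lit 41732)))) (.node (.node (.leaf
    (nat_lit 7431)) (.leaf (nat_lit 32521))) (.node (.leaf (nat_lit 15883)) (.leaf (nat_lit
    56584))))))) (.node (.node (.node (.node (.node (.node (.leaf (nat_lit 266)) (.leaf (nat_lit
    64513))) (.leaf (nat_lit 18443))) (.node (.leaf (nat_lit 8708)) (.leaf (nat_lit 34564))))
    (.node (.node (.node (.leaf (nat_lit 5387)) (.leaf (nat_lit 124679))) (.leaf (nat_lit 28169)))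
    (.node (.leaf (nat_lit 11787)) (.leaf (nat_lit 47617))))) (.node (.node (.node (.node (.leaf
    (nat_lit 3594)) (.leaf (nat_lit 76034))) (.leaf (nat_lit 25608))) (.node (.leaf (nat_lit
    10243)) (.leaf (nat_lit 40712)))) (.node (.node (.leaf (nat_lit 6922)) (.leaf (nat_lit 31491)))
    (.node (.leaf (nat_lit 15109)) (.leaf (nat_lit 55043)))))) (.node (.node (.node (.node (.node
    (.leaf (nat_lit 2313)) (.leaf (nat_lit 70663))) (.leaf (nat_lit 20225))) (.node (.leaf (nat_lit
    9224)) (.leaf (nat_lit 37123)))) (.node (.node (.leaf (nat_lit 6402)) (.leaf (nat_lit 29697)))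
    (.node (.leaf (nat_lit 13062)) (.leaf (nat_lit 51210))))) (.node (.node (.node (.node (.leaf
    (nat_lit 4617)) (.leaf (nat_lit 93189))) (.leaf (nat_lit 26891))) (.node (.leaf (nat_lit
    10763)) (.leaf (nat_lit 45833)))) (.node (.node (.leaf (nat_lit 7690)) (.leaf (nat_lit 33031)))
    (.node (.leaf (nat_lit 16904)) (.leaf (nat_lit 58626)))))))) (.node (.node (.node (.node (.node
    (.node (.node (.leaf (nat_lit 259)) (.leaf (nat_lit 61187))) (.leaf (nat_lit 18187))) (.node
    (.leaf (nat_lit 8201)) (.leaf (nat_lit 34315)))) (.node (.node (.node (.leaf (nat_lit 5383))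
    (.leaf (nat_lit 112139))) (.leaf (nat_lit 27913))) (.node (.leaf (nat_lit 11779)) (.leaf
    (nat_lit 47368))))) (.node (.node (.node (.node (.leaf (nat_lit 3079)) (.leaf (nat_lit 73994)))
    (.leaf (nat_lit 22791))) (.node (.leaf (nat_lit 9994)) (.leaf (nat_lit 39938)))) (.node (.node
    (.leaf (nat_lit 6667)) (.leaf (nat_lit 31242))) (.node (.leaf (nat_lit 14853)) (.leaf (nat_lit
    54539)))))) (.node (.node (.node (.node (.node (.leaf (nat_lit 777)) (.leaf (nat_lit 70154)))
    (.leaf (nat_lit 19971))) (.node (.leaf (nat_lit 8971)) (.leaf (nat_lit 36363)))) (.node (.node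
    (.leaf (nat_lit 6153)) (.leaf (nat_lit 29448))) (.node (.leaf (nat_lit 12555)) (.leaf (nat_lit
    50435))))) (.node (.node (.node (.node (.leaf (nat_lit 4611)) (.leaf (nat_lit 86020))) (.leaf
    (nat_lit 26375))) (.node (.leaf (nat_lit 10755)) (.leaf (nat_lit 41988)))) (.node (.node (.leaf
    (nat_lit 7683)) (.leaf (nat_lit 32770))) (.node (.leaf (nat_lit 16139)) (.leaf (nat_lit
    57352))))))) (.node (.node (.node (.node (.node (.node (.leaf (nat_lit 518)) (.leaf (nat_lit
    64769))) (.leaf (nat_lit 19207))) (.node (.leaf (nat_lit 8713)) (.leaf (nat_lit 34826))))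
    (.node (.node (.leaf (nat_lit 5643)) (.leaf (nat_lit 28937))) (.node (.leaf (nat_lit 12041))
    (.leaf (nat_lit 49928))))) (.node (.node (.node (.node (.leaf (nat_lit 3850)) (.leaf (nat_lit
    78598))) (.leaf (nat_lit 25864))) (.node (.leaf (nat_lit 10247)) (.leaf (nat_lit 41480))))
    (.node (.node (.leaf (nat_lit 7171)) (.leaf (nat_lit 32265))) (.node (.leaf (nat_lit 15369))
    (.leaf (nat_lit 56321)))))) (.node (.node (.node (.node (.node (.leaf (nat_lit 2569)) (.leaf
    (nat_lit 71686))) (.leaf (nat_lit 20231))) (.node (.leaf (nat_lit 9478)) (.leaf (nat_lit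
    38407)))) (.node (.node (.leaf (nat_lit 6406)) (.leaf (nat_lit 29701))) (.node (.leaf (nat_lit
    13322)) (.leaf (nat_lit 51466))))) (.node (.node (.node (.node (.leaf (nat_lit 4872)) (.leaf
    (nat_lit 96261))) (.leaf (nat_lit 27147))) (.node (.leaf (nat_lit 11017)) (.leaf (nat_lit
    46091)))) (.node (.node (.leaf (nat_lit 7942)) (.leaf (nat_lit 33803))) (.node (.leaf (nat_lit
    17414)) (.leaf (nat_lit 58882)))))))))))

/-- Certificate data. -/
def t12_fact : Trie :=
    (.node (.node (.node (.node (.node (.node (.node (.node (.node (.node (.node (.node (.leaf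
    (nat_lit 1)) (.leaf (nat_lit 67494146))) (.leaf (nat_lit 79245830))) (.node (.node (.leaf
    (nat_lit 14204933)) (.leaf (nat_lit 139534343))) (.leaf (nat_lit 90541829)))) (.node (.node
    (.node (.leaf (nat_lit 26503681)) (.leaf (nat_lit 132488459))) (.leaf (nat_lit 88180229)))
    (.node (.node (.leaf (nat_lit 57684746)) (.leaf (nat_lit 110244870))) (.leaf (nat_lit
    116175625))))) (.node (.node (.node (.node (.leaf (nat_lit 12586763)) (.leaf (nat_lit
    20519168))) (.leaf (nat_lit 92829961))) (.node (.node (.leaf (nat_lit 20226048)) (.leaf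
    (nat_lit 144252934))) (.leaf (nat_lit 84518667)))) (.node (.node (.node (.leaf (nat_lit
    34380036)) (.leaf (nat_lit 112068103))) (.leaf (nat_lit 89999879))) (.node (.node (.leaf
    (nat_lit 67175688)) (.leaf (nat_lit 124403974))) (.leaf (nat_lit 79805188)))))) (.node (.node
    (.node (.node (.node (.leaf (nat_lit 4723973)) (.leaf (nat_lit 84735240))) (.leaf (nat_lit
    63215626))) (.node (.node (.leaf (nat_lit 54800392)) (.leaf (nat_lit 128065032))) (.leaf
    (nat_lit 81893638)))) (.node (.node (.node (.leaf (nat_lit 29131526)) (.leaf (nat_lit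
    63570180))) (.leaf (nat_lit 43077125))) (.node (.node (.leaf (nat_lit 59568905)) (.leaf
    (nat_lit 149548548))) (.leaf (nat_lit 118798345))))) (.node (.node (.node (.node (.leaf
    (nat_lit 18887938)) (.leaf (nat_lit 124085505))) (.leaf (nat_lit 65894151))) (.node (.node
    (.leaf (nat_lit 41697540)) (.leaf (nat_lit 138030346))) (.leaf (nat_lit 113812227)))) (.node
    (.node (.node (.leaf (nat_lit 46409986)) (.leaf (nat_lit 109186561))) (.leaf (nat_lit
    57462538))) (.node (.node (.leaf (nat_lit 23402500)) (.leaf (nat_lit 152966145))) (.leaf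
    (nat_lit 65132040))))))) (.node (.node (.node (.node (.node (.node (.leaf (nat_lit 2625282))
    (.leaf (nat_lit 78475777))) (.leaf (nat_lit 83126793))) (.node (.node (.leaf (nat_lit
    12069380)) (.leaf (nat_lit 83237126))) (.leaf (nat_lit 37851910)))) (.node (.node (.node (.leaf
    (nat_lit 31464964)) (.leaf (nat_lit 111540995))) (.leaf (nat_lit 82658304))) (.node (.node
    (.leaf (nat_lit 61094410)) (.leaf (nat_lit 123877126))) (.leaf (nat_lit 56999681))))) (.node
    (.node (.node (.node (.leaf (nat_lit 15219465)) (.leaf (nat_lit 129554952))) (.leaf (nat_lit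
    62686982))) (.node (.node (.leaf (nat_lit 45911560)) (.leaf (nat_lit 136456455))) (.leaf
    (nat_lit 103918598)))) (.node (.node (.node (.leaf (nat_lit 10264579)) (.leaf (nat_lit
    97126922))) (.leaf (nat_lit 96825607))) (.node (.node (.leaf (nat_lit 37555973)) (.leaf
    (nat_lit 141444098))) (.leaf (nat_lit 75879178)))))) (.node (.node (.node (.node (.node (.leaf
    (nat_lit 8915713)) (.leaf (nat_lit 128767747))) (.leaf (nat_lit 61952520))) (.node (.node
    (.leaf (nat_lit 17618177)) (.leaf (nat_lit 133571077))) (.leaf (nat_lit 109352712)))) (.node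
    (.node (.node (.leaf (nat_lit 36736262)) (.leaf (nat_lit 135063809))) (.leaf (nat_lit
    49108998))) (.node (.node (.leaf (nat_lit 66125067)) (.leaf (nat_lit 96615945))) (.leaf
    (nat_lit 119917067))))) (.node (.node (.node (.node (.leaf (nat_lit 23074826)) (.leaf (nat_lit
    131171843))) (.leaf (nat_lit 30491393))) (.node (.node (.leaf (nat_lit 55593474)) (.leaf
    (nat_lit 146925060))) (.leaf (nat_lit 114668554)))) (.node (.node (.node (.leaf (nat_lit
    31765511)) (.leaf (nat_lit 68817155))) (.leaf (nat_lit 97840644))) (.node (.node (.leaf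
    (nat_lit 76358667)) (.leaf (nat_lit 140659211))) (.leaf (nat_lit 125356297)))))))) (.node
    (.node (.node (.node (.node (.node (.node (.leaf (nat_lit 263687)) (.leaf (nat_lit 108898570)))
    (.leaf (nat_lit 81028611))) (.node (.node (.leaf (nat_lit 26264583)) (.leaf (nat_lit
    137238024))) (.leaf (nat_lit 37327109)))) (.node (.node (.node (.leaf (nat_lit 7630595)) (.leaf
    (nat_lit 74276875))) (.leaf (nat_lit 88120577))) (.node (.node (.leaf (nat_lit 40952329))
    (.leaf (nat_lit 148249864))) (.leaf (nat_lit 78757121))))) (.node (.node (.node (.node (.leaf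
    (nat_lit 5519105)) (.leaf (nat_lit 110436355))) (.leaf (nat_lit 94201867))) (.node (.node
    (.leaf (nat_lit 15486209)) (.leaf (nat_lit 144515847))) (.leaf (nat_lit 111713544)))) (.node
    (.node (.node (.leaf (nat_lit 41690374)) (.leaf (nat_lit 136376331))) (.leaf (nat_lit
    82673411))) (.node (.node (.leaf (nat_lit 68225281)) (.leaf (nat_lit 117326345))) (.leaf
    (nat_lit 109161995)))))) (.node (.node (.node (.node (.node (.leaf (nat_lit 7604491)) (.leaf
    (nat_lit 127988747))) (.leaf (nat_lit 86592265))) (.node (.node (.leaf (nat_lit 13908483))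
    (.leaf (nat_lit 142678788))) (.leaf (nat_lit 108370690)))) (.node (.node (.node (.leaf (nat_lit
    32278792)) (.leaf (nat_lit 134873607))) (.leaf (nat_lit 30478342))) (.node (.node (.leaf
    (nat_lit 35715073)) (.leaf (nat_lit 115489794))) (.leaf (nat_lit 105213706))))) (.node (.node
    (.node (.node (.leaf (nat_lit 20467467)) (.leaf (nat_lit 130604290))) (.leaf (nat_lit
    100434955))) (.node (.node (.leaf (nat_lit 38292225)) (.leaf (nat_lit 115224326))) (.leaf
    (nat_lit 94745352)))) (.node (.node (.node (.leaf (nat_lit 47233281)) (.leaf (nat_lit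
    138259719))) (.leaf (nat_lit 94194689))) (.node (.node (.leaf (nat_lit 75781893)) (.leaf
    (nat_lit 146950406))) (.leaf (nat_lit 124115465))))))) (.node (.node (.node (.node (.node
    (.node (.leaf (nat_lit 527616)) (.leaf (nat_lit 56484870))) (.leaf (nat_lit 83954951))) (.node
    (.node (.leaf (nat_lit 53489409)) (.leaf (nat_lit 73538315))) (.leaf (nat_lit 41522440))))
    (.node (.node (.node (.leaf (nat_lit 33038085)) (.leaf (nat_lit 133817096))) (.leaf (nat_lit
    87900165))) (.node (.node (.leaf (nat_lit 62405387)) (.leaf (nat_lit 149252869))) (.leaf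
    (nat_lit 108118534))))) (.node (.node (.node (.node (.leaf (nat_lit 6308612)) (.leaf (nat_lit
    70381573))) (.leaf (nat_lit 33911046))) (.node (.node (.leaf (nat_lit 12868608)) (.leaf
    (nat_lit 119679750))) (.leaf (nat_lit 113287937)))) (.node (.node (.node (.leaf (nat_lit
    44050187)) (.leaf (nat_lit 109186051))) (.leaf (nat_lit 98863362))) (.node (.node (.leaf
    (nat_lit 50401794)) (.leaf (nat_lit 140920328))) (.leaf (nat_lit 64083208)))))) (.node (.node
    (.node (.node (.node (.leaf (nat_lit 10758665)) (.leaf (nat_lit 82956035))) (.leaf (nat_lit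
    43866373))) (.node (.node (.leaf (nat_lit 10500096)) (.leaf (nat_lit 143496711))) (.leaf
    (nat_lit 63021828)))) (.node (.node (.node (.leaf (nat_lit 38544134)) (.leaf (nat_lit
    135368969))) (.leaf (nat_lit 49884424))) (.node (.node (.leaf (nat_lit 42795273)) (.leaf
    (nat_lit 140656393))) (.leaf (nat_lit 59362309))))) (.node (.node (.node (.node (.leaf (nat_lit
    6840839)) (.leaf (nat_lit 115734025))) (.leaf (nat_lit 81351424))) (.node (.node (.leaf
    (nat_lit 56635909)) (.leaf (nat_lit 147449347))) (.leaf (nat_lit 48871175)))) (.node (.node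
    (.node (.leaf (nat_lit 48769546)) (.leaf (nat_lit 139054088))) (.leaf (nat_lit 104122882)))
    (.node (.leaf (nat_lit 78457865)) (.leaf (nat_lit 125659911))))))))) (.node (.node (.node
    (.node (.node (.node (.node (.node (.leaf (nat_lit 524801)) (.leaf (nat_lit 126411015))) (.leaf
    (nat_lit 30447109))) (.node (.node (.leaf (nat_lit 27575042)) (.leaf (nat_lit 140054795)))
    (.leaf (nat_lit 65900547)))) (.node (.node (.node (.leaf (nat_lit 7367689)) (.leaf (nat_lit
    88210184))) (.leaf (nat_lit 103122183))) (.node (.node (.leaf (nat_lit 15785476)) (.leaf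
    (nat_lit 102642945))) (.leaf (nat_lit 78176769))))) (.node (.node (.node (.node (.leaf (nat_lit
    13373443)) (.leaf (nat_lit 72971018))) (.leaf (nat_lit 93616648))) (.node (.node (.leaf
    (nat_lit 10490882)) (.leaf (nat_lit 88221193))) (.leaf (nat_lit 93169665)))) (.node (.node
    (.node (.leaf (nat_lit 40641544)) (.leaf (nat_lit 136113923))) (.leaf (nat_lit 89963010)))
    (.node (.node (.leaf (nat_lit 60360454)) (.leaf (nat_lit 151629834))) (.leaf (nat_lit
    93966338)))))) (.node (.node (.node (.node (.node (.leaf (nat_lit 2889992)) (.leaf (nat_lit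
    56223497))) (.leaf (nat_lit 85542665))) (.node (.node (.leaf (nat_lit 34132486)) (.leaf
    (nat_lit 137502471))) (.leaf (nat_lit 108081671)))) (.node (.node (.node (.leaf (nat_lit
    29656581)) (.leaf (nat_lit 72740099))) (.leaf (nat_lit 28636936))) (.node (.node (.leaf
    (nat_lit 61928705)) (.leaf (nat_lit 130431747))) (.leaf (nat_lit 67225089))))) (.node (.node
    (.node (.node (.leaf (nat_lit 16009989)) (.leaf (nat_lit 108603649))) (.leaf (nat_lit
    65895170))) (.node (.node (.leaf (nat_lit 15228930)) (.leaf (nat_lit 108670470))) (.leaf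
    (nat_lit 113830664)))) (.node (.node (.node (.leaf (nat_lit 47720715)) (.leaf (nat_lit
    138268168))) (.leaf (nat_lit 67462916))) (.node (.node (.leaf (nat_lit 74731267)) (.leaf
    (nat_lit 139610113))) (.leaf (nat_lit 123782404))))))) (.node (.node (.node (.node (.node
    (.node (.leaf (nat_lit 3934724)) (.leaf (nat_lit 93971211))) (.leaf (nat_lit 83651083))) (.node
    (.node (.leaf (nat_lit 32033025)) (.leaf (nat_lit 77732355))) (.leaf (nat_lit 37327878))))
    (.node (.node (.node (.leaf (nat_lit 6827271)) (.leaf (nat_lit 133547019))) (.leaf (nat_lit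
    79233796))) (.node (.node (.leaf (nat_lit 61662980)) (.leaf (nat_lit 107100167))) (.leaf
    (nat_lit 50184451))))) (.node (.node (.node (.node (.leaf (nat_lit 16782089)) (.leaf (nat_lit
    62516997))) (.leaf (nat_lit 95976968))) (.node (.node (.leaf (nat_lit 16557568)) (.leaf
    (nat_lit 126757379))) (.leaf (nat_lit 112763399)))) (.node (.node (.node (.leaf (nat_lit
    42771467)) (.leaf (nat_lit 73534214))) (.leaf (nat_lit 35482370))) (.node (.node (.leaf
    (nat_lit 41750791)) (.leaf (nat_lit 150095109))) (.leaf (nat_lit 95272202)))))) (.node (.node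
    (.node (.node (.node (.leaf (nat_lit 9964295)) (.leaf (nat_lit 128784898))) (.leaf (nat_lit
    38622730))) (.node (.node (.leaf (nat_lit 17608450)) (.leaf (nat_lit 143259915))) (.leaf
    (nat_lit 64332292)))) (.node (.node (.node (.leaf (nat_lit 37757450)) (.leaf (nat_lit
    135135243))) (.leaf (nat_lit 58522374))) (.node (.node (.leaf (nat_lit 28638983)) (.leaf
    (nat_lit 150829061))) (.leaf (nat_lit 71420679))))) (.node (.node (.node (.node (.leaf (nat_lit
    24123651)) (.leaf (nat_lit 123598082))) (.leaf (nat_lit 101483787))) (.node (.node (.leaf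
    (nat_lit 16266761)) (.leaf (nat_lit 120205571))) (.leaf (nat_lit 49133063)))) (.node (.node
    (.node (.leaf (nat_lit 7085827)) (.leaf (nat_lit 68817412))) (.leaf (nat_lit 54621961))) (.node
    (.node (.leaf (nat_lit 77146122)) (.leaf (nat_lit 141183752))) (.leaf (nat_lit
    102096650)))))))) (.node (.node (.node (.node (.node (.node (.node (.leaf (nat_lit 3145995))
    (.leaf (nat_lit 122514946))) (.leaf (nat_lit 81869065))) (.node (.node (.leaf (nat_lit
    51693067)) (.leaf (nat_lit 110499591))) (.leaf (nat_lit 105466374)))) (.node (.node (.node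
    (.leaf (nat_lit 10253061)) (.leaf (nat_lit 74570760))) (.leaf (nat_lit 42827776))) (.node
    (.node (.leaf (nat_lit 60089867)) (.leaf (nat_lit 117323267))) (.leaf (nat_lit 56475137)))))
    (.node (.node (.node (.node (.leaf (nat_lit 4995078)) (.leaf (nat_lit 62254086))) (.leaf
    (nat_lit 65628680))) (.node (.node (.leaf (nat_lit 6571270)) (.leaf (nat_lit 120727555)))
    (.leaf (nat_lit 111976966)))) (.node (.node (.node (.leaf (nat_lit 14966793)) (.leaf (nat_lit
    84805897))) (.leaf (nat_lit 41516809))) (.node (.node (.leaf (nat_lit 70061064)) (.leaf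
    (nat_lit 151914500))) (.leaf (nat_lit 122209035)))))) (.node (.node (.node (.node (.node (.leaf
    (nat_lit 7085826)) (.leaf (nat_lit 128308747))) (.leaf (nat_lit 87641865))) (.node (.node
    (.leaf (nat_lit 34919429)) (.leaf (nat_lit 140910850))) (.leaf (nat_lit 108828167)))) (.node
    (.node (.node (.leaf (nat_lit 9472769)) (.leaf (nat_lit 107065091))) (.leaf (nat_lit
    81858315))) (.node (.node (.leaf (nat_lit 60619268)) (.leaf (nat_lit 136461569))) (.leaf
    (nat_lit 96323585))))) (.node (.node (.node (.node (.leaf (nat_lit 22025989)) (.leaf (nat_lit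
    72217352))) (.leaf (nat_lit 101221642))) (.node (.node (.leaf (nat_lit 15780864)) (.leaf
    (nat_lit 146676232))) (.leaf (nat_lit 114341125)))) (.node (.node (.node (.leaf (nat_lit
    7874817)) (.leaf (nat_lit 74832395))) (.leaf (nat_lit 40985347))) (.node (.node (.leaf (nat_lit
    38347271)) (.leaf (nat_lit 132794886))) (.leaf (nat_lit 124831755))))))) (.node (.node (.node
    (.node (.node (.node (.leaf (nat_lit 1053185)) (.leaf (nat_lit 64873735))) (.leaf (nat_lit
    70599682))) (.node (.node (.leaf (nat_lit 54013703)) (.leaf (nat_lit 134356229))) (.leaf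
    (nat_lit 58824200)))) (.node (.node (.node (.leaf (nat_lit 33824523)) (.leaf (nat_lit
    63569923))) (.leaf (nat_lit 69812741))) (.node (.node (.leaf (nat_lit 35713026)) (.leaf
    (nat_lit 110508297))) (.leaf (nat_lit 79020807))))) (.node (.node (.node (.node (.leaf (nat_lit
    17319429)) (.leaf (nat_lit 77166853))) (.leaf (nat_lit 97812235))) (.node (.node (.leaf
    (nat_lit 5780233)) (.leaf (nat_lit 124398597))) (.leaf (nat_lit 113550082)))) (.node (.node
    (.node (.leaf (nat_lit 24685834)) (.leaf (nat_lit 109186306))) (.leaf (nat_lit 33912071)))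
    (.node (.node (.leaf (nat_lit 20517897)) (.leaf (nat_lit 152942091))) (.leaf (nat_lit
    83206923)))))) (.node (.node (.node (.node (.node (.leaf (nat_lit 12062473)) (.leaf (nat_lit
    118846211))) (.leaf (nat_lit 91780100))) (.node (.node (.leaf (nat_lit 5024768)) (.leaf
    (nat_lit 138290179))) (.leaf (nat_lit 110715911)))) (.node (.node (.node (.leaf (nat_lit
    39592715)) (.leaf (nat_lit 108397829))) (.leaf (nat_lit 50679298))) (.node (.node (.leaf
    (nat_lit 47514375)) (.leaf (nat_lit 151136770))) (.leaf (nat_lit 117820678))))) (.node (.node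
    (.node (.node (.leaf (nat_lit 26765067)) (.leaf (nat_lit 132178177))) (.leaf (nat_lit
    67194628))) (.node (.node (.leaf (nat_lit 57160203)) (.leaf (nat_lit 144847618))) (.leaf
    (nat_lit 115650315)))) (.node (.node (.node (.leaf (nat_lit 49556228)) (.leaf (nat_lit
    139284483))) (.leaf (nat_lit 64589313))) (.node (.leaf (nat_lit 79717641)) (.leaf (nat_lit
    112844805)))))))))) (.node (.node (.node (.node (.node (.node (.node (.node (.node (.leaf
    (nat_lit 262152)) (.leaf (nat_lit 126406154))) (.leaf (nat_lit 27038217))) (.node (.node (.leaf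
    (nat_lit 50867459)) (.leaf (nat_lit 130684168))) (.leaf (nat_lit 90513928)))) (.node (.node
    (.node (.leaf (nat_lit 28056330)) (.leaf (nat_lit 132703495))) (.leaf (nat_lit 43091718)))
    (.node (.node (.leaf (nat_lit 58209286)) (.leaf (nat_lit 147955975))) (.leaf (nat_lit
    93960961))))) (.node (.node (.node (.node (.leaf (nat_lit 12849153)) (.leaf (nat_lit
    73471751))) (.leaf (nat_lit 32334598))) (.node (.node (.leaf (nat_lit 12342529)) (.leaf
    (nat_lit 87959050))) (.leaf (nat_lit 98919690)))) (.node (.node (.node (.leaf (nat_lit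
    40379399)) (.leaf (nat_lit 135853064))) (.leaf (nat_lit 56672010))) (.node (.node (.leaf
    (nat_lit 60098054)) (.leaf (nat_lit 151392266))) (.leaf (nat_lit 121684745)))))) (.node (.node
    (.node (.node (.node (.leaf (nat_lit 4462345)) (.leaf (nat_lit 68806150))) (.leaf (nat_lit
    70599937))) (.node (.node (.leaf (nat_lit 13160963)) (.leaf (nat_lit 135929355))) (.leaf
    (nat_lit 39426819)))) (.node (.node (.node (.leaf (nat_lit 34873348)) (.leaf (nat_lit
    134603272))) (.leaf (nat_lit 78971651))) (.node (.node (.leaf (nat_lit 63997444)) (.leaf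
    (nat_lit 124926727))) (.leaf (nat_lit 119060490))))) (.node (.node (.node (.node (.leaf
    (nat_lit 19404042)) (.leaf (nat_lit 107550213))) (.leaf (nat_lit 33913092))) (.node (.node
    (.leaf (nat_lit 38290690)) (.leaf (nat_lit 137506056))) (.leaf (nat_lit 54899207)))) (.node
    (.node (.node (.leaf (nat_lit 47196422)) (.leaf (nat_lit 137969161))) (.leaf (nat_lit
    65893377))) (.node (.node (.leaf (nat_lit 74206977)) (.leaf (nat_lit 129910792))) (.leaf
    (nat_lit 54384386))))))) (.node (.node (.node (.node (.node (.node (.leaf (nat_lit 263424))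
    (.leaf (nat_lit 78497539))) (.leaf (nat_lit 82394630))) (.node (.node (.leaf (nat_lit
    52702726)) (.leaf (nat_lit 140889866))) (.leaf (nat_lit 80581380)))) (.node (.node (.node
    (.leaf (nat_lit 27818499)) (.leaf (nat_lit 111541505))) (.leaf (nat_lit 62208769))) (.node
    (.node (.leaf (nat_lit 61618949)) (.leaf (nat_lit 143800073))) (.leaf (nat_lit 67747848)))))
    (.node (.node (.node (.node (.leaf (nat_lit 16257799)) (.leaf (nat_lit 129611783))) (.leaf
    (nat_lit 95451908))) (.node (.node (.leaf (nat_lit 39075336)) (.leaf (nat_lit 93727237)))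
    (.leaf (nat_lit 112290308)))) (.node (.node (.node (.leaf (nat_lit 42476811)) (.leaf (nat_lit
    136914951))) (.leaf (nat_lit 102067207))) (.node (.node (.leaf (nat_lit 71322376)) (.leaf
    (nat_lit 152168967))) (.leaf (nat_lit 95540235)))))) (.node (.node (.node (.node (.node (.leaf
    (nat_lit 9440003)) (.leaf (nat_lit 128776715))) (.leaf (nat_lit 89158147))) (.node (.node
    (.leaf (nat_lit 55854853)) (.leaf (nat_lit 133571073))) (.leaf (nat_lit 40477189)))) (.node
    (.node (.node (.leaf (nat_lit 9997825)) (.leaf (nat_lit 123601671))) (.leaf (nat_lit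
    28637450))) (.node (.node (.leaf (nat_lit 61668867)) (.leaf (nat_lit 150588419))) (.leaf
    (nat_lit 57264641))))) (.node (.node (.node (.node (.leaf (nat_lit 23353605)) (.leaf (nat_lit
    131390985))) (.leaf (nat_lit 70606852))) (.node (.node (.leaf (nat_lit 6304265)) (.leaf
    (nat_lit 131739915))) (.leaf (nat_lit 114861059)))) (.node (.node (.node (.leaf (nat_lit
    48260099)) (.leaf (nat_lit 92672267))) (.leaf (nat_lit 94205704))) (.node (.node (.leaf
    (nat_lit 76621321)) (.leaf (nat_lit 152455937))) (.leaf (nat_lit 124378626)))))))) (.node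
    (.node (.node (.node (.node (.node (.node (.leaf (nat_lit 2621702)) (.leaf (nat_lit 96053765)))
    (.leaf (nat_lit 81553159))) (.node (.node (.leaf (nat_lit 48546819)) (.leaf (nat_lit
    125441798))) (.leaf (nat_lit 60920068)))) (.node (.node (.node (.leaf (nat_lit 9990405)) (.leaf
    (nat_lit 20731911))) (.leaf (nat_lit 41520139))) (.node (.node (.leaf (nat_lit 39379977))
    (.leaf (nat_lit 140654090))) (.leaf (nat_lit 92857350))))) (.node (.node (.node (.node (.leaf
    (nat_lit 14684676)) (.leaf (nat_lit 96058371))) (.leaf (nat_lit 32598273))) (.node (.node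
    (.leaf (nat_lit 6046213)) (.leaf (nat_lit 118892555))) (.leaf (nat_lit 98675458)))) (.node
    (.node (.node (.leaf (nat_lit 34119428)) (.leaf (nat_lit 107350022))) (.leaf (nat_lit
    51727367))) (.node (.node (.leaf (nat_lit 69779207)) (.leaf (nat_lit 116802309))) (.leaf
    (nat_lit 113889541)))))) (.node (.node (.node (.node (.node (.leaf (nat_lit 8129033)) (.leaf
    (nat_lit 57272583))) (.leaf (nat_lit 87117067))) (.node (.node (.leaf (nat_lit 13685506))
    (.leaf (nat_lit 131997703))) (.leaf (nat_lit 67214086)))) (.node (.node (.node (.leaf (nat_lit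
    9734657)) (.leaf (nat_lit 134842113))) (.leaf (nat_lit 32312071))) (.node (.node (.leaf
    (nat_lit 65552903)) (.leaf (nat_lit 150302470))) (.leaf (nat_lit 119336970))))) (.node (.node
    (.node (.node (.leaf (nat_lit 21239554)) (.leaf (nat_lit 118092298))) (.leaf (nat_lit
    100697352))) (.node (.node (.leaf (nat_lit 40123652)) (.leaf (nat_lit 128331521))) (.leaf
    (nat_lit 68269065)))) (.node (.node (.node (.leaf (nat_lit 10792967)) (.leaf (nat_lit
    136712203))) (.leaf (nat_lit 60647432))) (.node (.node (.leaf (nat_lit 54599940)) (.leaf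
    (nat_lit 153498119))) (.leaf (nat_lit 67754251))))))) (.node (.node (.node (.node (.node (.node
    (.leaf (nat_lit 4456971)) (.leaf (nat_lit 126965508))) (.leaf (nat_lit 28393987))) (.node
    (.node (.leaf (nat_lit 49597446)) (.leaf (nat_lit 73538561))) (.leaf (nat_lit 106256387))))
    (.node (.node (.node (.leaf (nat_lit 33062662)) (.leaf (nat_lit 79560459))) (.leaf (nat_lit
    64826625))) (.node (.node (.leaf (nat_lit 62451465)) (.leaf (nat_lit 124664065))) (.leaf
    (nat_lit 118034185))))) (.node (.node (.node (.node (.leaf (nat_lit 18093066)) (.leaf (nat_lit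
    67498245))) (.leaf (nat_lit 96301826))) (.node (.node (.leaf (nat_lit 17072896)) (.leaf
    (nat_lit 145828356))) (.leaf (nat_lit 106016777)))) (.node (.node (.node (.leaf (nat_lit
    40675847)) (.leaf (nat_lit 83758088))) (.leaf (nat_lit 99421187))) (.node (.node (.leaf
    (nat_lit 72109322)) (.leaf (nat_lit 152680705))) (.leaf (nat_lit 76616450)))))) (.node (.node
    (.node (.node (.node (.leaf (nat_lit 11537931)) (.leaf (nat_lit 72426243))) (.leaf (nat_lit
    90993665))) (.node (.node (.leaf (nat_lit 9720064)) (.leaf (nat_lit 138552327))) (.leaf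
    (nat_lit 110208267)))) (.node (.node (.node (.leaf (nat_lit 38806280)) (.leaf (nat_lit
    70649091))) (.leaf (nat_lit 66936841))) (.node (.node (.leaf (nat_lit 29688323)) (.leaf
    (nat_lit 135151626))) (.leaf (nat_lit 84266249))))) (.node (.node (.node (.node (.leaf (nat_lit
    26240262)) (.leaf (nat_lit 131715078))) (.leaf (nat_lit 81089024))) (.node (.node (.leaf
    (nat_lit 41474051)) (.leaf (nat_lit 113128197))) (.leaf (nat_lit 115388170)))) (.node (.node
    (.node (.leaf (nat_lit 11320073)) (.leaf (nat_lit 123605766))) (.leaf (nat_lit 104114181)))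
    (.node (.leaf (nat_lit 79193099)) (.leaf (nat_lit 125880836))))))))) (.node (.node (.node
    (.node (.node (.node (.node (.node (.leaf (nat_lit 787467)) (.leaf (nat_lit 116730884))) (.leaf
    (nat_lit 79992321))) (.node (.node (.leaf (nat_lit 11803140)) (.leaf (nat_lit 72488454)))
    (.leaf (nat_lit 101763844)))) (.node (.node (.node (.leaf (nat_lit 28843010)) (.leaf (nat_lit
    133227779))) (.leaf (nat_lit 102075393))) (.node (.node (.leaf (nat_lit 58515467)) (.leaf
    (nat_lit 117585157))) (.leaf (nat_lit 79525898))))) (.node (.node (.node (.node (.leaf (nat_lit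
    13897735)) (.leaf (nat_lit 23353607))) (.leaf (nat_lit 94140938))) (.node (.node (.leaf
    (nat_lit 10490886)) (.leaf (nat_lit 76424966))) (.leaf (nat_lit 104919048)))) (.node (.node
    (.node (.leaf (nat_lit 40934667)) (.leaf (nat_lit 94766855))) (.leaf (nat_lit 48844292)))
    (.node (.node (.leaf (nat_lit 69240836)) (.leaf (nat_lit 115491332))) (.leaf (nat_lit
    109694731)))))) (.node (.node (.node (.node (.node (.leaf (nat_lit 6822665)) (.leaf (nat_lit
    57272323))) (.leaf (nat_lit 86067467))) (.node (.node (.leaf (nat_lit 13384199)) (.leaf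
    (nat_lit 137764610))) (.leaf (nat_lit 90021125)))) (.node (.node (.node (.leaf (nat_lit
    35660039)) (.leaf (nat_lit 134800904))) (.leaf (nat_lit 29953542))) (.node (.node (.leaf
    (nat_lit 64550667)) (.leaf (nat_lit 150039563))) (.leaf (nat_lit 76137992))))) (.node (.node
    (.node (.node (.leaf (nat_lit 19156226)) (.leaf (nat_lit 79550721))) (.leaf (nat_lit
    51739911))) (.node (.node (.leaf (nat_lit 7359235)) (.leaf (nat_lit 146413060))) (.leaf
    (nat_lit 99726082)))) (.node (.node (.node (.leaf (nat_lit 48507398)) (.leaf (nat_lit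
    82124299))) (.leaf (nat_lit 102306056))) (.node (.node (.leaf (nat_lit 75255559)) (.leaf
    (nat_lit 153466635))) (.leaf (nat_lit 123793417))))))) (.node (.node (.node (.node (.node
    (.node (.leaf (nat_lit 2362884)) (.leaf (nat_lit 126673927))) (.leaf (nat_lit 37830402)))
    (.node (.node (.leaf (nat_lit 51956232)) (.leaf (nat_lit 132258566))) (.leaf (nat_lit
    54105092)))) (.node (.node (.node (.leaf (nat_lit 32513547)) (.leaf (nat_lit 133755399)))
    (.leaf (nat_lit 62208514))) (.node (.node (.leaf (nat_lit 50392067)) (.leaf (nat_lit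
    120731649))) (.leaf (nat_lit 118011139))))) (.node (.node (.node (.node (.leaf (nat_lit
    17056267)) (.leaf (nat_lit 58847234))) (.leaf (nat_lit 96501258))) (.node (.node (.leaf
    (nat_lit 14171905)) (.leaf (nat_lit 145565954))) (.leaf (nat_lit 110996996)))) (.node (.node
    (.node (.leaf (nat_lit 13936130)) (.leaf (nat_lit 125176586))) (.leaf (nat_lit 35481860)))
    (.node (.node (.leaf (nat_lit 62984451)) (.leaf (nat_lit 152418308))) (.leaf (nat_lit
    94491911)))))) (.node (.node (.node (.node (.node (.leaf (nat_lit 6563850)) (.leaf (nat_lit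
    82950657))) (.leaf (nat_lit 67196930))) (.node (.node (.leaf (nat_lit 5548544)) (.leaf (nat_lit
    118629126))) (.leaf (nat_lit 40477446)))) (.node (.node (.node (.leaf (nat_lit 29397506))
    (.leaf (nat_lit 70910977))) (.leaf (nat_lit 87330056))) (.node (.node (.leaf (nat_lit
    18415624)) (.leaf (nat_lit 122306306))) (.leaf (nat_lit 120417803))))) (.node (.node (.node
    (.node (.leaf (nat_lit 25172231)) (.leaf (nat_lit 131462155))) (.leaf (nat_lit 80565248)))
    (.node (.node (.leaf (nat_lit 22825219)) (.leaf (nat_lit 147403786))) (.leaf (nat_lit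
    115123204)))) (.node (.node (.node (.leaf (nat_lit 7874819)) (.leaf (nat_lit 139001095)))
    (.leaf (nat_lit 97069573))) (.node (.leaf (nat_lit 77933067)) (.leaf (nat_lit 62775042))))))))
    (.node (.node (.node (.node (.node (.node (.node (.leaf (nat_lit 3670533)) (.leaf (nat_lit
    96064263))) (.leaf (nat_lit 82602251))) (.node (.node (.leaf (nat_lit 46974978)) (.leaf
    (nat_lit 92674053))) (.leaf (nat_lit 83988996)))) (.node (.node (.node (.leaf (nat_lit
    30678529)) (.leaf (nat_lit 133277957))) (.leaf (nat_lit 54329607))) (.node (.node (.leaf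
    (nat_lit 60614662)) (.leaf (nat_lit 90846980))) (.leaf (nat_lit 117030667))))) (.node (.node
    (.node (.node (.leaf (nat_lit 5781761)) (.leaf (nat_lit 129292040))) (.leaf (nat_lit
    64519175))) (.node (.node (.leaf (nat_lit 55592449)) (.leaf (nat_lit 145040129))) (.leaf
    (nat_lit 112045065)))) (.node (.node (.node (.leaf (nat_lit 15488771)) (.leaf (nat_lit
    117573894))) (.leaf (nat_lit 53314821))) (.node (.node (.leaf (nat_lit 70797833)) (.leaf
    (nat_lit 152154378))) (.leaf (nat_lit 122216455)))))) (.node (.node (.node (.node (.node (.leaf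
    (nat_lit 8653323)) (.leaf (nat_lit 127789577))) (.leaf (nat_lit 88371467))) (.node (.node
    (.leaf (nat_lit 41473028)) (.leaf (nat_lit 111812869))) (.leaf (nat_lit 80060163)))) (.node
    (.node (.node (.leaf (nat_lit 36728577)) (.leaf (nat_lit 83179779))) (.leaf (nat_lit
    39622407))) (.node (.node (.leaf (nat_lit 66077450)) (.leaf (nat_lit 150322186))) (.leaf
    (nat_lit 48875781))))) (.node (.node (.node (.node (.leaf (nat_lit 22566665)) (.leaf (nat_lit
    65401862))) (.leaf (nat_lit 30490628))) (.node (.node (.leaf (nat_lit 19447040)) (.leaf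
    (nat_lit 142749702))) (.leaf (nat_lit 50705671)))) (.node (.node (.node (.leaf (nat_lit
    7894787)) (.leaf (nat_lit 131931140))) (.leaf (nat_lit 66680330))) (.node (.node (.leaf
    (nat_lit 60891651)) (.leaf (nat_lit 153504260))) (.leaf (nat_lit 58055684))))))) (.node (.node
    (.node (.node (.node (.node (.leaf (nat_lit 1053699)) (.leaf (nat_lit 127206662))) (.leaf
    (nat_lit 61421312))) (.node (.node (.leaf (nat_lit 53268233)) (.leaf (nat_lit 133831939)))
    (.leaf (nat_lit 66426888)))) (.node (.node (.node (.leaf (nat_lit 8684033)) (.leaf (nat_lit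
    133798404))) (.leaf (nat_lit 102536963))) (.node (.node (.leaf (nat_lit 63454730)) (.leaf
    (nat_lit 116800010))) (.leaf (nat_lit 118317064))))) (.node (.node (.node (.node (.leaf
    (nat_lit 5785348)) (.leaf (nat_lit 122234369))) (.leaf (nat_lit 98074625))) (.node (.node
    (.leaf (nat_lit 17839111)) (.leaf (nat_lit 146091782))) (.leaf (nat_lit 95531269)))) (.node
    (.node (.node (.leaf (nat_lit 24948234)) (.leaf (nat_lit 137727498))) (.leaf (nat_lit
    94964741))) (.node (.node (.leaf (nat_lit 23401986)) (.leaf (nat_lit 121784070))) (.leaf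
    (nat_lit 94230023)))))) (.node (.node (.node (.node (.node (.leaf (nat_lit 11021826)) (.leaf
    (nat_lit 125155842))) (.leaf (nat_lit 38625035))) (.node (.node (.leaf (nat_lit 5287168))
    (.leaf (nat_lit 106571012))) (.leaf (nat_lit 42575618)))) (.node (.node (.node (.leaf (nat_lit
    11573250)) (.leaf (nat_lit 135851522))) (.leaf (nat_lit 56969989))) (.node (.node (.leaf
    (nat_lit 64291841)) (.leaf (nat_lit 151126026))) (.leaf (nat_lit 92917258))))) (.node (.node
    (.node (.node (.leaf (nat_lit 27794182)) (.leaf (nat_lit 111278090))) (.leaf (nat_lit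
    101811465))) (.node (.node (.leaf (nat_lit 37018370)) (.leaf (nat_lit 147930379))) (.leaf
    (nat_lit 66435334)))) (.node (.node (.node (.leaf (nat_lit 13942277)) (.leaf (nat_lit
    124130315))) (.leaf (nat_lit 104429830))) (.node (.leaf (nat_lit 26816773)) (.leaf (nat_lit
    126144009))))))))))) (.node (.node (.node (.node (.node (.node (.node (.node (.node (.node
    (.leaf (nat_lit 5)) (.leaf (nat_lit 126176259))) (.leaf (nat_lit 27079425))) (.node (.node
    (.leaf (nat_lit 47497480)) (.leaf (nat_lit 139792138))) (.leaf (nat_lit 39685891)))) (.node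
    (.node (.node (.leaf (nat_lit 6840577)) (.leaf (nat_lit 63830529))) (.leaf (nat_lit
    102336267))) (.node (.node (.leaf (nat_lit 57946891)) (.leaf (nat_lit 126759937))) (.leaf
    (nat_lit 80591627))))) (.node (.node (.node (.node (.leaf (nat_lit 4468741)) (.leaf (nat_lit
    72455940))) (.leaf (nat_lit 92889607))) (.node (.node (.leaf (nat_lit 11555843)) (.leaf
    (nat_lit 78259719))) (.leaf (nat_lit 94468360)))) (.node (.node (.node (.leaf (nat_lit
    13902857)) (.leaf (nat_lit 125961733))) (.leaf (nat_lit 57196294))) (.node (.node (.leaf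
    (nat_lit 68699914)) (.leaf (nat_lit 145899783))) (.leaf (nat_lit 116221444)))))) (.node (.node
    (.node (.node (.node (.leaf (nat_lit 5772805)) (.leaf (nat_lit 127456522))) (.leaf (nat_lit
    40956166))) (.node (.node (.leaf (nat_lit 54317322)) (.leaf (nat_lit 110239239))) (.leaf
    (nat_lit 107321865)))) (.node (.node (.node (.leaf (nat_lit 8684547)) (.leaf (nat_lit
    73007365))) (.leaf (nat_lit 60897801))) (.node (.node (.leaf (nat_lit 34665479)) (.leaf
    (nat_lit 149777413))) (.leaf (nat_lit 118867207))))) (.node (.node (.node (.node (.leaf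
    (nat_lit 18893065)) (.leaf (nat_lit 81880322))) (.leaf (nat_lit 33912835))) (.node (.node
    (.leaf (nat_lit 7619843)) (.leaf (nat_lit 126496003))) (.leaf (nat_lit 99725825)))) (.node
    (.node (.node (.leaf (nat_lit 46672131)) (.leaf (nat_lit 134090245))) (.leaf (nat_lit
    97614336))) (.node (.node (.leaf (nat_lit 73944585)) (.leaf (nat_lit 122046216))) (.leaf
    (nat_lit 123520259))))))) (.node (.node (.node (.node (.node (.node (.leaf (nat_lit 3672322))
    (.leaf (nat_lit 97083649))) (.leaf (nat_lit 82132226))) (.node (.node (.leaf (nat_lit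
    51169284)) (.leaf (nat_lit 139598084))) (.leaf (nat_lit 105746955)))) (.node (.node (.node
    (.leaf (nat_lit 31989254)) (.leaf (nat_lit 133489924))) (.leaf (nat_lit 28130055))) (.node
    (.node (.leaf (nat_lit 61356555)) (.leaf (nat_lit 148774155))) (.leaf (nat_lit 117486849)))))
    (.node (.node (.node (.node (.leaf (nat_lit 15995403)) (.leaf (nat_lit 77721098))) (.leaf
    (nat_lit 95189763))) (.node (.node (.leaf (nat_lit 16290816)) (.leaf (nat_lit 141699337)))
    (.leaf (nat_lit 112238346)))) (.node (.node (.node (.leaf (nat_lit 23633929)) (.leaf (nat_lit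
    77990406))) (.leaf (nat_lit 35482625))) (.node (.node (.leaf (nat_lit 30215939)) (.leaf
    (nat_lit 136463364))) (.leaf (nat_lit 122733577)))))) (.node (.node (.node (.node (.node (.leaf
    (nat_lit 9177858)) (.leaf (nat_lit 81390341))) (.leaf (nat_lit 87905031))) (.node (.node (.leaf
    (nat_lit 55852547)) (.leaf (nat_lit 108405259))) (.leaf (nat_lit 109158666)))) (.node (.node
    (.node (.leaf (nat_lit 12619012)) (.leaf (nat_lit 65405700))) (.leaf (nat_lit 90487555)))
    (.node (.node (.leaf (nat_lit 66601989)) (.leaf (nat_lit 116538886))) (.leaf (nat_lit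
    90294790))))) (.node (.node (.node (.node (.leaf (nat_lit 23336971)) (.leaf (nat_lit
    131129350))) (.leaf (nat_lit 84499200))) (.node (.node (.leaf (nat_lit 55085578)) (.leaf
    (nat_lit 114962694))) (.leaf (nat_lit 47822086)))) (.node (.node (.node (.leaf (nat_lit
    33061123)) (.leaf (nat_lit 132780293))) (.leaf (nat_lit 62486535))) (.node (.node (.leaf
    (nat_lit 76830727)) (.leaf (nat_lit 138038021))) (.leaf (nat_lit 83222023)))))))) (.node (.node
    (.node (.node (.node (.node (.node (.leaf (nat_lit 2097412)) (.leaf (nat_lit 77915139))) (.leaf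
    (nat_lit 81290756))) (.node (.node (.leaf (nat_lit 33342465)) (.leaf (nat_lit 116004618)))
    (.leaf (nat_lit 71143682)))) (.node (.node (.node (.leaf (nat_lit 7630852)) (.leaf (nat_lit
    20784384))) (.leaf (nat_lit 103850245))) (.node (.node (.leaf (nat_lit 59782667)) (.leaf
    (nat_lit 135411206))) (.leaf (nat_lit 50422282))))) (.node (.node (.node (.node (.leaf (nat_lit
    5519109)) (.leaf (nat_lit 122514947))) (.leaf (nat_lit 93415430))) (.node (.node (.leaf
    (nat_lit 9981188)) (.leaf (nat_lit 144574465))) (.leaf (nat_lit 111520266)))) (.node (.node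
    (.node (.leaf (nat_lit 34905857)) (.leaf (nat_lit 73533449))) (.leaf (nat_lit 34688008)))
    (.node (.node (.leaf (nat_lit 69748746)) (.leaf (nat_lit 151667467))) (.leaf (nat_lit
    121946890)))))) (.node (.node (.node (.node (.node (.leaf (nat_lit 3153158)) (.leaf (nat_lit
    128243204))) (.leaf (nat_lit 57756678))) (.node (.node (.leaf (nat_lit 13161220)) (.leaf
    (nat_lit 74850305))) (.leaf (nat_lit 107806218)))) (.node (.node (.node (.leaf (nat_lit
    36184579)) (.leaf (nat_lit 113064198))) (.leaf (nat_lit 38604811))) (.node (.node (.leaf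
    (nat_lit 65290505)) (.leaf (nat_lit 129645572))) (.leaf (nat_lit 119322888))))) (.node (.node
    (.node (.node (.leaf (nat_lit 20977409)) (.leaf (nat_lit 58585607))) (.leaf (nat_lit
    57245445))) (.node (.node (.leaf (nat_lit 8404226)) (.leaf (nat_lit 144060170))) (.leaf
    (nat_lit 114336769)))) (.node (.node (.node (.leaf (nat_lit 46182656)) (.leaf (nat_lit
    138476802))) (.leaf (nat_lit 94173442))) (.node (.node (.leaf (nat_lit 66658562)) (.leaf
    (nat_lit 115755265))) (.leaf (nat_lit 83220994))))))) (.node (.node (.node (.node (.node (.node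
    (.leaf (nat_lit 4194826)) (.leaf (nat_lit 126931979))) (.leaf (nat_lit 28393730))) (.node
    (.node (.leaf (nat_lit 36228101)) (.leaf (nat_lit 73276418))) (.leaf (nat_lit 37852421))))
    (.node (.node (.node (.leaf (nat_lit 26246657)) (.leaf (nat_lit 63569666))) (.leaf (nat_lit
    79230721))) (.node (.node (.leaf (nat_lit 15789577)) (.leaf (nat_lit 124664071))) (.leaf
    (nat_lit 118024203))))) (.node (.node (.node (.node (.leaf (nat_lit 17830920)) (.leaf (nat_lit
    58585345))) (.leaf (nat_lit 97287945))) (.node (.node (.leaf (nat_lit 13388800)) (.leaf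
    (nat_lit 142486280))) (.leaf (nat_lit 44150785)))) (.node (.node (.node (.leaf (nat_lit
    44312577)) (.leaf (nat_lit 82971659))) (.leaf (nat_lit 70351111))) (.node (.node (.leaf
    (nat_lit 69538308)) (.leaf (nat_lit 132007429))) (.leaf (nat_lit 122998531)))))) (.node (.node
    (.node (.node (.node (.leaf (nat_lit 11275786)) (.leaf (nat_lit 76391427))) (.leaf (nat_lit
    90528267))) (.node (.node (.leaf (nat_lit 9196288)) (.leaf (nat_lit 143727878))) (.leaf
    (nat_lit 56468488)))) (.node (.node (.node (.leaf (nat_lit 12620547)) (.leaf (nat_lit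
    135589123))) (.leaf (nat_lit 78691850))) (.node (.node (.leaf (nat_lit 25231877)) (.leaf
    (nat_lit 151100168))) (.leaf (nat_lit 120644359))))) (.node (.node (.node (.node (.leaf
    (nat_lit 26221061)) (.leaf (nat_lit 131671043))) (.leaf (nat_lit 87897607))) (.node (.node
    (.leaf (nat_lit 19453954)) (.leaf (nat_lit 147437828))) (.leaf (nat_lit 115141640)))) (.node
    (.node (.node (.leaf (nat_lit 49031691)) (.leaf (nat_lit 107090696))) (.leaf (nat_lit
    54889731))) (.node (.leaf (nat_lit 78930954)) (.leaf (nat_lit 102358793))))))))) (.node (.node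
    (.node (.node (.node (.node (.node (.node (.leaf (nat_lit 787206)) (.leaf (nat_lit 92912900)))
    (.leaf (nat_lit 39399937))) (.node (.node (.leaf (nat_lit 11821824)) (.leaf (nat_lit
    102635017))) (.leaf (nat_lit 104956934)))) (.node (.node (.node (.leaf (nat_lit 7630081))
    (.leaf (nat_lit 130939653))) (.leaf (nat_lit 103581444))) (.node (.node (.leaf (nat_lit
    58471434)) (.leaf (nat_lit 148256007))) (.leaf (nat_lit 107012610))))) (.node (.node (.node
    (.node (.leaf (nat_lit 13635588)) (.leaf (nat_lit 73001224))) (.leaf (nat_lit 93677065)))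
    (.node (.node (.leaf (nat_lit 17323264)) (.leaf (nat_lit 122562314))) (.leaf (nat_lit
    110995459)))) (.node (.node (.node (.leaf (nat_lit 40903690)) (.leaf (nat_lit 103941891)))
    (.leaf (nat_lit 47794951))) (.node (.node (.leaf (nat_lit 34932743)) (.leaf (nat_lit
    129384966))) (.leaf (nat_lit 79810563)))))) (.node (.node (.node (.node (.node (.leaf (nat_lit
    6818056)) (.leaf (nat_lit 69068550))) (.leaf (nat_lit 58542086))) (.node (.node (.leaf (nat_lit
    55085577)) (.leaf (nat_lit 132259594))) (.leaf (nat_lit 108062475)))) (.node (.node (.node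
    (.leaf (nat_lit 35397641)) (.leaf (nat_lit 73526530))) (.leaf (nat_lit 28616457))) (.node
    (.node (.leaf (nat_lit 17364488)) (.leaf (nat_lit 149822474))) (.leaf (nat_lit 119091975)))))
    (.node (.node (.node (.node (.leaf (nat_lit 20190729)) (.leaf (nat_lit 79509506))) (.leaf
    (nat_lit 99910665))) (.node (.node (.leaf (nat_lit 17839363)) (.leaf (nat_lit 145370626)))
    (.leaf (nat_lit 44151556)))) (.node (.node (.node (.leaf (nat_lit 47983107)) (.leaf (nat_lit
    138267915))) (.leaf (nat_lit 96563207))) (.node (.node (.leaf (nat_lit 74993412)) (.leaf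
    (nat_lit 153232132))) (.leaf (nat_lit 54384641))))))) (.node (.node (.node (.node (.node (.node
    (.leaf (nat_lit 2623751)) (.leaf (nat_lit 92922629))) (.leaf (nat_lit 28393221))) (.node (.node
    (.leaf (nat_lit 26528003)) (.leaf (nat_lit 141366279))) (.leaf (nat_lit 60658690)))) (.node
    (.node (.node (.leaf (nat_lit 32251402)) (.leaf (nat_lit 63569409))) (.leaf (nat_lit
    28391943))) (.node (.node (.leaf (nat_lit 61664262)) (.leaf (nat_lit 135411723))) (.leaf
    (nat_lit 117783048))))) (.node (.node (.node (.node (.leaf (nat_lit 17044234)) (.leaf (nat_lit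
    129840394))) (.leaf (nat_lit 96038665))) (.node (.node (.leaf (nat_lit 10239752)) (.leaf
    (nat_lit 104737289))) (.leaf (nat_lit 93171202)))) (.node (.node (.node (.leaf (nat_lit
    43263752)) (.leaf (nat_lit 137200650))) (.leaf (nat_lit 35482115))) (.node (.node (.leaf
    (nat_lit 64033025)) (.leaf (nat_lit 129647873))) (.leaf (nat_lit 106544134)))))) (.node (.node
    (.node (.node (.node (.leaf (nat_lit 10488840)) (.leaf (nat_lit 116988419))) (.leaf (nat_lit
    90206985))) (.node (.node (.leaf (nat_lit 9457664)) (.leaf (nat_lit 135668490))) (.leaf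
    (nat_lit 109877511)))) (.node (.node (.node (.leaf (nat_lit 37785867)) (.leaf (nat_lit
    106300418))) (.leaf (nat_lit 99437826))) (.node (.node (.leaf (nat_lit 30211842)) (.leaf
    (nat_lit 129908487))) (.leaf (nat_lit 92392197))))) (.node (.node (.node (.node (.leaf (nat_lit
    24647941)) (.leaf (nat_lit 131391238))) (.leaf (nat_lit 56460037))) (.node (.node (.leaf
    (nat_lit 19175937)) (.leaf (nat_lit 106836233))) (.leaf (nat_lit 114926088)))) (.node (.node
    (.node (.leaf (nat_lit 10778368)) (.leaf (nat_lit 130945542))) (.leaf (nat_lit 97843208)))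
    (.node (.node (.leaf (nat_lit 60369160)) (.leaf (nat_lit 154025739))) (.leaf (nat_lit
    124641030)))))))) (.node (.node (.node (.node (.node (.node (.node (.leaf (nat_lit 3408387))
    (.leaf (nat_lit 96058370))) (.leaf (nat_lit 82340106))) (.node (.node (.leaf (nat_lit
    12109571)) (.leaf (nat_lit 110499844))) (.leaf (nat_lit 105464578)))) (.node (.node (.node
    (.leaf (nat_lit 26768392)) (.leaf (nat_lit 120454154))) (.leaf (nat_lit 67469568))) (.node
    (.node (.leaf (nat_lit 57468679)) (.leaf (nat_lit 141702664))) (.leaf (nat_lit 116971271)))))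
    (.node (.node (.node (.node (.leaf (nat_lit 9966601)) (.leaf (nat_lit 129035018))) (.leaf
    (nat_lit 40140809))) (.node (.node (.leaf (nat_lit 11290116)) (.leaf (nat_lit 144812551)))
    (.leaf (nat_lit 99724038)))) (.node (.node (.node (.leaf (nat_lit 36190983)) (.leaf (nat_lit
    68028673))) (.leaf (nat_lit 102288130))) (.node (.node (.leaf (nat_lit 70323467)) (.leaf
    (nat_lit 151919111))) (.leaf (nat_lit 114151941)))))) (.node (.node (.node (.node (.node (.leaf
    (nat_lit 7348230)) (.leaf (nat_lit 77698817))) (.leaf (nat_lit 88109322))) (.node (.node (.leaf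
    (nat_lit 49337346)) (.leaf (nat_lit 142962181))) (.leaf (nat_lit 108109569)))) (.node (.node
    (.node (.leaf (nat_lit 36708869)) (.leaf (nat_lit 113113345))) (.leaf (nat_lit 79249416)))
    (.node (.node (.leaf (nat_lit 64551688)) (.leaf (nat_lit 142228740))) (.leaf (nat_lit
    119847178))))) (.node (.node (.node (.node (.leaf (nat_lit 22550536)) (.leaf (nat_lit
    130882058))) (.leaf (nat_lit 101268227))) (.node (.node (.leaf (nat_lit 12598273)) (.leaf
    (nat_lit 116273163))) (.leaf (nat_lit 43889922)))) (.node (.node (.node (.leaf (nat_lit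
    7874818)) (.leaf (nat_lit 74839810))) (.leaf (nat_lit 53009160))) (.node (.node (.leaf (nat_lit
    71115265)) (.leaf (nat_lit 147474946))) (.leaf (nat_lit 102095877))))))) (.node (.node (.node
    (.node (.node (.node (.leaf (nat_lit 1053442)) (.leaf (nat_lit 118088962))) (.leaf (nat_lit
    62210311))) (.node (.node (.leaf (nat_lit 13946374)) (.leaf (nat_lit 134618370))) (.leaf
    (nat_lit 106534667)))) (.node (.node (.node (.leaf (nat_lit 8421641)) (.leaf (nat_lit
    107610119))) (.leaf (nat_lit 64307978))) (.node (.node (.leaf (nat_lit 61141256)) (.leaf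
    (nat_lit 149286155))) (.leaf (nat_lit 67224325))))) (.node (.node (.node (.node (.leaf (nat_lit
    14960390)) (.leaf (nat_lit 130098695))) (.leaf (nat_lit 33912069))) (.node (.node (.leaf
    (nat_lit 6566658)) (.leaf (nat_lit 143272968))) (.leaf (nat_lit 63287555)))) (.node (.node
    (.node (.leaf (nat_lit 45623302)) (.leaf (nat_lit 137752069))) (.leaf (nat_lit 87389441)))
    (.node (.node (.leaf (nat_lit 23401729)) (.leaf (nat_lit 147474185))) (.leaf (nat_lit
    52024834)))))) (.node (.node (.node (.node (.node (.leaf (nat_lit 12070407)) (.leaf (nat_lit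
    109372417))) (.leaf (nat_lit 39411461))) (.node (.node (.leaf (nat_lit 5515266)) (.leaf
    (nat_lit 143990785))) (.leaf (nat_lit 110687498)))) (.node (.node (.node (.leaf (nat_lit
    39855109)) (.leaf (nat_lit 135594504))) (.leaf (nat_lit 86867456))) (.node (.node (.leaf
    (nat_lit 19203077)) (.leaf (nat_lit 151139332))) (.leaf (nat_lit 120911620))))) (.node (.node
    (.node (.node (.leaf (nat_lit 7104515)) (.leaf (nat_lit 108656644))) (.leaf (nat_lit
    101746184))) (.node (.node (.leaf (nat_lit 57422598)) (.leaf (nat_lit 93467401))) (.leaf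
    (nat_lit 58571017)))) (.node (.node (.node (.leaf (nat_lit 36224262)) (.leaf (nat_lit
    107614987))) (.leaf (nat_lit 104394500))) (.node (.leaf (nat_lit 79979786)) (.leaf (nat_lit
    82960394)))))))))) (.node (.node (.node (.node (.node (.node (.node (.node (.node (.leaf
    (nat_lit 262665)) (.leaf (nat_lit 59105798))) (.leaf (nat_lit 38302731))) (.node (.node (.leaf
    (nat_lit 51129605)) (.leaf (nat_lit 107091205))) (.leaf (nat_lit 70356993)))) (.node (.node
    (.node (.leaf (nat_lit 28318475)) (.leaf (nat_lit 63830786))) (.leaf (nat_lit 103057154)))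
    (.node (.node (.leaf (nat_lit 37019137)) (.leaf (nat_lit 148192772))) (.leaf (nat_lit
    54079498))))) (.node (.node (.node (.node (.leaf (nat_lit 13111298)) (.leaf (nat_lit
    119608586))) (.leaf (nat_lit 93152267))) (.node (.node (.leaf (nat_lit 10490372)) (.leaf
    (nat_lit 121251329))) (.leaf (nat_lit 104966149)))) (.node (.node (.node (.leaf (nat_lit
    10263044)) (.leaf (nat_lit 73244677))) (.leaf (nat_lit 48814088))) (.node (.node (.leaf
    (nat_lit 68749067)) (.leaf (nat_lit 151402500))) (.leaf (nat_lit 121753607)))))) (.node (.node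
    (.node (.node (.node (.leaf (nat_lit 6297605)) (.leaf (nat_lit 127718667))) (.leaf (nat_lit
    85486856))) (.node (.node (.leaf (nat_lit 13423106)) (.leaf (nat_lit 142415878))) (.leaf
    (nat_lit 39427076)))) (.node (.node (.node (.leaf (nat_lit 12879109)) (.leaf (nat_lit
    126222602))) (.leaf (nat_lit 78987784))) (.node (.node (.leaf (nat_lit 64025862)) (.leaf
    (nat_lit 124664578))) (.leaf (nat_lit 48875014))))) (.node (.node (.node (.node (.leaf (nat_lit
    19666187)) (.leaf (nat_lit 108632322))) (.leaf (nat_lit 65894913))) (.node (.node (.leaf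
    (nat_lit 18898948)) (.leaf (nat_lit 134098440))) (.leaf (nat_lit 51491339)))) (.node (.node
    (.node (.leaf (nat_lit 47458570)) (.leaf (nat_lit 68816641))) (.leaf (nat_lit 70349827)))
    (.node (.node (.leaf (nat_lit 74469122)) (.leaf (nat_lit 144066565))) (.leaf (nat_lit
    97638153))))))) (.node (.node (.node (.node (.node (.node (.leaf (nat_lit 262402)) (.leaf
    (nat_lit 119365895))) (.leaf (nat_lit 83400449))) (.node (.node (.leaf (nat_lit 52480263))
    (.leaf (nat_lit 141104129))) (.leaf (nat_lit 105942279)))) (.node (.node (.node (.leaf (nat_lit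
    6827266)) (.leaf (nat_lit 133519881))) (.leaf (nat_lit 34931466))) (.node (.node (.leaf
    (nat_lit 61657089)) (.leaf (nat_lit 148988165))) (.leaf (nat_lit 117748994))))) (.node (.node
    (.node (.node (.leaf (nat_lit 5783042)) (.leaf (nat_lit 58846977))) (.leaf (nat_lit 95714055)))
    (.node (.node (.leaf (nat_lit 10240000)) (.leaf (nat_lit 104475146))) (.leaf (nat_lit
    112501001)))) (.node (.node (.node (.leaf (nat_lit 42739210)) (.leaf (nat_lit 137165825)))
    (.leaf (nat_lit 70092036))) (.node (.node (.leaf (nat_lit 70848522)) (.leaf (nat_lit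
    152192267))) (.leaf (nat_lit 92918785)))))) (.node (.node (.node (.node (.node (.leaf (nat_lit
    9702148)) (.leaf (nat_lit 74050311))) (.leaf (nat_lit 89682437))) (.node (.node (.leaf (nat_lit
    45892357)) (.leaf (nat_lit 132784644))) (.leaf (nat_lit 49914370)))) (.node (.node (.node
    (.leaf (nat_lit 37495305)) (.leaf (nat_lit 66716424))) (.leaf (nat_lit 58784006))) (.node
    (.node (.leaf (nat_lit 66864134)) (.leaf (nat_lit 150599943))) (.leaf (nat_lit 49138433)))))
    (.node (.node (.node (.node (.leaf (nat_lit 23861506)) (.leaf (nat_lit 61207815))) (.leaf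
    (nat_lit 68502531))) (.node (.node (.leaf (nat_lit 14193920)) (.leaf (nat_lit 128332034)))
    (.leaf (nat_lit 71415297)))) (.node (.node (.node (.leaf (nat_lit 8153088)) (.leaf (nat_lit
    68817159))) (.leaf (nat_lit 94169348))) (.node (.node (.leaf (nat_lit 77617416)) (.leaf
    (nat_lit 149572355))) (.leaf (nat_lit 125374730)))))))) (.node (.node (.node (.node (.node
    (.node (.node (.leaf (nat_lit 2883850)) (.leaf (nat_lit 97069831))) (.leaf (nat_lit 81815816)))
    (.node (.node (.leaf (nat_lit 12633352)) (.leaf (nat_lit 139859716))) (.leaf (nat_lit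
    84513282)))) (.node (.node (.node (.leaf (nat_lit 28340745)) (.leaf (nat_lit 74784007))) (.leaf
    (nat_lit 88166407))) (.node (.node (.leaf (nat_lit 42525960)) (.leaf (nat_lit 129119746)))
    (.leaf (nat_lit 114408966))))) (.node (.node (.node (.node (.leaf (nat_lit 5257217)) (.leaf
    (nat_lit 57011204))) (.leaf (nat_lit 94927618))) (.node (.node (.leaf (nat_lit 12599810))
    (.leaf (nat_lit 76687365))) (.leaf (nat_lit 112031235)))) (.node (.node (.node (.leaf (nat_lit
    34381571)) (.leaf (nat_lit 120133641))) (.leaf (nat_lit 99655179))) (.node (.node (.leaf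
    (nat_lit 69798667)) (.leaf (nat_lit 141443841))) (.leaf (nat_lit 121954307)))))) (.node (.node
    (.node (.node (.node (.leaf (nat_lit 8134407)) (.leaf (nat_lit 69855494))) (.leaf (nat_lit
    87585032))) (.node (.node (.leaf (nat_lit 55340806)) (.leaf (nat_lit 142940936))) (.leaf
    (nat_lit 66166280)))) (.node (.node (.node (.leaf (nat_lit 36446724)) (.leaf (nat_lit
    134823427))) (.leaf (nat_lit 70292232))) (.node (.node (.leaf (nat_lit 54589953)) (.leaf
    (nat_lit 106839303))) (.leaf (nat_lit 119392265))))) (.node (.node (.node (.node (.leaf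
    (nat_lit 21501699)) (.leaf (nat_lit 61207045))) (.leaf (nat_lit 100761865))) (.node (.node
    (.leaf (nat_lit 55065861)) (.leaf (nat_lit 119942915))) (.leaf (nat_lit 114379267)))) (.node
    (.node (.node (.leaf (nat_lit 10778112)) (.leaf (nat_lit 74846214))) (.leaf (nat_lit
    93900810))) (.node (.node (.leaf (nat_lit 76044038)) (.leaf (nat_lit 153740807))) (.leaf
    (nat_lit 124569610))))))) (.node (.node (.node (.node (.node (.node (.leaf (nat_lit 790793))
    (.leaf (nat_lit 127194121))) (.leaf (nat_lit 28394244))) (.node (.node (.leaf (nat_lit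
    12635394)) (.leaf (nat_lit 141695498))) (.leaf (nat_lit 106266376)))) (.node (.node (.node
    (.leaf (nat_lit 33562378)) (.leaf (nat_lit 134033929))) (.leaf (nat_lit 78973441))) (.node
    (.node (.leaf (nat_lit 37548038)) (.leaf (nat_lit 130693379))) (.leaf (nat_lit 47825668)))))
    (.node (.node (.node (.node (.leaf (nat_lit 18355211)) (.leaf (nat_lit 130350859))) (.leaf
    (nat_lit 96564230))) (.node (.node (.leaf (nat_lit 6566148)) (.leaf (nat_lit 132525057)))
    (.leaf (nat_lit 113307907)))) (.node (.node (.node (.leaf (nat_lit 45099012)) (.leaf (nat_lit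
    137690115))) (.leaf (nat_lit 65366018))) (.node (.node (.leaf (nat_lit 72371467)) (.leaf
    (nat_lit 146949639))) (.leaf (nat_lit 76653825)))))) (.node (.node (.node (.node (.node (.leaf
    (nat_lit 4467718)) (.leaf (nat_lit 97349379))) (.leaf (nat_lit 68508679))) (.node (.node (.leaf
    (nat_lit 22334720)) (.leaf (nat_lit 139076610))) (.leaf (nat_lit 42575361)))) (.node (.node
    (.node (.leaf (nat_lit 38835465)) (.leaf (nat_lit 105514247))) (.leaf (nat_lit 43079943)))
    (.node (.node (.leaf (nat_lit 67912969)) (.leaf (nat_lit 108675079))) (.leaf (nat_lit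
    86887681))))) (.node (.node (.node (.node (.leaf (nat_lit 7628296)) (.leaf (nat_lit
    106559240))) (.leaf (nat_lit 61945096))) (.node (.node (.leaf (nat_lit 56898058)) (.leaf
    (nat_lit 138294026))) (.leaf (nat_lit 66172934)))) (.node (.node (.node (.leaf (nat_lit
    11582467)) (.leaf (nat_lit 139292674))) (.leaf (nat_lit 104173065))) (.node (.leaf (nat_lit
    27078150)) (.leaf (nat_lit 54910977))))))))) (.node (.node (.node (.node (.node (.node (.node
    (.node (.leaf (nat_lit 1310977)) (.leaf (nat_lit 59087108))) (.leaf (nat_lit 80766466))) (.node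
    (.node (.leaf (nat_lit 51391750)) (.leaf (nat_lit 140113927))) (.leaf (nat_lit 54887426))))
    (.node (.node (.node (.leaf (nat_lit 28848901)) (.leaf (nat_lit 133241606))) (.leaf (nat_lit
    41245185))) (.node (.node (.leaf (nat_lit 59258123)) (.leaf (nat_lit 148253706))) (.leaf
    (nat_lit 116700169))))) (.node (.node (.node (.node (.leaf (nat_lit 14422531)) (.leaf (nat_lit
    78454789))) (.leaf (nat_lit 32335621))) (.node (.node (.leaf (nat_lit 18371584)) (.leaf
    (nat_lit 136980225))) (.leaf (nat_lit 111451145)))) (.node (.node (.node (.leaf (nat_lit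
    11312642)) (.leaf (nat_lit 136160009))) (.leaf (nat_lit 56934662))) (.node (.node (.leaf
    (nat_lit 69273862)) (.leaf (nat_lit 151645697))) (.leaf (nat_lit 112780041)))))) (.node (.node
    (.node (.node (.node (.leaf (nat_lit 7342346)) (.leaf (nat_lit 84797445))) (.leaf (nat_lit
    86535688))) (.node (.node (.leaf (nat_lit 43552516)) (.leaf (nat_lit 137502467))) (.leaf
    (nat_lit 80321795)))) (.node (.node (.node (.leaf (nat_lit 10258438)) (.leaf (nat_lit
    113115658))) (.leaf (nat_lit 38604298))) (.node (.node (.leaf (nat_lit 65028359)) (.leaf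
    (nat_lit 129121289))) (.leaf (nat_lit 118825482))))) (.node (.node (.node (.node (.leaf
    (nat_lit 20467206)) (.leaf (nat_lit 81866500))) (.leaf (nat_lit 56983045))) (.node (.node
    (.leaf (nat_lit 16024064)) (.leaf (nat_lit 126234123))) (.leaf (nat_lit 114082827)))) (.node
    (.node (.node (.leaf (nat_lit 48281863)) (.leaf (nat_lit 112532998))) (.leaf (nat_lit
    54844422))) (.node (.node (.leaf (nat_lit 57745416)) (.leaf (nat_lit 129911049))) (.leaf
    (nat_lit 124045320))))))) (.node (.node (.node (.node (.node (.node (.leaf (nat_lit 263936))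
    (.leaf (nat_lit 87680002))) (.leaf (nat_lit 83913473))) (.node (.node (.leaf (nat_lit
    53005067)) (.leaf (nat_lit 72751881))) (.leaf (nat_lit 106204426)))) (.node (.node (.node
    (.leaf (nat_lit 32775939)) (.leaf (nat_lit 133789962))) (.leaf (nat_lit 81063174))) (.node
    (.node (.leaf (nat_lit 62143242)) (.leaf (nat_lit 96876553))) (.leaf (nat_lit 50184706)))))
    (.node (.node (.node (.node (.leaf (nat_lit 16270086)) (.leaf (nat_lit 81391626))) (.leaf
    (nat_lit 96763403))) (.node (.node (.leaf (nat_lit 37502723)) (.leaf (nat_lit 109456131)))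
    (.leaf (nat_lit 60141320)))) (.node (.node (.node (.leaf (nat_lit 43528711)) (.leaf (nat_lit
    137427970))) (.leaf (nat_lit 36009476))) (.node (.node (.leaf (nat_lit 71635462)) (.leaf
    (nat_lit 152454153))) (.leaf (nat_lit 110744837)))))) (.node (.node (.node (.node (.node (.leaf
    (nat_lit 10751496)) (.leaf (nat_lit 115948547))) (.leaf (nat_lit 90237442))) (.node (.node
    (.leaf (nat_lit 6064896)) (.leaf (nat_lit 140387074))) (.leaf (nat_lit 64070402)))) (.node
    (.node (.node (.leaf (nat_lit 38300932)) (.leaf (nat_lit 84280326))) (.leaf (nat_lit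
    37046794))) (.node (.node (.leaf (nat_lit 67388427)) (.leaf (nat_lit 130170627))) (.leaf
    (nat_lit 78760971))))) (.node (.node (.node (.node (.leaf (nat_lit 25434625)) (.leaf (nat_lit
    131454468))) (.leaf (nat_lit 80827648))) (.node (.node (.leaf (nat_lit 56373515)) (.leaf
    (nat_lit 132002310))) (.leaf (nat_lit 86619905)))) (.node (.node (.node (.leaf (nat_lit
    46950660)) (.leaf (nat_lit 78516746))) (.leaf (nat_lit 44141831))) (.node (.leaf (nat_lit
    78406664)) (.leaf (nat_lit 58579716)))))))) (.node (.node (.node (.node (.node (.node (.node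
    (.leaf (nat_lit 3673862)) (.leaf (nat_lit 116507655))) (.leaf (nat_lit 28392198))) (.node
    (.node (.leaf (nat_lit 12105472)) (.leaf (nat_lit 140841735))) (.leaf (nat_lit 105485065))))
    (.node (.node (.node (.leaf (nat_lit 7894535)) (.leaf (nat_lit 96861192))) (.leaf (nat_lit
    34931979))) (.node (.node (.leaf (nat_lit 30205953)) (.leaf (nat_lit 96614146))) (.leaf
    (nat_lit 114671366))))) (.node (.node (.node (.node (.leaf (nat_lit 15208968)) (.leaf (nat_lit
    128576778))) (.leaf (nat_lit 35953670))) (.node (.node (.leaf (nat_lit 45889795)) (.leaf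
    (nat_lit 128592132))) (.leaf (nat_lit 95529985)))) (.node (.node (.node (.leaf (nat_lit
    41952519)) (.leaf (nat_lit 136645124))) (.leaf (nat_lit 96771331))) (.node (.node (.leaf
    (nat_lit 29953543)) (.leaf (nat_lit 141181958))) (.leaf (nat_lit 122216452)))))) (.node (.node
    (.node (.node (.node (.leaf (nat_lit 3154181)) (.leaf (nat_lit 128521218))) (.leaf (nat_lit
    43077893))) (.node (.node (.leaf (nat_lit 40424713)) (.leaf (nat_lit 142958602))) (.leaf
    (nat_lit 109090313)))) (.node (.node (.node (.leaf (nat_lit 36728324)) (.leaf (nat_lit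
    125426179))) (.leaf (nat_lit 37785607))) (.node (.node (.leaf (nat_lit 63503366)) (.leaf
    (nat_lit 150564619))) (.leaf (nat_lit 119855617))))) (.node (.node (.node (.node (.leaf
    (nat_lit 22815495)) (.leaf (nat_lit 101839874))) (.leaf (nat_lit 30490883))) (.node (.node
    (.leaf (nat_lit 11553284)) (.leaf (nat_lit 115748868))) (.leaf (nat_lit 71415044)))) (.node
    (.node (.node (.leaf (nat_lit 47218436)) (.leaf (nat_lit 138520073))) (.leaf (nat_lit
    62482694))) (.node (.node (.leaf (nat_lit 57221896)) (.leaf (nat_lit 149834249))) (.leaf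
    (nat_lit 125094152))))))) (.node (.node (.node (.node (.node (.node (.leaf (nat_lit 5505796))
    (.leaf (nat_lit 127263755))) (.leaf (nat_lit 39905800))) (.node (.node (.leaf (nat_lit
    50384901)) (.leaf (nat_lit 134094084))) (.leaf (nat_lit 107059467)))) (.node (.node (.node
    (.leaf (nat_lit 34349058)) (.leaf (nat_lit 134322690))) (.leaf (nat_lit 29707786))) (.node
    (.node (.leaf (nat_lit 63716875)) (.leaf (nat_lit 115489281))) (.leaf (nat_lit 118536200)))))
    (.node (.node (.node (.node (.leaf (nat_lit 14174210)) (.leaf (nat_lit 129836547))) (.leaf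
    (nat_lit 98336770))) (.node (.node (.leaf (nat_lit 8667394)) (.leaf (nat_lit 107359495)))
    (.leaf (nat_lit 95006984)))) (.node (.node (.node (.leaf (nat_lit 40677121)) (.leaf (nat_lit
    137952260))) (.leaf (nat_lit 57986821))) (.node (.node (.leaf (nat_lit 23402243)) (.leaf
    (nat_lit 143542020))) (.leaf (nat_lit 111007237)))))) (.node (.node (.node (.node (.node (.leaf
    (nat_lit 11284230)) (.leaf (nat_lit 121494787))) (.leaf (nat_lit 68509697))) (.node (.node
    (.leaf (nat_lit 6038275)) (.leaf (nat_lit 116270341))) (.leaf (nat_lit 70100741)))) (.node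
    (.node (.node (.leaf (nat_lit 39885062)) (.leaf (nat_lit 87426563))) (.leaf (nat_lit
    100485898))) (.node (.node (.leaf (nat_lit 50398212)) (.leaf (nat_lit 138559752))) (.leaf
    (nat_lit 59624965))))) (.node (.node (.node (.node (.leaf (nat_lit 27552263)) (.leaf (nat_lit
    59635971))) (.leaf (nat_lit 102270474))) (.node (.node (.leaf (nat_lit 17357572)) (.leaf
    (nat_lit 83506185))) (.leaf (nat_lit 71940618)))) (.node (.node (.node (.leaf (nat_lit
    49069833)) (.leaf (nat_lit 78255109))) (.leaf (nat_lit 104173322))) (.node (.leaf (nat_lit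
    80032267)) (.leaf (nat_lit 123855111)))))))))))) (.node (.node (.node (.node (.node (.node
    (.node (.node (.node (.node (.node (.leaf (nat_lit 3)) (.leaf (nat_lit 126155012))) (.leaf
    (nat_lit 80504321))) (.node (.node (.leaf (nat_lit 50605064)) (.leaf (nat_lit 124916744)))
    (.leaf (nat_lit 104695559)))) (.node (.node (.node (.leaf (nat_lit 25453056)) (.leaf (nat_lit
    132703489))) (.leaf (nat_lit 102532619))) (.node (.node (.leaf (nat_lit 20765704)) (.leaf
    (nat_lit 126497794))) (.leaf (nat_lit 115981065))))) (.node (.node (.node (.node (.leaf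
    (nat_lit 12333067)) (.leaf (nat_lit 20467207))) (.leaf (nat_lit 92627465))) (.node (.node
    (.leaf (nat_lit 11293700)) (.leaf (nat_lit 78521862))) (.leaf (nat_lit 110977799)))) (.node
    (.node (.node (.leaf (nat_lit 34904322)) (.leaf (nat_lit 112854534))) (.leaf (nat_lit
    50167558))) (.node (.node (.leaf (nat_lit 67962122)) (.leaf (nat_lit 150618370))) (.leaf
    (nat_lit 93179401)))))) (.node (.node (.node (.node (.node (.leaf (nat_lit 5767943)) (.leaf
    (nat_lit 127254531))) (.leaf (nat_lit 62692613))) (.node (.node (.leaf (nat_lit 51695880))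
    (.leaf (nat_lit 109452806))) (.leaf (nat_lit 107515913)))) (.node (.node (.node (.leaf (nat_lit
    34611203)) (.leaf (nat_lit 107610370))) (.leaf (nat_lit 102583814))) (.node (.node (.leaf
    (nat_lit 63979269)) (.leaf (nat_lit 149536264))) (.leaf (nat_lit 118605065))))) (.node (.node
    (.node (.node (.leaf (nat_lit 19141897)) (.leaf (nat_lit 81880323))) (.leaf (nat_lit
    98598915))) (.node (.node (.leaf (nat_lit 7357700)) (.leaf (nat_lit 126758148))) (.leaf
    (nat_lit 44151299)))) (.node (.node (.node (.leaf (nat_lit 10793223)) (.leaf (nat_lit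
    69078535))) (.leaf (nat_lit 87085318))) (.node (.node (.leaf (nat_lit 73682439)) (.leaf
    (nat_lit 152958471))) (.leaf (nat_lit 123303176))))))) (.node (.node (.node (.node (.node
    (.node (.leaf (nat_lit 2625281)) (.leaf (nat_lit 92653316))) (.leaf (nat_lit 82918665))) (.node
    (.node (.leaf (nat_lit 12069379)) (.leaf (nat_lit 139860227))) (.leaf (nat_lit 105679882))))
    (.node (.node (.node (.leaf (nat_lit 31727109)) (.leaf (nat_lit 111540740))) (.leaf (nat_lit
    67994368))) (.node (.node (.leaf (nat_lit 16050440)) (.leaf (nat_lit 135149317))) (.leaf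
    (nat_lit 117233927))))) (.node (.node (.node (.node (.leaf (nat_lit 15733258)) (.leaf (nat_lit
    76410376))) (.leaf (nat_lit 35429638))) (.node (.node (.leaf (nat_lit 16297731)) (.leaf
    (nat_lit 79571206))) (.leaf (nat_lit 112238854)))) (.node (.node (.node (.leaf (nat_lit
    10002436)) (.leaf (nat_lit 128322056))) (.leaf (nat_lit 95521024))) (.node (.node (.leaf
    (nat_lit 62983942)) (.leaf (nat_lit 142230529))) (.leaf (nat_lit 122496005)))))) (.node (.node
    (.node (.node (.node (.leaf (nat_lit 3154433)) (.leaf (nat_lit 57010947))) (.leaf (nat_lit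
    88896002))) (.node (.node (.leaf (nat_lit 55854849)) (.leaf (nat_lit 133571079))) (.leaf
    (nat_lit 63545608)))) (.node (.node (.node (.leaf (nat_lit 12356867)) (.leaf (nat_lit
    67502849))) (.leaf (nat_lit 87603972))) (.node (.node (.leaf (nat_lit 63765766)) (.leaf
    (nat_lit 106577413))) (.leaf (nat_lit 49138181))))) (.node (.node (.node (.node (.leaf (nat_lit
    23091206)) (.leaf (nat_lit 131173636))) (.leaf (nat_lit 68502279))) (.node (.node (.leaf
    (nat_lit 14453259)) (.leaf (nat_lit 147141638))) (.leaf (nat_lit 81376520)))) (.node (.node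
    (.node (.leaf (nat_lit 46955015)) (.leaf (nat_lit 112595201))) (.leaf (nat_lit 62485508)))
    (.node (.node (.leaf (nat_lit 23143433)) (.leaf (nat_lit 154003207))) (.leaf (nat_lit
    125165065)))))))) (.node (.node (.node (.node (.node (.node (.node (.leaf (nat_lit 1835267))
    (.leaf (nat_lit 122760195))) (.leaf (nat_lit 27079939))) (.node (.node (.leaf (nat_lit
    33342466)) (.leaf (nat_lit 140317194))) (.leaf (nat_lit 67735809)))) (.node (.node (.node
    (.leaf (nat_lit 29367300)) (.leaf (nat_lit 74259207))) (.leaf (nat_lit 88121602))) (.node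
    (.node (.leaf (nat_lit 59520522)) (.leaf (nat_lit 148455686))) (.leaf (nat_lit 92912898)))))
    (.node (.node (.node (.node (.leaf (nat_lit 5256962)) (.leaf (nat_lit 118608643))) (.leaf
    (nat_lit 32598021))) (.node (.node (.leaf (nat_lit 10243331)) (.leaf (nat_lit 142223107)))
    (.leaf (nat_lit 68790792)))) (.node (.node (.node (.leaf (nat_lit 41459462)) (.leaf (nat_lit
    119408651))) (.leaf (nat_lit 87129344))) (.node (.node (.leaf (nat_lit 61933826)) (.leaf
    (nat_lit 151891979))) (.leaf (nat_lit 112828683)))))) (.node (.node (.node (.node (.node (.leaf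
    (nat_lit 7347467)) (.leaf (nat_lit 128046346))) (.leaf (nat_lit 87059978))) (.node (.node
    (.leaf (nat_lit 55324932)) (.leaf (nat_lit 74588164))) (.leaf (nat_lit 107819271)))) (.node
    (.node (.node (.leaf (nat_lit 35424522)) (.leaf (nat_lit 117834245))) (.leaf (nat_lit
    39391237))) (.node (.node (.leaf (nat_lit 35190786)) (.leaf (nat_lit 127810561))) (.leaf
    (nat_lit 96311046))))) (.node (.node (.node (.node (.leaf (nat_lit 20729605)) (.leaf (nat_lit
    58585602))) (.leaf (nat_lit 100237067))) (.node (.node (.leaf (nat_lit 55069446)) (.leaf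
    (nat_lit 119942919))) (.leaf (nat_lit 114106632)))) (.node (.node (.node (.leaf (nat_lit
    47218435)) (.leaf (nat_lit 138259716))) (.leaf (nat_lit 94456834))) (.node (.node (.leaf
    (nat_lit 38609159)) (.leaf (nat_lit 127551746))) (.leaf (nat_lit 124377607))))))) (.node (.node
    (.node (.node (.node (.node (.leaf (nat_lit 524803)) (.leaf (nat_lit 126944006))) (.leaf
    (nat_lit 84175618))) (.node (.node (.leaf (nat_lit 12635137)) (.leaf (nat_lit 141628675)))
    (.leaf (nat_lit 105747718)))) (.node (.node (.node (.leaf (nat_lit 26246658)) (.leaf (nat_lit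
    134014466))) (.leaf (nat_lit 81331211))) (.node (.node (.leaf (nat_lit 62189067)) (.leaf
    (nat_lit 113391877))) (.leaf (nat_lit 61456901))))) (.node (.node (.node (.node (.leaf (nat_lit
    8930057)) (.leaf (nat_lit 130342145))) (.leaf (nat_lit 97025800))) (.node (.node (.leaf
    (nat_lit 13131008)) (.leaf (nat_lit 141961995))) (.leaf (nat_lit 53063687)))) (.node (.node
    (.node (.leaf (nat_lit 43821067)) (.leaf (nat_lit 125963274))) (.leaf (nat_lit 98601217)))
    (.node (.node (.leaf (nat_lit 49877505)) (.leaf (nat_lit 147473926))) (.leaf (nat_lit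
    123008010)))))) (.node (.node (.node (.node (.node (.leaf (nat_lit 11020807)) (.leaf (nat_lit
    59089153))) (.leaf (nat_lit 90731275))) (.node (.node (.leaf (nat_lit 8933888)) (.leaf (nat_lit
    74851081))) (.leaf (nat_lit 110139914)))) (.node (.node (.node (.leaf (nat_lit 38310662))
    (.leaf (nat_lit 135395850))) (.leaf (nat_lit 84459016))) (.node (.node (.leaf (nat_lit
    67650823)) (.leaf (nat_lit 142753544))) (.leaf (nat_lit 79809542))))) (.node (.node (.node
    (.node (.leaf (nat_lit 25958915)) (.leaf (nat_lit 75625985))) (.leaf (nat_lit 29963777)))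
    (.node (.node (.leaf (nat_lit 34658309)) (.leaf (nat_lit 147443976))) (.leaf (nat_lit
    80590598)))) (.node (.node (.node (.leaf (nat_lit 47757832)) (.leaf (nat_lit 139263240)))
    (.leaf (nat_lit 53316866))) (.node (.leaf (nat_lit 78720007)) (.leaf (nat_lit 70115075)))))))))
    (.node (.node (.node (.node (.node (.node (.node (.node (.leaf (nat_lit 786442)) (.leaf
    (nat_lit 126431496))) (.leaf (nat_lit 39612934))) (.node (.node (.leaf (nat_lit 27575041))
    (.leaf (nat_lit 125441547))) (.leaf (nat_lit 87396356)))) (.node (.node (.node (.leaf (nat_lit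
    28580865)) (.leaf (nat_lit 132992778))) (.leaf (nat_lit 103319299))) (.node (.node (.leaf
    (nat_lit 17358339)) (.leaf (nat_lit 104740098))) (.leaf (nat_lit 107012865))))) (.node (.node
    (.node (.node (.leaf (nat_lit 4469507)) (.leaf (nat_lit 123541002))) (.leaf (nat_lit
    93878793))) (.node (.node (.leaf (nat_lit 10490629)) (.leaf (nat_lit 144515338))) (.leaf
    (nat_lit 93431810)))) (.node (.node (.node (.leaf (nat_lit 13933320)) (.leaf (nat_lit
    64620290))) (.leaf (nat_lit 49108738))) (.node (.node (.leaf (nat_lit 69224453)) (.leaf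
    (nat_lit 150356488))) (.leaf (nat_lit 121726467)))))) (.node (.node (.node (.node (.node (.leaf
    (nat_lit 6035722)) (.leaf (nat_lit 60417797))) (.leaf (nat_lit 86011146))) (.node (.node (.leaf
    (nat_lit 55064328)) (.leaf (nat_lit 111288075))) (.leaf (nat_lit 108099338)))) (.node (.node
    (.node (.leaf (nat_lit 9995782)) (.leaf (nat_lit 73264385))) (.leaf (nat_lit 43861504))) (.node
    (.node (.leaf (nat_lit 64503562)) (.leaf (nat_lit 130693892))) (.leaf (nat_lit 106284548)))))
    (.node (.node (.node (.node (.leaf (nat_lit 19928584)) (.leaf (nat_lit 93706499))) (.leaf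
    (nat_lit 99648520))) (.node (.node (.leaf (nat_lit 14173187)) (.leaf (nat_lit 145632775)))
    (.leaf (nat_lit 114074372)))) (.node (.node (.node (.leaf (nat_lit 47494667)) (.leaf (nat_lit
    138240777))) (.leaf (nat_lit 42299396))) (.node (.node (.leaf (nat_lit 23141635)) (.leaf
    (nat_lit 143017988))) (.leaf (nat_lit 52025348))))))) (.node (.node (.node (.node (.node (.node
    (.leaf (nat_lit 2625284)) (.leaf (nat_lit 108126985))) (.leaf (nat_lit 83443467))) (.node
    (.node (.leaf (nat_lit 26528004)) (.leaf (nat_lit 122821126))) (.leaf (nat_lit 66688001))))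
    (.node (.node (.node (.leaf (nat_lit 32008707)) (.leaf (nat_lit 133752321))) (.leaf (nat_lit
    82396416))) (.node (.node (.leaf (nat_lit 61881094)) (.leaf (nat_lit 132790282))) (.leaf
    (nat_lit 60932360))))) (.node (.node (.node (.node (.leaf (nat_lit 16531465)) (.leaf (nat_lit
    129821707))) (.leaf (nat_lit 96239113))) (.node (.node (.leaf (nat_lit 10228489)) (.leaf
    (nat_lit 126495236))) (.leaf (nat_lit 93433345)))) (.node (.node (.node (.leaf (nat_lit
    18129929)) (.leaf (nat_lit 102632200))) (.leaf (nat_lit 94997248))) (.node (.node (.leaf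
    (nat_lit 69275906)) (.leaf (nat_lit 141706502))) (.leaf (nat_lit 116495370)))))) (.node (.node
    (.node (.node (.node (.leaf (nat_lit 10226695)) (.leaf (nat_lit 74010373))) (.leaf (nat_lit
    89944840))) (.node (.node (.leaf (nat_lit 18651904)) (.leaf (nat_lit 143465482))) (.leaf
    (nat_lit 80847369)))) (.node (.node (.node (.leaf (nat_lit 38019595)) (.leaf (nat_lit
    135326211))) (.leaf (nat_lit 99175681))) (.node (.node (.leaf (nat_lit 29687553)) (.leaf
    (nat_lit 136199941))) (.leaf (nat_lit 108907270))))) (.node (.node (.node (.node (.leaf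
    (nat_lit 24385796)) (.leaf (nat_lit 65926406))) (.leaf (nat_lit 101286667))) (.node (.node
    (.leaf (nat_lit 17082377)) (.leaf (nat_lit 147191563))) (.leaf (nat_lit 80852486)))) (.node
    (.node (.node (.leaf (nat_lit 7909888)) (.leaf (nat_lit 112595458))) (.leaf (nat_lit
    54887940))) (.node (.node (.leaf (nat_lit 77881354)) (.leaf (nat_lit 146688777))) (.leaf
    (nat_lit 71687944)))))))) (.node (.node (.node (.node (.node (.node (.node (.leaf (nat_lit
    2886667)) (.leaf (nat_lit 97083652))) (.leaf (nat_lit 82131207))) (.node (.node (.leaf (nat_lit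
    52178435)) (.leaf (nat_lit 140579588))) (.leaf (nat_lit 105417739)))) (.node (.node (.node
    (.leaf (nat_lit 30416136)) (.leaf (nat_lit 111483653))) (.leaf (nat_lit 34906889))) (.node
    (.node (.leaf (nat_lit 60570117)) (.leaf (nat_lit 148515080))) (.leaf (nat_lit 116971777)))))
    (.node (.node (.node (.node (.leaf (nat_lit 5257221)) (.leaf (nat_lit 81128453))) (.leaf
    (nat_lit 32545033))) (.node (.node (.leaf (nat_lit 6047238)) (.leaf (nat_lit 121251844)))
    (.leaf (nat_lit 111976203)))) (.node (.node (.node (.leaf (nat_lit 14453256)) (.leaf (nat_lit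
    117573895))) (.leaf (nat_lit 61945099))) (.node (.node (.leaf (nat_lit 70535435)) (.leaf
    (nat_lit 151920129))) (.leaf (nat_lit 122016267)))))) (.node (.node (.node (.node (.node (.leaf
    (nat_lit 8391178)) (.leaf (nat_lit 76359681))) (.leaf (nat_lit 70864642))) (.node (.node (.leaf
    (nat_lit 49599489)) (.leaf (nat_lit 76685575))) (.leaf (nat_lit 92380934)))) (.node (.node
    (.node (.leaf (nat_lit 9734914)) (.leaf (nat_lit 113093122))) (.leaf (nat_lit 83953928)))
    (.node (.node (.leaf (nat_lit 65815048)) (.leaf (nat_lit 136985858))) (.leaf (nat_lit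
    118867970))))) (.node (.node (.node (.node (.leaf (nat_lit 22288134)) (.leaf (nat_lit
    75625226))) (.leaf (nat_lit 56197637))) (.node (.node (.leaf (nat_lit 12336130)) (.leaf
    (nat_lit 146879243))) (.leaf (nat_lit 114598914)))) (.node (.node (.node (.leaf (nat_lit
    7874823)) (.leaf (nat_lit 124591369))) (.leaf (nat_lit 57460232))) (.node (.node (.leaf
    (nat_lit 67707394)) (.leaf (nat_lit 146950657))) (.leaf (nat_lit 124640267))))))) (.node (.node
    (.node (.node (.node (.node (.leaf (nat_lit 4981506)) (.leaf (nat_lit 118351105))) (.leaf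
    (nat_lit 84995330))) (.node (.node (.leaf (nat_lit 49860101)) (.leaf (nat_lit 134618375)))
    (.leaf (nat_lit 106728971)))) (.node (.node (.node (.leaf (nat_lit 33587467)) (.leaf (nat_lit
    134288646))) (.leaf (nat_lit 84478218))) (.node (.node (.leaf (nat_lit 63192328)) (.leaf
    (nat_lit 127547656))) (.leaf (nat_lit 107856646))))) (.node (.node (.node (.node (.leaf
    (nat_lit 18617607)) (.leaf (nat_lit 104408581))) (.leaf (nat_lit 97613067))) (.node (.node
    (.leaf (nat_lit 20198152)) (.leaf (nat_lit 145892362))) (.leaf (nat_lit 44151042)))) (.node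
    (.node (.node (.leaf (nat_lit 22064395)) (.leaf (nat_lit 133827845))) (.leaf (nat_lit
    65893634))) (.node (.node (.leaf (nat_lit 72633857)) (.leaf (nat_lit 152717067))) (.leaf
    (nat_lit 123258114)))))) (.node (.node (.node (.node (.node (.leaf (nat_lit 11808265)) (.leaf
    (nat_lit 119653635))) (.leaf (nat_lit 92042245))) (.node (.node (.leaf (nat_lit 5286144))
    (.leaf (nat_lit 132523017))) (.leaf (nat_lit 110707467)))) (.node (.node (.node (.leaf (nat_lit
    39360267)) (.leaf (nat_lit 135601163))) (.leaf (nat_lit 50678534))) (.node (.node (.leaf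
    (nat_lit 68175367)) (.leaf (nat_lit 151131651))) (.leaf (nat_lit 120916483))))) (.node (.node
    (.node (.node (.leaf (nat_lit 27269891)) (.leaf (nat_lit 59897857))) (.leaf (nat_lit
    70866948))) (.node (.node (.leaf (nat_lit 56941067)) (.leaf (nat_lit 144323331))) (.leaf
    (nat_lit 115456267)))) (.node (.node (.node (.leaf (nat_lit 11582724)) (.leaf (nat_lit
    139321606))) (.leaf (nat_lit 70094338))) (.node (.leaf (nat_lit 79507465)) (.leaf (nat_lit
    125936392)))))))))) (.node (.node (.node (.node (.node (.node (.node (.node (.node (.leaf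
    (nat_lit 524297)) (.leaf (nat_lit 79815178))) (.leaf (nat_lit 38300425))) (.node (.node (.leaf
    (nat_lit 11846147)) (.leaf (nat_lit 119411974))) (.leaf (nat_lit 104892679)))) (.node (.node
    (.node (.leaf (nat_lit 27028232)) (.leaf (nat_lit 132965634))) (.leaf (nat_lit 102795009)))
    (.node (.node (.leaf (nat_lit 28630534)) (.leaf (nat_lit 147983881))) (.leaf (nat_lit
    79805186))))) (.node (.node (.node (.node (.leaf (nat_lit 4468993)) (.leaf (nat_lit 72730888)))
    (.leaf (nat_lit 93354251))) (.node (.node (.leaf (nat_lit 12604674)) (.leaf (nat_lit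
    120727042))) (.leaf (nat_lit 111188999)))) (.node (.node (.node (.leaf (nat_lit 10000899))
    (.leaf (nat_lit 135862026))) (.leaf (nat_lit 50649098))) (.node (.node (.leaf (nat_lit
    68962059)) (.leaf (nat_lit 151398402))) (.leaf (nat_lit 121491465)))))) (.node (.node (.node
    (.node (.node (.leaf (nat_lit 6292487)) (.leaf (nat_lit 60155397))) (.leaf (nat_lit 62211330)))
    (.node (.node (.leaf (nat_lit 13685249)) (.leaf (nat_lit 73276938))) (.leaf (nat_lit
    108040452)))) (.node (.node (.node (.leaf (nat_lit 8684804)) (.leaf (nat_lit 134557961)))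
    (.leaf (nat_lit 69545480))) (.node (.node (.leaf (nat_lit 64241414)) (.leaf (nat_lit
    141179658))) (.leaf (nat_lit 90293770))))) (.node (.node (.node (.node (.leaf (nat_lit
    15747589)) (.leaf (nat_lit 97361414))) (.leaf (nat_lit 99123207))) (.node (.node (.leaf
    (nat_lit 25181956)) (.leaf (nat_lit 146354696))) (.leaf (nat_lit 51753477)))) (.node (.node
    (.node (.leaf (nat_lit 46969862)) (.leaf (nat_lit 138214657))) (.leaf (nat_lit 87389186)))
    (.node (.node (.leaf (nat_lit 23141121)) (.leaf (nat_lit 116279302))) (.leaf (nat_lit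
    123537417))))))) (.node (.node (.node (.node (.node (.node (.leaf (nat_lit 262407)) (.leaf
    (nat_lit 78475780))) (.leaf (nat_lit 28130821))) (.node (.node (.leaf (nat_lit 52480262))
    (.leaf (nat_lit 109713674))) (.leaf (nat_lit 80843523)))) (.node (.node (.node (.leaf (nat_lit
    11821312)) (.leaf (nat_lit 74579205))) (.leaf (nat_lit 68500227))) (.node (.node (.leaf
    (nat_lit 15788807)) (.leaf (nat_lit 148764937))) (.leaf (nat_lit 117489411))))) (.node (.node
    (.node (.node (.leaf (nat_lit 6307329)) (.leaf (nat_lit 129817601))) (.leaf (nat_lit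
    32599044))) (.node (.node (.leaf (nat_lit 37237768)) (.leaf (nat_lit 77998599))) (.leaf
    (nat_lit 112290051)))) (.node (.node (.node (.leaf (nat_lit 42246667)) (.leaf (nat_lit
    73009673))) (.leaf (nat_lit 64587011))) (.node (.node (.leaf (nat_lit 69799944)) (.leaf
    (nat_lit 152416523))) (.leaf (nat_lit 116773895)))))) (.node (.node (.node (.node (.node (.leaf
    (nat_lit 3154947)) (.leaf (nat_lit 95021835))) (.leaf (nat_lit 89420292))) (.node (.node (.leaf
    (nat_lit 14996741)) (.leaf (nat_lit 133046787))) (.leaf (nat_lit 50438657)))) (.node (.node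
    (.node (.leaf (nat_lit 10259970)) (.leaf (nat_lit 123863813))) (.leaf (nat_lit 65882112)))
    (.node (.node (.leaf (nat_lit 66648579)) (.leaf (nat_lit 150588932))) (.leaf (nat_lit
    120371713))))) (.node (.node (.node (.node (.leaf (nat_lit 23599361)) (.leaf (nat_lit
    131200265))) (.leaf (nat_lit 92335364))) (.node (.node (.leaf (nat_lit 22819336)) (.leaf
    (nat_lit 128069889))) (.leaf (nat_lit 43890179)))) (.node (.node (.node (.leaf (nat_lit
    7109888)) (.leaf (nat_lit 138765321))) (.leaf (nat_lit 61175558))) (.node (.node (.leaf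
    (nat_lit 77355271)) (.leaf (nat_lit 151669506))) (.leaf (nat_lit 72211974)))))))) (.node (.node
    (.node (.node (.node (.node (.node (.leaf (nat_lit 2361862)) (.leaf (nat_lit 111731204)))
    (.leaf (nat_lit 39925512))) (.node (.node (.leaf (nat_lit 51653898)) (.leaf (nat_lit
    72226565))) (.leaf (nat_lit 105417736)))) (.node (.node (.node (.leaf (nat_lit 29891593))
    (.leaf (nat_lit 74521607))) (.leaf (nat_lit 90790407))) (.node (.node (.leaf (nat_lit
    60045578)) (.leaf (nat_lit 128857601))) (.leaf (nat_lit 116962314))))) (.node (.node (.node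
    (.node (.leaf (nat_lit 4995076)) (.leaf (nat_lit 129029892))) (.leaf (nat_lit 75852040)))
    (.node (.node (.leaf (nat_lit 12337665)) (.leaf (nat_lit 90843145))) (.leaf (nat_lit
    112032002)))) (.node (.node (.node (.leaf (nat_lit 9723912)) (.leaf (nat_lit 136432137)))
    (.leaf (nat_lit 103906315))) (.node (.node (.leaf (nat_lit 70010891)) (.leaf (nat_lit
    128598790))) (.leaf (nat_lit 121953287)))))) (.node (.node (.node (.node (.node (.leaf (nat_lit
    7872265)) (.leaf (nat_lit 84535557))) (.leaf (nat_lit 58019078))) (.node (.node (.leaf (nat_lit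
    34394886)) (.leaf (nat_lit 142743561))) (.leaf (nat_lit 108564744)))) (.node (.node (.node
    (.leaf (nat_lit 9472514)) (.leaf (nat_lit 134823684))) (.leaf (nat_lit 38603528))) (.node
    (.node (.leaf (nat_lit 19200518)) (.leaf (nat_lit 106839302))) (.leaf (nat_lit 119585033)))))
    (.node (.node (.node (.node (.leaf (nat_lit 20205831)) (.leaf (nat_lit 60944907))) (.leaf
    (nat_lit 100959497))) (.node (.node (.leaf (nat_lit 41696515)) (.leaf (nat_lit 120205060)))
    (.leaf (nat_lit 114373385)))) (.node (.node (.node (.leaf (nat_lit 7909376)) (.leaf (nat_lit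
    112594948))) (.leaf (nat_lit 54617864))) (.node (.node (.leaf (nat_lit 54075651)) (.leaf
    (nat_lit 153241864))) (.leaf (nat_lit 124070150))))))) (.node (.node (.node (.node (.node
    (.node (.leaf (nat_lit 4198667)) (.leaf (nat_lit 126995203))) (.leaf (nat_lit 84699908)))
    (.node (.node (.leaf (nat_lit 53751554)) (.leaf (nat_lit 141696007))) (.leaf (nat_lit
    106271495)))) (.node (.node (.node (.leaf (nat_lit 33062663)) (.leaf (nat_lit 60423943)))
    (.leaf (nat_lit 100216324))) (.node (.node (.leaf (nat_lit 62930183)) (.leaf (nat_lit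
    124926210))) (.leaf (nat_lit 118273284))))) (.node (.node (.node (.node (.leaf (nat_lit
    17057029)) (.leaf (nat_lit 130342151))) (.leaf (nat_lit 97550090))) (.node (.node (.leaf
    (nat_lit 18116352)) (.leaf (nat_lit 107097092))) (.leaf (nat_lit 113339145)))) (.node (.node
    (.node (.leaf (nat_lit 44836867)) (.leaf (nat_lit 137469958))) (.leaf (nat_lit 99159044)))
    (.node (.node (.leaf (nat_lit 58004232)) (.leaf (nat_lit 130958851))) (.leaf (nat_lit
    106538242)))))) (.node (.node (.node (.node (.node (.leaf (nat_lit 11283467)) (.leaf (nat_lit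
    77720068))) (.leaf (nat_lit 91255810))) (.node (.node (.leaf (nat_lit 22068224)) (.leaf
    (nat_lit 138814465))) (.leaf (nat_lit 110664705)))) (.node (.node (.node (.leaf (nat_lit
    39068425)) (.leaf (nat_lit 100533505))) (.leaf (nat_lit 43863559))) (.node (.node (.leaf
    (nat_lit 30212612)) (.leaf (nat_lit 145637382))) (.leaf (nat_lit 117820679))))) (.node (.node
    (.node (.node (.leaf (nat_lit 26745354)) (.leaf (nat_lit 131915784))) (.leaf (nat_lit
    29963522))) (.node (.node (.leaf (nat_lit 39901188)) (.leaf (nat_lit 113128199))) (.leaf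
    (nat_lit 106805256)))) (.node (.node (.node (.leaf (nat_lit 49294083)) (.leaf (nat_lit
    96867074))) (.leaf (nat_lit 104368137))) (.node (.leaf (nat_lit 78982667)) (.leaf (nat_lit
    53338116))))))))) (.node (.node (.node (.node (.node (.node (.node (.node (.leaf (nat_lit
    1049605)) (.leaf (nat_lit 59088648))) (.leaf (nat_lit 79991042))) (.node (.node (.leaf (nat_lit
    11803139)) (.leaf (nat_lit 126490113))) (.leaf (nat_lit 53052420)))) (.node (.node (.node
    (.leaf (nat_lit 7630338)) (.leaf (nat_lit 63831043))) (.leaf (nat_lit 37063688))) (.node (.node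
    (.leaf (nat_lit 58995978)) (.leaf (nat_lit 148251659))) (.leaf (nat_lit 116438024))))) (.node
    (.node (.node (.node (.leaf (nat_lit 14160135)) (.leaf (nat_lit 82956039))) (.leaf (nat_lit
    93153030))) (.node (.node (.leaf (nat_lit 18112000)) (.leaf (nat_lit 118892293))) (.leaf
    (nat_lit 54097929)))) (.node (.node (.node (.leaf (nat_lit 41428229)) (.leaf (nat_lit
    98699013))) (.leaf (nat_lit 50681603))) (.node (.node (.leaf (nat_lit 69486598)) (.leaf
    (nat_lit 151643908))) (.leaf (nat_lit 121480198)))))) (.node (.node (.node (.node (.node (.leaf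
    (nat_lit 7084807)) (.leaf (nat_lit 64874502))) (.leaf (nat_lit 58804486))) (.node (.node (.leaf
    (nat_lit 18910979)) (.leaf (nat_lit 137240324))) (.leaf (nat_lit 108109058)))) (.node (.node
    (.node (.leaf (nat_lit 30181381)) (.leaf (nat_lit 77988360))) (.leaf (nat_lit 39652869)))
    (.node (.node (.leaf (nat_lit 43841289)) (.leaf (nat_lit 122829835))) (.leaf (nat_lit
    90555913))))) (.node (.node (.node (.node (.leaf (nat_lit 20452874)) (.leaf (nat_lit
    79550724))) (.leaf (nat_lit 100172810))) (.node (.node (.leaf (nat_lit 7621380)) (.leaf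
    (nat_lit 146371334))) (.leaf (nat_lit 52015877)))) (.node (.node (.node (.leaf (nat_lit
    48281862)) (.leaf (nat_lit 130620937))) (.leaf (nat_lit 98106888))) (.node (.node (.leaf
    (nat_lit 75517704)) (.leaf (nat_lit 153241867))) (.leaf (nat_lit 104978441))))))) (.node (.node
    (.node (.node (.node (.node (.leaf (nat_lit 264192)) (.leaf (nat_lit 126931976))) (.leaf
    (nat_lit 39665409))) (.node (.node (.leaf (nat_lit 53227019)) (.leaf (nat_lit 119937800)))
    (.leaf (nat_lit 95261705)))) (.node (.node (.node (.leaf (nat_lit 32275467)) (.leaf (nat_lit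
    133784843))) (.leaf (nat_lit 68499972))) (.node (.node (.leaf (nat_lit 49867780)) (.leaf
    (nat_lit 147732483))) (.leaf (nat_lit 47825411))))) (.node (.node (.node (.node (.leaf (nat_lit
    17568775)) (.leaf (nat_lit 95023110))) (.leaf (nat_lit 33648646))) (.node (.node (.leaf
    (nat_lit 13123335)) (.leaf (nat_lit 107358978))) (.leaf (nat_lit 113025544)))) (.node (.node
    (.node (.leaf (nat_lit 43529730)) (.leaf (nat_lit 137207811))) (.leaf (nat_lit 93364740)))
    (.node (.node (.leaf (nat_lit 71847174)) (.leaf (nat_lit 150095111))) (.leaf (nat_lit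
    52024577)))))) (.node (.node (.node (.node (.node (.leaf (nat_lit 10491658)) (.leaf (nat_lit
    121453569))) (.leaf (nat_lit 90256391))) (.node (.node (.leaf (nat_lit 45893378)) (.leaf
    (nat_lit 132522757))) (.leaf (nat_lit 69313281)))) (.node (.node (.node (.leaf (nat_lit
    29135361)) (.leaf (nat_lit 81134599))) (.leaf (nat_lit 103894280))) (.node (.node (.leaf
    (nat_lit 67134983)) (.leaf (nat_lit 122044161))) (.leaf (nat_lit 120634891))))) (.node (.node
    (.node (.node (.leaf (nat_lit 17850369)) (.leaf (nat_lit 131454211))) (.leaf (nat_lit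
    29963012))) (.node (.node (.leaf (nat_lit 56111370)) (.leaf (nat_lit 121778698))) (.leaf
    (nat_lit 43890436)))) (.node (.node (.node (.leaf (nat_lit 46950659)) (.leaf (nat_lit
    139018250))) (.leaf (nat_lit 104105992))) (.node (.leaf (nat_lit 42281481)) (.leaf (nat_lit
    103931649)))))))) (.node (.node (.node (.node (.node (.node (.node (.leaf (nat_lit 3932678))
    (.leaf (nat_lit 118602753))) (.leaf (nat_lit 82393867))) (.node (.node (.leaf (nat_lit
    46974977)) (.leaf (nat_lit 140645639))) (.leaf (nat_lit 105679881)))) (.node (.node (.node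
    (.leaf (nat_lit 30940674)) (.leaf (nat_lit 111541250))) (.leaf (nat_lit 68518400))) (.node
    (.node (.leaf (nat_lit 28895239)) (.leaf (nat_lit 96876289))) (.leaf (nat_lit 47824645)))))
    (.node (.node (.node (.node (.leaf (nat_lit 6306050)) (.leaf (nat_lit 110226696))) (.leaf
    (nat_lit 35428619))) (.node (.node (.leaf (nat_lit 6573058)) (.leaf (nat_lit 106834177)))
    (.leaf (nat_lit 62761991)))) (.node (.node (.node (.leaf (nat_lit 15502852)) (.leaf (nat_lit
    136640259))) (.leaf (nat_lit 102025483))) (.node (.node (.leaf (nat_lit 70585865)) (.leaf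
    (nat_lit 128861192))) (.leaf (nat_lit 57790980)))))) (.node (.node (.node (.node (.node (.leaf
    (nat_lit 8397067)) (.leaf (nat_lit 110225922))) (.leaf (nat_lit 88166667))) (.node (.node
    (.leaf (nat_lit 55849225)) (.leaf (nat_lit 142940939))) (.leaf (nat_lit 80322308)))) (.node
    (.node (.node (.leaf (nat_lit 36728067)) (.leaf (nat_lit 124337411))) (.leaf (nat_lit
    83705351))) (.node (.node (.leaf (nat_lit 38075400)) (.leaf (nat_lit 117325064))) (.leaf
    (nat_lit 56215809))))) (.node (.node (.node (.node (.leaf (nat_lit 9983746)) (.leaf (nat_lit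
    114160647))) (.leaf (nat_lit 84237824))) (.node (.node (.leaf (nat_lit 11291139)) (.leaf
    (nat_lit 130953217))) (.leaf (nat_lit 47035658)))) (.node (.node (.node (.leaf (nat_lit
    48265473)) (.leaf (nat_lit 131930883))) (.leaf (nat_lit 94694155))) (.node (.node (.leaf
    (nat_lit 76306186)) (.leaf (nat_lit 144067080))) (.leaf (nat_lit 124837636))))))) (.node (.node
    (.node (.node (.node (.node (.leaf (nat_lit 5247750)) (.leaf (nat_lit 127194122))) (.leaf
    (nat_lit 27060743))) (.node (.node (.leaf (nat_lit 54538247)) (.leaf (nat_lit 132259081)))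
    (.leaf (nat_lit 107253515)))) (.node (.node (.node (.leaf (nat_lit 29393414)) (.leaf (nat_lit
    134322953))) (.leaf (nat_lit 87642368))) (.node (.node (.leaf (nat_lit 39645704)) (.leaf
    (nat_lit 129382917))) (.leaf (nat_lit 118292233))))) (.node (.node (.node (.node (.leaf
    (nat_lit 18879752)) (.leaf (nat_lit 121972226))) (.leaf (nat_lit 33912321))) (.node (.node
    (.leaf (nat_lit 8405249)) (.leaf (nat_lit 145108230))) (.leaf (nat_lit 99725572)))) (.node
    (.node (.node (.leaf (nat_lit 45885447)) (.leaf (nat_lit 104729864))) (.leaf (nat_lit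
    54349061))) (.node (.node (.leaf (nat_lit 73158147)) (.leaf (nat_lit 139872001))) (.leaf
    (nat_lit 70112774)))))) (.node (.node (.node (.node (.node (.leaf (nat_lit 12324618)) (.leaf
    (nat_lit 121494786))) (.leaf (nat_lit 92304391))) (.node (.node (.leaf (nat_lit 6038020))
    (.leaf (nat_lit 76686595))) (.leaf (nat_lit 93102595)))) (.node (.node (.node (.leaf (nat_lit
    40117254)) (.leaf (nat_lit 70387202))) (.leaf (nat_lit 78990084))) (.node (.node (.leaf
    (nat_lit 49873923)) (.leaf (nat_lit 151365128))) (.leaf (nat_lit 93965830))))) (.node (.node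
    (.node (.node (.leaf (nat_lit 27552262)) (.leaf (nat_lit 132440579))) (.leaf (nat_lit
    62752001))) (.node (.node (.leaf (nat_lit 38591233)) (.leaf (nat_lit 109982731))) (.leaf
    (nat_lit 115913480)))) (.node (.node (.node (.leaf (nat_lit 50080521)) (.leaf (nat_lit
    74585097))) (.leaf (nat_lit 104630282))) (.node (.leaf (nat_lit 80241931)) (.leaf (nat_lit
    98689289))))))))))) (.node (.node (.node (.node (.node (.node (.node (.node (.node (.node
    (.leaf (nat_lit 7)) (.leaf (nat_lit 126211846))) (.leaf (nat_lit 68236040))) (.node (.node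
    (.leaf (nat_lit 50118922)) (.leaf (nat_lit 81925386))) (.leaf (nat_lit 37850884)))) (.node
    (.node (.node (.leaf (nat_lit 6840583)) (.leaf (nat_lit 96598536))) (.leaf (nat_lit 88442629)))
    (.node (.node (.leaf (nat_lit 57728267)) (.leaf (nat_lit 147992068))) (.leaf (nat_lit
    116243207))))) (.node (.node (.node (.node (.leaf (nat_lit 11546630)) (.leaf (nat_lit
    72946951))) (.leaf (nat_lit 93092106))) (.node (.node (.leaf (nat_lit 55596033)) (.leaf
    (nat_lit 133047819))) (.leaf (nat_lit 98887432)))) (.node (.node (.node (.leaf (nat_lit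
    40141316)) (.leaf (nat_lit 123078152))) (.leaf (nat_lit 100483591))) (.node (.node (.leaf
    (nat_lit 41223688)) (.leaf (nat_lit 145899781))) (.leaf (nat_lit 121422600)))))) (.node (.node
    (.node (.node (.node (.leaf (nat_lit 6030089)) (.leaf (nat_lit 110487048))) (.leaf (nat_lit
    85224455))) (.node (.node (.leaf (nat_lit 55062787)) (.leaf (nat_lit 142162950))) (.leaf
    (nat_lit 107778307)))) (.node (.node (.node (.leaf (nat_lit 34615814)) (.leaf (nat_lit
    107610374))) (.leaf (nat_lit 84197384))) (.node (.node (.leaf (nat_lit 63997955)) (.leaf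
    (nat_lit 113654533))) (.leaf (nat_lit 97371394))))) (.node (.node (.node (.node (.leaf (nat_lit
    6048007)) (.leaf (nat_lit 107275268))) (.leaf (nat_lit 98861060))) (.node (.node (.leaf
    (nat_lit 36717825)) (.leaf (nat_lit 146095880))) (.leaf (nat_lit 63287810)))) (.node (.node
    (.node (.leaf (nat_lit 46934277)) (.leaf (nat_lit 138020619))) (.leaf (nat_lit 33649671)))
    (.node (.node (.leaf (nat_lit 72423945)) (.leaf (nat_lit 153204490))) (.leaf (nat_lit
    52025091))))))) (.node (.node (.node (.node (.node (.node (.leaf (nat_lit 263680)) (.leaf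
    (nat_lit 119365890))) (.leaf (nat_lit 83388938))) (.node (.node (.leaf (nat_lit 51169283))
    (.leaf (nat_lit 122296584))) (.leaf (nat_lit 105723137)))) (.node (.node (.node (.leaf (nat_lit
    31750662)) (.leaf (nat_lit 63831300))) (.leaf (nat_lit 70597378))) (.node (.node (.leaf
    (nat_lit 61139467)) (.leaf (nat_lit 145635083))) (.leaf (nat_lit 47824897))))) (.node (.node
    (.node (.node (.leaf (nat_lit 15744267)) (.leaf (nat_lit 129574410))) (.leaf (nat_lit
    32598787))) (.node (.node (.leaf (nat_lit 9190921)) (.leaf (nat_lit 145303557))) (.leaf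
    (nat_lit 112306955)))) (.node (.node (.node (.leaf (nat_lit 42214666)) (.leaf (nat_lit
    124127749))) (.leaf (nat_lit 61697032))) (.node (.node (.leaf (nat_lit 29691652)) (.leaf
    (nat_lit 152177156))) (.leaf (nat_lit 122541065)))))) (.node (.node (.node (.node (.node (.leaf
    (nat_lit 3154690)) (.leaf (nat_lit 128781573))) (.leaf (nat_lit 71914248))) (.node (.node
    (.leaf (nat_lit 55851268)) (.leaf (nat_lit 133308930))) (.leaf (nat_lit 109615111)))) (.node
    (.node (.node (.leaf (nat_lit 37233159)) (.leaf (nat_lit 87163651))) (.leaf (nat_lit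
    65358080))) (.node (.node (.leaf (nat_lit 58260999)) (.leaf (nat_lit 147734018))) (.leaf
    (nat_lit 56216066))))) (.node (.node (.node (.node (.leaf (nat_lit 23091467)) (.leaf (nat_lit
    131128843))) (.leaf (nat_lit 30491138))) (.node (.node (.leaf (nat_lit 13129216)) (.leaf
    (nat_lit 120205575))) (.leaf (nat_lit 114627080)))) (.node (.node (.node (.leaf (nat_lit
    33061124)) (.leaf (nat_lit 84283658))) (.leaf (nat_lit 98363146))) (.node (.node (.leaf
    (nat_lit 77092873)) (.leaf (nat_lit 134105862))) (.leaf (nat_lit 82173441)))))))) (.node (.node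
    (.node (.node (.node (.node (.node (.leaf (nat_lit 2359557)) (.leaf (nat_lit 111779594)))
    (.leaf (nat_lit 27080196))) (.node (.node (.leaf (nat_lit 48546820)) (.leaf (nat_lit
    130160392))) (.leaf (nat_lit 66949379)))) (.node (.node (.node (.leaf (nat_lit 29629447))
    (.leaf (nat_lit 23142144))) (.leaf (nat_lit 42245383))) (.node (.node (.leaf (nat_lit
    59565067)) (.leaf (nat_lit 129119751))) (.leaf (nat_lit 92619018))))) (.node (.node (.node
    (.node (.leaf (nat_lit 4732678)) (.leaf (nat_lit 116507651))) (.leaf (nat_lit 94665473)))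
    (.node (.node (.leaf (nat_lit 19945984)) (.leaf (nat_lit 144777739))) (.leaf (nat_lit
    111976200)))) (.node (.node (.node (.leaf (nat_lit 34643714)) (.leaf (nat_lit 81922053)))
    (.leaf (nat_lit 99699721))) (.node (.node (.leaf (nat_lit 19728904)) (.leaf (nat_lit
    149570313))) (.leaf (nat_lit 51761414)))))) (.node (.node (.node (.node (.node (.leaf (nat_lit
    7866888)) (.leaf (nat_lit 57272580))) (.leaf (nat_lit 87322123))) (.node (.node (.leaf (nat_lit
    13423361)) (.leaf (nat_lit 75112450))) (.leaf (nat_lit 107836939)))) (.node (.node (.node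
    (.leaf (nat_lit 9210371)) (.leaf (nat_lit 134844162))) (.leaf (nat_lit 70085888))) (.node
    (.node (.leaf (nat_lit 44103945)) (.leaf (nat_lit 150087433))) (.leaf (nat_lit 107071238)))))
    (.node (.node (.node (.node (.leaf (nat_lit 18632712)) (.leaf (nat_lit 98431494))) (.leaf
    (nat_lit 100481539))) (.node (.node (.leaf (nat_lit 8666369)) (.leaf (nat_lit 128069378)))
    (.leaf (nat_lit 43889665)))) (.node (.node (.node (.leaf (nat_lit 10792961)) (.leaf (nat_lit
    68816898))) (.leaf (nat_lit 67463171))) (.node (.node (.leaf (nat_lit 60629249)) (.leaf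
    (nat_lit 130959620))) (.leaf (nat_lit 124370955))))))) (.node (.node (.node (.node (.node
    (.node (.leaf (nat_lit 3149832)) (.leaf (nat_lit 126966018))) (.leaf (nat_lit 84437763)))
    (.node (.node (.leaf (nat_lit 37501442)) (.leaf (nat_lit 73014275))) (.leaf (nat_lit
    87921922)))) (.node (.node (.node (.leaf (nat_lit 33300230)) (.leaf (nat_lit 98696970))) (.leaf
    (nat_lit 84735750))) (.node (.node (.leaf (nat_lit 62667785)) (.leaf (nat_lit 128596235)))
    (.leaf (nat_lit 82690569))))) (.node (.node (.node (.node (.leaf (nat_lit 9978888)) (.leaf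
    (nat_lit 98169094))) (.leaf (nat_lit 97088265))) (.node (.node (.leaf (nat_lit 13654784))
    (.leaf (nat_lit 145595656))) (.leaf (nat_lit 95268869)))) (.node (.node (.node (.leaf (nat_lit
    44574722)) (.leaf (nat_lit 73272326))) (.leaf (nat_lit 40985604))) (.node (.node (.leaf
    (nat_lit 64295427)) (.leaf (nat_lit 127550977))) (.leaf (nat_lit 72193538)))))) (.node (.node
    (.node (.node (.node (.leaf (nat_lit 4205318)) (.leaf (nat_lit 110204675))) (.leaf (nat_lit
    44128773))) (.node (.node (.leaf (nat_lit 9443073)) (.leaf (nat_lit 138552326))) (.leaf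
    (nat_lit 110402059)))) (.node (.node (.node (.leaf (nat_lit 12358404)) (.leaf (nat_lit
    68551938))) (.leaf (nat_lit 59059205))) (.node (.node (.leaf (nat_lit 65077766)) (.leaf
    (nat_lit 134365192))) (.leaf (nat_lit 120897545))))) (.node (.node (.node (.node (.leaf
    (nat_lit 26483206)) (.leaf (nat_lit 131700228))) (.leaf (nat_lit 71906824))) (.node (.node
    (.leaf (nat_lit 18405377)) (.leaf (nat_lit 147667205))) (.leaf (nat_lit 115160329)))) (.node
    (.node (.node (.leaf (nat_lit 48806667)) (.leaf (nat_lit 108663562))) (.leaf (nat_lit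
    35753226))) (.node (.leaf (nat_lit 26815750)) (.leaf (nat_lit 124574980))))))))) (.node (.node
    (.node (.node (.node (.node (.node (.node (.leaf (nat_lit 1048587)) (.leaf (nat_lit
    122774020))) (.leaf (nat_lit 80253185))) (.node (.node (.leaf (nat_lit 6865408)) (.leaf
    (nat_lit 116004357))) (.leaf (nat_lit 101773575)))) (.node (.node (.node (.leaf (nat_lit
    13659398)) (.leaf (nat_lit 115733255))) (.leaf (nat_lit 103843591))) (.node (.node (.leaf
    (nat_lit 58733579)) (.leaf (nat_lit 136721670))) (.leaf (nat_lit 79749637))))) (.node (.node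
    (.node (.node (.leaf (nat_lit 4469764)) (.leaf (nat_lit 23406336))) (.leaf (nat_lit 79783431)))
    (.node (.node (.leaf (nat_lit 17063680)) (.leaf (nat_lit 129115912))) (.leaf (nat_lit
    110733316)))) (.node (.node (.node (.leaf (nat_lit 41165835)) (.leaf (nat_lit 70125313)))
    (.leaf (nat_lit 90487300))) (.node (.node (.leaf (nat_lit 69240323)) (.leaf (nat_lit
    149570053))) (.leaf (nat_lit 121713675)))))) (.node (.node (.node (.node (.node (.leaf (nat_lit
    7080201)) (.leaf (nat_lit 127981059))) (.leaf (nat_lit 86273291))) (.node (.node (.leaf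
    (nat_lit 37540359)) (.leaf (nat_lit 138026753))) (.leaf (nat_lit 108302599)))) (.node (.node
    (.node (.leaf (nat_lit 33851145)) (.leaf (nat_lit 127997705))) (.leaf (nat_lit 70866432)))
    (.node (.node (.leaf (nat_lit 64765707)) (.leaf (nat_lit 149824776))) (.leaf (nat_lit
    70895107))))) (.node (.node (.node (.node (.leaf (nat_lit 19942665)) (.leaf (nat_lit
    79509511))) (.leaf (nat_lit 99712265))) (.node (.node (.leaf (nat_lit 19689472)) (.leaf
    (nat_lit 146418946))) (.leaf (nat_lit 63288065)))) (.node (.node (.node (.leaf (nat_lit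
    48245253)) (.leaf (nat_lit 75088139))) (.leaf (nat_lit 69301257))) (.node (.node (.leaf
    (nat_lit 23141892)) (.leaf (nat_lit 153232647))) (.leaf (nat_lit 123848714))))))) (.node (.node
    (.node (.node (.node (.node (.leaf (nat_lit 2362883)) (.leaf (nat_lit 59892486))) (.leaf
    (nat_lit 82657030))) (.node (.node (.leaf (nat_lit 52964874)) (.leaf (nat_lit 125180677)))
    (.leaf (nat_lit 54629379)))) (.node (.node (.node (.leaf (nat_lit 8682248)) (.leaf (nat_lit
    129629701))) (.leaf (nat_lit 70597121))) (.node (.node (.leaf (nat_lit 19459079)) (.leaf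
    (nat_lit 121255938))) (.leaf (nat_lit 82166026))))) (.node (.node (.node (.node (.leaf (nat_lit
    17306379)) (.leaf (nat_lit 130079746))) (.leaf (nat_lit 96300807))) (.node (.node (.leaf
    (nat_lit 13909762)) (.leaf (nat_lit 137767432))) (.leaf (nat_lit 110734851)))) (.node (.node
    (.node (.leaf (nat_lit 43525897)) (.leaf (nat_lit 137207815))) (.leaf (nat_lit 94734848)))
    (.node (.node (.leaf (nat_lit 65081604)) (.leaf (nat_lit 127812868))) (.leaf (nat_lit
    122995969)))))) (.node (.node (.node (.node (.node (.leaf (nat_lit 4204552)) (.leaf (nat_lit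
    117250564))) (.leaf (nat_lit 90003465))) (.node (.node (.leaf (nat_lit 13911816)) (.leaf
    (nat_lit 124658440))) (.leaf (nat_lit 109683461)))) (.node (.node (.node (.leaf (nat_lit
    38281989)) (.leaf (nat_lit 67240963))) (.leaf (nat_lit 87389703))) (.node (.node (.leaf
    (nat_lit 67126282)) (.leaf (nat_lit 145112842))) (.leaf (nat_lit 105237257))))) (.node (.node
    (.node (.node (.leaf (nat_lit 24910086)) (.leaf (nat_lit 131390986))) (.leaf (nat_lit
    101527043))) (.node (.node (.leaf (nat_lit 19172867)) (.leaf (nat_lit 147175433))) (.leaf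
    (nat_lit 114897929)))) (.node (.node (.node (.leaf (nat_lit 7874820)) (.leaf (nat_lit
    133042693))) (.leaf (nat_lit 65106442))) (.node (.node (.leaf (nat_lit 78143499)) (.leaf
    (nat_lit 145115915))) (.leaf (nat_lit 53075717)))))))) (.node (.node (.node (.node (.node
    (.node (.node (.leaf (nat_lit 527619)) (.leaf (nat_lit 118608642))) (.leaf (nat_lit 28129798)))
    (.node (.node (.leaf (nat_lit 52440581)) (.leaf (nat_lit 131733505))) (.leaf (nat_lit
    84251139)))) (.node (.node (.node (.leaf (nat_lit 29914122)) (.leaf (nat_lit 133262858)))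
    (.leaf (nat_lit 34930952))) (.node (.node (.leaf (nat_lit 60832262)) (.leaf (nat_lit
    148721668))) (.leaf (nat_lit 117224459))))) (.node (.node (.node (.node (.leaf (nat_lit
    14946823)) (.leaf (nat_lit 94759946))) (.leaf (nat_lit 40143115))) (.node (.node (.leaf
    (nat_lit 11552259)) (.leaf (nat_lit 133572616))) (.leaf (nat_lit 112238345)))) (.node (.node
    (.node (.leaf (nat_lit 15505922)) (.leaf (nat_lit 86903042))) (.leaf (nat_lit 53052930)))
    (.node (.node (.leaf (nat_lit 19467529)) (.leaf (nat_lit 117064456))) (.leaf (nat_lit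
    52023814)))))) (.node (.node (.node (.node (.node (.leaf (nat_lit 2891781)) (.leaf (nat_lit
    128505353))) (.leaf (nat_lit 42815493))) (.node (.node (.leaf (nat_lit 39900163)) (.leaf
    (nat_lit 143005442))) (.leaf (nat_lit 107847426)))) (.node (.node (.node (.leaf (nat_lit
    29395969)) (.leaf (nat_lit 125384964))) (.leaf (nat_lit 83962634))) (.node (.node (.leaf
    (nat_lit 65338122)) (.leaf (nat_lit 141442307))) (.leaf (nat_lit 119130374))))) (.node (.node
    (.node (.node (.leaf (nat_lit 22812681)) (.leaf (nat_lit 131128840))) (.leaf (nat_lit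
    83975424))) (.node (.node (.leaf (nat_lit 36191237)) (.leaf (nat_lit 130166793))) (.leaf
    (nat_lit 86619395)))) (.node (.node (.node (.leaf (nat_lit 31225856)) (.leaf (nat_lit
    131931650))) (.leaf (nat_lit 51968263))) (.node (.node (.leaf (nat_lit 66920964)) (.leaf
    (nat_lit 152717827))) (.leaf (nat_lit 53337094))))))) (.node (.node (.node (.node (.node (.node
    (.leaf (nat_lit 5243651)) (.leaf (nat_lit 56222982))) (.leaf (nat_lit 62167048))) (.node (.node
    (.leaf (nat_lit 54275849)) (.leaf (nat_lit 134356225))) (.leaf (nat_lit 106991370)))) (.node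
    (.node (.node (.leaf (nat_lit 34086913)) (.leaf (nat_lit 134060547))) (.leaf (nat_lit
    37848835))) (.node (.node (.leaf (nat_lit 62714122)) (.leaf (nat_lit 149515018))) (.leaf
    (nat_lit 118292234))))) (.node (.node (.node (.node (.leaf (nat_lit 6309635)) (.leaf (nat_lit
    93661190))) (.leaf (nat_lit 96826630))) (.node (.node (.leaf (nat_lit 6566913)) (.leaf (nat_lit
    145860616))) (.leaf (nat_lit 53326087)))) (.node (.node (.node (.leaf (nat_lit 22326795))
    (.leaf (nat_lit 137690119))) (.leaf (nat_lit 70350084))) (.node (.node (.leaf (nat_lit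
    72896002)) (.leaf (nat_lit 131745541))) (.leaf (nat_lit 54384131)))))) (.node (.node (.node
    (.node (.node (.leaf (nat_lit 11021825)) (.leaf (nat_lit 59058435))) (.leaf (nat_lit
    89743114))) (.node (.node (.leaf (nat_lit 5025280)) (.leaf (nat_lit 140649729))) (.leaf
    (nat_lit 110926850)))) (.node (.node (.node (.leaf (nat_lit 11311105)) (.leaf (nat_lit
    135643145))) (.leaf (nat_lit 34687755))) (.node (.node (.leaf (nat_lit 65602566)) (.leaf
    (nat_lit 151111686))) (.leaf (nat_lit 121159690))))) (.node (.node (.node (.node (.leaf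
    (nat_lit 27532037)) (.leaf (nat_lit 125171718))) (.leaf (nat_lit 102008329))) (.node (.node
    (.leaf (nat_lit 28891910)) (.leaf (nat_lit 147722505))) (.leaf (nat_lit 63813893)))) (.node
    (.node (.node (.leaf (nat_lit 49818375)) (.leaf (nat_lit 139526667))) (.leaf (nat_lit
    103910916))) (.node (.leaf (nat_lit 78983430)) (.leaf (nat_lit 109394949)))))))))) (.node
    (.node (.node (.node (.node (.node (.node (.node (.node (.leaf (nat_lit 524807)) (.leaf
    (nat_lit 78766597))) (.leaf (nat_lit 29921803))) (.node (.node (.leaf (nat_lit 26526471))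
    (.leaf (nat_lit 139795976))) (.leaf (nat_lit 62492674)))) (.node (.node (.node (.leaf (nat_lit
    28077067)) (.leaf (nat_lit 63830791))) (.leaf (nat_lit 61704456))) (.node (.node (.leaf
    (nat_lit 38592002)) (.leaf (nat_lit 83768580))) (.leaf (nat_lit 59582977))))) (.node (.node
    (.node (.node (.leaf (nat_lit 4469250)) (.leaf (nat_lit 72734730))) (.leaf (nat_lit 32596998)))
    (.node (.node (.leaf (nat_lit 10490627)) (.leaf (nat_lit 144309001))) (.leaf (nat_lit
    101820422)))) (.node (.node (.node (.leaf (nat_lit 12884489)) (.leaf (nat_lit 73502730)))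
    (.leaf (nat_lit 56669704))) (.node (.node (.leaf (nat_lit 59049737)) (.leaf (nat_lit
    151397891))) (.leaf (nat_lit 79810561)))))) (.node (.node (.node (.node (.node (.leaf (nat_lit
    6554632)) (.leaf (nat_lit 127526667))) (.leaf (nat_lit 85749001))) (.node (.node (.leaf
    (nat_lit 29413893)) (.leaf (nat_lit 137240326))) (.leaf (nat_lit 61447174)))) (.node (.node
    (.node (.leaf (nat_lit 35135495)) (.leaf (nat_lit 129308163))) (.leaf (nat_lit 64833280)))
    (.node (.node (.leaf (nat_lit 56685831)) (.leaf (nat_lit 124926721))) (.leaf (nat_lit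
    61457922))))) (.node (.node (.node (.node (.leaf (nat_lit 19417867)) (.leaf (nat_lit
    108634371))) (.leaf (nat_lit 99385607))) (.node (.node (.leaf (nat_lit 37504001)) (.leaf
    (nat_lit 134622730))) (.leaf (nat_lit 95531528)))) (.node (.node (.node (.leaf (nat_lit
    11580680)) (.leaf (nat_lit 75108102))) (.leaf (nat_lit 96509188))) (.node (.node (.leaf
    (nat_lit 23141378)) (.leaf (nat_lit 139872258))) (.leaf (nat_lit 123564811))))))) (.node (.node
    (.node (.node (.node (.node (.leaf (nat_lit 2362882)) (.leaf (nat_lit 126668811))) (.leaf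
    (nat_lit 37830145))) (.node (.node (.leaf (nat_lit 32033026)) (.leaf (nat_lit 110238209)))
    (.leaf (nat_lit 105223173)))) (.node (.node (.node (.leaf (nat_lit 6827265)) (.leaf (nat_lit
    90045707))) (.leaf (nat_lit 56427269))) (.node (.node (.leaf (nat_lit 61656578)) (.leaf
    (nat_lit 140654597))) (.leaf (nat_lit 47825154))))) (.node (.node (.node (.node (.leaf (nat_lit
    16519944)) (.leaf (nat_lit 94760710))) (.leaf (nat_lit 38628616))) (.node (.node (.leaf
    (nat_lit 5022976)) (.leaf (nat_lit 137767435))) (.leaf (nat_lit 78228745)))) (.node (.node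
    (.node (.leaf (nat_lit 43001355)) (.leaf (nat_lit 69077761))) (.leaf (nat_lit 95258624)))
    (.node (.node (.leaf (nat_lit 71585029)) (.leaf (nat_lit 128861449))) (.leaf (nat_lit
    78763010)))))) (.node (.node (.node (.node (.node (.leaf (nat_lit 3155204)) (.leaf (nat_lit
    74006534))) (.leaf (nat_lit 39671301))) (.node (.node (.leaf (nat_lit 13676296)) (.leaf
    (nat_lit 111288840))) (.leaf (nat_lit 69575171)))) (.node (.node (.node (.leaf (nat_lit
    17600265)) (.leaf (nat_lit 98173705))) (.leaf (nat_lit 28637963))) (.node (.node (.leaf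
    (nat_lit 66649862)) (.leaf (nat_lit 132791816))) (.leaf (nat_lit 50711300))))) (.node (.node
    (.node (.node (.leaf (nat_lit 17849095)) (.leaf (nat_lit 123860225))) (.leaf (nat_lit
    85263619))) (.node (.node (.leaf (nat_lit 9188872)) (.leaf (nat_lit 119943428))) (.leaf
    (nat_lit 86619650)))) (.node (.node (.node (.leaf (nat_lit 7085828)) (.leaf (nat_lit
    139001092))) (.leaf (nat_lit 61171716))) (.node (.node (.leaf (nat_lit 56961032)) (.leaf
    (nat_lit 150096644))) (.leaf (nat_lit 125618442)))))))) (.node (.node (.node (.node (.node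
    (.node (.node (.leaf (nat_lit 1051400)) (.leaf (nat_lit 111731459))) (.leaf (nat_lit
    82077961))) (.node (.node (.leaf (nat_lit 51916043)) (.leaf (nat_lit 140383236))) (.leaf
    (nat_lit 38113798)))) (.node (.node (.node (.leaf (nat_lit 30153991)) (.leaf (nat_lit
    75046407))) (.leaf (nat_lit 102277895))) (.node (.node (.leaf (nat_lit 60307723)) (.leaf
    (nat_lit 117061124))) (.leaf (nat_lit 47562245))))) (.node (.node (.node (.node (.leaf (nat_lit
    5519362)) (.leaf (nat_lit 74050562))) (.leaf (nat_lit 32598530))) (.node (.node (.leaf (nat_lit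
    6570245)) (.leaf (nat_lit 122562566))) (.leaf (nat_lit 112031492)))) (.node (.node (.node
    (.leaf (nat_lit 9713929)) (.leaf (nat_lit 136639753))) (.leaf (nat_lit 99656197))) (.node
    (.node (.leaf (nat_lit 70273290)) (.leaf (nat_lit 136987396))) (.leaf (nat_lit 121953284))))))
    (.node (.node (.node (.node (.node (.leaf (nat_lit 7085825)) (.leaf (nat_lit 128256010)))
    (.leaf (nat_lit 87847177))) (.node (.node (.leaf (nat_lit 55587077)) (.leaf (nat_lit
    130425096))) (.leaf (nat_lit 107585034)))) (.node (.node (.node (.leaf (nat_lit 9210628))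
    (.leaf (nat_lit 78229252))) (.leaf (nat_lit 71121673))) (.node (.node (.leaf (nat_lit
    54065666)) (.leaf (nat_lit 106052874))) (.leaf (nat_lit 97372167))))) (.node (.node (.node
    (.node (.leaf (nat_lit 21763844)) (.leaf (nat_lit 130866440))) (.leaf (nat_lit 54362375)))
    (.node (.node (.leaf (nat_lit 14471690)) (.leaf (nat_lit 146677770))) (.leaf (nat_lit
    47035403)))) (.node (.node (.node (.leaf (nat_lit 10777856)) (.leaf (nat_lit 117513483)))
    (.leaf (nat_lit 59598342))) (.node (.node (.leaf (nat_lit 75833862)) (.leaf (nat_lit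
    138824197))) (.leaf (nat_lit 53074694))))))) (.node (.node (.node (.node (.node (.node (.leaf
    (nat_lit 4719361)) (.leaf (nat_lit 127001865))) (.leaf (nat_lit 84962055))) (.node (.node
    (.leaf (nat_lit 36490501)) (.leaf (nat_lit 141890821))) (.leaf (nat_lit 106466826)))) (.node
    (.node (.node (.leaf (nat_lit 32538632)) (.leaf (nat_lit 134276611))) (.leaf (nat_lit
    79235586))) (.node (.node (.leaf (nat_lit 35188737)) (.leaf (nat_lit 130431236))) (.leaf
    (nat_lit 50184961))))) (.node (.node (.node (.node (.leaf (nat_lit 18105867)) (.leaf (nat_lit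
    130401034))) (.leaf (nat_lit 33649669))) (.node (.node (.leaf (nat_lit 6566403)) (.leaf
    (nat_lit 111815682))) (.leaf (nat_lit 113343492)))) (.node (.node (.node (.leaf (nat_lit
    45361157)) (.leaf (nat_lit 69078275))) (.leaf (nat_lit 97876736))) (.node (.node (.leaf
    (nat_lit 72160267)) (.leaf (nat_lit 152687112))) (.leaf (nat_lit 110443782)))))) (.node (.node
    (.node (.node (.node (.leaf (nat_lit 11800328)) (.leaf (nat_lit 96323587))) (.leaf (nat_lit
    91517955))) (.node (.node (.leaf (nat_lit 4762368)) (.leaf (nat_lit 138552324))) (.leaf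
    (nat_lit 64595461)))) (.node (.node (.node (.leaf (nat_lit 39330570)) (.leaf (nat_lit
    90047750))) (.leaf (nat_lit 90489090))) (.node (.node (.leaf (nat_lit 43057929)) (.leaf
    (nat_lit 146161666))) (.leaf (nat_lit 68013314))))) (.node (.node (.node (.node (.leaf (nat_lit
    27007499)) (.leaf (nat_lit 131725066))) (.leaf (nat_lit 61427459))) (.node (.node (.leaf
    (nat_lit 23386376)) (.leaf (nat_lit 120992523))) (.leaf (nat_lit 63551493)))) (.node (.node
    (.node (.leaf (nat_lit 36486150)) (.leaf (nat_lit 139287044))) (.leaf (nat_lit 94998023)))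
    (.node (.leaf (nat_lit 79455496)) (.leaf (nat_lit 99737607))))))))) (.node (.node (.node (.node
    (.node (.node (.node (.node (.leaf (nat_lit 1573122)) (.leaf (nat_lit 108857096))) (.leaf
    (nat_lit 27079682))) (.node (.node (.leaf (nat_lit 51168262)) (.leaf (nat_lit 140108545)))
    (.leaf (nat_lit 105155591)))) (.node (.node (.node (.leaf (nat_lit 29105155)) (.leaf (nat_lit
    130358025))) (.leaf (nat_lit 90743041))) (.node (.node (.leaf (nat_lit 59040267)) (.leaf
    (nat_lit 132265224))) (.leaf (nat_lit 116505865))))) (.node (.node (.node (.node (.leaf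
    (nat_lit 4994819)) (.leaf (nat_lit 75567875))) (.leaf (nat_lit 94403083))) (.node (.node (.leaf
    (nat_lit 9719047)) (.leaf (nat_lit 141436676))) (.leaf (nat_lit 59353353)))) (.node (.node
    (.node (.leaf (nat_lit 11574785)) (.leaf (nat_lit 136175624))) (.leaf (nat_lit 92372737)))
    (.node (.node (.leaf (nat_lit 55642375)) (.leaf (nat_lit 151665159))) (.leaf (nat_lit
    63811081)))))) (.node (.node (.node (.node (.node (.leaf (nat_lit 2890758)) (.leaf (nat_lit
    127981063))) (.leaf (nat_lit 86797833))) (.node (.node (.leaf (nat_lit 15218179)) (.leaf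
    (nat_lit 108404488))) (.leaf (nat_lit 108343555)))) (.node (.node (.node (.leaf (nat_lit
    35922184)) (.leaf (nat_lit 120979974))) (.leaf (nat_lit 71393024))) (.node (.node (.leaf
    (nat_lit 25229318)) (.leaf (nat_lit 141704197))) (.leaf (nat_lit 76399877))))) (.node (.node
    (.node (.node (.leaf (nat_lit 20715019)) (.leaf (nat_lit 124085511))) (.leaf (nat_lit
    100216067))) (.node (.node (.leaf (nat_lit 36719362)) (.leaf (nat_lit 146617094))) (.leaf
    (nat_lit 114143754)))) (.node (.node (.node (.leaf (nat_lit 47233282)) (.leaf (nat_lit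
    138259718))) (.leaf (nat_lit 54844170))) (.node (.node (.leaf (nat_lit 73998346)) (.leaf
    (nat_lit 142756101))) (.leaf (nat_lit 124307465))))))) (.node (.node (.node (.node (.node
    (.node (.leaf (nat_lit 262404)) (.leaf (nat_lit 114418695))) (.leaf (nat_lit 28393473))) (.node
    (.node (.leaf (nat_lit 12372745)) (.leaf (nat_lit 141398027))) (.leaf (nat_lit 86611210))))
    (.node (.node (.node (.leaf (nat_lit 8158467)) (.leaf (nat_lit 108133896))) (.leaf (nat_lit
    70596101))) (.node (.node (.leaf (nat_lit 61402376)) (.leaf (nat_lit 133314568))) (.leaf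
    (nat_lit 79282695))))) (.node (.node (.node (.node (.leaf (nat_lit 5784323)) (.leaf (nat_lit
    68284427))) (.leaf (nat_lit 96563467))) (.node (.node (.leaf (nat_lit 6607616)) (.leaf (nat_lit
    132262660))) (.leaf (nat_lit 112570122)))) (.node (.node (.node (.leaf (nat_lit 43788042))
    (.leaf (nat_lit 69078018))) (.leaf (nat_lit 98339076))) (.node (.node (.leaf (nat_lit
    41488903)) (.leaf (nat_lit 152679946))) (.leaf (nat_lit 64607494)))))) (.node (.node (.node
    (.node (.node (.leaf (nat_lit 11013641)) (.leaf (nat_lit 115989767))) (.leaf (nat_lit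
    90469130))) (.node (.node (.leaf (nat_lit 18621448)) (.leaf (nat_lit 140911361))) (.leaf
    (nat_lit 65118979)))) (.node (.node (.node (.leaf (nat_lit 38301187)) (.leaf (nat_lit
    135383816))) (.leaf (nat_lit 86544646))) (.node (.node (.leaf (nat_lit 67174667)) (.leaf
    (nat_lit 129908484))) (.leaf (nat_lit 111004681))))) (.node (.node (.node (.node (.leaf
    (nat_lit 25696770)) (.leaf (nat_lit 131653385))) (.leaf (nat_lit 29963267))) (.node (.node
    (.leaf (nat_lit 56153867)) (.leaf (nat_lit 130953730))) (.leaf (nat_lit 71415554)))) (.node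
    (.node (.node (.leaf (nat_lit 26261507)) (.leaf (nat_lit 111022600))) (.leaf (nat_lit
    104159750))) (.node (.leaf (nat_lit 78668809)) (.leaf (nat_lit 64610052)))))))) (.node (.node
    (.node (.node (.node (.node (.node (.leaf (nat_lit 3673863)) (.leaf (nat_lit 78497538))) (.leaf
    (nat_lit 82864648))) (.node (.node (.leaf (nat_lit 11060992)) (.leaf (nat_lit 110500101)))
    (.leaf (nat_lit 81367809)))) (.node (.node (.node (.leaf (nat_lit 31202819)) (.leaf (nat_lit
    133277959))) (.leaf (nat_lit 56165637))) (.node (.node (.leaf (nat_lit 29681666)) (.leaf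
    (nat_lit 139343623))) (.leaf (nat_lit 56475394))))) (.node (.node (.node (.node (.leaf (nat_lit
    15471113)) (.leaf (nat_lit 129363207))) (.leaf (nat_lit 35975429))) (.node (.node (.leaf
    (nat_lit 45891078)) (.leaf (nat_lit 141175043))) (.leaf (nat_lit 95267842)))) (.node (.node
    (.node (.leaf (nat_lit 15507457)) (.leaf (nat_lit 136902666))) (.leaf (nat_lit 42299651)))
    (.node (.node (.leaf (nat_lit 71060231)) (.leaf (nat_lit 122831877))) (.leaf (nat_lit
    122471432)))))) (.node (.node (.node (.node (.node (.leaf (nat_lit 7610630)) (.leaf (nat_lit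
    128564485))) (.leaf (nat_lit 88633857))) (.node (.node (.leaf (nat_lit 14472455)) (.leaf
    (nat_lit 143203333))) (.leaf (nat_lit 59875337)))) (.node (.node (.node (.leaf (nat_lit
    36971014)) (.leaf (nat_lit 134851850))) (.leaf (nat_lit 90224651))) (.node (.node (.leaf
    (nat_lit 66339595)) (.leaf (nat_lit 105266699))) (.leaf (nat_lit 120109323))))) (.node (.node
    (.node (.node (.leaf (nat_lit 10245889)) (.leaf (nat_lit 131194882))) (.leaf (nat_lit
    84761600))) (.node (.node (.leaf (nat_lit 36194822)) (.leaf (nat_lit 146937609))) (.leaf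
    (nat_lit 114364420)))) (.node (.node (.node (.leaf (nat_lit 48265474)) (.leaf (nat_lit
    138738947))) (.leaf (nat_lit 65628683))) (.node (.node (.leaf (nat_lit 76568331)) (.leaf
    (nat_lit 153761291))) (.leaf (nat_lit 101833994))))))) (.node (.node (.node (.node (.node
    (.node (.leaf (nat_lit 1053956)) (.leaf (nat_lit 117826819))) (.leaf (nat_lit 39907082)))
    (.node (.node (.leaf (nat_lit 14209030)) (.leaf (nat_lit 142153480))) (.leaf (nat_lit
    37853449)))) (.node (.node (.node (.leaf (nat_lit 8684290)) (.leaf (nat_lit 134538756))) (.leaf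
    (nat_lit 88165899))) (.node (.node (.leaf (nat_lit 63501067)) (.leaf (nat_lit 149546753)))
    (.leaf (nat_lit 90031114))))) (.node (.node (.node (.node (.leaf (nat_lit 12863495)) (.leaf
    (nat_lit 130098692))) (.leaf (nat_lit 33912578))) (.node (.node (.leaf (nat_lit 40124675))
    (.leaf (nat_lit 136195339))) (.leaf (nat_lit 113572360)))) (.node (.node (.node (.leaf (nat_lit
    46147841)) (.leaf (nat_lit 69078532))) (.leaf (nat_lit 98107653))) (.node (.node (.leaf
    (nat_lit 73420292)) (.leaf (nat_lit 152969476))) (.leaf (nat_lit 69326346)))))) (.node (.node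
    (.node (.node (.node (.leaf (nat_lit 4206341)) (.leaf (nat_lit 115989764))) (.leaf (nat_lit
    92567816))) (.node (.node (.leaf (nat_lit 6038785)) (.leaf (nat_lit 142746890))) (.leaf
    (nat_lit 69576458)))) (.node (.node (.node (.leaf (nat_lit 34642177)) (.leaf (nat_lit
    65930756))) (.leaf (nat_lit 79252227))) (.node (.node (.leaf (nat_lit 68437512)) (.leaf
    (nat_lit 136724746))) (.leaf (nat_lit 121168391))))) (.node (.node (.node (.node (.leaf
    (nat_lit 26503682)) (.leaf (nat_lit 118618373))) (.leaf (nat_lit 42829318))) (.node (.node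
    (.leaf (nat_lit 15784707)) (.leaf (nat_lit 121517061))) (.leaf (nat_lit 115938310)))) (.node
    (.node (.node (.leaf (nat_lit 50342919)) (.leaf (nat_lit 97129478))) (.leaf (nat_lit
    43880198))) (.node (.leaf (nat_lit 27079173)) (.leaf (nat_lit 61202689)))))))))))))

/-- Certificate data. -/
def t12_just : Trie :=
    (.node (.node (.node (.node (.node (.node (.node (.node (.node (.node (.node (.node (.leaf
    (nat_lit 1)) (.leaf (nat_lit 3394654242205745435714081116410806307))) (.leaf (nat_lit
    583395460079262302242))) (.node (.node (.leaf (nat_lit 81289273980347416607)) (.leaf (nat_lit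
    1475596977633017135117))) (.leaf (nat_lit 654306399828861714468)))) (.node (.node (.node (.leaf
    (nat_lit 42338144870043053717392532653632344744853519)) (.leaf (nat_lit
    1328007925982732419152))) (.leaf (nat_lit 642200369996335611940))) (.node (.node (.leaf
    (nat_lit 0)) (.leaf (nat_lit 952452165234197725218))) (.leaf (nat_lit 0))))) (.node (.node
    (.node (.node (.leaf (nat_lit 0)) (.leaf (nat_lit 2472101137729952689824456590875885643)))
    (.leaf (nat_lit 0))) (.node (.node (.leaf (nat_lit 122830370556872949762)) (.leaf (nat_lit 0)))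
    (.leaf (nat_lit 60279582954753225252021797018)))) (.node (.node (.node (.leaf (nat_lit
    101580988573060315551566079066182)) (.leaf (nat_lit 971154168628876869653))) (.leaf (nat_lit
    358481464489623012283456881557600))) (.node (.node (.leaf (nat_lit 61685896558280736)) (.leaf
    (nat_lit 634710285740473531232861265723507))) (.leaf (nat_lit
    4946266065166964278517099966774050990)))))) (.node (.node (.node (.node (.node (.leaf (nat_lit
    142791493494616216647478864878436382)) (.leaf (nat_lit 3244555754192221790163679436025036851)))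
    (.leaf (nat_lit 58239477361016869))) (.node (.node (.leaf (nat_lit 0)) (.leaf (nat_lit
    167429778092195872))) (.leaf (nat_lit 788663660252472999970)))) (.node (.node (.node (.leaf
    (nat_lit 703584758676788862395144490325573692)) (.leaf (nat_lit 1357154208913979277332)))
    (.leaf (nat_lit 78683779388014594))) (.node (.node (.leaf (nat_lit 452574087222168584218))
    (.leaf (nat_lit 7471170983730145149982261838231306304))) (.leaf (nat_lit 0))))) (.node (.node
    (.node (.node (.leaf (nat_lit 110401523947223056430)) (.leaf (nat_lit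
    5205965830475751459632260050930041016))) (.leaf (nat_lit
    2224957541634234363900668355348463625))) (.node (.node (.leaf (nat_lit 28610843038056450))
    (.leaf (nat_lit 1440453037185193672785))) (.leaf (nat_lit 0)))) (.node (.node (.node (.leaf
    (nat_lit 0)) (.leaf (nat_lit 1434409309856535347241))) (.leaf (nat_lit 440205730390749675598)))
    (.node (.node (.leaf (nat_lit 551163689594804961300)) (.leaf (nat_lit 1733317193719370416166)))
    (.leaf (nat_lit 2200460511356050505167305564760768589))))))) (.node (.node (.node (.node (.node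
    (.node (.leaf (nat_lit 3484576513054595512080721466299747177922574)) (.leaf (nat_lit
    2611802024119071224457812537160171699))) (.leaf (nat_lit 0))) (.node (.node (.leaf (nat_lit
    37827868625076226)) (.leaf (nat_lit 1163440070816889503791))) (.leaf (nat_lit
    186094525383525370801574023350252411787215012)))) (.node (.node (.node (.leaf (nat_lit 0))
    (.leaf (nat_lit 1346487186420616331286))) (.leaf (nat_lit 716344643379282509826))) (.node
    (.node (.leaf (nat_lit 0)) (.leaf (nat_lit 631840697996096847545111046127659))) (.leaf (nat_lit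
    70319687586730696078784790648))))) (.node (.node (.node (.node (.leaf (nat_lit
    11119631674769411)) (.leaf (nat_lit 0))) (.leaf (nat_lit 476816326462768611334))) (.node (.node
    (.leaf (nat_lit 194607890876523506569857215103051)) (.leaf (nat_lit 1560381326528029589601)))
    (.leaf (nat_lit 225215811562631461845426405745491048944697508)))) (.node (.node (.node (.leaf
    (nat_lit 60535630533037850646)) (.leaf (nat_lit 106664993105248293))) (.leaf (nat_lit
    829906674296086003857))) (.node (.node (.leaf (nat_lit 338433205433826213919)) (.leaf (nat_lit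
    114755551306882551215720562811))) (.leaf (nat_lit 1006334842261240741921)))))) (.node (.node
    (.node (.node (.node (.leaf (nat_lit 0)) (.leaf (nat_lit 0))) (.leaf (nat_lit
    2107007552816236914914340052505395251))) (.node (.node (.leaf (nat_lit
    932203336445821314584516472877809669)) (.leaf (nat_lit 164791225063440484))) (.leaf (nat_lit
    0)))) (.node (.node (.node (.leaf (nat_lit 24350604847611914)) (.leaf (nat_lit 0))) (.leaf
    (nat_lit 287109800900509761570))) (.node (.node (.leaf (nat_lit 60524537401442311)) (.leaf
    (nat_lit 689531069852075360282))) (.leaf (nat_lit 132450190044037127))))) (.node (.node (.node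
    (.node (.leaf (nat_lit 0)) (.leaf (nat_lit 1308963257839341731852))) (.leaf (nat_lit
    80336637422338050))) (.node (.node (.leaf (nat_lit 42333091750084610)) (.leaf (nat_lit
    881277824107104075879421068050502))) (.leaf (nat_lit
    20562347021912274292350810770695238746808330029301931)))) (.node (.node (.node (.leaf (nat_lit
    276445445070736523285)) (.leaf (nat_lit 1442480816203413782540))) (.leaf (nat_lit
    210924645793564447225367646423357227820187803))) (.node (.node (.leaf (nat_lit
    69603204911988743)) (.leaf (nat_lit 199591867594178567))) (.leaf (nat_lit 0)))))))) (.node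
    (.node (.node (.node (.node (.node (.node (.leaf (nat_lit 10385227600400571337974049470349321))
    (.leaf (nat_lit 1188428954022699008033))) (.leaf (nat_lit 0))) (.node (.node (.leaf (nat_lit
    139524335728305831949)) (.leaf (nat_lit 6426255144761322198561450535953039411))) (.leaf
    (nat_lit 204667963164856614943)))) (.node (.node (.node (.leaf (nat_lit 153357210162085167116))
    (.leaf (nat_lit 1337257723544610209911))) (.leaf (nat_lit 43099910747756829475713908857)))
    (.node (.node (.leaf (nat_lit 227152740648797536282)) (.leaf (nat_lit 199271613357752352)))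
    (.leaf (nat_lit 2614488818560641949187111158832103429))))) (.node (.node (.node (.node (.leaf
    (nat_lit 36609199645007216678)) (.leaf (nat_lit 1137784045474794373132))) (.leaf (nat_lit
    81919246971568135))) (.node (.node (.leaf (nat_lit 29208530686967810)) (.leaf (nat_lit
    1558644761913274335384))) (.leaf (nat_lit 0)))) (.node (.node (.node (.leaf (nat_lit 0)) (.leaf
    (nat_lit 0))) (.leaf (nat_lit 757833352611906125846))) (.node (.node (.leaf (nat_lit
    34530874422964449117842243657)) (.leaf (nat_lit 4734775406018328651380600752092676144))) (.leaf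
    (nat_lit 940551149386303996023)))))) (.node (.node (.node (.node (.node (.leaf (nat_lit 0))
    (.leaf (nat_lit 1225937985539972202576))) (.leaf (nat_lit 77555835076739075))) (.node (.node
    (.leaf (nat_lit 110982105145121374220)) (.leaf (nat_lit 0))) (.leaf (nat_lit
    930768694837984297002)))) (.node (.node (.node (.leaf (nat_lit 21078320804397088)) (.leaf
    (nat_lit 6188525610778671388088970571489411231))) (.leaf (nat_lit 80619074471723010))) (.node
    (.node (.leaf (nat_lit 191434375894529146925)) (.leaf (nat_lit
    111350810064087378541427359866))) (.leaf (nat_lit 60102772954068770343457456242))))) (.node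
    (.node (.node (.node (.leaf (nat_lit 14427374967980039)) (.leaf (nat_lit 0))) (.leaf (nat_lit
    0))) (.node (.node (.leaf (nat_lit 25655553351090178)) (.leaf (nat_lit 125104215419912202)))
    (.leaf (nat_lit 865389799508254326795)))) (.node (.node (.node (.leaf (nat_lit
    78751846011865251692163940515950859414732815)) (.leaf (nat_lit 1443333298208725205005))) (.leaf
    (nat_lit 203257944983438945157668229138606899851755636))) (.node (.node (.leaf (nat_lit 0))
    (.leaf (nat_lit 1600956580350908366882))) (.leaf (nat_lit 140613926441320451))))))) (.node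
    (.node (.node (.node (.node (.node (.leaf (nat_lit 74004333582172563234176355118022681)) (.leaf
    (nat_lit 317650138271648895254222295366129543247626402))) (.leaf (nat_lit
    2781856868431946627324490644726415410))) (.node (.node (.leaf (nat_lit 0)) (.leaf (nat_lit
    171651765303902215))) (.leaf (nat_lit 749490013558616031243)))) (.node (.node (.node (.leaf
    (nat_lit 0)) (.leaf (nat_lit 165490046307270688))) (.leaf (nat_lit 729892736136735031327)))
    (.node (.node (.leaf (nat_lit 0)) (.leaf (nat_lit 0))) (.leaf (nat_lit
    509172831764008143889979861762136))))) (.node (.node (.node (.node (.leaf (nat_lit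
    39780015523940728855)) (.leaf (nat_lit 465431649041117171920827132018870))) (.leaf (nat_lit
    179877192296307032098))) (.node (.node (.leaf (nat_lit 342177837000863973378)) (.leaf (nat_lit
    72754007144687901600049856689))) (.leaf (nat_lit 0)))) (.node (.node (.node (.leaf (nat_lit 0))
    (.leaf (nat_lit 1428355345920003604537))) (.leaf (nat_lit 702790991654248710186))) (.node
    (.node (.leaf (nat_lit 181940902865691236600954600423514)) (.leaf (nat_lit
    1497481417666498592779))) (.leaf (nat_lit 2166724528640923434700408223737249843)))))) (.node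
    (.node (.node (.node (.node (.leaf (nat_lit 7741519637381123)) (.leaf (nat_lit
    1243001256248900517986))) (.leaf (nat_lit 248474297245016195108))) (.node (.node (.leaf
    (nat_lit 251092322730983489538)) (.leaf (nat_lit 1540197171756777275489))) (.leaf (nat_lit
    473325273905235165207)))) (.node (.node (.node (.leaf (nat_lit 0)) (.leaf (nat_lit
    6268795462486497157948335878757089356))) (.leaf (nat_lit
    1316283862255616509830478673880743987))) (.node (.node (.leaf (nat_lit 243279041023510249498))
    (.leaf (nat_lit 820586070957070176869939721666604))) (.leaf (nat_lit 450828071957080244232)))))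
    (.node (.node (.node (.node (.leaf (nat_lit 192121006924543600218265997445365769)) (.leaf
    (nat_lit 125733410948907011))) (.leaf (nat_lit 4921297124431461865488445))) (.node (.node
    (.leaf (nat_lit 0)) (.leaf (nat_lit 1613997595465370238988))) (.leaf (nat_lit
    818384463809101365400)))) (.node (.node (.node (.leaf (nat_lit 0)) (.leaf (nat_lit
    178999247461548064))) (.leaf (nat_lit 3942487655228620267466209463707828273))) (.node (.leaf
    (nat_lit 70799611001962499)) (.leaf (nat_lit 1171163063618787016856))))))))) (.node (.node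
    (.node (.node (.node (.node (.node (.node (.leaf (nat_lit 12981851417983521804025539028516869))
    (.leaf (nat_lit 1184986090409816162388))) (.leaf (nat_lit 594068352328335032356))) (.node
    (.node (.leaf (nat_lit 79554844496370984659388150972434)) (.leaf (nat_lit 0))) (.leaf (nat_lit
    701078674565125832726)))) (.node (.node (.node (.leaf (nat_lit 44969253774710472730)) (.leaf
    (nat_lit 3323790261324238479275602931903561805))) (.leaf (nat_lit
    408056143290200419116310545694724))) (.node (.node (.leaf (nat_lit
    62460207272409767439825212145734)) (.leaf (nat_lit 1377044712420402200617))) (.leaf (nat_lit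
    69618491848725117401584435320))))) (.node (.node (.node (.node (.leaf (nat_lit 0)) (.leaf
    (nat_lit 36949277082122490453107736690))) (.leaf (nat_lit 0))) (.node (.node (.leaf (nat_lit
    30580661068890114)) (.leaf (nat_lit 162715690707582979))) (.leaf (nat_lit
    960212139048838561837)))) (.node (.node (.node (.leaf (nat_lit 0)) (.leaf (nat_lit 0))) (.leaf
    (nat_lit 3655726236594650012422538594601074737))) (.node (.node (.leaf (nat_lit
    455993551402251255842)) (.leaf (nat_lit 0))) (.leaf (nat_lit
    3014220725084221271449422666672832547)))))) (.node (.node (.node (.node (.node (.leaf (nat_lit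
    1654279668629536)) (.leaf (nat_lit 431811729947640397850))) (.leaf (nat_lit
    76992816403841027))) (.node (.node (.leaf (nat_lit 821710930017616918190858051823009887))
    (.leaf (nat_lit 1431793739988054769677))) (.leaf (nat_lit 926737053387061395469)))) (.node
    (.node (.node (.leaf (nat_lit 158533042883621224479)) (.leaf (nat_lit 549434354685614161932)))
    (.leaf (nat_lit 77100568543363074))) (.node (.node (.leaf (nat_lit
    140961630745605361126675173578572902255100020)) (.leaf (nat_lit
    705979201832995727284700726034534))) (.leaf (nat_lit 43798622418639809629865181313))))) (.node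
    (.node (.node (.node (.leaf (nat_lit 93391147177884188680)) (.leaf (nat_lit
    391267399873082271129277193395885198988083372))) (.leaf (nat_lit 701061818519296081966)))
    (.node (.node (.leaf (nat_lit 341601063686610550826)) (.leaf (nat_lit
    712499571707724229604138904060019))) (.leaf (nat_lit 122137355091050528)))) (.node (.node
    (.node (.leaf (nat_lit 0)) (.leaf (nat_lit 793428349031349371002389858222163))) (.leaf (nat_lit
    3820616558499402303455563868700868672))) (.node (.node (.leaf (nat_lit 0)) (.leaf (nat_lit
    116399874624407428560014606465))) (.leaf (nat_lit 0))))))) (.node (.node (.node (.node (.node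
    (.node (.leaf (nat_lit 9190718482956163710567257079827)) (.leaf (nat_lit 105148835290021895)))
    (.leaf (nat_lit 0))) (.node (.node (.leaf (nat_lit 91923007635838916519938583035973)) (.leaf
    (nat_lit 1232626409054855692386))) (.leaf (nat_lit 204668315206145998895)))) (.node (.node
    (.node (.leaf (nat_lit 18228025887948802)) (.leaf (nat_lit 164925086309154823))) (.leaf
    (nat_lit 88640716170985474))) (.node (.node (.leaf (nat_lit 464393115627600150551)) (.leaf
    (nat_lit 1081010724289242136660))) (.leaf (nat_lit 1054763455389857153081))))) (.node (.node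
    (.node (.node (.leaf (nat_lit 0)) (.leaf (nat_lit 489056034339066191051817576956085))) (.leaf
    (nat_lit 0))) (.node (.node (.leaf (nat_lit 97469616004400349186)) (.leaf (nat_lit
    662909606356216783441616255189094))) (.leaf (nat_lit 0)))) (.node (.node (.node (.leaf (nat_lit
    29699247880404999)) (.leaf (nat_lit 2493673017769129656647312365027000495))) (.leaf (nat_lit
    90471454570840066))) (.node (.node (.leaf (nat_lit 230630400484689772628)) (.leaf (nat_lit
    1667245836987353202696))) (.leaf (nat_lit 65580139633597843640192139378)))))) (.node (.node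
    (.node (.node (.node (.leaf (nat_lit 0)) (.leaf (nat_lit 680462645762321796472711703560282)))
    (.leaf (nat_lit 213074843012295753806))) (.node (.node (.leaf (nat_lit
    105941407466491460210617058791791754411049068)) (.leaf (nat_lit
    102934162247239659350258942106))) (.leaf (nat_lit 483992119931276820503)))) (.node (.node
    (.node (.leaf (nat_lit 0)) (.leaf (nat_lit 1387943243671178248311))) (.leaf (nat_lit
    77276748101844994))) (.node (.node (.leaf (nat_lit 154252552024000495629)) (.leaf (nat_lit 0)))
    (.leaf (nat_lit 1023342861677649657953))))) (.node (.node (.node (.node (.leaf (nat_lit 0))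
    (.leaf (nat_lit 5164026059229104396724029930049306659))) (.leaf (nat_lit 0))) (.node (.node
    (.leaf (nat_lit 47610833462755330)) (.leaf (nat_lit 598859785786551789604747228872767))) (.leaf
    (nat_lit 794749572895941525649)))) (.node (.node (.node (.leaf (nat_lit 17596365047726082))
    (.leaf (nat_lit 1449975720845752074260))) (.leaf (nat_lit 181613257705479869617714921603116)))
    (.node (.node (.leaf (nat_lit 573594430823884587041)) (.leaf (nat_lit
    824524073339699744932078673068107))) (.leaf (nat_lit 101137267116081189)))))))) (.node (.node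
    (.node (.node (.node (.node (.node (.leaf (nat_lit 0)) (.leaf (nat_lit
    340194310283607201570143241425495309049987221))) (.leaf (nat_lit 73614704366452739))) (.node
    (.node (.leaf (nat_lit 37511140556800007)) (.leaf (nat_lit 1263782170410667409560))) (.leaf
    (nat_lit 109752009439182858)))) (.node (.node (.node (.leaf (nat_lit 60534151629768949791))
    (.leaf (nat_lit 2512510298527547734252197118279614571))) (.leaf (nat_lit
    1591606995585509120486484995396661799402951278722))) (.node (.node (.leaf (nat_lit
    55527738089537543)) (.leaf (nat_lit 577327814485075432434923884380223))) (.leaf (nat_lit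
    229830892357018461960893830402700002057584812))))) (.node (.node (.node (.node (.leaf (nat_lit
    45324176707076348668038888161323)) (.leaf (nat_lit 397312879948682147232745253109803))) (.leaf
    (nat_lit 2216049902146120321597270806206283853))) (.node (.node (.leaf (nat_lit
    16507084032049154)) (.leaf (nat_lit 22227791588057360838483486685196682598238678722216116)))
    (.leaf (nat_lit 65172818549965490259629506670)))) (.node (.node (.node (.leaf (nat_lit
    28678742176038915)) (.leaf (nat_lit 148639880287748099))) (.leaf (nat_lit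
    824713318468759519258))) (.node (.node (.leaf (nat_lit 528628169297054859275)) (.leaf (nat_lit
    1710851728611710533759))) (.leaf (nat_lit 0)))))) (.node (.node (.node (.node (.node (.leaf
    (nat_lit 194717155353811014030278114356428835)) (.leaf (nat_lit 1230520091315473154127)))
    (.leaf (nat_lit 78118853749637123))) (.node (.node (.leaf (nat_lit 22980544639926372)) (.leaf
    (nat_lit 6724742011571905201945598541192167473))) (.leaf (nat_lit 0)))) (.node (.node (.node
    (.leaf (nat_lit 196596904113052254249)) (.leaf (nat_lit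
    21071581979525437715012946905658829205459627233968318))) (.leaf (nat_lit
    603052021759363711095))) (.node (.node (.leaf (nat_lit 458052012670401576983)) (.leaf (nat_lit
    104715405930250828885180874825))) (.leaf (nat_lit 3097303014060850970716371078877741061)))))
    (.node (.node (.node (.node (.leaf (nat_lit 0)) (.leaf (nat_lit 66834565913772064))) (.leaf
    (nat_lit 0))) (.node (.node (.leaf (nat_lit 51684754325076534853642553262194)) (.leaf (nat_lit
    7195899527699327280336167084239552619))) (.leaf (nat_lit 1009702747867195834404)))) (.node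
    (.node (.node (.leaf (nat_lit 20094318027079682)) (.leaf (nat_lit 177311260889710599))) (.leaf
    (nat_lit 189922385137576088375613573563439986256707709))) (.node (.node (.leaf (nat_lit
    209270918571333189645)) (.leaf (nat_lit 1330620412979522502703))) (.leaf (nat_lit 0)))))))
    (.node (.node (.node (.node (.node (.node (.leaf (nat_lit 425541888505018449307959323)) (.leaf
    (nat_lit 428634710351214707133778279923716))) (.leaf (nat_lit 618329460674526380078))) (.node
    (.node (.leaf (nat_lit 0)) (.leaf (nat_lit 166163071977521252))) (.leaf (nat_lit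
    449110614539428364299)))) (.node (.node (.node (.leaf (nat_lit 0)) (.leaf (nat_lit
    1352541959876878991372))) (.leaf (nat_lit 232698473944701059850690584536481774250295351)))
    (.node (.node (.leaf (nat_lit 191435853423408513070)) (.leaf (nat_lit
    819002087811705318179021940719660))) (.leaf (nat_lit 777131632586941202584))))) (.node (.node
    (.node (.node (.leaf (nat_lit 98579117889315602440)) (.leaf (nat_lit
    2587686898253422286406331538235392183))) (.leaf (nat_lit 0))) (.node (.node (.leaf (nat_lit
    14185233301766146)) (.leaf (nat_lit 634070998014538697831294488150185))) (.leaf (nat_lit 0))))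
    (.node (.node (.node (.leaf (nat_lit 134899419638648733774)) (.leaf (nat_lit
    1429797060819435061287))) (.leaf (nat_lit 86108729870778370))) (.node (.node (.leaf (nat_lit
    118188712057630818330)) (.leaf (nat_lit 0))) (.leaf (nat_lit 1138914409093903089743))))))
    (.node (.node (.node (.node (.node (.leaf (nat_lit 0)) (.leaf (nat_lit
    1072013546670671462412))) (.leaf (nat_lit 0))) (.node (.node (.leaf (nat_lit
    85936601140635566082)) (.leaf (nat_lit 795865048648361192990556933193791))) (.leaf (nat_lit
    954413820512181616724)))) (.node (.node (.node (.leaf (nat_lit 0)) (.leaf (nat_lit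
    511853374615360326681636916035609))) (.leaf (nat_lit 54145908704998747086185103483))) (.node
    (.node (.leaf (nat_lit 144358296976172742715866215743492)) (.leaf (nat_lit
    1692395026140929130524))) (.leaf (nat_lit 4758024553328052454864887122781208749))))) (.node
    (.node (.node (.node (.leaf (nat_lit 17242468332470279)) (.leaf (nat_lit 0))) (.leaf (nat_lit
    505629450065059971095))) (.node (.node (.leaf (nat_lit 0)) (.leaf (nat_lit
    859384212971405514937586451611666))) (.leaf (nat_lit 0)))) (.node (.node (.node (.leaf (nat_lit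
    0)) (.leaf (nat_lit 1469787889388556058722))) (.leaf (nat_lit
    2187525252713674875752078377446998021))) (.node (.leaf (nat_lit 0)) (.leaf (nat_lit
    297338797258266186037382897712352993342980151)))))))))) (.node (.node (.node (.node (.node
    (.node (.node (.node (.node (.leaf (nat_lit 0)) (.leaf (nat_lit 0))) (.leaf (nat_lit
    2663973950668642643334447020122767408))) (.node (.node (.leaf (nat_lit 0)) (.leaf (nat_lit
    1303219312557859995659))) (.leaf (nat_lit 486837353341717731188905915842643)))) (.node (.node
    (.node (.leaf (nat_lit 0)) (.leaf (nat_lit 731322271780354458332307762053124))) (.leaf (nat_lit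
    243866060549183963170))) (.node (.node (.leaf (nat_lit 0)) (.leaf (nat_lit
    1624901860424472002657))) (.leaf (nat_lit 3014280937269928386701085199512829957))))) (.node
    (.node (.node (.node (.leaf (nat_lit 0)) (.leaf (nat_lit 552979062439920468113))) (.leaf
    (nat_lit 171805685863529250822))) (.node (.node (.leaf (nat_lit 39798940786360322)) (.leaf
    (nat_lit 1241476862705035051089))) (.leaf (nat_lit 960753974006729867297)))) (.node (.node
    (.node (.leaf (nat_lit 0)) (.leaf (nat_lit 171399985731076128))) (.leaf (nat_lit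
    434449918445341573201))) (.node (.node (.leaf (nat_lit 454840629871874605062)) (.leaf (nat_lit
    1699311252599478616145))) (.leaf (nat_lit 0)))))) (.node (.node (.node (.node (.node (.leaf
    (nat_lit 3835676378398723)) (.leaf (nat_lit 517704874587700002822))) (.leaf (nat_lit
    618329566330721861677))) (.node (.node (.leaf (nat_lit 78119795957956804620)) (.leaf (nat_lit
    1403537452212720697424))) (.leaf (nat_lit 596133263305924083724)))) (.node (.node (.node (.leaf
    (nat_lit 0)) (.leaf (nat_lit 751649910285363000255900981526603))) (.leaf (nat_lit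
    769092632369330061324))) (.node (.node (.leaf (nat_lit 481079088977291706391)) (.leaf (nat_lit
    1159075979733112127572))) (.leaf (nat_lit 0))))) (.node (.node (.node (.node (.leaf (nat_lit
    0)) (.leaf (nat_lit 279228921103080767431292321462568016536993978))) (.leaf (nat_lit
    700485252179516653588))) (.node (.node (.leaf (nat_lit 25725733116706818)) (.leaf (nat_lit
    174854814474305568))) (.leaf (nat_lit 872276823556445372561)))) (.node (.node (.node (.leaf
    (nat_lit 0)) (.leaf (nat_lit 791569178984248634222808719032364))) (.leaf (nat_lit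
    86003271243792386))) (.node (.node (.leaf (nat_lit 0)) (.leaf (nat_lit
    1278138664536798068747))) (.leaf (nat_lit 1140954964879619588135))))))) (.node (.node (.node
    (.node (.node (.node (.leaf (nat_lit 8937639875675619330)) (.leaf (nat_lit
    1199184890392152834060))) (.leaf (nat_lit 605301602311907508230))) (.node (.node (.leaf
    (nat_lit 0)) (.leaf (nat_lit 1496340695964956426273))) (.leaf (nat_lit
    727294550466212593791)))) (.node (.node (.node (.leaf (nat_lit
    81297495696288158920050764808248)) (.leaf (nat_lit 1345045929222964707369))) (.leaf (nat_lit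
    76115071117426690))) (.node (.node (.leaf (nat_lit 0)) (.leaf (nat_lit
    1631295007411656654874))) (.leaf (nat_lit 2287417381682466056295795208097300531))))) (.node
    (.node (.node (.node (.leaf (nat_lit 0)) (.leaf (nat_lit 700290889890229403431240450048004)))
    (.leaf (nat_lit 0))) (.node (.node (.leaf (nat_lit 26358888605548546)) (.leaf (nat_lit
    157297537924071524))) (.leaf (nat_lit 537692531759161384997214918934631)))) (.node (.node
    (.node (.leaf (nat_lit 0)) (.leaf (nat_lit 1422575607025322098772))) (.leaf (nat_lit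
    90682509263765506))) (.node (.node (.leaf (nat_lit 0)) (.leaf (nat_lit
    1717179777071647490200))) (.leaf (nat_lit 1000281476622243266679)))))) (.node (.node (.node
    (.node (.node (.leaf (nat_lit 0)) (.leaf (nat_lit 1237466532538237517904))) (.leaf (nat_lit
    0))) (.node (.node (.leaf (nat_lit 192848098987808202578567308378216)) (.leaf (nat_lit
    90554707133172069494816047170))) (.leaf (nat_lit 223693420512237781023)))) (.node (.node (.node
    (.leaf (nat_lit 59958711877091131437)) (.leaf (nat_lit 1314490871055552544865))) (.leaf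
    (nat_lit 77382284038242306))) (.node (.node (.leaf (nat_lit 256730719990508111727686473613430))
    (.leaf (nat_lit 1680868977258851926028))) (.leaf (nat_lit 72989321639438920694391701624)))))
    (.node (.node (.node (.node (.leaf (nat_lit 130285057778286526472)) (.leaf (nat_lit 0))) (.leaf
    (nat_lit 618341740621680803863))) (.node (.node (.leaf (nat_lit 15381922859581442)) (.leaf
    (nat_lit 1321383950251716706384))) (.leaf (nat_lit 0)))) (.node (.node (.node (.leaf (nat_lit
    276158726265374965821)) (.leaf (nat_lit
    24245553181195407964947724438028384313409927849377931))) (.leaf (nat_lit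
    673411196990410391563))) (.node (.node (.leaf (nat_lit 69919898620526595)) (.leaf (nat_lit
    1723533338573625557037))) (.leaf (nat_lit 5189871547069507520962719269702271011)))))))) (.node
    (.node (.node (.node (.node (.node (.node (.leaf (nat_lit 0)) (.leaf (nat_lit
    1095697202204423421988))) (.leaf (nat_lit 0))) (.node (.node (.leaf (nat_lit
    147223412374036237057757519675448)) (.leaf (nat_lit 1165669950655094259718))) (.leaf (nat_lit
    459752127534098219031)))) (.node (.node (.node (.leaf (nat_lit 59957479736873254943)) (.leaf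
    (nat_lit 68453562425933826))) (.leaf (nat_lit 228884449506671919183))) (.node (.node (.leaf
    (nat_lit 216225072846691565594)) (.leaf (nat_lit 1492296119472697311313))) (.leaf (nat_lit
    1043718262782723031074))))) (.node (.node (.node (.node (.leaf (nat_lit 0)) (.leaf (nat_lit
    1196886893476440113174))) (.leaf (nat_lit 11607917098831996650940334107))) (.node (.node (.leaf
    (nat_lit 15310789611225090)) (.leaf (nat_lit 131612808860270599))) (.leaf (nat_lit
    3911357009319963064757296569323552817)))) (.node (.node (.node (.leaf (nat_lit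
    100630386046194502311601324294214)) (.leaf (nat_lit 920665685568736395298))) (.leaf (nat_lit
    86425062802063362))) (.node (.node (.leaf (nat_lit 290161445557416149856607317393412)) (.leaf
    (nat_lit 1130272012726217932808))) (.leaf (nat_lit 999908311034430160932)))))) (.node (.node
    (.node (.node (.node (.leaf (nat_lit 0)) (.leaf (nat_lit 1224552330512193224856))) (.leaf
    (nat_lit 77766975669010439))) (.node (.node (.leaf (nat_lit 79560912774602358826)) (.leaf
    (nat_lit 1455726783287475241112))) (.leaf (nat_lit 506812562793165946914)))) (.node (.node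
    (.node (.leaf (nat_lit 59670516539282620454)) (.leaf (nat_lit
    756065988036026371898402496970810))) (.leaf (nat_lit 83785702319456258))) (.node (.node (.leaf
    (nat_lit 0)) (.leaf (nat_lit 0))) (.leaf (nat_lit 1081264386152960557134))))) (.node (.node
    (.node (.node (.leaf (nat_lit 0)) (.leaf (nat_lit 81481873064627529983868600434))) (.leaf
    (nat_lit 0))) (.node (.node (.leaf (nat_lit 27238875864891394)) (.leaf (nat_lit
    676193418470309043730886450085957))) (.leaf (nat_lit 2314737481419265531712028374246817958))))
    (.node (.node (.node (.leaf (nat_lit 31599573340389378)) (.leaf (nat_lit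
    95117637968145759801597821082))) (.leaf (nat_lit 2058933501580437248310102006474145869)))
    (.node (.node (.leaf (nat_lit 182403041370774097889518667825255)) (.leaf (nat_lit
    1745397890499049881752))) (.leaf (nat_lit 1053911256173782433911))))))) (.node (.node (.node
    (.node (.node (.node (.leaf (nat_lit 0)) (.leaf (nat_lit 664458403554313758678536813936743)))
    (.leaf (nat_lit 617464769511711506444))) (.node (.node (.leaf (nat_lit
    87811864267382052226059687665342006939942966)) (.leaf (nat_lit 553757706784818266150))) (.leaf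
    (nat_lit 915209810813313548300)))) (.node (.node (.node (.leaf (nat_lit 21394739635027978))
    (.leaf (nat_lit 87053247912467466781815275674))) (.leaf (nat_lit
    3457113464643511112153735525048975427))) (.node (.node (.leaf (nat_lit 57603856560947203))
    (.leaf (nat_lit 636260973682096494638256303243365))) (.leaf (nat_lit 129736526627209219)))))
    (.node (.node (.node (.node (.leaf (nat_lit 0)) (.leaf (nat_lit
    649116460927519051032968158380213))) (.leaf (nat_lit 3097301436459986181873383945349300259)))
    (.node (.node (.leaf (nat_lit 382530057613057654786)) (.leaf (nat_lit 0))) (.leaf (nat_lit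
    4092941320433348337462302799835889830)))) (.node (.node (.node (.leaf (nat_lit
    1017811101421655016153580075712184329)) (.leaf (nat_lit
    2771806074251394570793083742521327693))) (.leaf (nat_lit 705097362463403474966))) (.node (.node
    (.leaf (nat_lit 0)) (.leaf (nat_lit 35015336019708627823090409175174980994150074256392318)))
    (.leaf (nat_lit 38338511246436539117724827790)))))) (.node (.node (.node (.node (.node (.leaf
    (nat_lit 0)) (.leaf (nat_lit 1235217875051475042316))) (.leaf (nat_lit 0))) (.node (.node
    (.leaf (nat_lit 198922765913292996610)) (.leaf (nat_lit 1451980140533281652749))) (.leaf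
    (nat_lit 116052245426077703)))) (.node (.node (.node (.leaf (nat_lit 0)) (.leaf (nat_lit
    762750799473849597964))) (.leaf (nat_lit 2262818625965116250267276509991862348))) (.node (.node
    (.leaf (nat_lit 158576324420114251798)) (.leaf (nat_lit 1387366717403443691553))) (.leaf
    (nat_lit 94803083707678723))))) (.node (.node (.node (.node (.leaf (nat_lit 17031327740198922))
    (.leaf (nat_lit 5944576106597396806996325472661864543))) (.leaf (nat_lit
    4918936229420386014724194))) (.node (.node (.leaf (nat_lit 125818326479054424237931067998310))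
    (.leaf (nat_lit 167923905489666148))) (.leaf (nat_lit 0)))) (.node (.node (.node (.leaf
    (nat_lit 65724376159648677914)) (.leaf (nat_lit 630257372856320767196079505932403))) (.leaf
    (nat_lit 878261498194340020232))) (.node (.leaf (nat_lit 0)) (.leaf (nat_lit 0))))))))) (.node
    (.node (.node (.node (.node (.node (.node (.node (.leaf (nat_lit 633417481977863)) (.leaf
    (nat_lit 1186771771209711550591))) (.leaf (nat_lit 39383176572943387396392943737))) (.node
    (.node (.leaf (nat_lit 36349953198653442)) (.leaf (nat_lit 547703566711677714466))) (.leaf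
    (nat_lit 4015432440441461065545849380079599777)))) (.node (.node (.node (.leaf (nat_lit 0))
    (.leaf (nat_lit 0))) (.leaf (nat_lit 742860184641874362413))) (.node (.node (.leaf (nat_lit
    54753578824368135)) (.leaf (nat_lit 779700369461834991973427371704344))) (.leaf (nat_lit
    586387157684305723425))))) (.node (.node (.node (.node (.leaf (nat_lit 0)) (.leaf (nat_lit
    70211612799270914))) (.leaf (nat_lit 0))) (.node (.node (.leaf (nat_lit 30932530559582210))
    (.leaf (nat_lit 570188422278124077062))) (.leaf (nat_lit 529308912511438400776593763336275))))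
    (.node (.node (.node (.leaf (nat_lit 27728682525261831)) (.leaf (nat_lit
    980967160476275507345))) (.leaf (nat_lit 818384495793722818687))) (.node (.node (.leaf (nat_lit
    522584579845436669975)) (.leaf (nat_lit
    20844551241405408157714767139562693867057690333347998))) (.leaf (nat_lit
    946396258675368067191)))))) (.node (.node (.node (.node (.node (.leaf (nat_lit
    5207935609339907)) (.leaf (nat_lit 1090796864078415593484))) (.leaf (nat_lit
    77203956996112391))) (.node (.node (.leaf (nat_lit 335541504313930219617)) (.leaf (nat_lit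
    96280697862967052521978527818))) (.leaf (nat_lit 811754636009051193375)))) (.node (.node (.node
    (.leaf (nat_lit 0)) (.leaf (nat_lit 0))) (.leaf (nat_lit 79282033972609026))) (.node (.node
    (.leaf (nat_lit 59187359463374855)) (.leaf (nat_lit 0))) (.leaf (nat_lit
    311721449320629849790477725204555))))) (.node (.node (.node (.node (.leaf (nat_lit
    501102921647175740855466680704761891)) (.leaf (nat_lit 1297194478652897820781))) (.leaf
    (nat_lit 169394900500006176161678250868740))) (.node (.node (.leaf (nat_lit 19251997630922754))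
    (.leaf (nat_lit 1592664851480072880288))) (.leaf (nat_lit 994515846888402649130)))) (.node
    (.node (.node (.leaf (nat_lit 0)) (.leaf (nat_lit 129148184827133959))) (.leaf (nat_lit
    3383134811083812846518659696699047987))) (.node (.node (.leaf (nat_lit 0)) (.leaf (nat_lit 0)))
    (.leaf (nat_lit 5178199021292512163817061267202834545))))))) (.node (.node (.node (.node (.node
    (.node (.leaf (nat_lit 24502432177617829911)) (.leaf (nat_lit 1205172423786049503316))) (.leaf
    (nat_lit 41127821813996721100665716858))) (.node (.node (.leaf (nat_lit 308415021872085925899))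
    (.leaf (nat_lit 1484279252754865782831))) (.leaf (nat_lit 327454560999891468311)))) (.node
    (.node (.node (.leaf (nat_lit 0)) (.leaf (nat_lit 1353397287014556172372))) (.leaf (nat_lit
    76924388984881154))) (.node (.node (.leaf (nat_lit 162440619449819487026508602933311)) (.leaf
    (nat_lit 104193093434950858706749030466))) (.leaf (nat_lit 0))))) (.node (.node (.node (.node
    (.leaf (nat_lit 11964159684116487)) (.leaf (nat_lit 1276439850696004796444))) (.leaf (nat_lit
    0))) (.node (.node (.leaf (nat_lit 30229221074927618)) (.leaf (nat_lit 0))) (.leaf (nat_lit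
    959924049710822916119)))) (.node (.node (.node (.leaf (nat_lit
    1002234210846050533267918149260869667)) (.leaf (nat_lit 141849459683360805))) (.leaf (nat_lit
    90752963907289090))) (.node (.node (.leaf (nat_lit 294447889112963547873846122381430)) (.leaf
    (nat_lit 1722379149031464173695))) (.leaf (nat_lit 858450598797192134753)))))) (.node (.node
    (.node (.node (.node (.leaf (nat_lit 41795164675430875169)) (.leaf (nat_lit
    356062624163274867830889194975019337127624719))) (.leaf (nat_lit
    2275735028264705564916304381695426595))) (.node (.node (.leaf (nat_lit 106976890812654354434))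
    (.leaf (nat_lit 1351677025086339219462))) (.leaf (nat_lit 223693631678599856175)))) (.node
    (.node (.node (.leaf (nat_lit 13425546296015808230880247873)) (.leaf (nat_lit
    1076383377402714325030))) (.leaf (nat_lit 3599947393517346263841221198448361579))) (.node
    (.node (.leaf (nat_lit 104928425260546719755)) (.leaf (nat_lit 86511601406485154642021122113)))
    (.leaf (nat_lit 1095118939550130569335))))) (.node (.node (.node (.node (.leaf (nat_lit 0))
    (.leaf (nat_lit 1315255707797853241423))) (.leaf (nat_lit
    98331024542796512301809640220244360302128891047870988416))) (.node (.node (.leaf (nat_lit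
    127711114329111855116)) (.leaf (nat_lit 0))) (.leaf (nat_lit 0)))) (.node (.node (.node (.leaf
    (nat_lit 33499735591616514)) (.leaf (nat_lit 1464084745257004236884))) (.leaf (nat_lit
    873685916246528425992))) (.node (.leaf (nat_lit 70447732921335815)) (.leaf (nat_lit
    49408331051901446482781601915)))))))) (.node (.node (.node (.node (.node (.node (.node (.leaf
    (nat_lit 0)) (.leaf (nat_lit 3094705288030718768121296955908751369))) (.leaf (nat_lit 0)))
    (.node (.node (.leaf (nat_lit 142945112608321747094266888716306)) (.leaf (nat_lit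
    364785037843626418786528158679209))) (.leaf (nat_lit 617753567021114785854)))) (.node (.node
    (.node (.leaf (nat_lit 0)) (.leaf (nat_lit 1343575325664830750728))) (.leaf (nat_lit
    87198096785801218))) (.node (.node (.leaf (nat_lit 55809247425986570)) (.leaf (nat_lit
    746319701359087255572))) (.leaf (nat_lit 127594162580226055))))) (.node (.node (.node (.node
    (.leaf (nat_lit 37473855700759412781)) (.leaf (nat_lit 0))) (.leaf (nat_lit
    267006029394120099104250686472196))) (.node (.node (.leaf (nat_lit 45252724618559490)) (.leaf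
    (nat_lit 0))) (.leaf (nat_lit 118445126325501955)))) (.node (.node (.node (.leaf (nat_lit
    236661030920464302102)) (.leaf (nat_lit 5487627036433265154509859734518431917))) (.leaf
    (nat_lit 454660700031793459868993115783261))) (.node (.node (.leaf (nat_lit 0)) (.leaf (nat_lit
    0))) (.leaf (nat_lit 1122762809734024331277)))))) (.node (.node (.node (.node (.node (.leaf
    (nat_lit 0)) (.leaf (nat_lit 149235300193927171))) (.leaf (nat_lit 0))) (.node (.node (.leaf
    (nat_lit 125829817585942113275501714210919)) (.leaf (nat_lit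
    655614059900600209607399410368694))) (.leaf (nat_lit 932538187455169495062)))) (.node (.node
    (.node (.leaf (nat_lit 200339429982178836521)) (.leaf (nat_lit
    5129316725044229173634369169429823664))) (.leaf (nat_lit 595549130247381385300))) (.node (.node
    (.leaf (nat_lit 0)) (.leaf (nat_lit 33986583688150395430248262714504293506734636795625643)))
    (.leaf (nat_lit 285956954119743930404))))) (.node (.node (.node (.node (.leaf (nat_lit
    15342271721504771)) (.leaf (nat_lit 472415585929492428228706678734963))) (.leaf (nat_lit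
    80477340550955010))) (.node (.node (.leaf (nat_lit 113902231874705752066)) (.leaf (nat_lit
    1600161552191835013154))) (.leaf (nat_lit 806855248599824138261)))) (.node (.node (.node (.leaf
    (nat_lit 20305467209285634)) (.leaf (nat_lit 1454190478489332940960))) (.leaf (nat_lit
    499276843076613767246))) (.node (.node (.leaf (nat_lit 251968480721214958838663549943871))
    (.leaf (nat_lit 1745720216490260758551))) (.leaf (nat_lit
    17190105534268771169607686455567585935135879883063443))))))) (.node (.node (.node (.node (.node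
    (.node (.leaf (nat_lit 32285672921022791692)) (.leaf (nat_lit 148313389758808074))) (.leaf
    (nat_lit 469891731453716398083))) (.node (.node (.leaf (nat_lit 39376221515153411)) (.leaf
    (nat_lit 788891762533219433075006849286246))) (.leaf (nat_lit 497510905322255089675)))) (.node
    (.node (.node (.leaf (nat_lit 3656249803410115466870718523)) (.leaf (nat_lit
    1353695936938418307095))) (.leaf (nat_lit 772243988808007352377))) (.node (.node (.leaf
    (nat_lit 0)) (.leaf (nat_lit 137982623317360677))) (.leaf (nat_lit
    586192489222534762941049997754443))))) (.node (.node (.node (.node (.leaf (nat_lit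
    37474348539666694167)) (.leaf (nat_lit 617263412533793552635852596052069))) (.leaf (nat_lit
    0))) (.node (.node (.leaf (nat_lit 16261119844941826)) (.leaf (nat_lit 0))) (.leaf (nat_lit
    55810854808829154220092751966)))) (.node (.node (.node (.leaf (nat_lit 135475880416721961041))
    (.leaf (nat_lit 1435264422572265242705))) (.leaf (nat_lit
    204807365750665884402486975981868297293987973))) (.node (.node (.leaf (nat_lit
    550010627318350020636)) (.leaf (nat_lit 1113270220780459982882))) (.leaf (nat_lit
    857874138165147795477)))))) (.node (.node (.node (.node (.node (.leaf (nat_lit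
    288181351117863185805243934717706275)) (.leaf (nat_lit 5606949507183475674950947813118640177)))
    (.leaf (nat_lit 213074737622388244559))) (.node (.node (.leaf (nat_lit 88242444158439194626))
    (.leaf (nat_lit 1321120946185589424255))) (.leaf (nat_lit 953582418098984779804)))) (.node
    (.node (.node (.leaf (nat_lit 307687650056867228982332906566778948)) (.leaf (nat_lit 0)))
    (.leaf (nat_lit 86565602721923074))) (.node (.node (.leaf (nat_lit 483991972785697259565))
    (.leaf (nat_lit 113574707642022910274635628700))) (.leaf (nat_lit 127419065353502757)))))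
    (.node (.node (.node (.node (.leaf (nat_lit 0)) (.leaf (nat_lit
    64748448243612513288010924188))) (.leaf (nat_lit 89660736544047107))) (.node (.node (.leaf
    (nat_lit 111739060740347724851272711798874)) (.leaf (nat_lit 0))) (.leaf (nat_lit
    497528886159890120738)))) (.node (.node (.node (.leaf (nat_lit 80712602087451721759)) (.leaf
    (nat_lit 141076099282108423))) (.leaf (nat_lit 485401944301410393347754291495000))) (.node
    (.leaf (nat_lit 141250027852394594340)) (.leaf (nat_lit 0))))))))))) (.node (.node (.node
    (.node (.node (.node (.node (.node (.node (.node (.leaf (nat_lit 1)) (.leaf (nat_lit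
    1180984783681544716386))) (.leaf (nat_lit 9556742946131451431247740955))) (.node (.node (.leaf
    (nat_lit 32057373904470048)) (.leaf (nat_lit 0))) (.leaf (nat_lit 791286725045043527702))))
    (.node (.node (.node (.leaf (nat_lit 16855526138839042)) (.leaf (nat_lit
    32109856132967401963080974363))) (.leaf (nat_lit 89942263060365319))) (.node (.node (.leaf
    (nat_lit 0)) (.leaf (nat_lit 99646965634916899214435090552))) (.leaf (nat_lit
    1008641352407724523639))))) (.node (.node (.node (.node (.leaf (nat_lit 29978036101538054152))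
    (.leaf (nat_lit 20949342540902553234712273580145224674127772883026067))) (.leaf (nat_lit
    365094555240950194477539218817028))) (.node (.node (.leaf (nat_lit 35330516941144066)) (.leaf
    (nat_lit 1474766771471291449357))) (.leaf (nat_lit 371002474946781222727164178595923)))) (.node
    (.node (.node (.leaf (nat_lit 44369763761828580190749064560712)) (.leaf (nat_lit
    78867969624755126729053634654))) (.leaf (nat_lit 86847137828175882))) (.node (.node (.leaf
    (nat_lit 0)) (.leaf (nat_lit 7120841487719590098850098672392667186))) (.leaf (nat_lit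
    1107219342863829762175)))))) (.node (.node (.node (.node (.node (.leaf (nat_lit
    37470653149805215775)) (.leaf (nat_lit 0))) (.leaf (nat_lit 228355131762813370402))) (.node
    (.node (.leaf (nat_lit 329168172085351219233)) (.leaf (nat_lit
    5020336652144799940024453057391034527))) (.leaf (nat_lit 112568563092553731)))) (.node (.node
    (.node (.leaf (nat_lit 182183766643961954316)) (.leaf (nat_lit
    692853560553357366051139607724201))) (.leaf (nat_lit 2075972652755022021659077147361738800)))
    (.node (.node (.leaf (nat_lit 186245032743478165588)) (.leaf (nat_lit 0))) (.leaf (nat_lit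
    588207635789502222821145262292996))))) (.node (.node (.node (.node (.leaf (nat_lit
    13301354802053123)) (.leaf (nat_lit 710287715866667476779442630951097))) (.leaf (nat_lit
    699332189920241582092))) (.node (.node (.leaf (nat_lit 19146255536095234)) (.leaf (nat_lit
    651493869637697442485656663490623))) (.leaf (nat_lit 991344749723470987302)))) (.node (.node
    (.node (.leaf (nat_lit 0)) (.leaf (nat_lit 410229364494831915765270289455923762800689207)))
    (.leaf (nat_lit 1723606920757577072488310779854281335128038441111))) (.node (.node (.leaf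
    (nat_lit 0)) (.leaf (nat_lit 614728596410534552297443281993803))) (.leaf (nat_lit 0)))))))
    (.node (.node (.node (.node (.node (.node (.leaf (nat_lit 9508501425029445870853206442000))
    (.leaf (nat_lit 80491922709183369025853653121))) (.leaf (nat_lit
    2718246969358459909870052839648591907))) (.node (.node (.leaf (nat_lit
    1344898226519514770553772148687044699)) (.leaf (nat_lit 1475893726067483148311))) (.leaf
    (nat_lit 904204176865020280911)))) (.node (.node (.node (.leaf (nat_lit 0)) (.leaf (nat_lit
    0))) (.leaf (nat_lit 75974333629071362))) (.node (.node (.leaf (nat_lit 0)) (.leaf (nat_lit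
    1642794384095854133328))) (.leaf (nat_lit 0))))) (.node (.node (.node (.node (.leaf (nat_lit
    0)) (.leaf (nat_lit 576226091512461721633))) (.leaf (nat_lit 0))) (.node (.node (.leaf (nat_lit
    1743527117325685998469469760729317488)) (.leaf (nat_lit
    6783214312691514938265044192158220401))) (.leaf (nat_lit 978057184279124967502)))) (.node
    (.node (.node (.leaf (nat_lit 594540969991277360008520941600964656)) (.leaf (nat_lit
    577096836543349456902))) (.leaf (nat_lit 90541771775410178))) (.node (.node (.leaf (nat_lit
    160883012249395068950)) (.leaf (nat_lit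
    28677868827912426571930028080745429669951669510275230))) (.leaf (nat_lit 0)))))) (.node (.node
    (.node (.node (.node (.leaf (nat_lit 0)) (.leaf (nat_lit 330737930568995732379086728069145)))
    (.leaf (nat_lit 641954253964954501141))) (.node (.node (.leaf (nat_lit 350788789277319954493))
    (.leaf (nat_lit 1397511530598700875855))) (.leaf (nat_lit 939657569294203682849)))) (.node
    (.node (.node (.leaf (nat_lit 338839532014899341102428405386117184)) (.leaf (nat_lit
    1181600412469708390527))) (.leaf (nat_lit 198015393006366298290026659283102144588742780)))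
    (.node (.node (.leaf (nat_lit 0)) (.leaf (nat_lit 1676840192433627267106))) (.leaf (nat_lit
    792665990621774938146))))) (.node (.node (.node (.node (.leaf (nat_lit 0)) (.leaf (nat_lit
    87843037235928644862890803310))) (.leaf (nat_lit 5084244995858588988866658))) (.node (.node
    (.leaf (nat_lit 415642247293128867921)) (.leaf (nat_lit 124541420085313546))) (.leaf (nat_lit
    263854130525567647750)))) (.node (.node (.node (.leaf (nat_lit 178159133239636328470)) (.leaf
    (nat_lit 740873429281998494800178823168025))) (.leaf (nat_lit 867388267328889356440))) (.node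
    (.node (.leaf (nat_lit 0)) (.leaf (nat_lit 1439860077479231422495))) (.leaf (nat_lit
    334669567727169576123352148738052)))))))) (.node (.node (.node (.node (.node (.node (.node
    (.leaf (nat_lit 0)) (.leaf (nat_lit 11704719329708216371856808564181464078009917267181746)))
    (.leaf (nat_lit 0))) (.node (.node (.leaf (nat_lit 97295569747787070475759088173125)) (.leaf
    (nat_lit 126017377006649381))) (.leaf (nat_lit 534429761023993118766)))) (.node (.node (.node
    (.leaf (nat_lit 155086803542407839764)) (.leaf (nat_lit
    20518668903204328258289865048245370618035))) (.leaf (nat_lit 50007205350299756174967636062)))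
    (.node (.node (.leaf (nat_lit 0)) (.leaf (nat_lit 169929672396767242))) (.leaf (nat_lit
    36523696960430032679157956722))))) (.node (.node (.node (.node (.leaf (nat_lit
    20124456253191187279205410144281)) (.leaf (nat_lit 1264612833879035936825))) (.leaf (nat_lit
    666985577748365508642))) (.node (.node (.leaf (nat_lit 29349268175323138)) (.leaf (nat_lit
    104559558610999520000571932745))) (.leaf (nat_lit 967329022823224246305)))) (.node (.node
    (.node (.leaf (nat_lit 14895765517609019400966701129)) (.leaf (nat_lit
    1406105733915746697242))) (.leaf (nat_lit 86319509685796866))) (.node (.node (.leaf (nat_lit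
    0)) (.leaf (nat_lit 207753971903889415))) (.leaf (nat_lit 0)))))) (.node (.node (.node (.node
    (.node (.leaf (nat_lit 13836430937283559458)) (.leaf (nat_lit 0))) (.leaf (nat_lit
    442740902010502184966))) (.node (.node (.leaf (nat_lit 77255069765388664852)) (.leaf (nat_lit
    1454011721070005125161))) (.leaf (nat_lit 62542935263558514759199686812)))) (.node (.node
    (.node (.leaf (nat_lit 0)) (.leaf (nat_lit 1373297392392815706118))) (.leaf (nat_lit
    80794996332167170))) (.node (.node (.leaf (nat_lit 0)) (.leaf (nat_lit
    27444502050891523188954983999948807557325810991562899))) (.leaf (nat_lit 0))))) (.node (.node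
    (.node (.node (.leaf (nat_lit 0)) (.leaf (nat_lit 1283358505941380300821))) (.leaf (nat_lit
    438132946626437906440))) (.node (.node (.leaf (nat_lit 22207510656188418)) (.leaf (nat_lit
    1548788111547218198609))) (.leaf (nat_lit 0)))) (.node (.node (.node (.leaf (nat_lit
    637999241586568112117381060800559647480405950516)) (.leaf (nat_lit 0))) (.leaf (nat_lit
    857878426234726318108))) (.node (.node (.leaf (nat_lit 274480034912189380278854384746514))
    (.leaf (nat_lit 115935604608377065207429922936))) (.leaf (nat_lit
    2741613097757085389673103634593153059))))))) (.node (.node (.node (.node (.node (.node (.leaf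
    (nat_lit 0)) (.leaf (nat_lit 1208602748911926575183))) (.leaf (nat_lit 617464769494531637276)))
    (.node (.node (.leaf (nat_lit 108240430367414895970160717725789)) (.leaf (nat_lit
    1370414461961210364095))) (.leaf (nat_lit 207550619036382593060)))) (.node (.node (.node (.leaf
    (nat_lit 77336591331500877784846432600122)) (.leaf (nat_lit 1352541959825339383836))) (.leaf
    (nat_lit 176773013759014149959713094007513099698503814))) (.node (.node (.leaf (nat_lit
    92821411949229309978)) (.leaf (nat_lit 1168052498060772835412))) (.leaf (nat_lit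
    1061608917932878004304))))) (.node (.node (.node (.node (.leaf (nat_lit 0)) (.leaf (nat_lit
    1160845360977500373084))) (.leaf (nat_lit 0))) (.node (.node (.leaf (nat_lit
    343042531878825558018)) (.leaf (nat_lit 6832600392243168027225509642329587789))) (.leaf
    (nat_lit 58983423091706756521758359611)))) (.node (.node (.node (.leaf (nat_lit 0)) (.leaf
    (nat_lit 83474501716051928752312352922))) (.leaf (nat_lit
    3546455867763681117758906599161135113))) (.node (.node (.leaf (nat_lit
    288584057291396039844265181184070)) (.leaf (nat_lit 1610539219762054103076))) (.leaf (nat_lit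
    5108406336385067589898889240661917872)))))) (.node (.node (.node (.node (.node (.leaf (nat_lit
    0)) (.leaf (nat_lit 11564468690915517255872285459946352604147920619110578))) (.leaf (nat_lit
    79878295692378119))) (.node (.node (.leaf (nat_lit 197769844434455953410)) (.leaf (nat_lit 0)))
    (.leaf (nat_lit 432373092575638388747)))) (.node (.node (.node (.leaf (nat_lit
    41362479395574779433333039693887)) (.leaf (nat_lit 0))) (.leaf (nat_lit
    580567097147023097889))) (.node (.node (.leaf (nat_lit 136091469961769451551)) (.leaf (nat_lit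
    0))) (.leaf (nat_lit 1098527815209899458573))))) (.node (.node (.node (.node (.leaf (nat_lit
    0)) (.leaf (nat_lit 1319961087260827516989))) (.leaf (nat_lit 78964592939761666))) (.node
    (.node (.leaf (nat_lit 28494792491167835983855288385)) (.leaf (nat_lit
    886977743392997336703948344918086))) (.leaf (nat_lit 563351893167135175159817464840267))))
    (.node (.node (.node (.leaf (nat_lit 0)) (.leaf (nat_lit 112365565758275616))) (.leaf (nat_lit
    872286145628342517817))) (.node (.leaf (nat_lit 0)) (.leaf (nat_lit
    3726947499463008283053985483389861936))))))))) (.node (.node (.node (.node (.node (.node (.node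
    (.node (.leaf (nat_lit 5188322774195830790)) (.leaf (nat_lit
    4704470879564492860487411138143125678))) (.leaf (nat_lit
    179892847356602821446165183210570786819080207))) (.node (.node (.leaf (nat_lit
    11028629424001480225971339517060144693337)) (.leaf (nat_lit 739415364108747472922))) (.leaf
    (nat_lit 489528268172154558945641298788464)))) (.node (.node (.node (.leaf (nat_lit
    3192022288677253009356685365)) (.leaf (nat_lit 1306411588498586009636))) (.leaf (nat_lit 0)))
    (.node (.node (.leaf (nat_lit 0)) (.leaf (nat_lit 1627733574659562733720))) (.leaf (nat_lit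
    1038332423731123781660))))) (.node (.node (.node (.node (.leaf (nat_lit 0)) (.leaf (nat_lit
    1259994955935106924555))) (.leaf (nat_lit 81637720455249923))) (.node (.node (.leaf (nat_lit
    98619476606074421250)) (.leaf (nat_lit 137418144355581989))) (.leaf (nat_lit
    959912473751757979670)))) (.node (.node (.node (.leaf (nat_lit 0)) (.leaf (nat_lit
    1169781630384946216972))) (.leaf (nat_lit 1290734719874654883132567473309024399))) (.node
    (.node (.leaf (nat_lit 188227883835391672404)) (.leaf (nat_lit 1657238099494413991942))) (.leaf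
    (nat_lit 1110975592386122678284)))))) (.node (.node (.node (.node (.node (.leaf (nat_lit 0))
    (.leaf (nat_lit 519434256878970011682))) (.leaf (nat_lit 448505263174212321286))) (.node (.node
    (.leaf (nat_lit 1517576805189933060325783843652436044)) (.leaf (nat_lit
    1501287378463125340241))) (.leaf (nat_lit 926717101876697038927)))) (.node (.node (.node (.leaf
    (nat_lit 0)) (.leaf (nat_lit 553757845512261926951))) (.leaf (nat_lit 77030216979054594)))
    (.node (.node (.leaf (nat_lit 98586582636965330955)) (.leaf (nat_lit
    111718295858746685369943916658))) (.leaf (nat_lit 1075499362864207167640))))) (.node (.node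
    (.node (.node (.leaf (nat_lit 0)) (.leaf (nat_lit 69796823151324227439463563400))) (.leaf
    (nat_lit 0))) (.node (.node (.leaf (nat_lit 411352884860730671161)) (.leaf (nat_lit
    7076557205204351694479495919844130865))) (.leaf (nat_lit 992210003879188955156)))) (.node
    (.node (.node (.leaf (nat_lit 0)) (.leaf (nat_lit
    436191877764729342740534596583625669720211649))) (.leaf (nat_lit 854118026245017108632)))
    (.node (.node (.leaf (nat_lit 0)) (.leaf (nat_lit 1739656890551520919679))) (.leaf (nat_lit
    1146143745020587606057))))))) (.node (.node (.node (.node (.node (.node (.leaf (nat_lit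
    19025421780757184533)) (.leaf (nat_lit 1043722601635994861576))) (.leaf (nat_lit
    151050494355387383816))) (.node (.node (.leaf (nat_lit 77030105709309959078012286009407))
    (.leaf (nat_lit 0))) (.leaf (nat_lit 458051878134845997102)))) (.node (.node (.node (.leaf
    (nat_lit 0)) (.leaf (nat_lit 32158646501099502668121178139))) (.leaf (nat_lit
    76818835868614658))) (.node (.node (.leaf (nat_lit 56583423871025162)) (.leaf (nat_lit
    1391991983936662339663))) (.leaf (nat_lit 129032654501838880))))) (.node (.node (.node (.node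
    (.leaf (nat_lit 0)) (.leaf (nat_lit 1277782795323451834449))) (.leaf (nat_lit
    83889795146842115))) (.node (.node (.leaf (nat_lit 30088483586572290)) (.leaf (nat_lit
    487194177346625251379318643621932))) (.leaf (nat_lit 960212244902602539054)))) (.node (.node
    (.node (.leaf (nat_lit 0)) (.leaf (nat_lit 1425965824131681419297))) (.leaf (nat_lit
    90823315471597570))) (.node (.node (.leaf (nat_lit 265607312536890882682361511018554)) (.leaf
    (nat_lit 114465366607435507399162921080))) (.leaf (nat_lit 917259974904727666694)))))) (.node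
    (.node (.node (.node (.node (.leaf (nat_lit 0)) (.leaf (nat_lit
    575105710744583844356160663978086))) (.leaf (nat_lit 0))) (.node (.node (.leaf (nat_lit
    226304299791099822082)) (.leaf (nat_lit 170667101101621285))) (.leaf (nat_lit 0)))) (.node
    (.node (.node (.leaf (nat_lit 25335853165445127)) (.leaf (nat_lit 915220938837354283199)))
    (.leaf (nat_lit 47377082863454408930238988410))) (.node (.node (.leaf (nat_lit
    30874884421489827667559907402)) (.leaf (nat_lit 1277831257896173895764))) (.leaf (nat_lit
    451021235083346057739766539354205))))) (.node (.node (.node (.node (.leaf (nat_lit 0)) (.leaf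
    (nat_lit 160558182605914122))) (.leaf (nat_lit 432368515231422545928))) (.node (.node (.leaf
    (nat_lit 117644334629424136233)) (.leaf (nat_lit 919328119442934792218))) (.leaf (nat_lit
    560817152901174614360225296547915)))) (.node (.node (.node (.leaf (nat_lit
    259730018501776310274)) (.leaf (nat_lit 733426272213967485337631373787235))) (.leaf (nat_lit
    3805040947388592058829364528614408299))) (.node (.node (.leaf (nat_lit 456009174122452156427))
    (.leaf (nat_lit 1758112362574301560951))) (.leaf (nat_lit 1156418918942953897990)))))))) (.node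
    (.node (.node (.node (.node (.node (.node (.leaf (nat_lit 0)) (.leaf (nat_lit
    80185184275502568474193231937))) (.leaf (nat_lit 0))) (.node (.node (.leaf (nat_lit
    71778023634400116748)) (.leaf (nat_lit 1138360544795904114708))) (.leaf (nat_lit
    60335124708962780558649524387)))) (.node (.node (.node (.leaf (nat_lit 17348313506512928))
    (.leaf (nat_lit 1094574048834677309521))) (.leaf (nat_lit 507665463879911276546))) (.node
    (.node (.leaf (nat_lit 439304476892898459732)) (.leaf (nat_lit 191568129950875680))) (.leaf
    (nat_lit 1046626994586113998932))))) (.node (.node (.node (.node (.leaf (nat_lit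
    32959824779573371170565107613740)) (.leaf (nat_lit 1269179226752907673681))) (.leaf (nat_lit
    82861867738988547))) (.node (.node (.leaf (nat_lit 45111987130204162)) (.leaf (nat_lit
    1564361306772286406808))) (.leaf (nat_lit 824367108173005520930)))) (.node (.node (.node (.leaf
    (nat_lit 129781436587999755922933148942340)) (.leaf (nat_lit
    2300466901014716840233767902734909445))) (.leaf (nat_lit
    3383195156014315591907550592930086961))) (.node (.node (.leaf (nat_lit 64676791524130823))
    (.leaf (nat_lit 1710820974854869811352))) (.leaf (nat_lit 1004231766728245444616)))))) (.node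
    (.node (.node (.node (.node (.leaf (nat_lit 44965417192094105606)) (.leaf (nat_lit
    82699362681343628805623054402))) (.leaf (nat_lit 0))) (.node (.node (.leaf (nat_lit
    159587456722010034641419886788626)) (.leaf (nat_lit 1527470246406670975007))) (.leaf (nat_lit
    927021700124105703469)))) (.node (.node (.node (.leaf (nat_lit 0)) (.leaf (nat_lit
    1379309103768234295444))) (.leaf (nat_lit 94974384183312416))) (.node (.node (.leaf (nat_lit
    59293032838725664)) (.leaf (nat_lit 832608596391899164576392166113366))) (.leaf (nat_lit 0)))))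
    (.node (.node (.node (.node (.leaf (nat_lit 0)) (.leaf (nat_lit 159428769415823397))) (.leaf
    (nat_lit 216315736283309725520408453259357869430079612))) (.node (.node (.leaf (nat_lit
    39483123251150850)) (.leaf (nat_lit 126300569970278407))) (.leaf (nat_lit
    1007199813163865538588)))) (.node (.node (.node (.leaf (nat_lit 20023957872836610)) (.leaf
    (nat_lit 6040738493606468015448757556855898161))) (.leaf (nat_lit 39173069562052640))) (.node
    (.node (.leaf (nat_lit 294275179333306154903536195207237)) (.leaf (nat_lit
    1746024315018224533550))) (.leaf (nat_lit 828412785937829003272))))))) (.node (.node (.node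
    (.node (.node (.node (.leaf (nat_lit 32285672903842922524)) (.leaf (nat_lit
    4787592337639022310200380337223565347))) (.leaf (nat_lit 623518240712415182869))) (.node (.node
    (.leaf (nat_lit 80713447036367863855)) (.leaf (nat_lit 91676188887434339541097709633))) (.leaf
    (nat_lit 111970360047566855)))) (.node (.node (.node (.leaf (nat_lit 51310955798242459674))
    (.leaf (nat_lit 1293731281947576172557))) (.leaf (nat_lit 32519581136058259678383374450)))
    (.node (.node (.leaf (nat_lit 56407639449534496)) (.leaf (nat_lit 1655999814282143531127)))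
    (.leaf (nat_lit 513460570607870390307668445495320))))) (.node (.node (.node (.node (.leaf
    (nat_lit 89355921800091074607)) (.leaf (nat_lit 1282439560305005756500))) (.leaf (nat_lit
    179877403488438910984))) (.node (.node (.leaf (nat_lit 47082621204824066)) (.leaf (nat_lit
    1535880126323126108171))) (.leaf (nat_lit 990768288902448087097)))) (.node (.node (.node (.leaf
    (nat_lit 0)) (.leaf (nat_lit 175203153501880420))) (.leaf (nat_lit 97578835171737602))) (.node
    (.node (.leaf (nat_lit 8743730813917855908886806555)) (.leaf (nat_lit 1611908947444781744154)))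
    (.leaf (nat_lit 1132883529107643760668)))))) (.node (.node (.node (.node (.node (.leaf (nat_lit
    38030698105005091920773055381508)) (.leaf (nat_lit 83625569834716661883290845250))) (.leaf
    (nat_lit 72665568133644388))) (.node (.node (.leaf (nat_lit 10631044785111042)) (.leaf (nat_lit
    0))) (.leaf (nat_lit 954389962746241417297)))) (.node (.node (.node (.leaf (nat_lit 0)) (.leaf
    (nat_lit 768092650794291119795060636778571))) (.leaf (nat_lit
    134253396222040091779803300939737459431638425489090805901))) (.node (.node (.leaf (nat_lit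
    112744879930944454687)) (.leaf (nat_lit 1692394393290382966944))) (.leaf (nat_lit
    4965714364664872847508357847703814235))))) (.node (.node (.node (.node (.leaf (nat_lit
    50158315227446444044)) (.leaf (nat_lit 1295459432193117585535))) (.leaf (nat_lit 0))) (.node
    (.node (.leaf (nat_lit 0)) (.leaf (nat_lit 291513281871654947916574886177531960823972029)))
    (.leaf (nat_lit 448529757398471213082)))) (.node (.node (.node (.leaf (nat_lit
    107129881951250061186794699227179)) (.leaf (nat_lit 1366955556228865130576))) (.leaf (nat_lit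
    881798484825808765088))) (.node (.leaf (nat_lit 0)) (.leaf (nat_lit
    609458081359565357089)))))))))) (.node (.node (.node (.node (.node (.node (.node (.node (.node
    (.leaf (nat_lit 281522221481987)) (.leaf (nat_lit 450255975363995959302))) (.leaf (nat_lit
    592907372799360958583))) (.node (.node (.leaf (nat_lit 0)) (.leaf (nat_lit
    919520224130264924196))) (.leaf (nat_lit 840582246991298494509)))) (.node (.node (.node (.leaf
    (nat_lit 0)) (.leaf (nat_lit 1329480714605478215708))) (.leaf (nat_lit 0))) (.node (.node
    (.leaf (nat_lit 29559417283905430604715720777)) (.leaf (nat_lit 0))) (.leaf (nat_lit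
    33080246548462858354213322866))))) (.node (.node (.node (.node (.leaf (nat_lit 0)) (.leaf
    (nat_lit 1082149319973382848545))) (.leaf (nat_lit 81285842374623239))) (.node (.node (.leaf
    (nat_lit 30791750121553922)) (.leaf (nat_lit 608066620145749730481163269963845))) (.leaf
    (nat_lit 888409209496089591839)))) (.node (.node (.node (.leaf (nat_lit 60535489572211195927))
    (.leaf (nat_lit 1405294342712959631368))) (.leaf (nat_lit 287689815592221736971))) (.node
    (.node (.leaf (nat_lit 63198876097708039)) (.leaf (nat_lit 934206220072119881957060320297046)))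
    (.leaf (nat_lit 609759979255203593585533018046468)))))) (.node (.node (.node (.node (.node
    (.leaf (nat_lit 39776742483983269919)) (.leaf (nat_lit 0))) (.leaf (nat_lit 0))) (.node (.node
    (.leaf (nat_lit 78407991149736427559)) (.leaf (nat_lit 0))) (.leaf (nat_lit
    597574555941350866964)))) (.node (.node (.node (.leaf (nat_lit
    22998706890457945166876242540563501173768247)) (.leaf (nat_lit 1178430229935242280993))) (.leaf
    (nat_lit 584049716192673464331))) (.node (.node (.leaf (nat_lit 58624357970345994)) (.leaf
    (nat_lit 110963901855779385553524686913))) (.leaf (nat_lit 285956883562021191686))))) (.node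
    (.node (.node (.node (.leaf (nat_lit 0)) (.leaf (nat_lit
    5830337803188279300135313228169674939))) (.leaf (nat_lit 701061712948999946285))) (.node (.node
    (.leaf (nat_lit 110728532389089443860)) (.leaf (nat_lit 165953185515700256))) (.leaf (nat_lit
    6214963719856587495357644812956928917633383407485067)))) (.node (.node (.node (.leaf (nat_lit
    0)) (.leaf (nat_lit 34847314055380800392449556533))) (.leaf (nat_lit 102856585474342914)))
    (.node (.node (.leaf (nat_lit 0)) (.leaf (nat_lit 1596991125617327144996))) (.leaf (nat_lit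
    104409121662566403))))))) (.node (.node (.node (.node (.node (.node (.leaf (nat_lit
    1020660323319810)) (.leaf (nat_lit 1201778154468240720017))) (.leaf (nat_lit
    184961279914970889771965426244424553932062735))) (.node (.node (.leaf (nat_lit
    310720970374286344205)) (.leaf (nat_lit 0))) (.leaf (nat_lit 0)))) (.node (.node (.node (.leaf
    (nat_lit 16785466632306690)) (.leaf (nat_lit 407822233924156177138681396862638330175094973)))
    (.leaf (nat_lit 88429609938452482))) (.node (.node (.leaf (nat_lit 464390545274357088301))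
    (.leaf (nat_lit 0))) (.leaf (nat_lit 0))))) (.node (.node (.node (.node (.leaf (nat_lit
    37473996515557179438)) (.leaf (nat_lit 1124523900248422285404))) (.leaf (nat_lit 0))) (.node
    (.node (.leaf (nat_lit 7594296362793358324921948029873807687685)) (.leaf (nat_lit
    1287307252032409370702))) (.leaf (nat_lit 0)))) (.node (.node (.node (.leaf (nat_lit 0)) (.leaf
    (nat_lit 0))) (.leaf (nat_lit 786664342178637217815))) (.node (.node (.leaf (nat_lit
    532663746518568861729)) (.leaf (nat_lit 209161518586134535))) (.leaf (nat_lit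
    2990915126134574711149378802442240005)))))) (.node (.node (.node (.node (.node (.leaf (nat_lit
    0)) (.leaf (nat_lit 2502068079706646742762571415259906191))) (.leaf (nat_lit 0))) (.node (.node
    (.leaf (nat_lit 1155319647518246899013818603620728938)) (.leaf (nat_lit
    6569057253700378924142579635645251745))) (.leaf (nat_lit 292292285220717264942)))) (.node
    (.node (.node (.leaf (nat_lit 0)) (.leaf (nat_lit 2252403904579372898106174096324100147)))
    (.leaf (nat_lit 77487837154508802))) (.node (.node (.leaf (nat_lit 0)) (.leaf (nat_lit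
    1680868763416725225493))) (.leaf (nat_lit 816944544420748001389))))) (.node (.node (.node
    (.node (.leaf (nat_lit 0)) (.leaf (nat_lit 254013229543920923593477886181380))) (.leaf (nat_lit
    663018011278149091426))) (.node (.node (.leaf (nat_lit
    14548851080294908317807496048468354924593)) (.leaf (nat_lit 107249623282964265913370869834)))
    (.leaf (nat_lit 1014405572662147612710)))) (.node (.node (.node (.leaf (nat_lit
    174413543744567705602)) (.leaf (nat_lit 285108797346554237175973208784900))) (.leaf (nat_lit
    203257945834873433095059222460709915358462109))) (.node (.node (.leaf (nat_lit 0)) (.leaf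
    (nat_lit 1706243702944801423382))) (.leaf (nat_lit 1165382128386735013966)))))))) (.node (.node
    (.node (.node (.node (.node (.node (.leaf (nat_lit 0)) (.leaf (nat_lit
    3936331541609174426048601472398459039))) (.leaf (nat_lit 0))) (.node (.node (.leaf (nat_lit
    73795389942497738763)) (.leaf (nat_lit 29998827929294999468935719035920277134124829851189406)))
    (.leaf (nat_lit 3664917500640836682908169276423077937)))) (.node (.node (.node (.leaf (nat_lit
    18614916541972483)) (.leaf (nat_lit 559042279823361900689))) (.leaf (nat_lit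
    747184590313736044565))) (.node (.node (.leaf (nat_lit 242142162828071731211)) (.leaf (nat_lit
    85099193315814008903319224394))) (.leaf (nat_lit 1009702900278405300230))))) (.node (.node
    (.node (.node (.leaf (nat_lit 83596802721275117609)) (.leaf (nat_lit 1047845261011652378644)))
    (.leaf (nat_lit 0))) (.node (.node (.leaf (nat_lit 45393427747176450)) (.leaf (nat_lit
    571341766081095335944))) (.leaf (nat_lit 971150677005148815372)))) (.node (.node (.node (.leaf
    (nat_lit 100781762793090817325711692791864)) (.leaf (nat_lit 172670763474747395))) (.leaf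
    (nat_lit 100603291012038663))) (.node (.node (.leaf (nat_lit 64324913443504135)) (.leaf
    (nat_lit 453826072051067472317261752110295664053256326))) (.leaf (nat_lit
    5038374499700336010364493131063689303)))))) (.node (.node (.node (.node (.node (.leaf (nat_lit
    26621494508704009937252704976900)) (.leaf (nat_lit 423436950530996557138383809675363))) (.leaf
    (nat_lit 0))) (.node (.node (.leaf (nat_lit 42048077720322058)) (.leaf (nat_lit 0))) (.leaf
    (nat_lit 60636601688129568)))) (.node (.node (.node (.leaf (nat_lit 0)) (.leaf (nat_lit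
    756076802021220112689344568230006))) (.leaf (nat_lit 64786158571356192))) (.node (.node (.leaf
    (nat_lit 330358602501426708525)) (.leaf (nat_lit 1080083370189233782797))) (.leaf (nat_lit
    131887154191269891))))) (.node (.node (.node (.node (.leaf (nat_lit 0)) (.leaf (nat_lit
    478268158987088074507505203806390))) (.leaf (nat_lit 86986397847781379))) (.node (.node (.leaf
    (nat_lit 41136702839980034)) (.leaf (nat_lit 597276828972011503535744174391359))) (.leaf
    (nat_lit 20433983983146827772879868307566392436965334233841801)))) (.node (.node (.node (.leaf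
    (nat_lit 257999227233599946754)) (.leaf (nat_lit 2517037244941077501616295883661836423)))
    (.leaf (nat_lit 669352890655937069089))) (.node (.node (.leaf (nat_lit 0)) (.leaf (nat_lit 0)))
    (.leaf (nat_lit 0))))))) (.node (.node (.node (.node (.node (.node (.leaf (nat_lit
    5188534249795551258)) (.leaf (nat_lit 0))) (.leaf (nat_lit 619194362892034179092))) (.node
    (.node (.leaf (nat_lit 323433893396568277020)) (.leaf (nat_lit
    101077429579390629970155208818))) (.leaf (nat_lit 502525786696112134671065678217291)))) (.node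
    (.node (.node (.leaf (nat_lit 0)) (.leaf (nat_lit 1358501195852976160794))) (.leaf (nat_lit
    51552578297337325158526156929))) (.node (.node (.leaf (nat_lit 338433556367014035503)) (.leaf
    (nat_lit 716129422782332157442791831896166))) (.leaf (nat_lit 1055628428122138017812)))))
    (.node (.node (.node (.node (.leaf (nat_lit 0)) (.leaf (nat_lit 1284704577743105491024)))
    (.leaf (nat_lit 689468743683267559430))) (.node (.node (.leaf (nat_lit 16366647191404546))
    (.leaf (nat_lit 1380503581782964371497))) (.leaf (nat_lit 543709537832539188322341686214774))))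
    (.node (.node (.node (.leaf (nat_lit 0)) (.leaf (nat_lit 0))) (.leaf (nat_lit
    240522689499978970674420760713224925051682965))) (.node (.node (.leaf (nat_lit 0)) (.leaf
    (nat_lit 1603588547098855014497))) (.leaf (nat_lit 1136919317285066440813)))))) (.node (.node
    (.node (.node (.node (.leaf (nat_lit 29977965629714661410)) (.leaf (nat_lit
    21738123821571379177219882212755000837229674670784649))) (.leaf (nat_lit
    2323763774206152720480352304718348297))) (.node (.node (.leaf (nat_lit 125135757479214514178))
    (.leaf (nat_lit 98176631216351632513846018122))) (.leaf (nat_lit 837988420858610384988))))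
    (.node (.node (.node (.leaf (nat_lit 26180381174792195)) (.leaf (nat_lit
    901372581166731952273))) (.leaf (nat_lit 774861601173955346445))) (.node (.node (.leaf (nat_lit
    0)) (.leaf (nat_lit 5830033103051645454604858910986141855))) (.leaf (nat_lit
    2863804327681777964227425593591267333))))) (.node (.node (.node (.node (.leaf (nat_lit
    46122104764544253963)) (.leaf (nat_lit 112081926118047776))) (.leaf (nat_lit
    78823889811144706))) (.node (.node (.leaf (nat_lit 0)) (.leaf (nat_lit
    1443346037468272197710))) (.leaf (nat_lit 495799503868620111878)))) (.node (.node (.node (.leaf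
    (nat_lit 230035886421473165324)) (.leaf (nat_lit 1469787996526515257535))) (.leaf (nat_lit
    106762488862867459))) (.node (.leaf (nat_lit 142402878936717656098)) (.leaf (nat_lit
    893623219932811690025))))))))) (.node (.node (.node (.node (.node (.node (.node (.node (.leaf
    (nat_lit 0)) (.leaf (nat_lit 16312939095121109142463767109465818155906171941879955))) (.leaf
    (nat_lit 0))) (.node (.node (.leaf (nat_lit 0)) (.leaf (nat_lit 1483666443917674610785)))
    (.leaf (nat_lit 872286040315744419882)))) (.node (.node (.node (.leaf (nat_lit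
    46955256119887463916376737942900527398977591)) (.leaf (nat_lit
    403783844049701828196591096228487125029945373))) (.leaf (nat_lit
    189844833186349165610478162351750915134390388))) (.node (.node (.leaf (nat_lit 0)) (.leaf
    (nat_lit 1630660245239974002769))) (.leaf (nat_lit 0))))) (.node (.node (.node (.node (.leaf
    (nat_lit 0)) (.leaf (nat_lit 790767328512429981704))) (.leaf (nat_lit 171805756309582839844)))
    (.node (.node (.leaf (nat_lit 104960615232976388098)) (.leaf (nat_lit
    429771094531998048371014783635333709514211500))) (.leaf (nat_lit 0)))) (.node (.node (.node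
    (.leaf (nat_lit 14663637591413827864086511681)) (.leaf (nat_lit
    774738375256012262269413587550252))) (.leaf (nat_lit 437010214867861438470))) (.node (.node
    (.leaf (nat_lit 63691526026428426)) (.leaf (nat_lit 1704508760169826680870))) (.leaf (nat_lit
    4430936157934402490158226819955228720)))))) (.node (.node (.node (.node (.node (.leaf (nat_lit
    0)) (.leaf (nat_lit 341831537005980846420310920396825))) (.leaf (nat_lit 0))) (.node (.node
    (.leaf (nat_lit 247918942408681914391)) (.leaf (nat_lit 787623791456833369154350211268671)))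
    (.leaf (nat_lit 927350075757141622806)))) (.node (.node (.node (.leaf (nat_lit
    60534996509965615151)) (.leaf (nat_lit 986091869308734079009))) (.leaf (nat_lit
    79387587088875522))) (.node (.node (.leaf (nat_lit 0)) (.leaf (nat_lit
    1269468143516372893722))) (.leaf (nat_lit 1070042093373989519393))))) (.node (.node (.node
    (.node (.leaf (nat_lit 118179135508921384966)) (.leaf (nat_lit 1292582687193023315988))) (.leaf
    (nat_lit 436980025096061255716))) (.node (.node (.leaf (nat_lit 115342466835781189634)) (.leaf
    (nat_lit 1182461130899443613776))) (.leaf (nat_lit 1003944051937147813968)))) (.node (.node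
    (.node (.leaf (nat_lit 264603476115400622093)) (.leaf (nat_lit 1383385461330561663010))) (.leaf
    (nat_lit 103697849308545034))) (.node (.node (.leaf (nat_lit 54157110946168864)) (.leaf
    (nat_lit 1278715195735155081242))) (.leaf (nat_lit 0))))))) (.node (.node (.node (.node (.node
    (.node (.leaf (nat_lit 10667725845797470210)) (.leaf (nat_lit
    3628546698434769868515881603056468017))) (.leaf (nat_lit 0))) (.node (.node (.leaf (nat_lit
    39059441907269639)) (.leaf (nat_lit 2474431223250271469758847301294948400))) (.leaf (nat_lit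
    0)))) (.node (.node (.node (.leaf (nat_lit 0)) (.leaf (nat_lit 1353397220498397659217))) (.leaf
    (nat_lit 402360595890965241076029409591428))) (.node (.node (.leaf (nat_lit 0)) (.leaf (nat_lit
    6618389474765635450469619397613256817))) (.leaf (nat_lit 1056204888797132029991))))) (.node
    (.node (.node (.node (.leaf (nat_lit 94543892545882226735)) (.leaf (nat_lit
    48962653953214708720047816818))) (.leaf (nat_lit 0))) (.node (.node (.leaf (nat_lit
    41558588887531522)) (.leaf (nat_lit 1295753753210852147257))) (.leaf (nat_lit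
    55641176765759520)))) (.node (.node (.node (.leaf (nat_lit 247023285141548236821)) (.leaf
    (nat_lit 0))) (.leaf (nat_lit 13820524879261443167999954113778683780995347533987986))) (.node
    (.node (.leaf (nat_lit 65802863229665290)) (.leaf (nat_lit 947522529729989725464308344029228)))
    (.leaf (nat_lit 523902361884887542534595364126813)))))) (.node (.node (.node (.node (.node
    (.leaf (nat_lit 0)) (.leaf (nat_lit 683501191632933535002847894437944))) (.leaf (nat_lit
    43815604183698121991194476666))) (.node (.node (.leaf (nat_lit 121388514383082225666)) (.leaf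
    (nat_lit 102587466937582035205267718267))) (.leaf (nat_lit 481083463135194710062)))) (.node
    (.node (.node (.leaf (nat_lit 210720931472134570004)) (.leaf (nat_lit
    495394809856102892725364855275608))) (.leaf (nat_lit 800493662243511271457))) (.node (.node
    (.leaf (nat_lit 0)) (.leaf (nat_lit 704087245022055680974731209998438))) (.leaf (nat_lit
    98110363144421383))))) (.node (.node (.node (.node (.leaf (nat_lit 0)) (.leaf (nat_lit
    723095949013813830760003870785606))) (.leaf (nat_lit 4902407658500017644372009))) (.node (.node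
    (.leaf (nat_lit 0)) (.leaf (nat_lit 1610539112533900591110))) (.leaf (nat_lit
    1018730295010537963561)))) (.node (.node (.node (.leaf (nat_lit
    143578918704834861279423569985622)) (.leaf (nat_lit 96532563958562853))) (.leaf (nat_lit
    2957423518491744023963351496421474463))) (.node (.leaf (nat_lit 0)) (.leaf (nat_lit
    241158201635987343759469843472466838007906461)))))))) (.node (.node (.node (.node (.node (.node
    (.node (.leaf (nat_lit 1970578240176138)) (.leaf (nat_lit
    5394085935613541587244173441708261426))) (.leaf (nat_lit 151050423883563991074))) (.node (.node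
    (.leaf (nat_lit 11475302016936462647911393107317979873369)) (.leaf (nat_lit 0))) (.leaf
    (nat_lit 109577582227357699)))) (.node (.node (.node (.leaf (nat_lit
    215487134953499699906418129303437321)) (.leaf (nat_lit
    209182444579809229110861333460017873374740668))) (.leaf (nat_lit 87303675671871490))) (.node
    (.node (.leaf (nat_lit 48874735668302165824798967375938755830022260)) (.leaf (nat_lit
    852676710159068889130))) (.leaf (nat_lit 1013161664843765448738))))) (.node (.node (.node
    (.node (.leaf (nat_lit 0)) (.leaf (nat_lit 1233102415040411271201))) (.leaf (nat_lit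
    679962271222149087238))) (.node (.node (.leaf (nat_lit 355430843239970832396)) (.leaf (nat_lit
    1248476195638300835967))) (.leaf (nat_lit 3747795538411679538851625098979770373)))) (.node
    (.node (.node (.leaf (nat_lit 0)) (.leaf (nat_lit 779834338130286180748174503051334))) (.leaf
    (nat_lit 211011648646490401818564040023912398023360637))) (.node (.node (.leaf (nat_lit
    87787880038438556156926429102084)) (.leaf (nat_lit 1663292204202793828358))) (.leaf (nat_lit
    5053954559403423313171656626961580096)))))) (.node (.node (.node (.node (.node (.leaf (nat_lit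
    13836501409106952200)) (.leaf (nat_lit 82853071054341539493814009979))) (.leaf (nat_lit
    243862329588403339272))) (.node (.node (.leaf (nat_lit 27554564551081987)) (.leaf (nat_lit
    1529207611641984909393))) (.leaf (nat_lit 0)))) (.node (.node (.node (.leaf (nat_lit
    200339324398997798974)) (.leaf (nat_lit 1164879884033651310604))) (.leaf (nat_lit
    612874440347012497429))) (.node (.node (.leaf (nat_lit 477321754460360474630)) (.leaf (nat_lit
    0))) (.leaf (nat_lit 72947939937757318466123399234))))) (.node (.node (.node (.node (.leaf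
    (nat_lit 127693375830711533589)) (.leaf (nat_lit 4016503080753495217205744678088409137)))
    (.leaf (nat_lit 80547726475001858))) (.node (.node (.leaf (nat_lit 35542507936940034)) (.leaf
    (nat_lit 20914754679917616061802849002586647656486095563718803))) (.leaf (nat_lit
    15919211115902595434155852439878409448931555692708010)))) (.node (.node (.node (.leaf (nat_lit
    1173609476320878974368781567470796864)) (.leaf (nat_lit 1450836358229454422042))) (.leaf
    (nat_lit 470448598432071483426))) (.node (.node (.leaf (nat_lit 438162358674150064139)) (.leaf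
    (nat_lit 7494581481348550908454646430185226288))) (.leaf (nat_lit 0))))))) (.node (.node (.node
    (.node (.node (.node (.leaf (nat_lit 0)) (.leaf (nat_lit 1214943900410845528143))) (.leaf
    (nat_lit 73544653449854978))) (.node (.node (.leaf (nat_lit 294580667658864361503)) (.leaf
    (nat_lit 6485970043080293227652579134794039457))) (.leaf (nat_lit 112251869384015879)))) (.node
    (.node (.node (.leaf (nat_lit 0)) (.leaf (nat_lit 6133908578592971859190155832138858545)))
    (.leaf (nat_lit 78578226271748098))) (.node (.node (.leaf (nat_lit 0)) (.leaf (nat_lit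
    310608187817165905070118058140030154614309036))) (.leaf (nat_lit 0))))) (.node (.node (.node
    (.node (.leaf (nat_lit 366074200672613597230361263194177585)) (.leaf (nat_lit
    702176172668031727682615085760614))) (.leaf (nat_lit 0))) (.node (.node (.leaf (nat_lit
    22453577922510850)) (.leaf (nat_lit 922783892898580725773))) (.leaf (nat_lit
    3811610861761608316968916546910355533)))) (.node (.node (.node (.leaf (nat_lit
    251367502234825981997)) (.leaf (nat_lit 0))) (.leaf (nat_lit 78051560202043492))) (.node (.node
    (.leaf (nat_lit 550010627335529889804)) (.leaf (nat_lit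
    31203101729677550024994650583449178145779092478951571))) (.leaf (nat_lit
    64187263478140848445109633118)))))) (.node (.node (.node (.node (.node (.leaf (nat_lit
    65718637902952595462)) (.leaf (nat_lit 1245595189025626587193))) (.leaf (nat_lit
    658398479741746348077))) (.node (.node (.leaf (nat_lit 15169845964439554)) (.leaf (nat_lit
    69546514466143366873319014531))) (.leaf (nat_lit 59157541593432521364021248094)))) (.node
    (.node (.node (.leaf (nat_lit 26602662359334922)) (.leaf (nat_lit 890740497326083866681)))
    (.leaf (nat_lit 86811893326544898))) (.node (.node (.leaf (nat_lit 294618388020162920471))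
    (.leaf (nat_lit 177776715085512736))) (.leaf (nat_lit 452557735809226309668))))) (.node (.node
    (.node (.node (.leaf (nat_lit 144697104574791745549)) (.leaf (nat_lit 1037179576903113310220)))
    (.leaf (nat_lit 0))) (.node (.node (.leaf (nat_lit 58337712175470978479263869960262)) (.leaf
    (nat_lit 610546305426740412442))) (.leaf (nat_lit 1016712225126667714593)))) (.node (.node
    (.node (.leaf (nat_lit 35223933032726531)) (.leaf (nat_lit 578252221744276504584))) (.leaf
    (nat_lit 107219954419499045))) (.node (.leaf (nat_lit 71644156191178759)) (.leaf (nat_lit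
    632589471799472930811941860278276)))))))))))) (.node (.node (.node (.node (.node (.node (.node
    (.node (.node (.node (.node (.leaf (nat_lit 1)) (.leaf (nat_lit 1180984009633948696736)))
    (.leaf (nat_lit 0))) (.node (.node (.leaf (nat_lit 0)) (.leaf (nat_lit
    637525297268752811277572611899467))) (.leaf (nat_lit 885830367632418865236)))) (.node (.node
    (.node (.leaf (nat_lit 339698197302224575156815562326284650153362718772)) (.leaf (nat_lit 0)))
    (.leaf (nat_lit 0))) (.node (.node (.leaf (nat_lit 119376358974121246731)) (.leaf (nat_lit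
    99550251568704804849279369338))) (.leaf (nat_lit 125905080791728131))))) (.node (.node (.node
    (.node (.leaf (nat_lit 8797196828934151)) (.leaf (nat_lit 67678243519594498))) (.leaf (nat_lit
    81004324448239619))) (.node (.node (.leaf (nat_lit 35295332569055234)) (.leaf (nat_lit
    154130643788365834))) (.leaf (nat_lit 958462028785836556372)))) (.node (.node (.node (.leaf
    (nat_lit 3805885142698457730170967551536941299880982678798407)) (.leaf (nat_lit
    65986237013500164495370420401))) (.leaf (nat_lit 296975886128599203846))) (.node (.node (.leaf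
    (nat_lit 510757111713304346657)) (.leaf (nat_lit 7576465537054665718740934271554748465)))
    (.leaf (nat_lit 3002821740887207666032630978790752332)))))) (.node (.node (.node (.node (.node
    (.leaf (nat_lit 0)) (.leaf (nat_lit 1217325774537450782777))) (.leaf (nat_lit
    626927670912591527944))) (.node (.node (.leaf (nat_lit 37617045860384800)) (.leaf (nat_lit
    687787253406911610265959599046771))) (.leaf (nat_lit 0)))) (.node (.node (.node (.leaf (nat_lit
    0)) (.leaf (nat_lit 1362630586060861800490))) (.leaf (nat_lit 90329806549417986))) (.node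
    (.node (.leaf (nat_lit 0)) (.leaf (nat_lit 1658316455530629103627))) (.leaf (nat_lit
    130479598919090179))))) (.node (.node (.node (.node (.leaf (nat_lit 0)) (.leaf (nat_lit
    278793281824902042631526818204984732931391613))) (.leaf (nat_lit 0))) (.node (.node (.leaf
    (nat_lit 19111071164006402)) (.leaf (nat_lit 662909610377433189930699913035846))) (.leaf
    (nat_lit 988174215585802158092)))) (.node (.node (.node (.leaf (nat_lit
    285585202688595771996575819213766665)) (.leaf (nat_lit 1433833200947952812184))) (.leaf
    (nat_lit 638821925386744692770))) (.node (.node (.leaf (nat_lit 0)) (.leaf (nat_lit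
    1733317296768520749208))) (.leaf (nat_lit 139659782276644896))))))) (.node (.node (.node (.node
    (.node (.node (.leaf (nat_lit 3484576509160372848810811156436405033959439)) (.leaf (nat_lit
    1195437789931884445823))) (.leaf (nat_lit 74248100373463043))) (.node (.node (.leaf (nat_lit
    37863052997165058)) (.leaf (nat_lit 1492927043545640140822))) (.leaf (nat_lit
    904204025712236232782)))) (.node (.node (.node (.leaf (nat_lit 0)) (.leaf (nat_lit
    1346487080846025228311))) (.leaf (nat_lit 517177418299847409666))) (.node (.node (.leaf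
    (nat_lit 93397802195349602315)) (.leaf (nat_lit 762410449664554288725843069239320))) (.leaf
    (nat_lit 1051304162994491162645))))) (.node (.node (.node (.node (.leaf (nat_lit 0)) (.leaf
    (nat_lit 69719211978653728))) (.leaf (nat_lit 83361131917344778))) (.node (.node (.leaf
    (nat_lit 451922533260258150312426372950589551)) (.leaf (nat_lit
    87130609654170482774693445742))) (.leaf (nat_lit 119391724232638474)))) (.node (.node (.node
    (.leaf (nat_lit 59959134596362338327)) (.leaf (nat_lit 1231459834854237208587))) (.leaf
    (nat_lit 113945018060805698751141992956484976330557340475735146642))) (.node (.node (.leaf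
    (nat_lit 473288359357110747183)) (.leaf (nat_lit 114890950997238202618157006977))) (.leaf
    (nat_lit 1125608307283672104968)))))) (.node (.node (.node (.node (.node (.leaf (nat_lit
    928636862768948776869888027)) (.leaf (nat_lit 1051592748027567341580))) (.leaf (nat_lit 0)))
    (.node (.node (.leaf (nat_lit 350788789466298515497)) (.leaf (nat_lit 1349946516843622760532)))
    (.leaf (nat_lit 58384896363724832)))) (.node (.node (.node (.leaf (nat_lit
    40411644747857096333468759359551)) (.leaf (nat_lit 1180735721341253255277))) (.leaf (nat_lit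
    426457814269902087403167273058374))) (.node (.node (.leaf (nat_lit 478474675990737125410))
    (.leaf (nat_lit 919010300014878720008))) (.leaf (nat_lit 287109875667300450312))))) (.node
    (.node (.node (.node (.leaf (nat_lit 129132171440871899142)) (.leaf (nat_lit
    1308963081986200764576))) (.leaf (nat_lit 80371821794426882))) (.node (.node (.leaf (nat_lit
    84465333988579541072)) (.leaf (nat_lit 0))) (.leaf (nat_lit 766239359498652418059)))) (.node
    (.node (.node (.leaf (nat_lit 261170535474699370580)) (.leaf (nat_lit 1449110114854903152678)))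
    (.leaf (nat_lit 867388410291170771071))) (.node (.node (.leaf (nat_lit 129142662972234203162))
    (.leaf (nat_lit 0))) (.leaf (nat_lit 141739972377051139)))))))) (.node (.node (.node (.node
    (.node (.node (.node (.leaf (nat_lit 0)) (.leaf (nat_lit 620743527215993932677870713700408)))
    (.leaf (nat_lit 591520868763921743884))) (.node (.node (.leaf (nat_lit
    97779372153812267681181715529818)) (.leaf (nat_lit 0))) (.leaf (nat_lit
    507911721993105506349)))) (.node (.node (.node (.leaf (nat_lit 0)) (.leaf (nat_lit
    6022472269865035544940798954275536905))) (.leaf (nat_lit 747184203264168230940))) (.node (.node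
    (.leaf (nat_lit 0)) (.leaf (nat_lit 0))) (.leaf (nat_lit
    2990854597268801166475213829547950115))))) (.node (.node (.node (.node (.leaf (nat_lit
    34015091075269722151)) (.leaf (nat_lit 21697528603618894339847350092035328488023958160605364)))
    (.leaf (nat_lit 172958677839959490568))) (.node (.node (.leaf (nat_lit 29278899431145474))
    (.leaf (nat_lit 1514226361565704290326))) (.leaf (nat_lit 63311120773021728)))) (.node (.node
    (.node (.leaf (nat_lit 27939831707467786)) (.leaf (nat_lit 132032796532277255))) (.leaf
    (nat_lit 5218851186784192797343863))) (.node (.node (.leaf (nat_lit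
    32499879046588156934778847306)) (.leaf (nat_lit 0))) (.leaf (nat_lit 136283109053300743))))))
    (.node (.node (.node (.node (.node (.leaf (nat_lit 5489453535723527)) (.leaf (nat_lit
    1225960442854516129873))) (.leaf (nat_lit 0))) (.node (.node (.leaf (nat_lit 0)) (.leaf
    (nat_lit 556928980060588933140))) (.leaf (nat_lit 931962179057411620885)))) (.node (.node
    (.node (.leaf (nat_lit 190238595435261526049)) (.leaf (nat_lit 1100631285343015075871))) (.leaf
    (nat_lit 80654258843811842))) (.node (.node (.leaf (nat_lit 188552001764267851822)) (.leaf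
    (nat_lit 111408838361313537191114506360))) (.leaf (nat_lit 1079532019851557273634))))) (.node
    (.node (.node (.node (.leaf (nat_lit 119332021846336012296)) (.leaf (nat_lit
    1283358224466403590172))) (.leaf (nat_lit 86493773688864775))) (.node (.node (.leaf (nat_lit
    41066308325998594)) (.leaf (nat_lit 1085895158812777840653))) (.leaf (nat_lit
    122768354506309664)))) (.node (.node (.node (.leaf (nat_lit
    1202162506864129911638748973809205330)) (.leaf (nat_lit 793428403566385486918086455328838)))
    (.leaf (nat_lit 203780669809150885865165033529097826064728181))) (.node (.node (.leaf (nat_lit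
    212153222281310699604)) (.leaf (nat_lit 115877576168459172623484780666))) (.leaf (nat_lit
    633529239604842904499995860664324))))))) (.node (.node (.node (.node (.node (.node (.leaf
    (nat_lit 1900372704755714)) (.leaf (nat_lit 147539402292330506))) (.leaf (nat_lit 0))) (.node
    (.node (.leaf (nat_lit 213316625155387228252)) (.leaf (nat_lit 0))) (.leaf (nat_lit
    904491703755593678854)))) (.node (.node (.node (.leaf (nat_lit
    76702282468143043417484969771026)) (.leaf (nat_lit 0))) (.leaf (nat_lit
    765316465941224292432))) (.node (.node (.leaf (nat_lit 57287171442343943)) (.leaf (nat_lit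
    120742186504552548))) (.leaf (nat_lit 2945766676562484868987792067922428009))))) (.node (.node
    (.node (.node (.leaf (nat_lit 249237697160158804121680831662456880)) (.leaf (nat_lit 0)))
    (.leaf (nat_lit 0))) (.node (.node (.leaf (nat_lit 342466067385605619714)) (.leaf (nat_lit
    101348171958229158918510411930))) (.leaf (nat_lit 827312884739339386977)))) (.node (.node
    (.node (.leaf (nat_lit 30332643887415303)) (.leaf (nat_lit 78867970159775901937607966834)))
    (.leaf (nat_lit 702502796462469087380))) (.node (.node (.leaf (nat_lit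
    161176508773360409460883899940933)) (.leaf (nat_lit 1611908771445611888646))) (.leaf (nat_lit
    1134245717430549807182)))))) (.node (.node (.node (.node (.node (.leaf (nat_lit
    35178387391674921045561067307012)) (.leaf (nat_lit 3622280140276238719139090679537795139)))
    (.leaf (nat_lit 0))) (.node (.node (.leaf (nat_lit 197481614049714307074)) (.leaf (nat_lit
    6548213598087912483533478932274151537))) (.leaf (nat_lit 0)))) (.node (.node (.node (.leaf
    (nat_lit 25547019527520266)) (.leaf (nat_lit 93334330601949363448221859954))) (.leaf (nat_lit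
    95044950495985696))) (.node (.node (.leaf (nat_lit 0)) (.leaf (nat_lit
    6863656084053666263247386759313948779))) (.leaf (nat_lit 1036804754351277146146))))) (.node
    (.node (.node (.node (.leaf (nat_lit 0)) (.leaf (nat_lit
    2530562005271292405367566886572064773))) (.leaf (nat_lit 78929408567672834))) (.node (.node
    (.leaf (nat_lit 22735568295297124)) (.leaf (nat_lit 7268651408097983464485039694445740139)))
    (.leaf (nat_lit 399837772167527902024055296229419)))) (.node (.node (.node (.leaf (nat_lit
    262873988614611730443)) (.leaf (nat_lit 0))) (.leaf (nat_lit 827033976572523773980))) (.node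
    (.leaf (nat_lit 319140401922404618929703414530052)) (.leaf (nat_lit
    786664206492030402582))))))))) (.node (.node (.node (.node (.node (.node (.node (.node (.leaf
    (nat_lit 0)) (.leaf (nat_lit 1183833658248013217803))) (.leaf (nat_lit 217686592158152458246)))
    (.node (.node (.leaf (nat_lit 80188785796694808109349228380218)) (.leaf (nat_lit
    142307663974367239))) (.leaf (nat_lit 799653428024639160343)))) (.node (.node (.node (.leaf
    (nat_lit 0)) (.leaf (nat_lit 1333160004477104881697))) (.leaf (nat_lit 0))) (.node (.node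
    (.leaf (nat_lit 209345449743094594470401081212991)) (.leaf (nat_lit 886959658454596386858)))
    (.leaf (nat_lit 61706931572391822183031439481))))) (.node (.node (.node (.node (.leaf (nat_lit
    76678569903113043980)) (.leaf (nat_lit 140122934369976357))) (.leaf (nat_lit 0))) (.node (.node
    (.leaf (nat_lit 31143628202180610)) (.leaf (nat_lit 0))) (.leaf (nat_lit
    955023570065642684462)))) (.node (.node (.node (.leaf (nat_lit 27165706802036768)) (.leaf
    (nat_lit 880939714661958484159))) (.leaf (nat_lit 19266027506050459522723807374))) (.node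
    (.node (.leaf (nat_lit 0)) (.leaf (nat_lit 1673874572439781048331))) (.leaf (nat_lit
    1111830959591549763596)))))) (.node (.node (.node (.node (.node (.leaf (nat_lit
    38623715443440025633)) (.leaf (nat_lit 456023609309965516808))) (.leaf (nat_lit 0))) (.node
    (.node (.leaf (nat_lit 1517576805189932945017974048170639437)) (.leaf (nat_lit
    963149373870113488976))) (.leaf (nat_lit 926717213575911505998)))) (.node (.node (.node (.leaf
    (nat_lit 59958324608479985711)) (.leaf (nat_lit 551740197694827855910))) (.leaf (nat_lit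
    487204413288640348162))) (.node (.node (.leaf (nat_lit 0)) (.leaf (nat_lit
    716122535892881758377155316023399))) (.leaf (nat_lit
    18539929155245472629776437561663083974275588288086174))))) (.node (.node (.node (.node (.leaf
    (nat_lit 0)) (.leaf (nat_lit 5803069212593212891783788872721694807))) (.leaf (nat_lit 0)))
    (.node (.node (.leaf (nat_lit 394349083239645380706)) (.leaf (nat_lit
    7104956531722400564995906597336580255))) (.leaf (nat_lit 0)))) (.node (.node (.node (.leaf
    (nat_lit 31951331161931783)) (.leaf (nat_lit 6499765035264814046368605015634280524))) (.leaf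
    (nat_lit 746896009657231540244))) (.node (.node (.leaf (nat_lit 556352469761542782988)) (.leaf
    (nat_lit 30986793064563362427960333542261637637841198791721118))) (.leaf (nat_lit
    1140378504178855772180))))))) (.node (.node (.node (.node (.node (.node (.leaf (nat_lit
    18449101774532050964)) (.leaf (nat_lit 927631801113265766426))) (.leaf (nat_lit
    74529644069650439))) (.node (.node (.leaf (nat_lit 77504294501209376832440876007494)) (.leaf
    (nat_lit 75813023867511110822684590190))) (.leaf (nat_lit 500134216740437688365)))) (.node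
    (.node (.node (.leaf (nat_lit 168632751461912215609)) (.leaf (nat_lit 0))) (.leaf (nat_lit
    335968498244359809645074710921347))) (.node (.node (.leaf (nat_lit 0)) (.leaf (nat_lit
    1458623936692259848270))) (.leaf (nat_lit 2068103534199524849844497151464767565))))) (.node
    (.node (.node (.node (.leaf (nat_lit 11753027681779715)) (.leaf (nat_lit
    1277782685329339383888))) (.leaf (nat_lit 0))) (.node (.node (.leaf (nat_lit
    30018106252460034)) (.leaf (nat_lit 651151015746359451191410382209127))) (.leaf (nat_lit
    955023675919406661677)))) (.node (.node (.node (.leaf (nat_lit 103773811023429173274)) (.leaf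
    (nat_lit 3992064896964865313993085026161852467))) (.leaf (nat_lit 5551827313965755506360362)))
    (.node (.node (.leaf (nat_lit 286841137188363734537866901323794)) (.leaf (nat_lit
    1666462738417772068898))) (.leaf (nat_lit 1041802550915933339681)))))) (.node (.node (.node
    (.node (.node (.leaf (nat_lit 0)) (.leaf (nat_lit 682237543554636679442869309014109))) (.leaf
    (nat_lit 0))) (.node (.node (.leaf (nat_lit 2878633191027807210438765)) (.leaf (nat_lit 0)))
    (.leaf (nat_lit 2699022092473633228283525570599780400)))) (.node (.node (.node (.leaf (nat_lit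
    0)) (.leaf (nat_lit 0))) (.leaf (nat_lit 47299711610134346350230569080))) (.node (.node (.leaf
    (nat_lit 30913569962146393684460240969)) (.leaf (nat_lit 172111850790584420))) (.leaf (nat_lit
    62968491320592067696253010030))))) (.node (.node (.node (.node (.leaf (nat_lit 0)) (.leaf
    (nat_lit 3832392251704716544266619502689976460))) (.leaf (nat_lit 87268036033249287))) (.node
    (.node (.leaf (nat_lit 98046287905885978650)) (.leaf (nat_lit
    32640943110597462084477398745306350447555368706572427))) (.leaf (nat_lit
    498564283268513464506351920480344)))) (.node (.node (.node (.leaf (nat_lit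
    751738209301101655737581024477380633)) (.leaf (nat_lit 1451128642350358921258))) (.leaf
    (nat_lit 17230307449667506292116347308537738289150544040362142))) (.node (.node (.leaf (nat_lit
    0)) (.leaf (nat_lit 7195979401236380956560992611684778032))) (.leaf (nat_lit
    1166033752303669018635)))))))) (.node (.node (.node (.node (.node (.node (.node (.leaf (nat_lit
    1548322825437191)) (.leaf (nat_lit 17727661263997809855645847592677558939162808702140574)))
    (.leaf (nat_lit 331817255113049116876437474115588))) (.node (.node (.leaf (nat_lit 0)) (.leaf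
    (nat_lit 0))) (.leaf (nat_lit 899015949310249599055)))) (.node (.node (.node (.leaf (nat_lit
    0)) (.leaf (nat_lit 1190217627457022001160))) (.leaf (nat_lit 87022157745487874))) (.node
    (.node (.leaf (nat_lit 0)) (.leaf (nat_lit 7362076288391211902241966834483396659))) (.leaf
    (nat_lit 70275981893523607316840382593))))) (.node (.node (.node (.node (.leaf (nat_lit
    19337436532031753830595379462168)) (.leaf (nat_lit 564014788141954196024043952799913))) (.leaf
    (nat_lit 3050847285083026256421655239310377073))) (.node (.node (.leaf (nat_lit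
    15240455226785794)) (.leaf (nat_lit 22421998788150960737852086086933020402982318234075283)))
    (.leaf (nat_lit 65172818548434959323462172816)))) (.node (.node (.node (.leaf (nat_lit
    382977058959954340481067987302285389)) (.leaf (nat_lit 579508963392234105562373374214148)))
    (.leaf (nat_lit 32500139148637584673418313872))) (.node (.node (.leaf (nat_lit 0)) (.leaf
    (nat_lit 1710837442047245484070))) (.leaf (nat_lit 136391329344258055)))))) (.node (.node
    (.node (.node (.node (.leaf (nat_lit 0)) (.leaf (nat_lit
    2572160759540071743875349583627747333))) (.leaf (nat_lit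
    2399074251031440271830737658344570915))) (.node (.node (.leaf (nat_lit
    160529470197061358447468491440229)) (.leaf (nat_lit 5120322282284520673977748527832825906)))
    (.leaf (nat_lit 662426038894973878319)))) (.node (.node (.node (.leaf (nat_lit
    58805790260815134762)) (.leaf (nat_lit 1379309172139818680362))) (.leaf (nat_lit
    2783487909216476420645916189108142218))) (.node (.node (.leaf (nat_lit 0)) (.leaf (nat_lit
    104541320624667797729610891338))) (.leaf (nat_lit 4818596968730288812969965785899794467)))))
    (.node (.node (.node (.node (.leaf (nat_lit 0)) (.leaf (nat_lit 561815276864764313633))) (.leaf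
    (nat_lit 431792054341680168996))) (.node (.node (.leaf (nat_lit 39447938879062018)) (.leaf
    (nat_lit 0))) (.leaf (nat_lit 0)))) (.node (.node (.node (.leaf (nat_lit 20129502399168514))
    (.leaf (nat_lit 1156520993075581091866))) (.leaf (nat_lit 857526011605310177291))) (.node
    (.node (.leaf (nat_lit 280025191316347369715691956863066)) (.leaf (nat_lit
    1728440151010644787245))) (.leaf (nat_lit 141176953704153095))))))) (.node (.node (.node (.node
    (.node (.node (.leaf (nat_lit 0)) (.leaf (nat_lit 4810939556070841625012459022917763077)))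
    (.leaf (nat_lit 41804168556170338834835636347))) (.node (.node (.leaf (nat_lit
    292274472762980106271)) (.leaf (nat_lit 1366653569295802630228))) (.leaf (nat_lit 0)))) (.node
    (.node (.node (.leaf (nat_lit 21816995049766919)) (.leaf (nat_lit
    411275436839704610409643408257558009004752925))) (.leaf (nat_lit 770504120298249584721)))
    (.node (.node (.leaf (nat_lit 0)) (.leaf (nat_lit
    368799801429237506066209396186037479067418812))) (.leaf (nat_lit
    508071296300652798395517751394347))))) (.node (.node (.node (.node (.leaf (nat_lit 0)) (.leaf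
    (nat_lit 107824093109289060))) (.leaf (nat_lit 84804717670170631))) (.node (.node (.leaf
    (nat_lit 14325970790121474)) (.leaf (nat_lit 1582273922090225827921))) (.leaf (nat_lit
    988174215517082681372)))) (.node (.node (.node (.leaf (nat_lit 124523231650303377487)) (.leaf
    (nat_lit 749273239540622347081051963523264))) (.leaf (nat_lit 86143914242867202))) (.node
    (.node (.leaf (nat_lit 0)) (.leaf (nat_lit 210498687934267399))) (.leaf (nat_lit 0)))))) (.node
    (.node (.node (.node (.node (.leaf (nat_lit 8374915644391427)) (.leaf (nat_lit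
    1084741774765963018252))) (.leaf (nat_lit 0))) (.node (.node (.leaf (nat_lit
    86513061858579251202)) (.leaf (nat_lit 6217019582286462252003508298516463729))) (.leaf (nat_lit
    954390178095901638736)))) (.node (.node (.node (.leaf (nat_lit 26391513177128967)) (.leaf
    (nat_lit 1397217527288287133775))) (.leaf (nat_lit 3633746485628282382341513504212058252)))
    (.node (.node (.leaf (nat_lit 0)) (.leaf (nat_lit 1692395026153814032396))) (.leaf (nat_lit
    4965713888928358339743582990920777813))))) (.node (.node (.node (.node (.leaf (nat_lit 0))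
    (.leaf (nat_lit 1251360184641905688685))) (.leaf (nat_lit 641690300917213233214))) (.node
    (.node (.leaf (nat_lit 53346040732057607)) (.leaf (nat_lit 852417202031691604887183500378214)))
    (.leaf (nat_lit 125271693374652423)))) (.node (.node (.node (.leaf (nat_lit
    219081795147338547220)) (.leaf (nat_lit 808015249144268509023934672666756))) (.leaf (nat_lit
    3545157793549047410851563461551783971))) (.node (.leaf (nat_lit 71433007008972803)) (.leaf
    (nat_lit 5295396217013016678665242785484308618)))))))))) (.node (.node (.node (.node (.node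
    (.node (.node (.node (.node (.leaf (nat_lit 0)) (.leaf (nat_lit 126575817244409893))) (.leaf
    (nat_lit 72376495359787011))) (.node (.node (.leaf (nat_lit 169788454769592041484)) (.leaf
    (nat_lit 1081505765896271101958))) (.leaf (nat_lit 0)))) (.node (.node (.node (.leaf (nat_lit
    142391156081181261835)) (.leaf (nat_lit 0))) (.leaf (nat_lit 0))) (.node (.node (.leaf (nat_lit
    18830274792128522)) (.leaf (nat_lit 7315400166477324058829125616201564208))) (.leaf (nat_lit
    2637764308024079474450140774005145635))))) (.node (.node (.node (.node (.leaf (nat_lit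
    2011690347385846682047807515)) (.leaf (nat_lit 2474819409176102811115702707741458539))) (.leaf
    (nat_lit 0))) (.node (.node (.leaf (nat_lit 39834125158449154)) (.leaf (nat_lit
    603629920048208455316053825028112))) (.leaf (nat_lit 0)))) (.node (.node (.node (.leaf (nat_lit
    59958993635535683606)) (.leaf (nat_lit 1404120032911168831521))) (.leaf (nat_lit
    36287220906328101))) (.node (.node (.leaf (nat_lit 0)) (.leaf (nat_lit
    114038835776663703234338422980))) (.leaf (nat_lit 135335626382901251)))))) (.node (.node (.node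
    (.node (.node (.leaf (nat_lit 0)) (.leaf (nat_lit 454870687770998931492))) (.leaf (nat_lit
    623806154583836917806))) (.node (.node (.leaf (nat_lit 80425638967170498598)) (.leaf (nat_lit
    1431526760946874908753))) (.leaf (nat_lit 0)))) (.node (.node (.node (.leaf (nat_lit
    183913360032874561556)) (.leaf (nat_lit 6157515114087630438222579284016824396))) (.leaf
    (nat_lit 2364080933415575710467292442615283789))) (.node (.node (.leaf (nat_lit 0)) (.leaf
    (nat_lit 1499800348325826461774))) (.leaf (nat_lit 96773004817727525))))) (.node (.node (.node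
    (.node (.leaf (nat_lit 92814686408400896036)) (.leaf (nat_lit 1259436469994599415842))) (.leaf
    (nat_lit 0))) (.node (.node (.leaf (nat_lit 136093649704916811799)) (.leaf (nat_lit 0))) (.leaf
    (nat_lit 92872895599891589792227235099172870665339048)))) (.node (.node (.node (.leaf (nat_lit
    31740190569660426)) (.leaf (nat_lit 0))) (.leaf (nat_lit 97508560916840450))) (.node (.node
    (.leaf (nat_lit 8786142840687065895543308315)) (.leaf (nat_lit 1034583891135485378566))) (.leaf
    (nat_lit 5162622113618312148697396840831057968))))))) (.node (.node (.node (.node (.node (.node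
    (.leaf (nat_lit 1126204849651714)) (.leaf (nat_lit 1199184257086340137120))) (.leaf (nat_lit
    149897572807830863908))) (.node (.node (.leaf (nat_lit 37933464691015690)) (.leaf (nat_lit
    135974717516546085))) (.leaf (nat_lit 599304219381180072034)))) (.node (.node (.node (.leaf
    (nat_lit 2530934505271876848581314136557555810352)) (.leaf (nat_lit
    168567037638882564886971181061744541777330231))) (.leaf (nat_lit 88253679488073730))) (.node
    (.node (.leaf (nat_lit 421709898405669699668)) (.leaf (nat_lit 200749876676526083))) (.leaf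
    (nat_lit 579226040378761559859324877406264))))) (.node (.node (.node (.node (.leaf (nat_lit
    39779874709142962221)) (.leaf (nat_lit 0))) (.leaf (nat_lit 677424007071324635156))) (.node
    (.node (.leaf (nat_lit 47328267564351520)) (.leaf (nat_lit 1421725908635559854164))) (.leaf
    (nat_lit 4404775475431581834675530177955954773)))) (.node (.node (.node (.leaf (nat_lit
    29488115878068231)) (.leaf (nat_lit 2483532496367667194114825447281197104))) (.leaf (nat_lit
    680307368563027673110))) (.node (.node (.leaf (nat_lit 64430595408789536)) (.leaf (nat_lit 0)))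
    (.leaf (nat_lit 572361792489655162409073923981316)))))) (.node (.node (.node (.node (.node
    (.leaf (nat_lit 55923449236161757196)) (.leaf (nat_lit 105817862345719815))) (.leaf (nat_lit
    0))) (.node (.node (.leaf (nat_lit 408915568732226574594653784015044713)) (.leaf (nat_lit
    804739348839634328905487044968550))) (.leaf (nat_lit 294598198598675136557)))) (.node (.node
    (.node (.leaf (nat_lit 60535207813766643758)) (.leaf (nat_lit 88175312712373194653197205635)))
    (.leaf (nat_lit 495565064556236701698))) (.node (.node (.leaf (nat_lit 500712887919134834745))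
    (.leaf (nat_lit 1680869047472977281184))) (.leaf (nat_lit 0))))) (.node (.node (.node (.node
    (.leaf (nat_lit 0)) (.leaf (nat_lit 159545498036994051))) (.leaf (nat_lit
    722093099789469286527))) (.node (.node (.leaf (nat_lit 15522660347936770)) (.leaf (nat_lit
    107210937655871871466953048137))) (.leaf (nat_lit 1007199813258354819084)))) (.node (.node
    (.node (.leaf (nat_lit 653011520371569661098549264345661464)) (.leaf (nat_lit
    1459967859575817961498))) (.leaf (nat_lit 461224452390570360838))) (.node (.node (.leaf
    (nat_lit 0)) (.leaf (nat_lit 1705949983806603853870))) (.leaf (nat_lit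
    343438362954437235716347248307962450467684516)))))))) (.node (.node (.node (.node (.node (.node
    (.node (.leaf (nat_lit 1337182233165834)) (.leaf (nat_lit 655579931369390477159313627807763)))
    (.leaf (nat_lit 119817240622291858298721272201291))) (.node (.node (.leaf (nat_lit 0)) (.leaf
    (nat_lit 546551067496845344804))) (.leaf (nat_lit 0)))) (.node (.node (.node (.leaf (nat_lit
    0)) (.leaf (nat_lit 557889358301575184405))) (.leaf (nat_lit 746319899168101040225))) (.node
    (.node (.leaf (nat_lit 0)) (.leaf (nat_lit 83261626069135046244938612809))) (.leaf (nat_lit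
    0))))) (.node (.node (.node (.node (.leaf (nat_lit 32862169622202482708)) (.leaf (nat_lit 0)))
    (.leaf (nat_lit 2537852216690132322792580280979226675))) (.node (.node (.leaf (nat_lit
    45323059002998786)) (.leaf (nat_lit 656408957620729348122))) (.leaf (nat_lit
    971150677026623651868)))) (.node (.node (.node (.leaf (nat_lit
    126939127513966725145334192144459)) (.leaf (nat_lit 1412172500007326515226))) (.leaf (nat_lit
    800782000964507992183))) (.node (.node (.leaf (nat_lit 0)) (.leaf (nat_lit
    1652914643929447727138))) (.leaf (nat_lit 1118744016458724081748)))))) (.node (.node (.node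
    (.node (.node (.leaf (nat_lit 5841331616350211)) (.leaf (nat_lit
    423627790779786747205449775710232))) (.leaf (nat_lit 443893823532288901154))) (.node (.node
    (.leaf (nat_lit 101581046625246108958934790701155)) (.leaf (nat_lit
    6863732145255248971415829832912011312))) (.leaf (nat_lit 0)))) (.node (.node (.node (.leaf
    (nat_lit 57652868721848549415)) (.leaf (nat_lit 756069102667834692395062010445910))) (.leaf
    (nat_lit 83820886691545090))) (.node (.node (.leaf (nat_lit 112744527769395986479)) (.leaf
    (nat_lit 131860757322268682))) (.leaf (nat_lit 0))))) (.node (.node (.node (.node (.leaf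
    (nat_lit 117899982760898134037)) (.leaf (nat_lit 30894601177051330593778106522))) (.leaf
    (nat_lit 0))) (.node (.node (.leaf (nat_lit 28470328888000514)) (.leaf (nat_lit
    599172637489075929461938844991558))) (.leaf (nat_lit 123048571057602563)))) (.node (.node
    (.node (.leaf (nat_lit 220770085137968449188737548592545875)) (.leaf (nat_lit
    795547843888726668961232848289811))) (.leaf (nat_lit 1494270902424071605788756218638434381)))
    (.node (.node (.leaf (nat_lit 180516304682197250091162291011702)) (.leaf (nat_lit
    955085817475985770169211633926219))) (.leaf (nat_lit 1155577687011768860678))))))) (.node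
    (.node (.node (.node (.node (.node (.leaf (nat_lit 3518888180580359)) (.leaf (nat_lit
    5443402984194731299173812260712153173))) (.leaf (nat_lit 0))) (.node (.node (.leaf (nat_lit 0))
    (.leaf (nat_lit 1505580610549388083345))) (.leaf (nat_lit 915220544572241412117)))) (.node
    (.node (.node (.leaf (nat_lit 175250158238017191949)) (.leaf (nat_lit
    2601976381479535887528663273473245193))) (.leaf (nat_lit 709716963866039222399))) (.node (.node
    (.leaf (nat_lit 0)) (.leaf (nat_lit 637525354182539605032737173798930))) (.leaf (nat_lit 0)))))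
    (.node (.node (.node (.node (.leaf (nat_lit 98002657119832309796)) (.leaf (nat_lit
    1284734876641434730580))) (.leaf (nat_lit 0))) (.node (.node (.leaf (nat_lit
    383106518369656045570)) (.leaf (nat_lit 1038908998115376955412))) (.leaf (nat_lit
    120801534362648579)))) (.node (.node (.node (.leaf (nat_lit 0)) (.leaf (nat_lit
    174781718425894922))) (.leaf (nat_lit 703944405774424539159))) (.node (.node (.leaf (nat_lit
    443923869620253163531)) (.leaf (nat_lit 1603333178926234271842))) (.leaf (nat_lit
    76273189289748905424857661562)))))) (.node (.node (.node (.node (.node (.leaf (nat_lit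
    8023037563764743)) (.leaf (nat_lit 1232337189599275319358))) (.leaf (nat_lit 0))) (.node (.node
    (.leaf (nat_lit 124559296177155276802)) (.leaf (nat_lit 97867146137634783295560810569))) (.leaf
    (nat_lit 0)))) (.node (.node (.node (.leaf (nat_lit 0)) (.leaf (nat_lit
    712022253271148331046))) (.leaf (nat_lit 267842704296141497966436085530720))) (.node (.node
    (.leaf (nat_lit 160882237798072123415)) (.leaf (nat_lit 866360527735987482201696082722931)))
    (.leaf (nat_lit 581090161604667036519701244411908))))) (.node (.node (.node (.node (.leaf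
    (nat_lit 0)) (.leaf (nat_lit 0))) (.leaf (nat_lit 78788705439055874))) (.node (.node (.leaf
    (nat_lit 119807743707385707024094759092327)) (.leaf (nat_lit 1375509231074864726100))) (.leaf
    (nat_lit 918349316694191833099)))) (.node (.node (.node (.leaf (nat_lit 0)) (.leaf (nat_lit
    3740491576710860634365033218818113585))) (.leaf (nat_lit 0))) (.node (.leaf (nat_lit
    71081128928346119)) (.leaf (nat_lit 876903782238059167764))))))))) (.node (.node (.node (.node
    (.node (.node (.node (.node (.leaf (nat_lit 6341209111610458120)) (.leaf (nat_lit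
    442163100163850635127554652373067))) (.leaf (nat_lit 597286109558408937500))) (.node (.node
    (.leaf (nat_lit 36385137570742274)) (.leaf (nat_lit
    357988243150171571968662390640897404890054790))) (.leaf (nat_lit 827322101636077387796))))
    (.node (.node (.node (.leaf (nat_lit 153357210136315363356)) (.leaf (nat_lit
    1329480714665607757836))) (.leaf (nat_lit 111739063214537135777551380512843))) (.node (.node
    (.leaf (nat_lit 0)) (.leaf (nat_lit 1630696519730597134416))) (.leaf (nat_lit 0))))) (.node
    (.node (.node (.node (.leaf (nat_lit 0)) (.leaf (nat_lit 1244442478644432142481))) (.leaf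
    (nat_lit 665832656217988857862))) (.node (.node (.leaf (nat_lit 103807693719779606530)) (.leaf
    (nat_lit 1078050837638649413668))) (.leaf (nat_lit 1481329140514231161295040654365622348))))
    (.node (.node (.node (.leaf (nat_lit 0)) (.leaf (nat_lit 385729394368683414565210032570393)))
    (.leaf (nat_lit 807145024193539801149))) (.node (.node (.leaf (nat_lit 0)) (.leaf (nat_lit
    1704510026957545734271))) (.leaf (nat_lit 1114125576445309943814)))))) (.node (.node (.node
    (.node (.node (.leaf (nat_lit 23769183963016119821656211718148)) (.leaf (nat_lit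
    606803264764527629507376967975000))) (.leaf (nat_lit 449081723943695613986))) (.node (.node
    (.leaf (nat_lit 110433017799943323670)) (.leaf (nat_lit 783603685889258504236668935340102)))
    (.leaf (nat_lit 927021735196808642606)))) (.node (.node (.node (.leaf (nat_lit
    160839237779505479711)) (.leaf (nat_lit 70565114377535520))) (.leaf (nat_lit
    79317218344697858))) (.node (.node (.leaf (nat_lit 248502582971914715162)) (.leaf (nat_lit
    137701294369538055))) (.leaf (nat_lit 3988171598575351211180631010700623948))))) (.node (.node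
    (.node (.node (.leaf (nat_lit 0)) (.leaf (nat_lit 1297194478725912264724))) (.leaf (nat_lit
    0))) (.node (.node (.leaf (nat_lit 19287182003011586)) (.leaf (nat_lit
    875576605326999617986227194953745))) (.leaf (nat_lit 176269710018743884084478686396585))))
    (.node (.node (.node (.leaf (nat_lit 32303209242558474)) (.leaf (nat_lit
    1303794998781531062298))) (.leaf (nat_lit 3146999399825340362197810050735997035))) (.node
    (.node (.leaf (nat_lit 0)) (.leaf (nat_lit 211906234616512519))) (.leaf (nat_lit
    117955165046308867))))))) (.node (.node (.node (.node (.node (.node (.leaf (nat_lit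
    50631551122620500748491840851214360)) (.leaf (nat_lit 0))) (.leaf (nat_lit
    41108479000306496650311172216))) (.node (.node (.leaf (nat_lit 0)) (.leaf (nat_lit
    596977073050312054776751009955915))) (.leaf (nat_lit 3760625584472746588733990211751968816))))
    (.node (.node (.node (.leaf (nat_lit 20972467040419847)) (.leaf (nat_lit
    1353397185344090341456))) (.leaf (nat_lit 88359309913751554))) (.node (.node (.leaf (nat_lit
    1477464394557274032251104319934759003)) (.leaf (nat_lit 888398839075314598682913621278822)))
    (.leaf (nat_lit 1053322303560638201868))))) (.node (.node (.node (.node (.leaf (nat_lit 0))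
    (.leaf (nat_lit 45422458720633382073037815985))) (.leaf (nat_lit 178724270774520315910)))
    (.node (.node (.leaf (nat_lit 30299589819105282)) (.leaf (nat_lit 1295177292458548723740)))
    (.leaf (nat_lit 0)))) (.node (.node (.node (.leaf (nat_lit 247026979981653901340)) (.leaf
    (nat_lit 783331715529877067833047609901112))) (.leaf (nat_lit
    13558562175263700674401139081260419814166936062460051))) (.node (.node (.leaf (nat_lit 0))
    (.leaf (nat_lit 1671027171884613697688))) (.leaf (nat_lit 67359895538632757768016429109))))))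
    (.node (.node (.node (.node (.node (.leaf (nat_lit 7635640103600165)) (.leaf (nat_lit
    74767710827332239580520054905))) (.leaf (nat_lit 652903524292918181909))) (.node (.node (.leaf
    (nat_lit 31424948560068610)) (.leaf (nat_lit 1536166526424734433316))) (.leaf (nat_lit
    522588778038529556525)))) (.node (.node (.node (.leaf (nat_lit 13483574734492584118438920258))
    (.leaf (nat_lit 600460244308895924369))) (.leaf (nat_lit 91033897718120480))) (.node (.node
    (.leaf (nat_lit 277799686076917132759786475356164)) (.leaf (nat_lit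
    86550287165026539134175739970))) (.leaf (nat_lit 0))))) (.node (.node (.node (.node (.leaf
    (nat_lit 133178620624771416109)) (.leaf (nat_lit 723095949599389867372090254295142))) (.leaf
    (nat_lit 79140480440467458))) (.node (.node (.leaf (nat_lit 0)) (.leaf (nat_lit
    135906066759286821))) (.leaf (nat_lit 1011235531174407503892)))) (.node (.node (.node (.leaf
    (nat_lit 1171012694028527822186369362713575509)) (.leaf (nat_lit 1464084854787260219473)))
    (.leaf (nat_lit 0))) (.node (.leaf (nat_lit 241565563176525955098)) (.leaf (nat_lit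
    50007958257853912169876619393)))))))) (.node (.node (.node (.node (.node (.node (.node (.leaf
    (nat_lit 0)) (.leaf (nat_lit 1196301882883064397933))) (.leaf (nat_lit 73896222292836359)))
    (.node (.node (.leaf (nat_lit 143579382786053353793494760947770)) (.leaf (nat_lit
    1492315503755320819796))) (.leaf (nat_lit 0)))) (.node (.node (.node (.leaf (nat_lit 0)) (.leaf
    (nat_lit 739288434099256903517468832956432))) (.leaf (nat_lit 4234108352911700469743627)))
    (.node (.node (.leaf (nat_lit 155685786776793972749)) (.leaf (nat_lit 1469578063082047078441)))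
    (.leaf (nat_lit 262897960536487690248))))) (.node (.node (.node (.node (.leaf (nat_lit
    39779733894345195566)) (.leaf (nat_lit 116162548776173600))) (.leaf (nat_lit
    23724398615855111))) (.node (.node (.leaf (nat_lit 16155291850768386)) (.leaf (nat_lit
    1232911755326108401773))) (.leaf (nat_lit 259559084943468233969424738418692)))) (.node (.node
    (.node (.leaf (nat_lit 236660926509809336343)) (.leaf (nat_lit
    779834338137882491988091504820326))) (.leaf (nat_lit 828125070785954119760))) (.node (.node
    (.leaf (nat_lit 64993476642734083)) (.leaf (nat_lit 1238359283486901338123))) (.leaf (nat_lit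
    1119335223435777474583)))))) (.node (.node (.node (.node (.node (.leaf (nat_lit
    6263612800892935)) (.leaf (nat_lit 4285361042465152505567628924545335331))) (.leaf (nat_lit
    78400371676020743))) (.node (.node (.leaf (nat_lit 0)) (.leaf (nat_lit
    1529180560902867583056))) (.leaf (nat_lit 927350181421927038999)))) (.node (.node (.node (.leaf
    (nat_lit 200339429930639228989)) (.leaf (nat_lit 1154437162389096038412))) (.leaf (nat_lit
    616621329632328876129))) (.node (.node (.leaf (nat_lit 208114794240894238731)) (.leaf (nat_lit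
    1048709184191365054475))) (.leaf (nat_lit 228436596098838962252964212169566856153727148)))))
    (.node (.node (.node (.node (.leaf (nat_lit 399855351468379960359734041918242851)) (.leaf
    (nat_lit 5052813546686880491399481188235542687))) (.leaf (nat_lit 5067716424938203438645289)))
    (.node (.node (.leaf (nat_lit 35507323564851202)) (.leaf (nat_lit
    403205357207835694386440190013522789068767366))) (.leaf (nat_lit
    20892796333896922224885301362)))) (.node (.node (.node (.leaf (nat_lit
    146114703284469391699219637993541)) (.leaf (nat_lit 1454190372914741837922))) (.leaf (nat_lit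
    204303176263032716721598636631681644118999193))) (.node (.node (.leaf (nat_lit 0)) (.leaf
    (nat_lit 955291396024450724261118406426699))) (.leaf (nat_lit
    637529708174021883640837833097286))))))) (.node (.node (.node (.node (.node (.node (.leaf
    (nat_lit 10540873739548345972009137278434997313273885)) (.leaf (nat_lit
    1214943746818520055886))) (.leaf (nat_lit 73509469077766146))) (.node (.node (.leaf (nat_lit
    0)) (.leaf (nat_lit 815991302765426763479246642217004))) (.leaf (nat_lit 0)))) (.node (.node
    (.node (.leaf (nat_lit 47565222438119050438313304338680764992913462)) (.leaf (nat_lit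
    748768078937976949774550531702828))) (.leaf (nat_lit 2881811917683635007423453280621494316)))
    (.node (.node (.leaf (nat_lit 216796748885168160779)) (.leaf (nat_lit 1657237993279872761892)))
    (.leaf (nat_lit 4802085046379569300092341804283134028))))) (.node (.node (.node (.node (.leaf
    (nat_lit 0)) (.leaf (nat_lit 614719135148944815794051269132306))) (.leaf (nat_lit
    12070333362640137004628901915))) (.node (.node (.leaf (nat_lit 22418393550422018)) (.leaf
    (nat_lit 191532146714869770))) (.leaf (nat_lit 535647490926358961605559590453267)))) (.node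
    (.node (.node (.leaf (nat_lit 0)) (.leaf (nat_lit 884686428523630624779))) (.leaf (nat_lit
    1482610265358431711272620547226665110))) (.node (.node (.leaf (nat_lit 0)) (.leaf (nat_lit
    447017478509873709048764089137837133192036486))) (.leaf (nat_lit
    59157541773310093124983652529)))))) (.node (.node (.node (.node (.node (.leaf (nat_lit 0))
    (.leaf (nat_lit 1243577576392564604956))) (.leaf (nat_lit 0))) (.node (.node (.leaf (nat_lit
    15099468630327298)) (.leaf (nat_lit 1138087796376695144546))) (.leaf (nat_lit
    862790307016622669881)))) (.node (.node (.node (.leaf (nat_lit 0)) (.leaf (nat_lit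
    889011115069173596188))) (.leaf (nat_lit 86671155838189570))) (.node (.node (.leaf (nat_lit
    292312474642205048854)) (.leaf (nat_lit 0))) (.leaf (nat_lit 861272807238864666630))))) (.node
    (.node (.node (.node (.leaf (nat_lit 17664723747209226)) (.leaf (nat_lit 0))) (.leaf (nat_lit
    2126500709359649584130799017537241093))) (.node (.node (.leaf (nat_lit
    116627646785589167279594768040005)) (.leaf (nat_lit 139107982058323975))) (.leaf (nat_lit 0))))
    (.node (.node (.node (.leaf (nat_lit 0)) (.leaf (nat_lit 1398376291236906729498))) (.leaf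
    (nat_lit 0))) (.node (.leaf (nat_lit 0)) (.leaf (nat_lit 118061130479435779))))))))))) (.node
    (.node (.node (.node (.node (.node (.node (.node (.node (.node (.leaf (nat_lit 1)) (.leaf
    (nat_lit 649253249433574420249690784530547))) (.leaf (nat_lit
    2308186883707947824246495213932445747))) (.node (.node (.leaf (nat_lit 293426760476442951713))
    (.leaf (nat_lit 96286453742567461))) (.leaf (nat_lit 792439540996534108183)))) (.node (.node
    (.node (.leaf (nat_lit 16890710510927874)) (.leaf (nat_lit
    3849169596279047325889455251809304627))) (.leaf (nat_lit 643353291526712262664))) (.node (.node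
    (.leaf (nat_lit 54049814073180167)) (.leaf (nat_lit 1624935888814703050772))) (.leaf (nat_lit
    567924918360721996797437788160004))))) (.node (.node (.node (.node (.leaf (nat_lit
    66871559433329246242)) (.leaf (nat_lit 550673219396347035745))) (.leaf (nat_lit 0))) (.node
    (.node (.leaf (nat_lit 42402575730999298)) (.leaf (nat_lit 1334377854690247508048))) (.leaf
    (nat_lit 117282332649586720)))) (.node (.node (.node (.leaf (nat_lit
    120758672327436846174064074948627)) (.leaf (nat_lit 5108565762696391101946952196425187405)))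
    (.leaf (nat_lit 812585934801867046925))) (.node (.node (.leaf (nat_lit 227745879789903478795))
    (.leaf (nat_lit 7649185376676662489937394296548687978))) (.leaf (nat_lit 0)))))) (.node (.node
    (.node (.node (.node (.leaf (nat_lit 0)) (.leaf (nat_lit 951779363675340734475))) (.leaf
    (nat_lit 0))) (.node (.node (.leaf (nat_lit 0)) (.leaf (nat_lit 1514210242699471290415)))
    (.leaf (nat_lit 0)))) (.node (.node (.node (.leaf (nat_lit
    56189434281029046458521162417401504780058653)) (.leaf (nat_lit
    27672516032773923006595535050809015510113036494635149))) (.leaf (nat_lit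
    2789980497865169147214490363983495275))) (.node (.node (.leaf (nat_lit 481079194573357645846))
    (.leaf (nat_lit 121375659820974180))) (.leaf (nat_lit
    3120668198219386670679665810218614819))))) (.node (.node (.node (.node (.leaf (nat_lit
    21233554024516749953739644076036)) (.leaf (nat_lit 4155846165676523510067499940266311841)))
    (.leaf (nat_lit 0))) (.node (.node (.leaf (nat_lit 24494280093597698)) (.leaf (nat_lit
    1586884151723897847819))) (.leaf (nat_lit 992786464554182967335)))) (.node (.node (.node (.leaf
    (nat_lit 0)) (.leaf (nat_lit 1440452964209404346448))) (.leaf (nat_lit 85968086871703554)))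
    (.node (.node (.leaf (nat_lit 67034496641400835)) (.leaf (nat_lit 0))) (.leaf (nat_lit
    1132883529184953171980))))))) (.node (.node (.node (.node (.node (.node (.leaf (nat_lit
    53231502039451633733140311792091153)) (.leaf (nat_lit 1198896519287102701596))) (.leaf (nat_lit
    0))) (.node (.node (.leaf (nat_lit 1344898543432214412459122285393412181)) (.leaf (nat_lit
    617263412545566281327866603241547))) (.leaf (nat_lit 60683425225942778729313140789)))) (.node
    (.node (.node (.leaf (nat_lit 20339062443474954)) (.leaf (nat_lit 1331786839338776723476)))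
    (.leaf (nat_lit 76009518001160194))) (.node (.node (.leaf (nat_lit 56301888764772359)) (.leaf
    (nat_lit 192658922795040775))) (.leaf (nat_lit 68172359812345682182556418107))))) (.node (.node
    (.node (.node (.leaf (nat_lit 11330763677106183)) (.leaf (nat_lit 155558703234416677))) (.leaf
    (nat_lit 675694413691001962508))) (.node (.node (.leaf (nat_lit 26218151117193218)) (.leaf
    (nat_lit 0))) (.leaf (nat_lit 978066237735177486415)))) (.node (.node (.node (.leaf (nat_lit
    0)) (.leaf (nat_lit 1155577769938997411876))) (.leaf (nat_lit 90576956147499010))) (.node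
    (.node (.leaf (nat_lit 158577098871437197335)) (.leaf (nat_lit 1717178826956162138239))) (.leaf
    (nat_lit 137306208917913603)))))) (.node (.node (.node (.node (.node (.leaf (nat_lit
    55923449218981888028)) (.leaf (nat_lit 151057912515657828))) (.leaf (nat_lit
    2447167982791080836803597841358848077))) (.node (.node (.leaf (nat_lit 350788718831266365502))
    (.leaf (nat_lit 90283907750443118872509087809))) (.leaf (nat_lit 0)))) (.node (.node (.node
    (.leaf (nat_lit 0)) (.leaf (nat_lit 858744673532912009314))) (.leaf (nat_lit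
    4021345051223535055536154))) (.node (.node (.leaf (nat_lit 445077001526717907028)) (.leaf
    (nat_lit 108661372874479834130425380986))) (.leaf (nat_lit 72931293200673808877565051002)))))
    (.node (.node (.node (.node (.leaf (nat_lit 15764544316112903)) (.leaf (nat_lit
    87843037236403199308414124176))) (.leaf (nat_lit 80266294447964162))) (.node (.node (.leaf
    (nat_lit 839975421612108791025688932537270387)) (.leaf (nat_lit 1089878803944038400013)))
    (.leaf (nat_lit 123965430611181600)))) (.node (.node (.node (.leaf (nat_lit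
    178160048033310638103)) (.leaf (nat_lit
    18276842446755006998522169846490561547221780392509611))) (.leaf (nat_lit
    47028107775322525135949594780))) (.node (.node (.leaf (nat_lit 0)) (.leaf (nat_lit
    1359155501788007956527))) (.leaf (nat_lit 2718247911065363673116838091502845957)))))))) (.node
    (.node (.node (.node (.node (.node (.node (.leaf (nat_lit 0)) (.leaf (nat_lit
    118413145999015973))) (.leaf (nat_lit 599015773354720428052))) (.node (.node (.leaf (nat_lit
    146273912996823697340640811941958)) (.leaf (nat_lit 1281273236518160498699))) (.leaf (nat_lit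
    502986613588110802966)))) (.node (.node (.node (.leaf (nat_lit 0)) (.leaf (nat_lit
    573453657927818870786))) (.leaf (nat_lit 748625143093801451604))) (.node (.node (.leaf (nat_lit
    55246220163153927)) (.leaf (nat_lit 1268578048764463480845))) (.leaf (nat_lit
    664786661592118001697))))) (.node (.node (.node (.node (.leaf (nat_lit
    45165720370165516754632753676328)) (.leaf (nat_lit 1196013688717781958668))) (.leaf (nat_lit
    0))) (.node (.node (.leaf (nat_lit 117066572308756496386)) (.leaf (nat_lit 0))) (.leaf (nat_lit
    0)))) (.node (.node (.node (.leaf (nat_lit 14818394263423949033154347082)) (.leaf (nat_lit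
    788663737931251515400))) (.leaf (nat_lit 86354694057885698))) (.node (.node (.leaf (nat_lit
    114152571688594898955)) (.leaf (nat_lit 1657445546629559156762))) (.leaf (nat_lit
    307290083823169241094)))))) (.node (.node (.node (.node (.node (.leaf (nat_lit 0)) (.leaf
    (nat_lit 1087625907788411240468))) (.leaf (nat_lit 0))) (.node (.node (.leaf (nat_lit
    335540906441597714473)) (.leaf (nat_lit 559234823069802627114))) (.leaf (nat_lit
    62542935262956436648689467536)))) (.node (.node (.node (.leaf (nat_lit 57364673530068926476))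
    (.leaf (nat_lit 756069102651346784550083642130448))) (.leaf (nat_lit
    4338031548285312777322615))) (.node (.node (.leaf (nat_lit 52467204523950083)) (.leaf (nat_lit
    7520308577746893576982625139594559536))) (.leaf (nat_lit
    313810252074080308500342017534954333924819074))))) (.node (.node (.node (.node (.leaf (nat_lit
    480333734290417127529787508067336243)) (.leaf (nat_lit 46970077393684278842514276529))) (.leaf
    (nat_lit 215096398217900542916405772532330069626519677))) (.node (.node (.leaf (nat_lit
    22242695028277250)) (.leaf (nat_lit 673649371763090448603067256799322))) (.leaf (nat_lit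
    16758971279662599709938483227)))) (.node (.node (.node (.leaf (nat_lit 31564388968300546))
    (.leaf (nat_lit 1442480816091744632860))) (.leaf (nat_lit 853266634895110897721))) (.node
    (.node (.leaf (nat_lit 252293400152712837329657763594298)) (.leaf (nat_lit
    27058616369791309381442390131290414920318044991062163))) (.leaf (nat_lit
    77472966203761826002773541008))))))) (.node (.node (.node (.node (.node (.node (.leaf (nat_lit
    13835480701539123211)) (.leaf (nat_lit 81113025312257232389343084707))) (.leaf (nat_lit 0)))
    (.node (.node (.leaf (nat_lit 929532546152245283347974760616624163)) (.leaf (nat_lit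
    551451863775604572172))) (.leaf (nat_lit 43082860586187042387243892859)))) (.node (.node (.node
    (.leaf (nat_lit 0)) (.leaf (nat_lit 65154553110052805529456410738))) (.leaf (nat_lit
    2796384984722908139488618718238802055))) (.node (.node (.leaf (nat_lit 0)) (.leaf (nat_lit
    1235493374715064680527))) (.leaf (nat_lit 607396169892646551578))))) (.node (.node (.node
    (.node (.leaf (nat_lit 10838319906816032)) (.leaf (nat_lit 384144832398153995102510819704964)))
    (.leaf (nat_lit 84523191153852419))) (.node (.node (.leaf (nat_lit 343618988864442662914))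
    (.leaf (nat_lit 192727479063019552))) (.leaf (nat_lit 459093801875318804642681130975325))))
    (.node (.node (.node (.leaf (nat_lit 0)) (.leaf (nat_lit
    2488480720988006226200908615010156679))) (.leaf (nat_lit
    13827884488081382084001630966502483293804835321348243))) (.node (.node (.leaf (nat_lit
    265282449662489484265771904663615)) (.leaf (nat_lit
    368800247697950099266186665989644590170833068))) (.leaf (nat_lit
    2465508871424302706398217422265319459)))))) (.node (.node (.node (.node (.node (.leaf (nat_lit
    28825044107927945222)) (.leaf (nat_lit 1246746773227741315129))) (.leaf (nat_lit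
    249050758014499487752))) (.node (.node (.leaf (nat_lit 24212195231531010)) (.leaf (nat_lit
    177246655991644170))) (.leaf (nat_lit 0)))) (.node (.node (.node (.leaf (nat_lit
    331051561999351037856321908511277120)) (.leaf (nat_lit 663018057960148631743))) (.leaf (nat_lit
    450251606849679982628))) (.node (.node (.leaf (nat_lit 487698540763419967535)) (.leaf (nat_lit
    166447252783628320))) (.leaf (nat_lit 0))))) (.node (.node (.node (.node (.leaf (nat_lit 0))
    (.leaf (nat_lit 1319961192822533718078))) (.leaf (nat_lit 79034961683939330))) (.node (.node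
    (.leaf (nat_lit 25864169906821676586867425346)) (.leaf (nat_lit 0))) (.leaf (nat_lit
    4614978708825171355782054287784738982)))) (.node (.node (.node (.leaf (nat_lit
    34907179194646535)) (.leaf (nat_lit 935368391072952811553))) (.leaf (nat_lit
    31880845617503284444675768434))) (.node (.leaf (nat_lit 141249957414930939910)) (.leaf (nat_lit
    636280570357980465156243285475431))))))))) (.node (.node (.node (.node (.node (.node (.node
    (.node (.leaf (nat_lit 0)) (.leaf (nat_lit 1129125698126852849684))) (.leaf (nat_lit
    40022051277318434044065939576))) (.node (.node (.leaf (nat_lit 139252043791105982466)) (.leaf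
    (nat_lit 1032219321603914399752))) (.leaf (nat_lit 891605001833915023373)))) (.node (.node
    (.node (.leaf (nat_lit 24045436992647868706091407075964972129910838)) (.leaf (nat_lit
    1030586236791567876180))) (.leaf (nat_lit 0))) (.node (.node (.leaf (nat_lit 0)) (.leaf
    (nat_lit 780004248788885182792740664377387))) (.leaf (nat_lit
    69526554924729775282358386782))))) (.node (.node (.node (.node (.leaf (nat_lit
    77831632162388115476)) (.leaf (nat_lit 16145790219312920154651792153470092968012))) (.leaf
    (nat_lit 321992712538904951166828965920772))) (.node (.node (.leaf (nat_lit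
    98043015862360932354)) (.leaf (nat_lit 1270313868593234903051))) (.leaf (nat_lit
    954721723337492594711)))) (.node (.node (.node (.leaf (nat_lit 0)) (.leaf (nat_lit
    1172087473394159910950))) (.leaf (nat_lit 794462641347964895359))) (.node (.node (.leaf
    (nat_lit 522584474249370730518)) (.leaf (nat_lit 1657445370630389301284))) (.leaf (nat_lit
    74613712584792291961605521552)))))) (.node (.node (.node (.node (.node (.leaf (nat_lit 0))
    (.leaf (nat_lit 0))) (.leaf (nat_lit 0))) (.node (.node (.leaf (nat_lit
    113468328387725254316454280822880)) (.leaf (nat_lit 96590182738456576017868062793))) (.leaf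
    (nat_lit 0)))) (.node (.node (.node (.leaf (nat_lit 22133809017389059)) (.leaf (nat_lit
    5518535666212220651045361831270351014))) (.leaf (nat_lit
    19653412455453773340920072282248059551882))) (.node (.node (.leaf (nat_lit 0)) (.leaf (nat_lit
    1663572903388151742475))) (.leaf (nat_lit 534179638028643008534))))) (.node (.node (.node
    (.node (.leaf (nat_lit 14145857041596419)) (.leaf (nat_lit
    2635168159594812060683659768607735817))) (.leaf (nat_lit 86212247172546563))) (.node (.node
    (.leaf (nat_lit 62773234458523278895490395406450)) (.leaf (nat_lit 1592664853004786270399)))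
    (.leaf (nat_lit 997975174352176611369)))) (.node (.node (.node (.leaf (nat_lit 0)) (.leaf
    (nat_lit 1443057623516628320336))) (.leaf (nat_lit 287331807285135420684082216304684))) (.node
    (.node (.leaf (nat_lit 557505532020817854484)) (.leaf (nat_lit 1739656785127253672088))) (.leaf
    (nat_lit 77167870723470170438687326322))))))) (.node (.node (.node (.node (.node (.node (.leaf
    (nat_lit 24502467361989918742)) (.leaf (nat_lit 453138631269881675810))) (.leaf (nat_lit
    606454523859464028194))) (.node (.node (.leaf (nat_lit 0)) (.leaf (nat_lit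
    1244993047375370190879))) (.leaf (nat_lit 330336935130152763414)))) (.node (.node (.node (.leaf
    (nat_lit 53040267566149468171)) (.leaf (nat_lit
    384727980987931401456277614354175178169712791))) (.leaf (nat_lit 76854020240703490))) (.node
    (.node (.leaf (nat_lit 424015741457833066509)) (.leaf (nat_lit
    104231779060602136456780382273))) (.leaf (nat_lit 603628345785678233633))))) (.node (.node
    (.node (.node (.leaf (nat_lit 0)) (.leaf (nat_lit 0))) (.leaf (nat_lit
    378088552366653398127625634185220))) (.node (.node (.leaf (nat_lit 30123667958661122)) (.leaf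
    (nat_lit 6461299983163498228202241092487676011))) (.leaf (nat_lit 954721266241303150614))))
    (.node (.node (.node (.leaf (nat_lit 0)) (.leaf (nat_lit 783933139884704225634020506337284)))
    (.leaf (nat_lit 5530576376562457361252391))) (.node (.node (.leaf (nat_lit
    268617595822781499542823539966055)) (.leaf (nat_lit
    24819824962533539972271538985980794195952951425171603))) (.leaf (nat_lit 0)))))) (.node (.node
    (.node (.node (.node (.leaf (nat_lit 3624905153314848)) (.leaf (nat_lit
    577641496863768643669432394448999))) (.leaf (nat_lit 79456023097769987))) (.node (.node (.leaf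
    (nat_lit 27660220746563586)) (.leaf (nat_lit 1158273527894866329611))) (.leaf (nat_lit
    942540224985341034527)))) (.node (.node (.node (.leaf (nat_lit 0)) (.leaf (nat_lit
    1074653995145804054540))) (.leaf (nat_lit 799348904462416805909))) (.node (.node (.leaf
    (nat_lit 0)) (.leaf (nat_lit 1568964907695167701070))) (.leaf (nat_lit
    4089434053995446769776616227096428710))))) (.node (.node (.node (.node (.leaf (nat_lit 0))
    (.leaf (nat_lit 1315292568177850122318))) (.leaf (nat_lit
    219277575272637506465047632877530343178567805))) (.node (.node (.leaf (nat_lit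
    117644334345956294717)) (.leaf (nat_lit 196660754278121475))) (.leaf (nat_lit
    4594285113820357847355287650531999820)))) (.node (.node (.node (.leaf (nat_lit
    20235227314126850)) (.leaf (nat_lit 6004006071590892256867097001639477442))) (.leaf (nat_lit
    873134825127308099617))) (.node (.node (.leaf (nat_lit 0)) (.leaf (nat_lit
    205714042826915847))) (.leaf (nat_lit 319974332166314328100)))))))) (.node (.node (.node (.node
    (.node (.node (.node (.leaf (nat_lit 4612249196014272524)) (.leaf (nat_lit
    71787867428040118198086205582))) (.leaf (nat_lit 149897502361777274886))) (.node (.node (.leaf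
    (nat_lit 0)) (.leaf (nat_lit 1319961092526457421865))) (.leaf (nat_lit
    718646161360724099129)))) (.node (.node (.node (.leaf (nat_lit 159685330674393481249)) (.leaf
    (nat_lit 164010679181901861))) (.leaf (nat_lit 87092543669534722))) (.node (.node (.leaf
    (nat_lit 0)) (.leaf (nat_lit 0))) (.leaf (nat_lit 0))))) (.node (.node (.node (.node (.leaf
    (nat_lit 0)) (.leaf (nat_lit 105642404341743653))) (.leaf (nat_lit 678803754899868942455)))
    (.node (.node (.leaf (nat_lit 45182355874381826)) (.leaf (nat_lit
    841822893912016513311442859327563))) (.leaf (nat_lit 0)))) (.node (.node (.node (.leaf (nat_lit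
    236661173083881799726)) (.leaf (nat_lit 2863637289217384402244502101118353443))) (.leaf
    (nat_lit 21471105840136824726730637448))) (.node (.node (.leaf (nat_lit 112999931719094304794))
    (.leaf (nat_lit 575105557003914500433163430789195))) (.leaf (nat_lit
    308443005379315695650)))))) (.node (.node (.node (.node (.node (.leaf (nat_lit
    12683579878730301476)) (.leaf (nat_lit 0))) (.leaf (nat_lit 243285868818920046628))) (.node
    (.node (.leaf (nat_lit 119796850714112879690602328227942)) (.leaf (nat_lit
    1527471693325318422574))) (.leaf (nat_lit 932209952447952781358)))) (.node (.node (.node (.leaf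
    (nat_lit 100473496467768897653766007160890)) (.leaf (nat_lit
    5248739235549045245548316770838184027))) (.leaf (nat_lit 790110682846719049761))) (.node (.node
    (.leaf (nat_lit 490003750247777632289)) (.leaf (nat_lit 825166215447362303910673278959679)))
    (.leaf (nat_lit 1072249455445985656838))))) (.node (.node (.node (.node (.leaf (nat_lit 0))
    (.leaf (nat_lit 0))) (.leaf (nat_lit
    102641635907739772235725182107367520657727938579147784318))) (.node (.node (.leaf (nat_lit
    39553491995328514)) (.leaf (nat_lit 1281832775305476112410))) (.leaf (nat_lit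
    1009217425796927520825)))) (.node (.node (.node (.leaf (nat_lit 1355592456231889819402260))
    (.leaf (nat_lit 1454190478523692679359))) (.leaf (nat_lit 474606231209152968009053093888004)))
    (.node (.node (.leaf (nat_lit 276222996542059251675409152344134)) (.leaf (nat_lit
    1728713498397402923030))) (.leaf (nat_lit 321126620223374557218))))))) (.node (.node (.node
    (.node (.node (.node (.leaf (nat_lit 0)) (.leaf (nat_lit
    329498851914184257932731893771954153148973220))) (.leaf (nat_lit
    2808076514830686393540894822446334059))) (.node (.node (.leaf (nat_lit 0)) (.leaf (nat_lit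
    91540789196502227386357841986))) (.leaf (nat_lit 0)))) (.node (.node (.node (.leaf (nat_lit 0))
    (.leaf (nat_lit 1359172278900928741398))) (.leaf (nat_lit
    12488592336862063113829542362147198212657160672444553))) (.node (.node (.leaf (nat_lit
    472132833332795998241)) (.leaf (nat_lit 0))) (.leaf (nat_lit 1066802202266178879569))))) (.node
    (.node (.node (.node (.leaf (nat_lit 39780226733252476950)) (.leaf (nat_lit
    961981872029573513250))) (.leaf (nat_lit 690621665213644210210))) (.node (.node (.leaf (nat_lit
    16225935472852994)) (.leaf (nat_lit 193290635174871072))) (.leaf (nat_lit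
    827024654431907151893)))) (.node (.node (.node (.leaf (nat_lit 125099692428376604752)) (.leaf
    (nat_lit 1435264276075225743444))) (.leaf (nat_lit 102786122240884738))) (.node (.node (.leaf
    (nat_lit 0)) (.leaf (nat_lit 1607368685701694685192))) (.leaf (nat_lit
    1136054063245312589881)))))) (.node (.node (.node (.node (.node (.leaf (nat_lit
    288182301120932860371180017680842757)) (.leaf (nat_lit 1245884403653663719436))) (.leaf
    (nat_lit 649114731288027398222))) (.node (.node (.leaf (nat_lit 87665983431905574914)) (.leaf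
    (nat_lit 1491753328867402776685))) (.leaf (nat_lit 0)))) (.node (.node (.node (.leaf (nat_lit
    299899046312732873731720229234868291)) (.leaf (nat_lit 6292214995306833119398282192023388326)))
    (.leaf (nat_lit 86530418349834242))) (.node (.node (.leaf (nat_lit 491157516452192518191))
    (.leaf (nat_lit 113574707645140028191806914670))) (.leaf (nat_lit 0))))) (.node (.node (.node
    (.node (.leaf (nat_lit 0)) (.leaf (nat_lit 84093395928489907283260932206))) (.leaf (nat_lit
    0))) (.node (.node (.leaf (nat_lit 19006110753226762)) (.leaf (nat_lit 197793118110744579)))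
    (.leaf (nat_lit 478509692352295272456)))) (.node (.node (.node (.leaf (nat_lit 0)) (.leaf
    (nat_lit 0))) (.leaf (nat_lit 745165431569756913684))) (.node (.leaf (nat_lit
    582242538548885651462)) (.leaf (nat_lit 1117036277370947043364)))))))))) (.node (.node (.node
    (.node (.node (.node (.node (.node (.node (.leaf (nat_lit 1584640621538318724859469103108))
    (.leaf (nat_lit 803626346157250379812))) (.leaf (nat_lit 19923206530007047))) (.node (.node
    (.leaf (nat_lit 140100796411889778772)) (.leaf (nat_lit 180482196589641760))) (.leaf (nat_lit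
    868252433470606999598)))) (.node (.node (.node (.leaf (nat_lit 18298128344154119)) (.leaf
    (nat_lit 1329480925711710748693))) (.leaf (nat_lit 2087434235848453868617451721397305421)))
    (.node (.node (.leaf (nat_lit 29598102842967152767516606538)) (.leaf (nat_lit
    616599565624290770964))) (.leaf (nat_lit 260503936298548807136644359165110166521184372)))))
    (.node (.node (.node (.node (.leaf (nat_lit 76678569885933174812)) (.leaf (nat_lit
    153596925382361125))) (.leaf (nat_lit 172958607385315967010))) (.node (.node (.leaf (nat_lit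
    30862127455666178)) (.leaf (nat_lit 6996115747583269171902585272235655281))) (.leaf (nat_lit
    891861535269817876527)))) (.node (.node (.node (.leaf (nat_lit
    342707917302760418408497685532704816)) (.leaf (nat_lit 92005648001001902109190586482))) (.leaf
    (nat_lit 99540862131896352))) (.node (.node (.leaf (nat_lit 450259413545445949466)) (.leaf
    (nat_lit 934206104806551144226411422023798))) (.leaf (nat_lit
    2637851301841617473309801951261032453)))))) (.node (.node (.node (.node (.node (.leaf (nat_lit
    0)) (.leaf (nat_lit 148777722968145927))) (.leaf (nat_lit 0))) (.node (.node (.leaf (nat_lit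
    86995714448915847413350585991193)) (.leaf (nat_lit 174009315802349578))) (.leaf (nat_lit
    13266406696869789822675020903282538385352979305398413)))) (.node (.node (.node (.leaf (nat_lit
    0)) (.leaf (nat_lit 25801517996570381988319717191420515166150824280391860))) (.leaf (nat_lit
    28300109365463639317868978080580289167365))) (.node (.node (.leaf (nat_lit
    433546695516006580237)) (.leaf (nat_lit 111002587339891710136416534594))) (.leaf (nat_lit
    43895336485361760730960167035))))) (.node (.node (.node (.node (.leaf (nat_lit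
    13793978960969735)) (.leaf (nat_lit 5830240510946794145702504047594373205))) (.leaf (nat_lit
    0))) (.node (.node (.leaf (nat_lit 395502004744252227676)) (.leaf (nat_lit
    1368013305759318343713))) (.leaf (nat_lit 546424014169888786950433012056139)))) (.node (.node
    (.node (.leaf (nat_lit 66877226917554225163)) (.leaf (nat_lit
    2522229541722134810861488883448086703))) (.leaf (nat_lit 379549598977048452127889901879399)))
    (.node (.node (.leaf (nat_lit 556352469744362913820)) (.leaf (nat_lit
    116264474932034199708888268923))) (.leaf (nat_lit 1147529932126095081591))))))) (.node (.node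
    (.node (.node (.node (.node (.leaf (nat_lit 6022133557554202265872532635666)) (.leaf (nat_lit
    0))) (.leaf (nat_lit 14009096746881719146413096987))) (.node (.node (.leaf (nat_lit
    92398589426684513783530813522010)) (.leaf (nat_lit 1234353222852603478125))) (.leaf (nat_lit
    894115410145412579359)))) (.node (.node (.node (.leaf (nat_lit 18157657143771138)) (.leaf
    (nat_lit 650904253918989189239))) (.leaf (nat_lit 88535163054718978))) (.node (.node (.leaf
    (nat_lit 464390474862663237678)) (.leaf (nat_lit 182174014272307300))) (.leaf (nat_lit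
    1053322303509098594332))))) (.node (.node (.node (.node (.leaf (nat_lit 0)) (.leaf (nat_lit
    371149827684726176117069189611652))) (.leaf (nat_lit 117127081235319348300363281596491)))
    (.node (.node (.leaf (nat_lit 97181385619658702850)) (.leaf (nat_lit 1435542846739216269391)))
    (.leaf (nat_lit 70770396634415107)))) (.node (.node (.node (.leaf (nat_lit 0)) (.leaf (nat_lit
    35002264369780780920031477813))) (.leaf (nat_lit 5601411873805467679719551))) (.node (.node
    (.leaf (nat_lit 0)) (.leaf (nat_lit 1239223869139549618202))) (.leaf (nat_lit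
    2614398181464291700608091553859567651)))))) (.node (.node (.node (.node (.node (.leaf (nat_lit
    57076511495436828692)) (.leaf (nat_lit 1239541708358814990383))) (.leaf (nat_lit
    72700589296975972))) (.node (.node (.leaf (nat_lit 1508548437494582981051522731418779755))
    (.leaf (nat_lit 4345179459934965036811203088166092907))) (.leaf (nat_lit
    525486457310519951382)))) (.node (.node (.node (.leaf (nat_lit 12493531583217667)) (.leaf
    (nat_lit 3819695339678081367399756551638417574))) (.leaf (nat_lit 77241563729756162))) (.node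
    (.node (.leaf (nat_lit 60946809996050442)) (.leaf (nat_lit 801892578720889776120770052096075)))
    (.leaf (nat_lit 819250387429961695359))))) (.node (.node (.node (.node (.leaf (nat_lit
    462162913770797891902240829846519817)) (.leaf (nat_lit 5182172457843978006815361110876028933)))
    (.leaf (nat_lit 630435947216694870028))) (.node (.node (.leaf (nat_lit 26289103976923138))
    (.leaf (nat_lit 596977151911133660614423508025414))) (.leaf (nat_lit 1011811991857991450663))))
    (.node (.node (.node (.leaf (nat_lit 17561180675637250)) (.leaf (nat_lit 0))) (.leaf (nat_lit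
    870848828341630468223))) (.node (.node (.leaf (nat_lit 53453638252757024)) (.leaf (nat_lit
    1723251441384449835031))) (.leaf (nat_lit 0)))))))) (.node (.node (.node (.node (.node (.node
    (.node (.leaf (nat_lit 6341385127960182795)) (.leaf (nat_lit
    360423950991296061396716645054588653247463548))) (.leaf (nat_lit 0))) (.node (.node (.leaf
    (nat_lit 0)) (.leaf (nat_lit 818188201084343285655918589902934))) (.leaf (nat_lit
    180431314266307578018564342130563239211761826)))) (.node (.node (.node (.leaf (nat_lit 0))
    (.leaf (nat_lit 560195201345148616856))) (.leaf (nat_lit 738249623011525328980))) (.node (.node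
    (.leaf (nat_lit 0)) (.leaf (nat_lit 575105709944139571518114168700998))) (.leaf (nat_lit
    261745038980341235748))))) (.node (.node (.node (.node (.leaf (nat_lit 35744473383719600170))
    (.leaf (nat_lit 1242112534537906094122))) (.leaf (nat_lit 675694413587922747420))) (.node
    (.node (.leaf (nat_lit 16577435596357634)) (.leaf (nat_lit 1125608814605209108514))) (.leaf
    (nat_lit 971133892006668075168)))) (.node (.node (.node (.leaf (nat_lit
    1039886283216308676908577711276359756)) (.leaf (nat_lit 0))) (.leaf (nat_lit
    824141987664049143844))) (.node (.node (.leaf (nat_lit 0)) (.leaf (nat_lit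
    28842250738780399473935057036836487938198155882594451))) (.leaf (nat_lit
    5038374803440556309918362201588432960)))))) (.node (.node (.node (.node (.node (.leaf (nat_lit
    194724601814587372199790336755040261)) (.leaf (nat_lit 1230519800602021789774))) (.leaf
    (nat_lit 0))) (.node (.node (.leaf (nat_lit 0)) (.leaf (nat_lit 163207851010031648))) (.leaf
    (nat_lit 922939151851752456225)))) (.node (.node (.node (.leaf (nat_lit 56499947251601440788))
    (.leaf (nat_lit 264255847175989308930305718892786115972497565))) (.leaf (nat_lit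
    293814107374848563196205572948012))) (.node (.node (.leaf (nat_lit 327476228371165413422))
    (.leaf (nat_lit 908345670458249773137))) (.leaf (nat_lit 380940941327242511814157488488452)))))
    (.node (.node (.node (.node (.leaf (nat_lit 0)) (.leaf (nat_lit 0))) (.leaf (nat_lit
    180962018704422092190849016659972))) (.node (.node (.leaf (nat_lit 85039402126271512654))
    (.leaf (nat_lit 483083026254607929169382323523344817281630403))) (.leaf (nat_lit
    5764520711971856689083171252987855076602225269342347)))) (.node (.node (.node (.leaf (nat_lit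
    269240211894926770178)) (.leaf (nat_lit 1418270520060523249744))) (.leaf (nat_lit
    452562165423747039238))) (.node (.node (.leaf (nat_lit 68688333928267786)) (.leaf (nat_lit
    1461188703007503745055))) (.leaf (nat_lit 319973698701587841030))))))) (.node (.node (.node
    (.node (.node (.node (.leaf (nat_lit 0)) (.leaf (nat_lit 147299841901461507))) (.leaf (nat_lit
    0))) (.node (.node (.leaf (nat_lit 13328808886412684719850586206)) (.leaf (nat_lit 0))) (.leaf
    (nat_lit 0)))) (.node (.node (.node (.leaf (nat_lit 172944209701457035275)) (.leaf (nat_lit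
    0))) (.leaf (nat_lit 39214175502132438317220036744))) (.node (.node (.leaf (nat_lit
    188553479293147217965)) (.leaf (nat_lit 705979841548051067414746061209703))) (.leaf (nat_lit
    1059664075600727048233))))) (.node (.node (.node (.node (.leaf (nat_lit 12667941615173639))
    (.leaf (nat_lit 1284704691710062690385))) (.leaf (nat_lit 178724481958062260260))) (.node
    (.node (.leaf (nat_lit 16437024525516802)) (.leaf (nat_lit 1192824018980391026730))) (.leaf
    (nat_lit 4454229862987490832161673086083989671)))) (.node (.node (.node (.leaf (nat_lit 0))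
    (.leaf (nat_lit 1424608351098750828556))) (.leaf (nat_lit
    1729361403604219123743281707367714955887135817757))) (.node (.node (.leaf (nat_lit
    66717734213386247)) (.leaf (nat_lit 948786429222788643469348487692371))) (.leaf (nat_lit
    344047968560011195466808503906640623380791460)))))) (.node (.node (.node (.node (.node (.leaf
    (nat_lit 0)) (.leaf (nat_lit 1248986995166806212665))) (.leaf (nat_lit 0))) (.node (.node
    (.leaf (nat_lit 85648370755893919746)) (.leaf (nat_lit 798181957844343934534578210209862)))
    (.leaf (nat_lit 271958102594809860808187568324773)))) (.node (.node (.node (.leaf (nat_lit 0))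
    (.leaf (nat_lit 665756136238904788484999839350872))) (.leaf (nat_lit
    3630848450372953524742938429992927281))) (.node (.node (.leaf (nat_lit 29949515624742915))
    (.leaf (nat_lit 7141213217847999444865795542070263857))) (.leaf (nat_lit
    2300398123635346660033860092926820387))))) (.node (.node (.node (.node (.leaf (nat_lit 0))
    (.leaf (nat_lit 1318420647839403278369))) (.leaf (nat_lit 625821552104695857174))) (.node
    (.node (.leaf (nat_lit 130332209406730764299)) (.leaf (nat_lit 1102610374692117348431))) (.leaf
    (nat_lit 477356770813328687140)))) (.node (.node (.node (.leaf (nat_lit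
    108873752702296750789462839394392)) (.leaf (nat_lit 1469787994933082390688))) (.leaf (nat_lit
    372880754497223815128031722602500))) (.node (.leaf (nat_lit 0)) (.leaf (nat_lit
    991344857922287108248))))))))) (.node (.node (.node (.node (.node (.node (.node (.node (.leaf
    (nat_lit 0)) (.leaf (nat_lit 145072922833322016))) (.leaf (nat_lit 591520868746741874716)))
    (.node (.node (.leaf (nat_lit 36455532084723722)) (.leaf (nat_lit
    99567166963577870711282532425))) (.leaf (nat_lit 0)))) (.node (.node (.node (.leaf (nat_lit 0))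
    (.leaf (nat_lit 706485872821035277797267991822380))) (.leaf (nat_lit
    50080408847962993368141987969))) (.node (.node (.leaf (nat_lit 54964710826704903)) (.leaf
    (nat_lit 1326341323112463925259))) (.leaf (nat_lit 127031100957655043))))) (.node (.node (.node
    (.node (.leaf (nat_lit 33726895883490099212)) (.leaf (nat_lit
    381668098832477666013310205716126991563423869))) (.leaf (nat_lit 0))) (.node (.node (.leaf
    (nat_lit 29173346314878978)) (.leaf (nat_lit
    30455125454423144017665759767289960737647831928209566))) (.leaf (nat_lit 55218698012721155))))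
    (.node (.node (.node (.leaf (nat_lit 14702323219371230098308268098)) (.leaf (nat_lit
    6346761090560430840702756631349755955))) (.leaf (nat_lit 662441447820292718637))) (.node (.node
    (.leaf (nat_lit 345313438872434311181)) (.leaf (nat_lit 1704461929774871412888))) (.leaf
    (nat_lit 58598596756504579)))))) (.node (.node (.node (.node (.node (.leaf (nat_lit
    12683509415496843270)) (.leaf (nat_lit 1225931726784779452500))) (.leaf (nat_lit 0))) (.node
    (.node (.leaf (nat_lit 324877190351498182754)) (.leaf (nat_lit
    4182723373850785186256831181805256842))) (.leaf (nat_lit 930768725156158439481)))) (.node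
    (.node (.node (.leaf (nat_lit 0)) (.leaf (nat_lit 605829619790561788068230490095731))) (.leaf
    (nat_lit 538797932528565157890))) (.node (.node (.leaf (nat_lit 136091399292377563183)) (.leaf
    (nat_lit 1666462632100151623688))) (.leaf (nat_lit 570188837386713235492))))) (.node (.node
    (.node (.node (.leaf (nat_lit 0)) (.leaf (nat_lit 1298636263865238880353))) (.leaf (nat_lit
    214399457395150595825924847836193187519070332))) (.node (.node (.leaf (nat_lit
    24459284700069890)) (.leaf (nat_lit 0))) (.leaf (nat_lit 1003944167854020165713)))) (.node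
    (.node (.node (.leaf (nat_lit 78751845996278695300564350478830303047122958)) (.leaf (nat_lit
    176189716079706122))) (.leaf (nat_lit 849492682535531118670))) (.node (.node (.leaf (nat_lit
    554569888776983871521)) (.leaf (nat_lit 1600161659832305385480))) (.leaf (nat_lit 0)))))))
    (.node (.node (.node (.node (.node (.node (.leaf (nat_lit 1231852455198722)) (.leaf (nat_lit
    4537198648680456969250355616978239538))) (.leaf (nat_lit 41243924020133661939496976437)))
    (.node (.node (.leaf (nat_lit 72066078260490076186)) (.leaf (nat_lit 1502698583005807706231)))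
    (.leaf (nat_lit 97861332350664741)))) (.node (.node (.node (.leaf (nat_lit
    51022901258051846156)) (.leaf (nat_lit 928219171280069525515))) (.leaf (nat_lit
    230521506826960428946313274524673934275182725))) (.node (.node (.leaf (nat_lit
    462332789342915985419)) (.leaf (nat_lit 406341325026534049937812161078140996011229372))) (.leaf
    (nat_lit 760990731445135933585))))) (.node (.node (.node (.node (.leaf (nat_lit
    37474137330354946070)) (.leaf (nat_lit 34530891835680124495477407898))) (.leaf (nat_lit
    84171313073225735))) (.node (.node (.leaf (nat_lit 1510153632929951350862493636495585837169))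
    (.leaf (nat_lit 1324564018898955075646))) (.leaf (nat_lit 981165840346218954785)))) (.node
    (.node (.node (.leaf (nat_lit 0)) (.leaf (nat_lit 1424608351030031351836))) (.leaf (nat_lit
    699908687892731592724))) (.node (.node (.leaf (nat_lit 228901018279319109645)) (.leaf (nat_lit
    0))) (.leaf (nat_lit 3751889780813794012536276888999887023)))))) (.node (.node (.node (.node
    (.node (.leaf (nat_lit 0)) (.leaf (nat_lit 5598928440370255002981780627774701618))) (.leaf
    (nat_lit 0))) (.node (.node (.leaf (nat_lit 14853117896163330)) (.leaf (nat_lit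
    102452067244920470424873402497))) (.leaf (nat_lit 487735314969193021462)))) (.node (.node
    (.node (.leaf (nat_lit 210715477202971066429)) (.leaf (nat_lit
    765227166350183442921507179069515))) (.leaf (nat_lit 801593378612378271778))) (.node (.node
    (.leaf (nat_lit 61580197413126151)) (.leaf (nat_lit 702178108462675349900961731969127))) (.leaf
    (nat_lit 959616962203448705050))))) (.node (.node (.node (.node (.leaf (nat_lit 0)) (.leaf
    (nat_lit 0))) (.leaf (nat_lit 79210866364514306))) (.node (.node (.leaf (nat_lit
    52712636135112711)) (.leaf (nat_lit 107597841142678107906627666043))) (.leaf (nat_lit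
    1013541374183621197866)))) (.node (.node (.node (.leaf (nat_lit
    633541039276155240414092726773416023)) (.leaf (nat_lit 959038853283215245323))) (.leaf (nat_lit
    875435813547872026671))) (.node (.leaf (nat_lit 0)) (.leaf (nat_lit
    19352641179361936928377435702464234365498137145704606)))))))) (.node (.node (.node (.node
    (.node (.node (.node (.leaf (nat_lit 16141429083480457229)) (.leaf (nat_lit
    5375705946827695697853306279083573297))) (.leaf (nat_lit 0))) (.node (.node (.leaf (nat_lit
    264345434596221059074)) (.leaf (nat_lit 1489756263117366689823))) (.leaf (nat_lit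
    3290917156541575255047835294309482501)))) (.node (.node (.node (.leaf (nat_lit 0)) (.leaf
    (nat_lit 739879029381555789118267717976068))) (.leaf (nat_lit 87338860043960322))) (.node
    (.node (.leaf (nat_lit 48176371032237242282617828996580417764655221)) (.leaf (nat_lit
    1471219519593107357848))) (.leaf (nat_lit 70261659146812803494839648378))))) (.node (.node
    (.node (.node (.leaf (nat_lit 0)) (.leaf (nat_lit 699025658546540977403065572655108))) (.leaf
    (nat_lit 679962382736679960612))) (.node (.node (.leaf (nat_lit 23852560121848674775436951662))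
    (.leaf (nat_lit 1497797335781252202594))) (.leaf (nat_lit
    4105010308383065698555606141644505123)))) (.node (.node (.node (.leaf (nat_lit
    236661102938475921453)) (.leaf (nat_lit 0))) (.leaf (nat_lit 748049036362767335436))) (.node
    (.node (.leaf (nat_lit 0)) (.leaf (nat_lit 1127966803130191118372))) (.leaf (nat_lit 0))))))
    (.node (.node (.node (.node (.node (.leaf (nat_lit 46118338722470756386)) (.leaf (nat_lit
    373136992935476814882564857385943200474660919))) (.leaf (nat_lit 0))) (.node (.node (.leaf
    (nat_lit 185574969844669677266820519034884)) (.leaf (nat_lit 0))) (.leaf (nat_lit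
    55499760672571395)))) (.node (.node (.node (.leaf (nat_lit 0)) (.leaf (nat_lit
    167668234676469797))) (.leaf (nat_lit 14891714963038673396024077855422188095690740031225995)))
    (.node (.node (.leaf (nat_lit 0)) (.leaf (nat_lit 131755290105348103))) (.leaf (nat_lit 0)))))
    (.node (.node (.node (.node (.leaf (nat_lit 60535347408793698349)) (.leaf (nat_lit
    1308963262349057392668))) (.leaf (nat_lit 5086605890869656249696317))) (.node (.node (.leaf
    (nat_lit 35612876681117698)) (.leaf (nat_lit 7221904604930723818982146514507726961))) (.leaf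
    (nat_lit 1007488606532920344596)))) (.node (.node (.node (.leaf (nat_lit
    18454408747786897360414900289)) (.leaf (nat_lit 0))) (.leaf (nat_lit
    33060677065749085993931440282))) (.node (.node (.leaf (nat_lit 0)) (.leaf (nat_lit
    1751779385957220024439))) (.leaf (nat_lit 735665057128975106081))))))) (.node (.node (.node
    (.node (.node (.node (.leaf (nat_lit 33438735188887797780)) (.leaf (nat_lit
    580017954421949271528553927016504))) (.leaf (nat_lit 624652723428499062817))) (.node (.node
    (.leaf (nat_lit 81290118937853493295)) (.leaf (nat_lit 0))) (.leaf (nat_lit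
    207551111746440855578)))) (.node (.node (.node (.leaf (nat_lit 182183766618192150556)) (.leaf
    (nat_lit 0))) (.leaf (nat_lit 78613410643836930))) (.node (.node (.leaf (nat_lit
    58272454119915527)) (.leaf (nat_lit 111364998789506878380953632841))) (.leaf (nat_lit
    652073883808450150433))))) (.node (.node (.node (.node (.leaf (nat_lit
    346603087453098547737484658062327858)) (.leaf (nat_lit 704078249529464642655820288753767)))
    (.leaf (nat_lit 699332189894471778332))) (.node (.node (.leaf (nat_lit 27062730666147842))
    (.leaf (nat_lit 1409861773766326157392))) (.leaf (nat_lit 121501742880915488)))) (.node (.node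
    (.node (.leaf (nat_lit 0)) (.leaf (nat_lit 1429220600135851114516))) (.leaf (nat_lit
    799942711926203809823))) (.node (.node (.leaf (nat_lit 0)) (.leaf (nat_lit
    1733317264646460342399))) (.leaf (nat_lit 36252864851746816829432332402)))))) (.node (.node
    (.node (.node (.node (.leaf (nat_lit 28825114571161403428)) (.leaf (nat_lit
    1252514019879329923232))) (.leaf (nat_lit 0))) (.node (.node (.leaf (nat_lit
    14958756911775746)) (.leaf (nat_lit 102277371148087021891244851356))) (.leaf (nat_lit
    35304849601009624544123879538)))) (.node (.node (.node (.leaf (nat_lit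
    102367970385634682458554480590917)) (.leaf (nat_lit 844620857576414969918))) (.leaf (nat_lit
    93848767744311298))) (.node (.node (.leaf (nat_lit 0)) (.leaf (nat_lit
    1415327878734416117793))) (.leaf (nat_lit 1106074127664423305300))))) (.node (.node (.node
    (.node (.leaf (nat_lit 42338144818121352802162064759835079538704398)) (.leaf (nat_lit
    5392822317323092743214289787925495913))) (.leaf (nat_lit 243289599771110735878))) (.node (.node
    (.leaf (nat_lit 231834739003633541755385751666751)) (.leaf (nat_lit 1496962798484310917128)))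
    (.leaf (nat_lit 1032219202152283963426)))) (.node (.node (.node (.leaf (nat_lit 0)) (.leaf
    (nat_lit 873688427668525219874))) (.leaf (nat_lit 248478100575995756550))) (.node (.leaf
    (nat_lit 142402949382771245064)) (.leaf (nat_lit
    2081073341622139631206393876316618757)))))))))))))

/-- Certificate data. -/
def t12_rel : Trie :=
    (.node (.node (.node (.node (.node (.node (.node (.node (.leaf (nat_lit 0)) (.leaf (nat_lit
    42519818838565064147205))) (.node (.leaf (nat_lit 6601381839362)) (.leaf (nat_lit
    216459789042387206)))) (.node (.node (.leaf (nat_lit 168168197)) (.leaf (nat_lit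
    42612052285137902502405))) (.leaf (nat_lit 33751300)))) (.node (.node (.node (.leaf (nat_lit
    1691074687206657)) (.leaf (nat_lit 315543990776229002929178115))) (.leaf (nat_lit
    362547471031075332))) (.node (.node (.leaf (nat_lit 650210499115876871)) (.leaf (nat_lit
    1859346893061277205018118660))) (.leaf (nat_lit 1103991276043))))) (.node (.node (.node (.node
    (.leaf (nat_lit 328965)) (.leaf (nat_lit 433191110278514441))) (.leaf (nat_lit 5506182021377)))
    (.node (.node (.leaf (nat_lit 50463745)) (.leaf (nat_lit 315544009222973076638664195))) (.leaf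
    (nat_lit 145246624212846342)))) (.node (.node (.node (.leaf (nat_lit 168299016)) (.leaf
    (nat_lit 1103974498826))) (.leaf (nat_lit 1409599777342721))) (.node (.node (.leaf (nat_lit
    1691070442309122)) (.leaf (nat_lit 4814744890198118959110))) (.leaf (nat_lit
    11003740422401)))))) (.node (.node (.node (.node (.node (.leaf (nat_lit 184945157)) (.leaf
    (nat_lit 47242544768304223094018))) (.leaf (nat_lit 1411798800729347))) (.node (.node (.leaf
    (nat_lit 67175170)) (.leaf (nat_lit 146095434337682696))) (.leaf (nat_lit 1695459899016452))))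
    (.node (.node (.node (.leaf (nat_lit 117704452)) (.leaf (nat_lit 145246620018084102))) (.leaf
    (nat_lit 1410694960776707))) (.node (.node (.leaf (nat_lit 9647720900314171573253)) (.leaf
    (nat_lit 286976913835526))) (.leaf (nat_lit 1693269465695748))))) (.node (.node (.node (.node
    (.leaf (nat_lit 23648872276089278825985)) (.leaf (nat_lit 1146789956353))) (.leaf (nat_lit
    101319947))) (.node (.node (.leaf (nat_lit 117507841)) (.leaf (nat_lit 73472704191661571)))
    (.leaf (nat_lit 2207713919237)))) (.node (.node (.node (.leaf (nat_lit 217582381857833222))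
    (.leaf (nat_lit 3409199182695288409933546755))) (.leaf (nat_lit 1103890612742))) (.node (.node
    (.leaf (nat_lit 17039875)) (.leaf (nat_lit 1560751622735084014019150340))) (.leaf (nat_lit
    1244036725311689196828886530))))))) (.node (.node (.node (.node (.node (.node (.leaf (nat_lit
    2258409785460999)) (.leaf (nat_lit 569572810096901))) (.node (.leaf (nat_lit
    433195495406699777)) (.leaf (nat_lit 1121020151297)))) (.node (.node (.leaf (nat_lit
    184879622)) (.leaf (nat_lit 37889685794576088302085))) (.leaf (nat_lit 394758)))) (.node (.node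
    (.node (.leaf (nat_lit 50463235)) (.leaf (nat_lit 50398210))) (.leaf (nat_lit 101123591)))
    (.node (.node (.leaf (nat_lit 4833192479796253493505)) (.leaf (nat_lit
    1859346892989219610980190980))) (.leaf (nat_lit 23778285743587046000130))))) (.node (.node
    (.node (.node (.leaf (nat_lit 67174660)) (.leaf (nat_lit 577031437593805061))) (.leaf (nat_lit
    504694554650477832))) (.node (.node (.leaf (nat_lit 1692152774592264)) (.leaf (nat_lit
    51964911251169573340418))) (.leaf (nat_lit 28371455213211719631105)))) (.node (.node (.node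
    (.leaf (nat_lit 16843009)) (.leaf (nat_lit 2207797805323))) (.leaf (nat_lit 33751810))) (.node
    (.node (.leaf (nat_lit 73750863453487877)) (.leaf (nat_lit 28353008463640468260105))) (.leaf
    (nat_lit 23649518824115078301188)))))) (.node (.node (.node (.node (.node (.leaf (nat_lit
    168102662)) (.leaf (nat_lit 1142494988801))) (.leaf (nat_lit 1691066147866376))) (.node (.node
    (.leaf (nat_lit 1410699255743493)) (.leaf (nat_lit 18981846864385280379398))) (.leaf (nat_lit
    1689970863833606)))) (.node (.node (.node (.leaf (nat_lit 849935457322502)) (.leaf (nat_lit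
    50791175))) (.leaf (nat_lit 1132522797073157))) (.node (.node (.leaf (nat_lit
    1417300687585796)) (.leaf (nat_lit 361138996568655362))) (.leaf (nat_lit 10999428678146)))))
    (.node (.node (.node (.node (.leaf (nat_lit 1408495903966721)) (.leaf (nat_lit 2207781028106)))
    (.leaf (nat_lit 84608522))) (.node (.node (.leaf (nat_lit 506094224413360392)) (.leaf (nat_lit
    432914024724759812))) (.leaf (nat_lit 2541005832324101)))) (.node (.node (.node (.leaf (nat_lit
    592137)) (.leaf (nat_lit 33816835))) (.leaf (nat_lit 2258405540825351))) (.node (.node (.leaf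
    (nat_lit 360857534476649987)) (.leaf (nat_lit 1131418990543878))) (.leaf (nat_lit
    1244032002945206327200450050)))))))) (.node (.node (.node (.node (.node (.node (.node (.leaf
    (nat_lit 526344)) (.leaf (nat_lit 2207697142022))) (.node (.leaf (nat_lit 433476966088377602))
    (.leaf (nat_lit 4833264538489853379083)))) (.node (.node (.leaf (nat_lit 578437682867538177))
    (.leaf (nat_lit 1125315118337))) (.leaf (nat_lit 851039280694533)))) (.node (.node (.node
    (.leaf (nat_lit 287011307521539)) (.leaf (nat_lit 3099714172873944440720393475))) (.leaf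
    (nat_lit 1979146733618441))) (.node (.node (.leaf (nat_lit 146373597861316361)) (.leaf (nat_lit
    506943043027666946))) (.leaf (nat_lit 2541005832388869))))) (.node (.node (.node (.node (.leaf
    (nat_lit 185142025)) (.leaf (nat_lit 1245203113086400888981226250))) (.leaf (nat_lit
    1979146750199049))) (.node (.node (.leaf (nat_lit 849939769197317)) (.leaf (nat_lit
    1245203113086119414004515595))) (.leaf (nat_lit 432912933837013257)))) (.node (.node (.node
    (.leaf (nat_lit 2246284741378)) (.leaf (nat_lit 23796733332055788684803))) (.leaf (nat_lit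
    432914029019727107))) (.node (.node (.leaf (nat_lit 2220514936322)) (.leaf (nat_lit
    433476970383344897))) (.leaf (nat_lit 12103252115713)))))) (.node (.node (.node (.node (.node
    (.leaf (nat_lit 657930)) (.leaf (nat_lit 73749763941860357))) (.leaf (nat_lit
    1551099124450287156325647105))) (.node (.node (.leaf (nat_lit 67240705)) (.leaf (nat_lit
    360576059500004867))) (.leaf (nat_lit 1693273744016643)))) (.node (.node (.node (.leaf (nat_lit
    117638915)) (.leaf (nat_lit 9537544836831022024710))) (.leaf (nat_lit 360576055205037572)))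
    (.node (.node (.leaf (nat_lit 14260127495781316428038)) (.leaf (nat_lit 216459784864532486)))
    (.leaf (nat_lit 134875146))))) (.node (.node (.node (.node (.leaf (nat_lit
    23759838999483288913410)) (.leaf (nat_lit 432912933853399047))) (.leaf (nat_lit 101385482)))
    (.node (.node (.leaf (nat_lit 117769989)) (.leaf (nat_lit 145808457474638597))) (.leaf (nat_lit
    360857530181682692)))) (.node (.node (.node (.leaf (nat_lit 117835526)) (.leaf (nat_lit
    649090118207997191))) (.leaf (nat_lit 289920347049165317))) (.node (.node (.leaf (nat_lit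
    1412885427521028)) (.leaf (nat_lit 67371265))) (.leaf (nat_lit 33686275))))))) (.node (.node
    (.node (.node (.node (.node (.leaf (nat_lit 578152905077885186)) (.leaf (nat_lit
    14260055438187278565638))) (.leaf (nat_lit 1412876837455362))) (.node (.node (.leaf (nat_lit
    723723)) (.leaf (nat_lit 567369626224646))) (.leaf (nat_lit 1695451308950786)))) (.node (.node
    (.node (.leaf (nat_lit 17236231)) (.leaf (nat_lit 28389902238773290339073))) (.leaf (nat_lit
    432632549748114692))) (.node (.node (.leaf (nat_lit 2224809903362)) (.leaf (nat_lit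
    568469003567622))) (.leaf (nat_lit 23777925456686370850305))))) (.node (.node (.node (.node
    (.leaf (nat_lit 84346119)) (.leaf (nat_lit 940563287951824051645907205))) (.leaf (nat_lit
    74317116236629257))) (.node (.node (.leaf (nat_lit 117573378)) (.leaf (nat_lit
    578432215407526917))) (.leaf (nat_lit 33686018)))) (.node (.node (.node (.leaf (nat_lit
    9629274156240478798853)) (.leaf (nat_lit 23815180076129481459203))) (.leaf (nat_lit
    569555697336582))) (.node (.node (.leaf (nat_lit 16974340)) (.leaf (nat_lit
    28371454931736742461960))) (.leaf (nat_lit 23649446766521040438788)))))) (.node (.node (.node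
    (.node (.node (.leaf (nat_lit 74597474555463687)) (.leaf (nat_lit
    1559542696915469389139411460))) (.leaf (nat_lit 5501870277122))) (.node (.node (.leaf (nat_lit
    50528770)) (.leaf (nat_lit 845546068051974))) (.leaf (nat_lit 289639975878983942)))) (.node
    (.node (.node (.leaf (nat_lit 1132514240692998)) (.leaf (nat_lit 4833264539589365006858)))
    (.leaf (nat_lit 289638876367356422))) (.node (.node (.leaf (nat_lit 16843780)) (.leaf (nat_lit
    1417300687586049))) (.leaf (nat_lit 2241989773826))))) (.node (.node (.node (.node (.leaf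
    (nat_lit 286981225840901)) (.leaf (nat_lit 67568647))) (.leaf (nat_lit 84542987))) (.node
    (.node (.leaf (nat_lit 650209412489152257)) (.leaf (nat_lit 1103907389957))) (.leaf (nat_lit
    433191110262194696)))) (.node (.node (.node (.leaf (nat_lit 151718155)) (.leaf (nat_lit
    432632554043081987))) (.leaf (nat_lit 34013703))) (.node (.node (.leaf (nat_lit 6605693583617))
    (.leaf (nat_lit 28408346736531876283658))) (.leaf (nat_lit 12098940371458)))))))))

/-- Certificate data. -/
def t12_rc : Trie :=
    (.node (.node (.node (.node (.node (.node (.node (.node (.leaf (nat_lit 48)) (.leaf (nat_lit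
    393251))) (.node (.leaf (nat_lit 524294)) (.leaf (nat_lit 524320)))) (.node (.node (.leaf
    (nat_lit 262190)) (.leaf (nat_lit 917539))) (.leaf (nat_lit 393228)))) (.node (.node (.node
    (.leaf (nat_lit 131080)) (.leaf (nat_lit 524330))) (.leaf (nat_lit 524321))) (.node (.node
    (.leaf (nat_lit 786464)) (.leaf (nat_lit 1441834))) (.leaf (nat_lit 393255))))) (.node (.node
    (.node (.node (.leaf (nat_lit 0)) (.leaf (nat_lit 655392))) (.leaf (nat_lit 131078))) (.node
    (.node (.leaf (nat_lit 131085)) (.leaf (nat_lit 393259))) (.leaf (nat_lit 786460)))) (.node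
    (.node (.node (.leaf (nat_lit 40)) (.leaf (nat_lit 262182))) (.leaf (nat_lit 9))) (.node (.node
    (.leaf (nat_lit 786440)) (.leaf (nat_lit 262178))) (.leaf (nat_lit 38)))))) (.node (.node
    (.node (.node (.node (.leaf (nat_lit 393263)) (.leaf (nat_lit 655405))) (.leaf (nat_lit 11)))
    (.node (.node (.leaf (nat_lit 393229)) (.leaf (nat_lit 32))) (.leaf (nat_lit 655371)))) (.node
    (.node (.node (.leaf (nat_lit 25)) (.leaf (nat_lit 786465))) (.leaf (nat_lit 262155))) (.node
    (.node (.leaf (nat_lit 917548)) (.leaf (nat_lit 393225))) (.leaf (nat_lit 786442))))) (.node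
    (.node (.node (.node (.leaf (nat_lit 131106)) (.leaf (nat_lit 262183))) (.leaf (nat_lit
    262191))) (.node (.node (.leaf (nat_lit 131094)) (.leaf (nat_lit 393245))) (.leaf (nat_lit
    6)))) (.node (.node (.node (.leaf (nat_lit 262159)) (.leaf (nat_lit 43))) (.leaf (nat_lit
    393222))) (.node (.node (.leaf (nat_lit 131084)) (.leaf (nat_lit 1048618))) (.leaf (nat_lit
    1179690))))))) (.node (.node (.node (.node (.node (.node (.leaf (nat_lit 655391)) (.leaf
    (nat_lit 786441))) (.node (.leaf (nat_lit 393231)) (.leaf (nat_lit 262150)))) (.node (.node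
    (.leaf (nat_lit 46)) (.leaf (nat_lit 524322))) (.leaf (nat_lit 1)))) (.node (.node (.node
    (.leaf (nat_lit 131076)) (.leaf (nat_lit 262156))) (.leaf (nat_lit 131091))) (.node (.node
    (.leaf (nat_lit 131107)) (.leaf (nat_lit 1310763))) (.leaf (nat_lit 1048611))))) (.node (.node
    (.node (.node (.leaf (nat_lit 393221)) (.leaf (nat_lit 131104))) (.leaf (nat_lit 262177)))
    (.node (.node (.leaf (nat_lit 524319)) (.leaf (nat_lit 786476))) (.leaf (nat_lit 35)))) (.node
    (.node (.node (.leaf (nat_lit 2)) (.leaf (nat_lit 39))) (.leaf (nat_lit 393220))) (.node (.node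
    (.leaf (nat_lit 131086)) (.leaf (nat_lit 786467))) (.leaf (nat_lit 1048620)))))) (.node (.node
    (.node (.node (.node (.leaf (nat_lit 131119)) (.leaf (nat_lit 131110))) (.leaf (nat_lit 30)))
    (.node (.node (.leaf (nat_lit 393226)) (.leaf (nat_lit 1179692))) (.leaf (nat_lit 524297))))
    (.node (.node (.node (.leaf (nat_lit 393227)) (.leaf (nat_lit 24))) (.leaf (nat_lit 786443)))
    (.node (.node (.leaf (nat_lit 524318)) (.leaf (nat_lit 655376))) (.leaf (nat_lit 393254)))))
    (.node (.node (.node (.node (.leaf (nat_lit 262153)) (.leaf (nat_lit 655398))) (.leaf (nat_lit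
    47))) (.node (.node (.leaf (nat_lit 28)) (.leaf (nat_lit 917520))) (.leaf (nat_lit 393246))))
    (.node (.node (.node (.leaf (nat_lit 27)) (.leaf (nat_lit 13))) (.leaf (nat_lit 131102)))
    (.node (.node (.leaf (nat_lit 131087)) (.leaf (nat_lit 655370))) (.leaf (nat_lit
    1048619)))))))) (.node (.node (.node (.node (.node (.node (.node (.leaf (nat_lit 26)) (.leaf
    (nat_lit 655367))) (.node (.leaf (nat_lit 917519)) (.leaf (nat_lit 655404)))) (.node (.node
    (.leaf (nat_lit 131100)) (.leaf (nat_lit 131079))) (.leaf (nat_lit 262154)))) (.node (.node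
    (.node (.leaf (nat_lit 262175)) (.leaf (nat_lit 131114))) (.leaf (nat_lit 262174))) (.node
    (.node (.leaf (nat_lit 917533)) (.leaf (nat_lit 917536))) (.leaf (nat_lit 31))))) (.node (.node
    (.node (.node (.leaf (nat_lit 131113)) (.leaf (nat_lit 42))) (.leaf (nat_lit 786463))) (.node
    (.node (.leaf (nat_lit 131083)) (.leaf (nat_lit 1441835))) (.leaf (nat_lit 917537)))) (.node
    (.node (.node (.leaf (nat_lit 655399)) (.leaf (nat_lit 262188))) (.leaf (nat_lit 17))) (.node
    (.node (.leaf (nat_lit 524295)) (.leaf (nat_lit 14))) (.leaf (nat_lit 131111)))))) (.node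
    (.node (.node (.node (.node (.leaf (nat_lit 36)) (.leaf (nat_lit 524303))) (.leaf (nat_lit
    393258))) (.node (.node (.leaf (nat_lit 12)) (.leaf (nat_lit 262158))) (.leaf (nat_lit
    131082)))) (.node (.node (.node (.leaf (nat_lit 131096)) (.leaf (nat_lit 786466))) (.leaf
    (nat_lit 655375))) (.node (.node (.leaf (nat_lit 262189)) (.leaf (nat_lit 524317))) (.leaf
    (nat_lit 131112))))) (.node (.node (.node (.node (.leaf (nat_lit 655394)) (.leaf (nat_lit
    917532))) (.leaf (nat_lit 131118))) (.node (.node (.leaf (nat_lit 131090)) (.leaf (nat_lit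
    15))) (.leaf (nat_lit 786446)))) (.node (.node (.node (.leaf (nat_lit 19)) (.leaf (nat_lit
    29))) (.leaf (nat_lit 655377))) (.node (.node (.leaf (nat_lit 524298)) (.leaf (nat_lit 5)))
    (.leaf (nat_lit 4))))))) (.node (.node (.node (.node (.node (.node (.leaf (nat_lit 786461))
    (.leaf (nat_lit 393260))) (.leaf (nat_lit 524296))) (.node (.node (.leaf (nat_lit 37)) (.leaf
    (nat_lit 786462))) (.leaf (nat_lit 655369)))) (.node (.node (.node (.leaf (nat_lit 22)) (.leaf
    (nat_lit 524332))) (.leaf (nat_lit 524305))) (.node (.node (.leaf (nat_lit 655366)) (.leaf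
    (nat_lit 655368))) (.leaf (nat_lit 524323))))) (.node (.node (.node (.node (.leaf (nat_lit 18))
    (.leaf (nat_lit 262186))) (.leaf (nat_lit 262172))) (.node (.node (.leaf (nat_lit 23)) (.leaf
    (nat_lit 393249))) (.leaf (nat_lit 3)))) (.node (.node (.node (.leaf (nat_lit 786477)) (.leaf
    (nat_lit 131117))) (.leaf (nat_lit 8))) (.node (.node (.leaf (nat_lit 262157)) (.leaf (nat_lit
    917538))) (.leaf (nat_lit 917549)))))) (.node (.node (.node (.node (.node (.leaf (nat_lit
    131105)) (.leaf (nat_lit 917547))) (.leaf (nat_lit 393223))) (.node (.node (.leaf (nat_lit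
    262148)) (.leaf (nat_lit 393247))) (.leaf (nat_lit 917518)))) (.node (.node (.node (.leaf
    (nat_lit 10)) (.leaf (nat_lit 524333))) (.leaf (nat_lit 786447))) (.node (.node (.leaf (nat_lit
    262149)) (.leaf (nat_lit 131103))) (.leaf (nat_lit 524326))))) (.node (.node (.node (.node
    (.leaf (nat_lit 131081)) (.leaf (nat_lit 131097))) (.leaf (nat_lit 393262))) (.node (.node
    (.leaf (nat_lit 33)) (.leaf (nat_lit 262151))) (.leaf (nat_lit 655389)))) (.node (.node (.node
    (.leaf (nat_lit 41)) (.leaf (nat_lit 393232))) (.leaf (nat_lit 131095))) (.node (.node (.leaf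
    (nat_lit 7)) (.leaf (nat_lit 44))) (.leaf (nat_lit 524327)))))))))

/-- Certificate data. -/
def t12_lv : Trie :=
    (.node (.node (.node (.node (.node (.node (.node (.node (.node (.leaf (nat_lit 0)) (.leaf
    (nat_lit 319))) (.node (.leaf (nat_lit 175)) (.leaf (nat_lit 477)))) (.node (.node (.leaf
    (nat_lit 71)) (.leaf (nat_lit 413))) (.node (.leaf (nat_lit 250)) (.leaf (nat_lit 541)))))
    (.node (.node (.node (.leaf (nat_lit 37)) (.leaf (nat_lit 369))) (.node (.leaf (nat_lit 218))
    (.leaf (nat_lit 509)))) (.node (.node (.leaf (nat_lit 128)) (.leaf (nat_lit 445))) (.node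
    (.leaf (nat_lit 283)) (.leaf (nat_lit 573)))))) (.node (.node (.node (.node (.leaf (nat_lit
    21)) (.leaf (nat_lit 352))) (.node (.leaf (nat_lit 198)) (.leaf (nat_lit 493)))) (.node (.node
    (.leaf (nat_lit 105)) (.leaf (nat_lit 429))) (.node (.leaf (nat_lit 266)) (.leaf (nat_lit
    557))))) (.node (.node (.node (.leaf (nat_lit 53)) (.leaf (nat_lit 397))) (.node (.leaf
    (nat_lit 234)) (.leaf (nat_lit 525)))) (.node (.node (.leaf (nat_lit 147)) (.leaf (nat_lit
    461))) (.leaf (nat_lit 302)))))) (.node (.node (.node (.node (.node (.leaf (nat_lit 12)) (.leaf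
    (nat_lit 333))) (.node (.leaf (nat_lit 187)) (.leaf (nat_lit 485)))) (.node (.node (.leaf
    (nat_lit 87)) (.leaf (nat_lit 421))) (.node (.leaf (nat_lit 258)) (.leaf (nat_lit 549)))))
    (.node (.node (.node (.leaf (nat_lit 45)) (.leaf (nat_lit 377))) (.node (.leaf (nat_lit 226))
    (.leaf (nat_lit 517)))) (.node (.node (.leaf (nat_lit 138)) (.leaf (nat_lit 453))) (.node
    (.leaf (nat_lit 292)) (.leaf (nat_lit 581)))))) (.node (.node (.node (.node (.leaf (nat_lit
    29)) (.leaf (nat_lit 360))) (.node (.leaf (nat_lit 209)) (.leaf (nat_lit 501)))) (.node (.node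
    (.leaf (nat_lit 115)) (.leaf (nat_lit 437))) (.node (.leaf (nat_lit 274)) (.leaf (nat_lit
    565))))) (.node (.node (.node (.leaf (nat_lit 62)) (.leaf (nat_lit 405))) (.node (.leaf
    (nat_lit 242)) (.leaf (nat_lit 533)))) (.node (.node (.leaf (nat_lit 158)) (.leaf (nat_lit
    469))) (.leaf (nat_lit 310))))))) (.node (.node (.node (.node (.node (.node (.leaf (nat_lit 4))
    (.leaf (nat_lit 323))) (.node (.leaf (nat_lit 182)) (.leaf (nat_lit 481)))) (.node (.node
    (.leaf (nat_lit 75)) (.leaf (nat_lit 417))) (.node (.leaf (nat_lit 254)) (.leaf (nat_lit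
    545))))) (.node (.node (.node (.leaf (nat_lit 41)) (.leaf (nat_lit 373))) (.node (.leaf
    (nat_lit 222)) (.leaf (nat_lit 513)))) (.node (.node (.leaf (nat_lit 134)) (.leaf (nat_lit
    449))) (.node (.leaf (nat_lit 288)) (.leaf (nat_lit 577)))))) (.node (.node (.node (.node
    (.leaf (nat_lit 25)) (.leaf (nat_lit 356))) (.node (.leaf (nat_lit 203)) (.leaf (nat_lit
    497)))) (.node (.node (.leaf (nat_lit 109)) (.leaf (nat_lit 433))) (.node (.leaf (nat_lit 270))
    (.leaf (nat_lit 561))))) (.node (.node (.node (.leaf (nat_lit 58)) (.leaf (nat_lit 401)))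
    (.node (.leaf (nat_lit 238)) (.leaf (nat_lit 529)))) (.node (.node (.leaf (nat_lit 153)) (.leaf
    (nat_lit 465))) (.leaf (nat_lit 306)))))) (.node (.node (.node (.node (.node (.leaf (nat_lit
    17)) (.leaf (nat_lit 343))) (.node (.leaf (nat_lit 193)) (.leaf (nat_lit 489)))) (.node (.node
    (.leaf (nat_lit 100)) (.leaf (nat_lit 425))) (.node (.leaf (nat_lit 262)) (.leaf (nat_lit
    553))))) (.node (.node (.node (.leaf (nat_lit 49)) (.leaf (nat_lit 389))) (.node (.leaf
    (nat_lit 230)) (.leaf (nat_lit 521)))) (.node (.node (.leaf (nat_lit 143)) (.leaf (nat_lit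
    457))) (.node (.leaf (nat_lit 298)) (.leaf (nat_lit 585)))))) (.node (.node (.node (.node
    (.leaf (nat_lit 33)) (.leaf (nat_lit 364))) (.node (.leaf (nat_lit 214)) (.leaf (nat_lit
    505)))) (.node (.node (.leaf (nat_lit 123)) (.leaf (nat_lit 441))) (.node (.leaf (nat_lit 278))
    (.leaf (nat_lit 569))))) (.node (.node (.node (.leaf (nat_lit 67)) (.leaf (nat_lit 409)))
    (.node (.leaf (nat_lit 246)) (.leaf (nat_lit 537)))) (.node (.node (.leaf (nat_lit 163)) (.leaf
    (nat_lit 473))) (.leaf (nat_lit 315)))))))) (.node (.node (.node (.node (.node (.node (.node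
    (.leaf (nat_lit 2)) (.leaf (nat_lit 321))) (.node (.leaf (nat_lit 180)) (.leaf (nat_lit 479))))
    (.node (.node (.leaf (nat_lit 73)) (.leaf (nat_lit 415))) (.node (.leaf (nat_lit 252)) (.leaf
    (nat_lit 543))))) (.node (.node (.node (.leaf (nat_lit 39)) (.leaf (nat_lit 371))) (.node
    (.leaf (nat_lit 220)) (.leaf (nat_lit 511)))) (.node (.node (.leaf (nat_lit 132)) (.leaf
    (nat_lit 447))) (.node (.leaf (nat_lit 285)) (.leaf (nat_lit 575)))))) (.node (.node (.node
    (.node (.leaf (nat_lit 23)) (.leaf (nat_lit 354))) (.node (.leaf (nat_lit 201)) (.leaf (nat_lit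
    495)))) (.node (.node (.leaf (nat_lit 107)) (.leaf (nat_lit 431))) (.node (.leaf (nat_lit 268))
    (.leaf (nat_lit 559))))) (.node (.node (.node (.leaf (nat_lit 55)) (.leaf (nat_lit 399)))
    (.node (.leaf (nat_lit 236)) (.leaf (nat_lit 527)))) (.node (.node (.leaf (nat_lit 151)) (.leaf
    (nat_lit 463))) (.leaf (nat_lit 304)))))) (.node (.node (.node (.node (.node (.leaf (nat_lit
    15)) (.leaf (nat_lit 335))) (.node (.leaf (nat_lit 191)) (.leaf (nat_lit 487)))) (.node (.node
    (.leaf (nat_lit 89)) (.leaf (nat_lit 423))) (.node (.leaf (nat_lit 260)) (.leaf (nat_lit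
    551))))) (.node (.node (.node (.leaf (nat_lit 47)) (.leaf (nat_lit 383))) (.node (.leaf
    (nat_lit 228)) (.leaf (nat_lit 519)))) (.node (.node (.leaf (nat_lit 141)) (.leaf (nat_lit
    455))) (.node (.leaf (nat_lit 296)) (.leaf (nat_lit 583)))))) (.node (.node (.node (.node
    (.leaf (nat_lit 31)) (.leaf (nat_lit 362))) (.node (.leaf (nat_lit 212)) (.leaf (nat_lit
    503)))) (.node (.node (.leaf (nat_lit 121)) (.leaf (nat_lit 439))) (.node (.leaf (nat_lit 276))
    (.leaf (nat_lit 567))))) (.node (.node (.node (.leaf (nat_lit 65)) (.leaf (nat_lit 407)))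
    (.node (.leaf (nat_lit 244)) (.leaf (nat_lit 535)))) (.node (.node (.leaf (nat_lit 161)) (.leaf
    (nat_lit 471))) (.leaf (nat_lit 313))))))) (.node (.node (.node (.node (.node (.node (.leaf
    (nat_lit 10)) (.leaf (nat_lit 331))) (.node (.leaf (nat_lit 185)) (.leaf (nat_lit 483))))
    (.node (.node (.leaf (nat_lit 78)) (.leaf (nat_lit 419))) (.node (.leaf (nat_lit 256)) (.leaf
    (nat_lit 547))))) (.node (.node (.node (.leaf (nat_lit 43)) (.leaf (nat_lit 375))) (.node
    (.leaf (nat_lit 224)) (.leaf (nat_lit 515)))) (.node (.node (.leaf (nat_lit 136)) (.leaf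
    (nat_lit 451))) (.node (.leaf (nat_lit 290)) (.leaf (nat_lit 579)))))) (.node (.node (.node
    (.node (.leaf (nat_lit 27)) (.leaf (nat_lit 358))) (.node (.leaf (nat_lit 207)) (.leaf (nat_lit
    499)))) (.node (.node (.leaf (nat_lit 113)) (.leaf (nat_lit 435))) (.node (.leaf (nat_lit 272))
    (.leaf (nat_lit 563))))) (.node (.node (.node (.leaf (nat_lit 60)) (.leaf (nat_lit 403)))
    (.node (.leaf (nat_lit 240)) (.leaf (nat_lit 531)))) (.node (.node (.leaf (nat_lit 156)) (.leaf
    (nat_lit 467))) (.leaf (nat_lit 308)))))) (.node (.node (.node (.node (.node (.leaf (nat_lit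
    19)) (.leaf (nat_lit 345))) (.node (.leaf (nat_lit 196)) (.leaf (nat_lit 491)))) (.node (.node
    (.leaf (nat_lit 102)) (.leaf (nat_lit 427))) (.node (.leaf (nat_lit 264)) (.leaf (nat_lit
    555))))) (.node (.node (.node (.leaf (nat_lit 51)) (.leaf (nat_lit 391))) (.node (.leaf
    (nat_lit 232)) (.leaf (nat_lit 523)))) (.node (.node (.leaf (nat_lit 145)) (.leaf (nat_lit
    459))) (.node (.leaf (nat_lit 300)) (.leaf (nat_lit 587)))))) (.node (.node (.node (.node
    (.leaf (nat_lit 35)) (.leaf (nat_lit 367))) (.node (.leaf (nat_lit 216)) (.leaf (nat_lit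
    507)))) (.node (.node (.leaf (nat_lit 126)) (.leaf (nat_lit 443))) (.node (.leaf (nat_lit 280))
    (.leaf (nat_lit 571))))) (.node (.node (.node (.leaf (nat_lit 69)) (.leaf (nat_lit 411)))
    (.node (.leaf (nat_lit 248)) (.leaf (nat_lit 539)))) (.node (.node (.leaf (nat_lit 167)) (.leaf
    (nat_lit 475))) (.leaf (nat_lit 317))))))))) (.node (.node (.node (.node (.node (.node (.node
    (.node (.leaf (nat_lit 1)) (.leaf (nat_lit 320))) (.node (.leaf (nat_lit 179)) (.leaf (nat_lit
    478)))) (.node (.node (.leaf (nat_lit 72)) (.leaf (nat_lit 414))) (.node (.leaf (nat_lit 251))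
    (.leaf (nat_lit 542))))) (.node (.node (.node (.leaf (nat_lit 38)) (.leaf (nat_lit 370)))
    (.node (.leaf (nat_lit 219)) (.leaf (nat_lit 510)))) (.node (.node (.leaf (nat_lit 129)) (.leaf
    (nat_lit 446))) (.node (.leaf (nat_lit 284)) (.leaf (nat_lit 574)))))) (.node (.node (.node
    (.node (.leaf (nat_lit 22)) (.leaf (nat_lit 353))) (.node (.leaf (nat_lit 200)) (.leaf (nat_lit
    494)))) (.node (.node (.leaf (nat_lit 106)) (.leaf (nat_lit 430))) (.node (.leaf (nat_lit 267))
    (.leaf (nat_lit 558))))) (.node (.node (.node (.leaf (nat_lit 54)) (.leaf (nat_lit 398)))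
    (.node (.leaf (nat_lit 235)) (.leaf (nat_lit 526)))) (.node (.node (.leaf (nat_lit 150)) (.leaf
    (nat_lit 462))) (.leaf (nat_lit 303)))))) (.node (.node (.node (.node (.node (.leaf (nat_lit
    14)) (.leaf (nat_lit 334))) (.node (.leaf (nat_lit 190)) (.leaf (nat_lit 486)))) (.node (.node
    (.leaf (nat_lit 88)) (.leaf (nat_lit 422))) (.node (.leaf (nat_lit 259)) (.leaf (nat_lit
    550))))) (.node (.node (.node (.leaf (nat_lit 46)) (.leaf (nat_lit 380))) (.node (.leaf
    (nat_lit 227)) (.leaf (nat_lit 518)))) (.node (.node (.leaf (nat_lit 140)) (.leaf (nat_lit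
    454))) (.node (.leaf (nat_lit 294)) (.leaf (nat_lit 582)))))) (.node (.node (.node (.node
    (.leaf (nat_lit 30)) (.leaf (nat_lit 361))) (.node (.leaf (nat_lit 210)) (.leaf (nat_lit
    502)))) (.node (.node (.leaf (nat_lit 116)) (.leaf (nat_lit 438))) (.node (.leaf (nat_lit 275))
    (.leaf (nat_lit 566))))) (.node (.node (.node (.leaf (nat_lit 63)) (.leaf (nat_lit 406)))
    (.node (.leaf (nat_lit 243)) (.leaf (nat_lit 534)))) (.node (.node (.leaf (nat_lit 159)) (.leaf
    (nat_lit 470))) (.leaf (nat_lit 312))))))) (.node (.node (.node (.node (.node (.node (.leaf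
    (nat_lit 9)) (.leaf (nat_lit 330))) (.node (.leaf (nat_lit 184)) (.leaf (nat_lit 482)))) (.node
    (.node (.leaf (nat_lit 77)) (.leaf (nat_lit 418))) (.node (.leaf (nat_lit 255)) (.leaf (nat_lit
    546))))) (.node (.node (.node (.leaf (nat_lit 42)) (.leaf (nat_lit 374))) (.node (.leaf
    (nat_lit 223)) (.leaf (nat_lit 514)))) (.node (.node (.leaf (nat_lit 135)) (.leaf (nat_lit
    450))) (.node (.leaf (nat_lit 289)) (.leaf (nat_lit 578)))))) (.node (.node (.node (.node
    (.leaf (nat_lit 26)) (.leaf (nat_lit 357))) (.node (.leaf (nat_lit 206)) (.leaf (nat_lit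
    498)))) (.node (.node (.leaf (nat_lit 110)) (.leaf (nat_lit 434))) (.node (.leaf (nat_lit 271))
    (.leaf (nat_lit 562))))) (.node (.node (.node (.leaf (nat_lit 59)) (.leaf (nat_lit 402)))
    (.node (.leaf (nat_lit 239)) (.leaf (nat_lit 530)))) (.node (.node (.leaf (nat_lit 154)) (.leaf
    (nat_lit 466))) (.leaf (nat_lit 307)))))) (.node (.node (.node (.node (.node (.leaf (nat_lit
    18)) (.leaf (nat_lit 344))) (.node (.leaf (nat_lit 195)) (.leaf (nat_lit 490)))) (.node (.node
    (.leaf (nat_lit 101)) (.leaf (nat_lit 426))) (.node (.leaf (nat_lit 263)) (.leaf (nat_lit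
    554))))) (.node (.node (.node (.leaf (nat_lit 50)) (.leaf (nat_lit 390))) (.node (.leaf
    (nat_lit 231)) (.leaf (nat_lit 522)))) (.node (.node (.leaf (nat_lit 144)) (.leaf (nat_lit
    458))) (.node (.leaf (nat_lit 299)) (.leaf (nat_lit 586)))))) (.node (.node (.node (.node
    (.leaf (nat_lit 34)) (.leaf (nat_lit 366))) (.node (.leaf (nat_lit 215)) (.leaf (nat_lit
    506)))) (.node (.node (.leaf (nat_lit 124)) (.leaf (nat_lit 442))) (.node (.leaf (nat_lit 279))
    (.leaf (nat_lit 570))))) (.node (.node (.node (.leaf (nat_lit 68)) (.leaf (nat_lit 410)))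
    (.node (.leaf (nat_lit 247)) (.leaf (nat_lit 538)))) (.node (.node (.leaf (nat_lit 164)) (.leaf
    (nat_lit 474))) (.leaf (nat_lit 316)))))))) (.node (.node (.node (.node (.node (.node (.node
    (.leaf (nat_lit 3)) (.leaf (nat_lit 322))) (.node (.leaf (nat_lit 181)) (.leaf (nat_lit 480))))
    (.node (.node (.leaf (nat_lit 74)) (.leaf (nat_lit 416))) (.node (.leaf (nat_lit 253)) (.leaf
    (nat_lit 544))))) (.node (.node (.node (.leaf (nat_lit 40)) (.leaf (nat_lit 372))) (.node
    (.leaf (nat_lit 221)) (.leaf (nat_lit 512)))) (.node (.node (.leaf (nat_lit 133)) (.leaf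
    (nat_lit 448))) (.node (.leaf (nat_lit 286)) (.leaf (nat_lit 576)))))) (.node (.node (.node
    (.node (.leaf (nat_lit 24)) (.leaf (nat_lit 355))) (.node (.leaf (nat_lit 202)) (.leaf (nat_lit
    496)))) (.node (.node (.leaf (nat_lit 108)) (.leaf (nat_lit 432))) (.node (.leaf (nat_lit 269))
    (.leaf (nat_lit 560))))) (.node (.node (.node (.leaf (nat_lit 57)) (.leaf (nat_lit 400)))
    (.node (.leaf (nat_lit 237)) (.leaf (nat_lit 528)))) (.node (.node (.leaf (nat_lit 152)) (.leaf
    (nat_lit 464))) (.leaf (nat_lit 305)))))) (.node (.node (.node (.node (.node (.leaf (nat_lit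
    16)) (.leaf (nat_lit 336))) (.node (.leaf (nat_lit 192)) (.leaf (nat_lit 488)))) (.node (.node
    (.leaf (nat_lit 96)) (.leaf (nat_lit 424))) (.node (.leaf (nat_lit 261)) (.leaf (nat_lit
    552))))) (.node (.node (.node (.leaf (nat_lit 48)) (.leaf (nat_lit 388))) (.node (.leaf
    (nat_lit 229)) (.leaf (nat_lit 520)))) (.node (.node (.leaf (nat_lit 142)) (.leaf (nat_lit
    456))) (.node (.leaf (nat_lit 297)) (.leaf (nat_lit 584)))))) (.node (.node (.node (.node
    (.leaf (nat_lit 32)) (.leaf (nat_lit 363))) (.node (.leaf (nat_lit 213)) (.leaf (nat_lit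
    504)))) (.node (.node (.leaf (nat_lit 122)) (.leaf (nat_lit 440))) (.node (.leaf (nat_lit 277))
    (.leaf (nat_lit 568))))) (.node (.node (.node (.leaf (nat_lit 66)) (.leaf (nat_lit 408)))
    (.node (.leaf (nat_lit 245)) (.leaf (nat_lit 536)))) (.node (.node (.leaf (nat_lit 162)) (.leaf
    (nat_lit 472))) (.leaf (nat_lit 314))))))) (.node (.node (.node (.node (.node (.node (.leaf
    (nat_lit 11)) (.leaf (nat_lit 332))) (.node (.leaf (nat_lit 186)) (.leaf (nat_lit 484))))
    (.node (.node (.leaf (nat_lit 79)) (.leaf (nat_lit 420))) (.node (.leaf (nat_lit 257)) (.leaf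
    (nat_lit 548))))) (.node (.node (.node (.leaf (nat_lit 44)) (.leaf (nat_lit 376))) (.node
    (.leaf (nat_lit 225)) (.leaf (nat_lit 516)))) (.node (.node (.leaf (nat_lit 137)) (.leaf
    (nat_lit 452))) (.node (.leaf (nat_lit 291)) (.leaf (nat_lit 580)))))) (.node (.node (.node
    (.node (.leaf (nat_lit 28)) (.leaf (nat_lit 359))) (.node (.leaf (nat_lit 208)) (.leaf (nat_lit
    500)))) (.node (.node (.leaf (nat_lit 114)) (.leaf (nat_lit 436))) (.node (.leaf (nat_lit 273))
    (.leaf (nat_lit 564))))) (.node (.node (.node (.leaf (nat_lit 61)) (.leaf (nat_lit 404)))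
    (.node (.leaf (nat_lit 241)) (.leaf (nat_lit 532)))) (.node (.node (.leaf (nat_lit 157)) (.leaf
    (nat_lit 468))) (.leaf (nat_lit 309)))))) (.node (.node (.node (.node (.node (.leaf (nat_lit
    20)) (.leaf (nat_lit 346))) (.node (.leaf (nat_lit 197)) (.leaf (nat_lit 492)))) (.node (.node
    (.leaf (nat_lit 103)) (.leaf (nat_lit 428))) (.node (.leaf (nat_lit 265)) (.leaf (nat_lit
    556))))) (.node (.node (.node (.leaf (nat_lit 52)) (.leaf (nat_lit 396))) (.node (.leaf
    (nat_lit 233)) (.leaf (nat_lit 524)))) (.node (.node (.leaf (nat_lit 146)) (.leaf (nat_lit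
    460))) (.leaf (nat_lit 301))))) (.node (.node (.node (.node (.leaf (nat_lit 36)) (.leaf
    (nat_lit 368))) (.node (.leaf (nat_lit 217)) (.leaf (nat_lit 508)))) (.node (.node (.leaf
    (nat_lit 127)) (.leaf (nat_lit 444))) (.node (.leaf (nat_lit 282)) (.leaf (nat_lit 572)))))
    (.node (.node (.node (.leaf (nat_lit 70)) (.leaf (nat_lit 412))) (.node (.leaf (nat_lit 249))
    (.leaf (nat_lit 540)))) (.node (.node (.leaf (nat_lit 168)) (.leaf (nat_lit 476))) (.leaf
    (nat_lit 318))))))))))

/-- Certificate data. -/
def t12_tb : Trie :=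
    (.node (.node (.node (.node (.node (.node (.node (.node (.node (.node (.node (.node (.leaf
    (nat_lit 0)) (.leaf (nat_lit 1754952))) (.leaf (nat_lit 836253))) (.node (.node (.leaf (nat_lit
    524665)) (.leaf (nat_lit 2156706))) (.leaf (nat_lit 106807)))) (.node (.node (.node (.leaf
    (nat_lit 936026)) (.leaf (nat_lit 1510594))) (.leaf (nat_lit 2634123))) (.node (.node (.leaf
    (nat_lit 2969667)) (.leaf (nat_lit 2805150))) (.leaf (nat_lit 846859))))) (.node (.node (.node
    (.node (.leaf (nat_lit 525531)) (.leaf (nat_lit 2403226))) (.leaf (nat_lit 2156709))) (.node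
    (.node (.leaf (nat_lit 1156166)) (.leaf (nat_lit 3609604))) (.leaf (nat_lit 2115701)))) (.node
    (.node (.node (.leaf (nat_lit 2863353)) (.leaf (nat_lit 3314862))) (.leaf (nat_lit 4052935)))
    (.node (.node (.leaf (nat_lit 3929765)) (.leaf (nat_lit 3044826))) (.leaf (nat_lit
    3732713)))))) (.node (.node (.node (.node (.node (.leaf (nat_lit 1270978)) (.leaf (nat_lit
    1297166))) (.leaf (nat_lit 369287))) (.node (.node (.leaf (nat_lit 746066)) (.leaf (nat_lit
    3190792))) (.leaf (nat_lit 2665670)))) (.node (.node (.node (.leaf (nat_lit 2608289)) (.leaf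
    (nat_lit 1224697))) (.leaf (nat_lit 1084986))) (.node (.node (.leaf (nat_lit 2698582)) (.leaf
    (nat_lit 2929064))) (.leaf (nat_lit 3043085))))) (.node (.node (.node (.node (.leaf (nat_lit
    1238700)) (.leaf (nat_lit 3511089))) (.leaf (nat_lit 3568557))) (.node (.node (.leaf (nat_lit
    2460493)) (.leaf (nat_lit 2428168))) (.leaf (nat_lit 2608290)))) (.node (.node (.node (.leaf
    (nat_lit 3437686)) (.leaf (nat_lit 639466))) (.leaf (nat_lit 3495634))) (.node (.leaf (nat_lit
    3618201)) (.leaf (nat_lit 163982))))))) (.node (.node (.node (.node (.node (.node (.leaf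
    (nat_lit 148734)) (.leaf (nat_lit 2451956))) (.leaf (nat_lit 1574571))) (.node (.node (.leaf
    (nat_lit 427166)) (.leaf (nat_lit 2682082))) (.leaf (nat_lit 2058837)))) (.node (.node (.node
    (.leaf (nat_lit 3593195)) (.leaf (nat_lit 1429074))) (.leaf (nat_lit 3002067))) (.node (.node
    (.leaf (nat_lit 1485813)) (.leaf (nat_lit 1158961))) (.leaf (nat_lit 1207650))))) (.node (.node
    (.node (.node (.leaf (nat_lit 2985660)) (.leaf (nat_lit 1329052))) (.leaf (nat_lit 2846189)))
    (.node (.node (.leaf (nat_lit 1418833)) (.leaf (nat_lit 2870789))) (.leaf (nat_lit 2107488))))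
    (.node (.node (.node (.leaf (nat_lit 2724424)) (.leaf (nat_lit 3569404))) (.leaf (nat_lit
    1823885))) (.node (.leaf (nat_lit 1594237)) (.leaf (nat_lit 4011885)))))) (.node (.node (.node
    (.node (.node (.leaf (nat_lit 2402680)) (.leaf (nat_lit 3338678))) (.leaf (nat_lit 295817)))
    (.node (.node (.leaf (nat_lit 2616461)) (.leaf (nat_lit 944254))) (.leaf (nat_lit 2780515))))
    (.node (.node (.node (.leaf (nat_lit 1953312)) (.leaf (nat_lit 1995403))) (.leaf (nat_lit
    1208278))) (.node (.node (.leaf (nat_lit 3765555)) (.leaf (nat_lit 1946588))) (.leaf (nat_lit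
    1913205))))) (.node (.node (.node (.node (.leaf (nat_lit 599946)) (.leaf (nat_lit 3092354)))
    (.leaf (nat_lit 3470045))) (.node (.node (.leaf (nat_lit 3117467)) (.leaf (nat_lit 863283)))
    (.leaf (nat_lit 2706690)))) (.node (.node (.node (.leaf (nat_lit 3503792)) (.leaf (nat_lit
    1467996))) (.leaf (nat_lit 32907))) (.node (.leaf (nat_lit 73784)) (.leaf (nat_lit
    303329)))))))) (.node (.node (.node (.node (.node (.node (.node (.leaf (nat_lit 287989)) (.leaf
    (nat_lit 1034901))) (.leaf (nat_lit 131364))) (.node (.node (.leaf (nat_lit 566565)) (.leaf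
    (nat_lit 952635))) (.leaf (nat_lit 1459799)))) (.node (.node (.node (.leaf (nat_lit 1665276))
    (.leaf (nat_lit 2313596))) (.leaf (nat_lit 2214912))) (.node (.node (.leaf (nat_lit 2240563))
    (.leaf (nat_lit 1429093))) (.leaf (nat_lit 3527510))))) (.node (.node (.node (.node (.leaf
    (nat_lit 3092341)) (.leaf (nat_lit 550713))) (.leaf (nat_lit 435795))) (.node (.node (.leaf
    (nat_lit 443902)) (.leaf (nat_lit 3757330))) (.leaf (nat_lit 3584984)))) (.node (.node (.node
    (.leaf (nat_lit 1815186)) (.leaf (nat_lit 2848215))) (.leaf (nat_lit 2757535))) (.node (.node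
    (.leaf (nat_lit 2601593)) (.leaf (nat_lit 3987237))) (.leaf (nat_lit 3364008)))))) (.node
    (.node (.node (.node (.node (.leaf (nat_lit 1156113)) (.leaf (nat_lit 1229945))) (.leaf
    (nat_lit 714771))) (.node (.node (.leaf (nat_lit 2427273)) (.leaf (nat_lit 1361433))) (.leaf
    (nat_lit 1648369)))) (.node (.node (.node (.leaf (nat_lit 3584979)) (.leaf (nat_lit 1839647)))
    (.leaf (nat_lit 2682651))) (.node (.node (.leaf (nat_lit 3880495)) (.leaf (nat_lit 2773660)))
    (.leaf (nat_lit 2437102))))) (.node (.node (.node (.node (.leaf (nat_lit 1960556)) (.leaf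
    (nat_lit 3855861))) (.leaf (nat_lit 3010275))) (.node (.node (.leaf (nat_lit 3699875)) (.leaf
    (nat_lit 1608632))) (.leaf (nat_lit 2444038)))) (.node (.node (.node (.leaf (nat_lit 3962607))
    (.leaf (nat_lit 1106912))) (.leaf (nat_lit 139394))) (.node (.leaf (nat_lit 3028683)) (.leaf
    (nat_lit 57488))))))) (.node (.node (.node (.node (.node (.node (.leaf (nat_lit 468311)) (.leaf
    (nat_lit 788789))) (.leaf (nat_lit 2058295))) (.node (.node (.leaf (nat_lit 615821)) (.leaf
    (nat_lit 2961032))) (.leaf (nat_lit 1689365)))) (.node (.node (.node (.leaf (nat_lit 1207265))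
    (.leaf (nat_lit 3847650))) (.leaf (nat_lit 2052773))) (.node (.node (.leaf (nat_lit 3371509))
    (.leaf (nat_lit 1986570))) (.leaf (nat_lit 3511091))))) (.node (.node (.node (.node (.leaf
    (nat_lit 2961039)) (.leaf (nat_lit 3814794))) (.leaf (nat_lit 2313080))) (.node (.node (.leaf
    (nat_lit 3486463)) (.leaf (nat_lit 871132))) (.leaf (nat_lit 1864239)))) (.node (.node (.node
    (.leaf (nat_lit 3691673)) (.leaf (nat_lit 188572))) (.leaf (nat_lit 2012575))) (.node (.leaf
    (nat_lit 3937973)) (.leaf (nat_lit 2635500)))))) (.node (.node (.node (.node (.node (.leaf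
    (nat_lit 1345039)) (.leaf (nat_lit 1484393))) (.leaf (nat_lit 336969))) (.node (.node (.leaf
    (nat_lit 656349)) (.leaf (nat_lit 2936438))) (.leaf (nat_lit 3314026)))) (.node (.node (.node
    (.leaf (nat_lit 2150124)) (.leaf (nat_lit 2266059))) (.leaf (nat_lit 1478992))) (.node (.node
    (.leaf (nat_lit 2052791)) (.leaf (nat_lit 3380433))) (.leaf (nat_lit 2601588))))) (.node (.node
    (.node (.node (.leaf (nat_lit 1706607)) (.leaf (nat_lit 3002071))) (.leaf (nat_lit 1396265)))
    (.node (.node (.leaf (nat_lit 2534457)) (.leaf (nat_lit 3034905))) (.leaf (nat_lit 789382))))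
    (.node (.node (.node (.leaf (nat_lit 8287)) (.leaf (nat_lit 1779560))) (.leaf (nat_lit
    1049466))) (.node (.leaf (nat_lit 517427)) (.leaf (nat_lit 434497))))))))) (.node (.node (.node
    (.node (.node (.node (.node (.node (.leaf (nat_lit 245959)) (.leaf (nat_lit 1943516))) (.leaf
    (nat_lit 90366))) (.node (.node (.leaf (nat_lit 295895)) (.leaf (nat_lit 205401))) (.leaf
    (nat_lit 1574568)))) (.node (.node (.node (.leaf (nat_lit 2386827)) (.leaf (nat_lit 970013)))
    (.leaf (nat_lit 1313188))) (.node (.node (.leaf (nat_lit 2747722)) (.leaf (nat_lit 1773052)))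
    (.leaf (nat_lit 3896913))))) (.node (.node (.node (.node (.leaf (nat_lit 2198291)) (.leaf
    (nat_lit 976646))) (.leaf (nat_lit 3199063))) (.node (.node (.leaf (nat_lit 369800)) (.leaf
    (nat_lit 3486474))) (.leaf (nat_lit 1296014)))) (.node (.node (.node (.leaf (nat_lit 2936946))
    (.leaf (nat_lit 3880498))) (.leaf (nat_lit 2421530))) (.node (.node (.leaf (nat_lit 2568679))
    (.leaf (nat_lit 2889336))) (.leaf (nat_lit 3609659)))))) (.node (.node (.node (.node (.node
    (.leaf (nat_lit 278974)) (.leaf (nat_lit 1074180))) (.leaf (nat_lit 238271))) (.node (.node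
    (.leaf (nat_lit 2107833)) (.leaf (nat_lit 361949))) (.leaf (nat_lit 2764112)))) (.node (.node
    (.node (.leaf (nat_lit 1904492)) (.leaf (nat_lit 1806612))) (.leaf (nat_lit 3609611))) (.node
    (.node (.leaf (nat_lit 1035722)) (.leaf (nat_lit 3470050))) (.leaf (nat_lit 3182589))))) (.node
    (.node (.node (.node (.leaf (nat_lit 1886131)) (.leaf (nat_lit 2205911))) (.leaf (nat_lit
    3781958))) (.node (.node (.leaf (nat_lit 1872158)) (.leaf (nat_lit 3404342))) (.leaf (nat_lit
    682580)))) (.node (.node (.node (.leaf (nat_lit 3634422)) (.leaf (nat_lit 893648))) (.leaf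
    (nat_lit 3356534))) (.node (.leaf (nat_lit 2905648)) (.leaf (nat_lit 147593))))))) (.node
    (.node (.node (.node (.node (.node (.leaf (nat_lit 172622)) (.leaf (nat_lit 238285))) (.leaf
    (nat_lit 606664))) (.node (.node (.leaf (nat_lit 886108)) (.leaf (nat_lit 271183))) (.leaf
    (nat_lit 1057730)))) (.node (.node (.node (.leaf (nat_lit 846689)) (.leaf (nat_lit 1798410)))
    (.leaf (nat_lit 1715452))) (.node (.node (.leaf (nat_lit 3740921)) (.leaf (nat_lit 2912167)))
    (.leaf (nat_lit 3289416))))) (.node (.node (.node (.node (.leaf (nat_lit 1936912)) (.leaf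
    (nat_lit 2755919))) (.leaf (nat_lit 542452))) (.node (.node (.leaf (nat_lit 3412551)) (.leaf
    (nat_lit 3535717))) (.leaf (nat_lit 1806598)))) (.node (.node (.node (.leaf (nat_lit 2446058))
    (.leaf (nat_lit 4028330))) (.leaf (nat_lit 2954522))) (.node (.leaf (nat_lit 3962610)) (.leaf
    (nat_lit 2586192)))))) (.node (.node (.node (.node (.node (.leaf (nat_lit 262824)) (.leaf
    (nat_lit 3453592))) (.leaf (nat_lit 2444035))) (.node (.node (.leaf (nat_lit 476545)) (.leaf
    (nat_lit 468631))) (.leaf (nat_lit 410814)))) (.node (.node (.node (.leaf (nat_lit 2977459))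
    (.leaf (nat_lit 1536815))) (.leaf (nat_lit 1413266))) (.node (.node (.leaf (nat_lit 1232758))
    (.leaf (nat_lit 3667052))) (.leaf (nat_lit 3617820))))) (.node (.node (.node (.node (.leaf
    (nat_lit 1781609)) (.leaf (nat_lit 821751))) (.leaf (nat_lit 1831122))) (.node (.node (.leaf
    (nat_lit 1978781)) (.leaf (nat_lit 3593205))) (.leaf (nat_lit 3166176)))) (.node (.node (.node
    (.leaf (nat_lit 3290964)) (.leaf (nat_lit 1623766))) (.leaf (nat_lit 819854))) (.node (.leaf
    (nat_lit 16443)) (.leaf (nat_lit 959247)))))))) (.node (.node (.node (.node (.node (.node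
    (.node (.leaf (nat_lit 696859)) (.leaf (nat_lit 229974))) (.leaf (nat_lit 165166))) (.node
    (.node (.leaf (nat_lit 304193)) (.leaf (nat_lit 901845))) (.leaf (nat_lit 164313)))) (.node
    (.node (.node (.leaf (nat_lit 2157475)) (.leaf (nat_lit 3355105))) (.leaf (nat_lit 3937963)))
    (.node (.node (.leaf (nat_lit 2788731)) (.leaf (nat_lit 1101503))) (.leaf (nat_lit 969995)))))
    (.node (.node (.node (.node (.leaf (nat_lit 2452509)) (.leaf (nat_lit 3519307))) (.leaf
    (nat_lit 1533581))) (.node (.node (.leaf (nat_lit 2732078)) (.leaf (nat_lit 2108086))) (.leaf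
    (nat_lit 2132419)))) (.node (.node (.node (.leaf (nat_lit 3109326)) (.leaf (nat_lit 3225202)))
    (.leaf (nat_lit 1782826))) (.node (.node (.leaf (nat_lit 2167548)) (.leaf (nat_lit 3880895)))
    (.leaf (nat_lit 2733365)))))) (.node (.node (.node (.node (.node (.leaf (nat_lit 1615573))
    (.leaf (nat_lit 3231889))) (.leaf (nat_lit 2484772))) (.node (.node (.leaf (nat_lit 697021))
    (.leaf (nat_lit 2411462))) (.leaf (nat_lit 320511)))) (.node (.node (.node (.leaf (nat_lit
    1027507)) (.leaf (nat_lit 3732723))) (.leaf (nat_lit 3593193))) (.node (.node (.leaf (nat_lit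
    1740438)) (.leaf (nat_lit 2372416))) (.leaf (nat_lit 1282207))))) (.node (.node (.node (.node
    (.leaf (nat_lit 1124194)) (.leaf (nat_lit 1452870))) (.leaf (nat_lit 3855846))) (.node (.node
    (.leaf (nat_lit 3297660)) (.leaf (nat_lit 2476549))) (.leaf (nat_lit 2189869)))) (.node (.node
    (.node (.leaf (nat_lit 2479632)) (.leaf (nat_lit 1304044))) (.leaf (nat_lit 393496))) (.node
    (.leaf (nat_lit 3331946)) (.leaf (nat_lit 844446))))))) (.node (.node (.node (.node (.node
    (.node (.leaf (nat_lit 155978)) (.leaf (nat_lit 1631969))) (.leaf (nat_lit 746055))) (.node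
    (.node (.leaf (nat_lit 1861527)) (.leaf (nat_lit 3051300))) (.leaf (nat_lit 238279)))) (.node
    (.node (.node (.leaf (nat_lit 3470037)) (.leaf (nat_lit 3125153))) (.leaf (nat_lit 3823009)))
    (.node (.node (.leaf (nat_lit 2714903)) (.leaf (nat_lit 3905127))) (.leaf (nat_lit 2379438)))))
    (.node (.node (.node (.node (.leaf (nat_lit 3428965)) (.leaf (nat_lit 2928231))) (.leaf
    (nat_lit 3617817))) (.node (.node (.leaf (nat_lit 1960584)) (.leaf (nat_lit 1092287))) (.leaf
    (nat_lit 3781963)))) (.node (.node (.node (.leaf (nat_lit 4028303)) (.leaf (nat_lit 442690)))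
    (.leaf (nat_lit 3462722))) (.node (.leaf (nat_lit 3970830)) (.leaf (nat_lit 3741591))))))
    (.node (.node (.node (.node (.node (.leaf (nat_lit 320286)) (.leaf (nat_lit 485012))) (.leaf
    (nat_lit 812208))) (.node (.node (.leaf (nat_lit 1459803)) (.leaf (nat_lit 526091))) (.leaf
    (nat_lit 3387912)))) (.node (.node (.node (.leaf (nat_lit 1183578)) (.leaf (nat_lit 3060806)))
    (.leaf (nat_lit 3847645))) (.node (.node (.leaf (nat_lit 3847648)) (.leaf (nat_lit 2504012)))
    (.leaf (nat_lit 3773761))))) (.node (.node (.node (.node (.leaf (nat_lit 715234)) (.leaf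
    (nat_lit 2600069))) (.leaf (nat_lit 3305819))) (.node (.node (.leaf (nat_lit 1116867)) (.leaf
    (nat_lit 2723108))) (.leaf (nat_lit 1502231)))) (.node (.node (.node (.leaf (nat_lit 41046))
    (.leaf (nat_lit 1992692))) (.leaf (nat_lit 1238138))) (.node (.leaf (nat_lit 770656)) (.leaf
    (nat_lit 885455)))))))))) (.node (.node (.node (.node (.node (.node (.node (.node (.node (.leaf
    (nat_lit 114805)) (.leaf (nat_lit 156087))) (.leaf (nat_lit 344317))) (.node (.node (.leaf
    (nat_lit 328730)) (.leaf (nat_lit 713270))) (.leaf (nat_lit 1492586)))) (.node (.node (.node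
    (.leaf (nat_lit 731584)) (.leaf (nat_lit 3905137))) (.leaf (nat_lit 3322279))) (.node (.node
    (.leaf (nat_lit 2044290)) (.leaf (nat_lit 4011870))) (.leaf (nat_lit 871501))))) (.node (.node
    (.node (.node (.leaf (nat_lit 2920015)) (.leaf (nat_lit 3478260))) (.leaf (nat_lit 1567437)))
    (.node (.node (.leaf (nat_lit 2550873)) (.leaf (nat_lit 1787759))) (.leaf (nat_lit 2452502))))
    (.node (.node (.node (.leaf (nat_lit 1437694)) (.leaf (nat_lit 3921558))) (.leaf (nat_lit
    3109578))) (.node (.node (.leaf (nat_lit 3921555)) (.leaf (nat_lit 3634728))) (.leaf (nat_lit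
    1872897)))))) (.node (.node (.node (.node (.node (.leaf (nat_lit 910752)) (.leaf (nat_lit
    1131517))) (.leaf (nat_lit 721562))) (.node (.node (.leaf (nat_lit 910046)) (.leaf (nat_lit
    411054))) (.leaf (nat_lit 1002022)))) (.node (.node (.node (.leaf (nat_lit 1372386)) (.leaf
    (nat_lit 1265773))) (.leaf (nat_lit 1625716))) (.node (.node (.leaf (nat_lit 1043842)) (.leaf
    (nat_lit 3839433))) (.leaf (nat_lit 2887498))))) (.node (.node (.node (.node (.leaf (nat_lit
    1877925)) (.leaf (nat_lit 2484954))) (.leaf (nat_lit 591789))) (.node (.node (.leaf (nat_lit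
    722756)) (.leaf (nat_lit 1452987))) (.leaf (nat_lit 3470043)))) (.node (.node (.node (.leaf
    (nat_lit 3626167)) (.leaf (nat_lit 754260))) (.leaf (nat_lit 2889512))) (.node (.leaf (nat_lit
    2856421)) (.leaf (nat_lit 286932))))))) (.node (.node (.node (.node (.node (.node (.leaf
    (nat_lit 205744)) (.leaf (nat_lit 410418))) (.leaf (nat_lit 573853))) (.node (.node (.leaf
    (nat_lit 877371)) (.leaf (nat_lit 2747716))) (.leaf (nat_lit 1738557)))) (.node (.node (.node
    (.leaf (nat_lit 2165620)) (.leaf (nat_lit 1093249))) (.leaf (nat_lit 2665686))) (.node (.node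
    (.leaf (nat_lit 2116662)) (.leaf (nat_lit 1691518))) (.leaf (nat_lit 3207263))))) (.node (.node
    (.node (.node (.leaf (nat_lit 869900)) (.leaf (nat_lit 1910729))) (.leaf (nat_lit 2608297)))
    (.node (.node (.leaf (nat_lit 3494672)) (.leaf (nat_lit 1747633))) (.leaf (nat_lit 993104))))
    (.node (.node (.node (.leaf (nat_lit 3675253)) (.leaf (nat_lit 3995485))) (.leaf (nat_lit
    3380442))) (.node (.leaf (nat_lit 1602511)) (.leaf (nat_lit 2659849)))))) (.node (.node (.node
    (.node (.node (.leaf (nat_lit 1558179)) (.leaf (nat_lit 2723103))) (.leaf (nat_lit 304025)))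
    (.node (.node (.leaf (nat_lit 271114)) (.leaf (nat_lit 460413))) (.leaf (nat_lit 353403))))
    (.node (.node (.node (.leaf (nat_lit 1076813)) (.leaf (nat_lit 2913015))) (.leaf (nat_lit
    2248788))) (.node (.node (.leaf (nat_lit 1363773)) (.leaf (nat_lit 1766417))) (.leaf (nat_lit
    2806202))))) (.node (.node (.node (.node (.leaf (nat_lit 3740916)) (.leaf (nat_lit 2297092)))
    (.leaf (nat_lit 1305336))) (.node (.node (.leaf (nat_lit 2542665)) (.leaf (nat_lit 2575477)))
    (.leaf (nat_lit 3092345)))) (.node (.node (.node (.leaf (nat_lit 3766027)) (.leaf (nat_lit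
    1541778))) (.leaf (nat_lit 705062))) (.node (.leaf (nat_lit 8233)) (.leaf (nat_lit
    336115)))))))) (.node (.node (.node (.node (.node (.node (.node (.leaf (nat_lit 378229)) (.leaf
    (nat_lit 2197714))) (.leaf (nat_lit 853430))) (.node (.node (.leaf (nat_lit 336962)) (.leaf
    (nat_lit 2542658))) (.leaf (nat_lit 602665)))) (.node (.node (.node (.leaf (nat_lit 2714899))
    (.leaf (nat_lit 2035138))) (.leaf (nat_lit 2559075))) (.node (.node (.leaf (nat_lit 2739500))
    (.leaf (nat_lit 2207370))) (.leaf (nat_lit 3683461))))) (.node (.node (.node (.node (.leaf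
    (nat_lit 2493411)) (.leaf (nat_lit 2821574))) (.leaf (nat_lit 1746755))) (.node (.node (.leaf
    (nat_lit 3133405)) (.leaf (nat_lit 3289414))) (.leaf (nat_lit 1231416)))) (.node (.node (.node
    (.leaf (nat_lit 1356132)) (.leaf (nat_lit 3372574))) (.leaf (nat_lit 3183603))) (.node (.node
    (.leaf (nat_lit 2101931)) (.leaf (nat_lit 4020083))) (.leaf (nat_lit 3568872)))))) (.node
    (.node (.node (.node (.node (.leaf (nat_lit 197140)) (.leaf (nat_lit 1172610))) (.leaf (nat_lit
    1501317))) (.node (.node (.leaf (nat_lit 2304857)) (.leaf (nat_lit 1394215))) (.leaf (nat_lit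
    2837985)))) (.node (.node (.node (.leaf (nat_lit 1019249)) (.leaf (nat_lit 1348041))) (.leaf
    (nat_lit 3765551))) (.node (.node (.leaf (nat_lit 1085018)) (.leaf (nat_lit 3683465))) (.leaf
    (nat_lit 2814046))))) (.node (.node (.node (.node (.leaf (nat_lit 2181299)) (.leaf (nat_lit
    1420200))) (.leaf (nat_lit 2829779))) (.node (.node (.leaf (nat_lit 1222570)) (.leaf (nat_lit
    985901))) (.leaf (nat_lit 1174312)))) (.node (.node (.node (.leaf (nat_lit 3241418)) (.leaf
    (nat_lit 1205334))) (.leaf (nat_lit 270544))) (.node (.leaf (nat_lit 3233563)) (.leaf (nat_lit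
    729650))))))) (.node (.node (.node (.node (.node (.node (.leaf (nat_lit 615825)) (.leaf
    (nat_lit 2444081))) (.leaf (nat_lit 270888))) (.node (.node (.leaf (nat_lit 279842)) (.leaf
    (nat_lit 1952484))) (.leaf (nat_lit 2518026)))) (.node (.node (.node (.leaf (nat_lit 1641506))
    (.leaf (nat_lit 1527648))) (.leaf (nat_lit 1183130))) (.node (.node (.leaf (nat_lit 1699022))
    (.leaf (nat_lit 3231887))) (.leaf (nat_lit 2879548))))) (.node (.node (.node (.node (.leaf
    (nat_lit 2518031)) (.leaf (nat_lit 1772006))) (.leaf (nat_lit 928418))) (.node (.node (.leaf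
    (nat_lit 1886135)) (.leaf (nat_lit 707196))) (.leaf (nat_lit 3757344)))) (.node (.node (.node
    (.leaf (nat_lit 2757570)) (.leaf (nat_lit 311524))) (.leaf (nat_lit 2774504))) (.node (.leaf
    (nat_lit 3396810)) (.leaf (nat_lit 3258185)))))) (.node (.node (.node (.node (.node (.leaf
    (nat_lit 803582)) (.leaf (nat_lit 935546))) (.leaf (nat_lit 1338236))) (.node (.node (.leaf
    (nat_lit 623582)) (.leaf (nat_lit 813644))) (.leaf (nat_lit 3190800)))) (.node (.node (.node
    (.leaf (nat_lit 1913211)) (.leaf (nat_lit 3322888))) (.leaf (nat_lit 3584981))) (.node (.node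
    (.leaf (nat_lit 3781971)) (.leaf (nat_lit 2184456))) (.leaf (nat_lit 2028250))))) (.node (.node
    (.node (.node (.leaf (nat_lit 927764)) (.leaf (nat_lit 986208))) (.leaf (nat_lit 3026683)))
    (.node (.node (.leaf (nat_lit 2813356)) (.leaf (nat_lit 2133235))) (.leaf (nat_lit 1477572))))
    (.node (.node (.node (.leaf (nat_lit 73817)) (.leaf (nat_lit 606663))) (.leaf (nat_lit
    1139710))) (.node (.leaf (nat_lit 655862)) (.leaf (nat_lit 402897))))))))) (.node (.node (.node
    (.node (.node (.node (.node (.node (.leaf (nat_lit 368911)) (.leaf (nat_lit 2041900))) (.leaf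
    (nat_lit 696860))) (.node (.node (.leaf (nat_lit 852644)) (.leaf (nat_lit 213617))) (.leaf
    (nat_lit 1656562)))) (.node (.node (.node (.leaf (nat_lit 1108753)) (.leaf (nat_lit 1002829)))
    (.leaf (nat_lit 2173571))) (.node (.node (.leaf (nat_lit 3068196)) (.leaf (nat_lit 2903609)))
    (.leaf (nat_lit 2002065))))) (.node (.node (.node (.node (.leaf (nat_lit 2173681)) (.leaf
    (nat_lit 558886))) (.leaf (nat_lit 427575))) (.node (.node (.leaf (nat_lit 3264704)) (.leaf
    (nat_lit 3724498))) (.leaf (nat_lit 1182646)))) (.node (.node (.node (.leaf (nat_lit 3839437))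
    (.leaf (nat_lit 3536264))) (.leaf (nat_lit 3691663))) (.node (.node (.leaf (nat_lit 3716301))
    (.leaf (nat_lit 2348733))) (.leaf (nat_lit 3667051)))))) (.node (.node (.node (.node (.node
    (.leaf (nat_lit 770659)) (.leaf (nat_lit 1321906))) (.leaf (nat_lit 2534447))) (.node (.node
    (.leaf (nat_lit 2328907)) (.leaf (nat_lit 1248158))) (.leaf (nat_lit 2493405)))) (.node (.node
    (.node (.leaf (nat_lit 3404347)) (.leaf (nat_lit 2683194))) (.leaf (nat_lit 2232020))) (.node
    (.node (.leaf (nat_lit 3150079)) (.leaf (nat_lit 2273883))) (.leaf (nat_lit 3921545))))) (.node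
    (.node (.node (.node (.leaf (nat_lit 3568551)) (.leaf (nat_lit 2936440))) (.leaf (nat_lit
    1370854))) (.node (.node (.leaf (nat_lit 608124)) (.leaf (nat_lit 1559510))) (.leaf (nat_lit
    2099898)))) (.node (.node (.node (.leaf (nat_lit 2577722)) (.leaf (nat_lit 1016652))) (.leaf
    (nat_lit 3553220))) (.node (.leaf (nat_lit 3290753)) (.leaf (nat_lit 532858))))))) (.node
    (.node (.node (.node (.node (.node (.leaf (nat_lit 98570)) (.leaf (nat_lit 1723052))) (.leaf
    (nat_lit 1959911))) (.node (.node (.leaf (nat_lit 402834)) (.leaf (nat_lit 2813359))) (.leaf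
    (nat_lit 770666)))) (.node (.node (.node (.leaf (nat_lit 1485306)) (.leaf (nat_lit 1142503)))
    (.leaf (nat_lit 1010993))) (.node (.node (.leaf (nat_lit 3428982)) (.leaf (nat_lit 3617811)))
    (.leaf (nat_lit 2945085))))) (.node (.node (.node (.node (.leaf (nat_lit 3420754)) (.leaf
    (nat_lit 1698442))) (.leaf (nat_lit 1697565))) (.node (.node (.leaf (nat_lit 3511098)) (.leaf
    (nat_lit 3584986))) (.leaf (nat_lit 3264717)))) (.node (.node (.node (.leaf (nat_lit 1651508))
    (.leaf (nat_lit 57388))) (.leaf (nat_lit 3962603))) (.node (.leaf (nat_lit 1922128)) (.leaf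
    (nat_lit 4003675)))))) (.node (.node (.node (.node (.node (.leaf (nat_lit 427111)) (.leaf
    (nat_lit 944252))) (.leaf (nat_lit 328733))) (.node (.node (.leaf (nat_lit 2829768)) (.leaf
    (nat_lit 1566390))) (.leaf (nat_lit 2903618)))) (.node (.node (.node (.leaf (nat_lit 1281722))
    (.leaf (nat_lit 2511738))) (.leaf (nat_lit 2035908))) (.node (.node (.leaf (nat_lit 3158716))
    (.leaf (nat_lit 1815690))) (.leaf (nat_lit 2724415))))) (.node (.node (.node (.node (.leaf
    (nat_lit 1388046)) (.leaf (nat_lit 2501613))) (.leaf (nat_lit 1034464))) (.node (.node (.leaf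
    (nat_lit 2863324)) (.leaf (nat_lit 2600110))) (.leaf (nat_lit 2354069)))) (.node (.node (.node
    (.leaf (nat_lit 2856868)) (.leaf (nat_lit 1705764))) (.leaf (nat_lit 959240))) (.node (.leaf
    (nat_lit 288018)) (.leaf (nat_lit 254725)))))))) (.node (.node (.node (.node (.node (.node
    (.node (.leaf (nat_lit 476541)) (.leaf (nat_lit 762478))) (.leaf (nat_lit 475498))) (.node
    (.node (.leaf (nat_lit 165230)) (.leaf (nat_lit 934643))) (.leaf (nat_lit 1443963)))) (.node
    (.node (.node (.leaf (nat_lit 830276)) (.leaf (nat_lit 1068573))) (.leaf (nat_lit 2936435)))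
    (.node (.node (.leaf (nat_lit 3338688)) (.leaf (nat_lit 2248440))) (.leaf (nat_lit 1486138)))))
    (.node (.node (.node (.node (.leaf (nat_lit 2993863)) (.leaf (nat_lit 3708076))) (.leaf
    (nat_lit 1640167))) (.node (.node (.leaf (nat_lit 1574577)) (.leaf (nat_lit 3428969))) (.leaf
    (nat_lit 1263390)))) (.node (.node (.node (.leaf (nat_lit 2773684)) (.leaf (nat_lit 2905786)))
    (.leaf (nat_lit 3150934))) (.node (.leaf (nat_lit 3987247)) (.leaf (nat_lit 3970821))))))
    (.node (.node (.node (.node (.node (.leaf (nat_lit 2304294)) (.leaf (nat_lit 3289408))) (.leaf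
    (nat_lit 2509823))) (.node (.node (.leaf (nat_lit 2509831)) (.leaf (nat_lit 3273012))) (.leaf
    (nat_lit 2157353)))) (.node (.node (.node (.leaf (nat_lit 4011880)) (.leaf (nat_lit 2224717)))
    (.leaf (nat_lit 3166165))) (.node (.node (.leaf (nat_lit 3823019)) (.leaf (nat_lit 3494791)))
    (.leaf (nat_lit 3880487))))) (.node (.node (.node (.node (.leaf (nat_lit 575351)) (.leaf
    (nat_lit 3896925))) (.leaf (nat_lit 3642433))) (.node (.node (.leaf (nat_lit 2371659)) (.leaf
    (nat_lit 3543928))) (.leaf (nat_lit 2222635)))) (.node (.node (.node (.leaf (nat_lit 3135080))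
    (.leaf (nat_lit 1386018))) (.leaf (nat_lit 491866))) (.node (.leaf (nat_lit 4011958)) (.leaf
    (nat_lit 418607))))))) (.node (.node (.node (.node (.node (.node (.leaf (nat_lit 1049809))
    (.leaf (nat_lit 386254))) (.leaf (nat_lit 778857))) (.node (.node (.leaf (nat_lit 1197139))
    (.leaf (nat_lit 3133356))) (.leaf (nat_lit 1886129)))) (.node (.node (.node (.leaf (nat_lit
    3790171)) (.leaf (nat_lit 3157955))) (.leaf (nat_lit 4028299))) (.node (.node (.leaf (nat_lit
    1380395)) (.leaf (nat_lit 1921348))) (.leaf (nat_lit 1388261))))) (.node (.node (.node (.node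
    (.leaf (nat_lit 3494675)) (.leaf (nat_lit 3806598))) (.leaf (nat_lit 3527505))) (.node (.node
    (.leaf (nat_lit 3552127)) (.leaf (nat_lit 3576777))) (.leaf (nat_lit 2936433)))) (.node (.node
    (.node (.leaf (nat_lit 3708081)) (.leaf (nat_lit 573850))) (.leaf (nat_lit 2791046))) (.node
    (.leaf (nat_lit 3200336)) (.leaf (nat_lit 8200)))))) (.node (.node (.node (.node (.node (.leaf
    (nat_lit 2780512)) (.leaf (nat_lit 2788734))) (.leaf (nat_lit 804322))) (.node (.node (.leaf
    (nat_lit 1188933)) (.leaf (nat_lit 534315))) (.leaf (nat_lit 3346893)))) (.node (.node (.node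
    (.leaf (nat_lit 1978776)) (.leaf (nat_lit 3872288))) (.leaf (nat_lit 3330580))) (.node (.node
    (.leaf (nat_lit 3773757)) (.leaf (nat_lit 3446158))) (.leaf (nat_lit 3691665))))) (.node (.node
    (.node (.node (.leaf (nat_lit 1469000)) (.leaf (nat_lit 3790182))) (.leaf (nat_lit 2576035)))
    (.node (.node (.leaf (nat_lit 2559080)) (.leaf (nat_lit 2658083))) (.leaf (nat_lit 829975))))
    (.node (.node (.node (.leaf (nat_lit 409884)) (.leaf (nat_lit 2091078))) (.leaf (nat_lit
    501112))) (.node (.leaf (nat_lit 910038)) (.leaf (nat_lit 394454))))))))))) (.node (.node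
    (.node (.node (.node (.node (.node (.node (.node (.node (.leaf (nat_lit 16400)) (.leaf (nat_lit
    1787761))) (.leaf (nat_lit 1057670))) (.node (.node (.leaf (nat_lit 491873)) (.leaf (nat_lit
    911375))) (.leaf (nat_lit 852788)))) (.node (.node (.node (.leaf (nat_lit 673891)) (.leaf
    (nat_lit 3174386))) (.leaf (nat_lit 797044))) (.node (.node (.leaf (nat_lit 969648)) (.leaf
    (nat_lit 2821568))) (.leaf (nat_lit 3478253))))) (.node (.node (.node (.node (.leaf (nat_lit
    1098655)) (.leaf (nat_lit 517848))) (.leaf (nat_lit 386569))) (.node (.node (.leaf (nat_lit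
    2452507)) (.leaf (nat_lit 3157964))) (.leaf (nat_lit 2747707)))) (.node (.node (.node (.leaf
    (nat_lit 2486234)) (.leaf (nat_lit 3134678))) (.leaf (nat_lit 1806980))) (.node (.node (.leaf
    (nat_lit 1913215)) (.leaf (nat_lit 2086393))) (.leaf (nat_lit 1602521)))))) (.node (.node
    (.node (.node (.node (.leaf (nat_lit 565657)) (.leaf (nat_lit 2969252))) (.leaf (nat_lit
    705168))) (.node (.node (.leaf (nat_lit 2132077)) (.leaf (nat_lit 2280364))) (.leaf (nat_lit
    254729)))) (.node (.node (.node (.leaf (nat_lit 2616500)) (.leaf (nat_lit 3420768))) (.leaf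
    (nat_lit 3018481))) (.node (.node (.leaf (nat_lit 2436463)) (.leaf (nat_lit 1348039))) (.leaf
    (nat_lit 1363769))))) (.node (.node (.node (.node (.leaf (nat_lit 3527500)) (.leaf (nat_lit
    698527))) (.leaf (nat_lit 1945884))) (.node (.node (.leaf (nat_lit 2230729)) (.leaf (nat_lit
    2296097))) (.leaf (nat_lit 2961044)))) (.node (.node (.node (.leaf (nat_lit 3552406)) (.leaf
    (nat_lit 196771))) (.leaf (nat_lit 3798790))) (.node (.leaf (nat_lit 3225025)) (.leaf (nat_lit
    204966))))))) (.node (.node (.node (.node (.node (.node (.leaf (nat_lit 877259)) (.leaf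
    (nat_lit 2493402))) (.leaf (nat_lit 450960))) (.node (.node (.leaf (nat_lit 1049916)) (.leaf
    (nat_lit 254743))) (.leaf (nat_lit 1427003)))) (.node (.node (.node (.leaf (nat_lit 2952839))
    (.leaf (nat_lit 1617531))) (.leaf (nat_lit 3683459))) (.node (.node (.leaf (nat_lit 1584144))
    (.leaf (nat_lit 3929755))) (.leaf (nat_lit 1248648))))) (.node (.node (.node (.node (.leaf
    (nat_lit 3297610)) (.leaf (nat_lit 2214920))) (.leaf (nat_lit 1615567))) (.node (.node (.leaf
    (nat_lit 3478244)) (.leaf (nat_lit 3297620))) (.leaf (nat_lit 558911)))) (.node (.node (.node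
    (.leaf (nat_lit 1413731)) (.leaf (nat_lit 2897718))) (.leaf (nat_lit 2733240))) (.node (.leaf
    (nat_lit 3732719)) (.leaf (nat_lit 4036520)))))) (.node (.node (.node (.node (.node (.leaf
    (nat_lit 992039)) (.leaf (nat_lit 3363306))) (.leaf (nat_lit 2821573))) (.node (.node (.leaf
    (nat_lit 1295851)) (.leaf (nat_lit 1484406))) (.leaf (nat_lit 345201)))) (.node (.node (.node
    (.leaf (nat_lit 1306176)) (.leaf (nat_lit 1610444))) (.leaf (nat_lit 3100679))) (.node (.node
    (.leaf (nat_lit 1986324)) (.leaf (nat_lit 1643511))) (.leaf (nat_lit 1356196))))) (.node (.node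
    (.node (.node (.leaf (nat_lit 3363765)) (.leaf (nat_lit 2288584))) (.leaf (nat_lit 1550951)))
    (.node (.node (.leaf (nat_lit 2624670)) (.leaf (nat_lit 2879314))) (.leaf (nat_lit 3117470))))
    (.node (.node (.node (.leaf (nat_lit 3053274)) (.leaf (nat_lit 106821))) (.leaf (nat_lit
    328273))) (.node (.leaf (nat_lit 32794)) (.leaf (nat_lit 1115113)))))))) (.node (.node (.node
    (.node (.node (.node (.node (.leaf (nat_lit 255206)) (.leaf (nat_lit 2173100))) (.leaf (nat_lit
    1418802))) (.node (.node (.leaf (nat_lit 107789)) (.leaf (nat_lit 828066))) (.leaf (nat_lit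
    263454)))) (.node (.node (.node (.leaf (nat_lit 2887203)) (.leaf (nat_lit 2305440))) (.leaf
    (nat_lit 879648))) (.node (.node (.leaf (nat_lit 1723276)) (.leaf (nat_lit 2199166))) (.leaf
    (nat_lit 945351))))) (.node (.node (.node (.node (.leaf (nat_lit 746576)) (.leaf (nat_lit
    1705802))) (.leaf (nat_lit 2304957))) (.node (.node (.leaf (nat_lit 3141561)) (.leaf (nat_lit
    1902529))) (.leaf (nat_lit 689872)))) (.node (.node (.node (.leaf (nat_lit 1364300)) (.leaf
    (nat_lit 3577335))) (.leaf (nat_lit 3388356))) (.node (.node (.leaf (nat_lit 1512048)) (.leaf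
    (nat_lit 4003661))) (.leaf (nat_lit 3413186)))))) (.node (.node (.node (.node (.node (.leaf
    (nat_lit 2107484)) (.leaf (nat_lit 345207))) (.leaf (nat_lit 254715))) (.node (.node (.leaf
    (nat_lit 221833)) (.leaf (nat_lit 1377823))) (.leaf (nat_lit 1098653)))) (.node (.node (.node
    (.leaf (nat_lit 2732723)) (.leaf (nat_lit 1782192))) (.leaf (nat_lit 2797352))) (.node (.node
    (.leaf (nat_lit 3215490)) (.leaf (nat_lit 3896917))) (.leaf (nat_lit 1372177))))) (.node (.node
    (.node (.node (.leaf (nat_lit 3486459)) (.leaf (nat_lit 747795))) (.leaf (nat_lit 649214)))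
    (.node (.node (.leaf (nat_lit 583573)) (.leaf (nat_lit 1977880))) (.leaf (nat_lit 2198272))))
    (.node (.node (.node (.leaf (nat_lit 3249576)) (.leaf (nat_lit 73961))) (.leaf (nat_lit
    49236))) (.node (.leaf (nat_lit 3864309)) (.leaf (nat_lit 41111))))))) (.node (.node (.node
    (.node (.node (.node (.leaf (nat_lit 131360)) (.leaf (nat_lit 1377825))) (.leaf (nat_lit
    1345035))) (.node (.node (.leaf (nat_lit 312762)) (.leaf (nat_lit 1115111))) (.leaf (nat_lit
    2484758)))) (.node (.node (.node (.leaf (nat_lit 3872275)) (.leaf (nat_lit 3075911))) (.leaf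
    (nat_lit 2329976))) (.node (.node (.leaf (nat_lit 3527514)) (.leaf (nat_lit 1265765))) (.leaf
    (nat_lit 1969758))))) (.node (.node (.node (.node (.leaf (nat_lit 1697571)) (.leaf (nat_lit
    2665683))) (.leaf (nat_lit 936602))) (.node (.node (.leaf (nat_lit 3576766)) (.leaf (nat_lit
    2164905))) (.leaf (nat_lit 919458)))) (.node (.node (.node (.leaf (nat_lit 1676172)) (.leaf
    (nat_lit 65587))) (.leaf (nat_lit 2020803))) (.node (.leaf (nat_lit 1840289)) (.leaf (nat_lit
    3913503)))))) (.node (.node (.node (.node (.node (.leaf (nat_lit 2091084)) (.leaf (nat_lit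
    2518296))) (.leaf (nat_lit 3141559))) (.node (.node (.leaf (nat_lit 2928216)) (.leaf (nat_lit
    501469))) (.leaf (nat_lit 3322277)))) (.node (.node (.node (.leaf (nat_lit 3150075)) (.leaf
    (nat_lit 2585572))) (.leaf (nat_lit 1634664))) (.node (.node (.leaf (nat_lit 1208297)) (.leaf
    (nat_lit 3798386))) (.leaf (nat_lit 3453601))))) (.node (.node (.node (.node (.leaf (nat_lit
    2870795)) (.leaf (nat_lit 863291))) (.leaf (nat_lit 2296101))) (.node (.node (.leaf (nat_lit
    682088)) (.leaf (nat_lit 2690281))) (.leaf (nat_lit 2165462)))) (.node (.node (.node (.leaf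
    (nat_lit 122998)) (.leaf (nat_lit 139679))) (.leaf (nat_lit 303331))) (.node (.leaf (nat_lit
    509233)) (.leaf (nat_lit 1476197))))))))) (.node (.node (.node (.node (.node (.node (.node
    (.node (.leaf (nat_lit 49218)) (.leaf (nat_lit 197100))) (.leaf (nat_lit 1262766))) (.node
    (.node (.leaf (nat_lit 803458)) (.leaf (nat_lit 2386282))) (.leaf (nat_lit 386425)))) (.node
    (.node (.node (.leaf (nat_lit 2559079)) (.leaf (nat_lit 2747705))) (.leaf (nat_lit 1215288)))
    (.node (.node (.leaf (nat_lit 764230)) (.leaf (nat_lit 3937976))) (.leaf (nat_lit 3437173)))))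
    (.node (.node (.node (.node (.leaf (nat_lit 2928221)) (.leaf (nat_lit 2386839))) (.leaf
    (nat_lit 1681169))) (.node (.node (.leaf (nat_lit 419015)) (.leaf (nat_lit 3330484))) (.leaf
    (nat_lit 3215473)))) (.node (.node (.node (.leaf (nat_lit 3913342)) (.leaf (nat_lit 3691876)))
    (.leaf (nat_lit 3872279))) (.node (.node (.leaf (nat_lit 3790175)) (.leaf (nat_lit 2332313)))
    (.leaf (nat_lit 3987252)))))) (.node (.node (.node (.node (.node (.leaf (nat_lit 1804153))
    (.leaf (nat_lit 3067710))) (.leaf (nat_lit 1492589))) (.node (.node (.leaf (nat_lit 664136))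
    (.leaf (nat_lit 1312243))) (.leaf (nat_lit 2214637)))) (.node (.node (.node (.leaf (nat_lit
    969975)) (.leaf (nat_lit 4003663))) (.leaf (nat_lit 1109688))) (.node (.node (.leaf (nat_lit
    3979033)) (.leaf (nat_lit 3002932))) (.leaf (nat_lit 3125155))))) (.node (.node (.node (.node
    (.leaf (nat_lit 1533688)) (.leaf (nat_lit 2961051))) (.leaf (nat_lit 2370520))) (.node (.node
    (.leaf (nat_lit 3667042)) (.leaf (nat_lit 2361695))) (.leaf (nat_lit 3035419)))) (.node (.node
    (.node (.leaf (nat_lit 3519772)) (.leaf (nat_lit 967444))) (.leaf (nat_lit 3700638))) (.node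
    (.leaf (nat_lit 3855962)) (.leaf (nat_lit 467278))))))) (.node (.node (.node (.node (.node
    (.node (.leaf (nat_lit 443827)) (.leaf (nat_lit 2632874))) (.leaf (nat_lit 631273))) (.node
    (.node (.leaf (nat_lit 1320445)) (.leaf (nat_lit 279393))) (.leaf (nat_lit 1542456)))) (.node
    (.node (.node (.leaf (nat_lit 2231070)) (.leaf (nat_lit 3470046))) (.leaf (nat_lit 3404344)))
    (.node (.node (.leaf (nat_lit 3798379)) (.leaf (nat_lit 1191857))) (.leaf (nat_lit 3150047)))))
    (.node (.node (.node (.node (.leaf (nat_lit 2658548)) (.leaf (nat_lit 624607))) (.leaf (nat_lit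
    3223689))) (.node (.node (.leaf (nat_lit 2665681)) (.leaf (nat_lit 2099283))) (.leaf (nat_lit
    1822984)))) (.node (.node (.node (.leaf (nat_lit 1717014)) (.leaf (nat_lit 3651536))) (.leaf
    (nat_lit 3806587))) (.node (.leaf (nat_lit 1782835)) (.leaf (nat_lit 3979038)))))) (.node
    (.node (.node (.node (.node (.leaf (nat_lit 1320441)) (.leaf (nat_lit 2058885))) (.leaf
    (nat_lit 2149107))) (.node (.node (.leaf (nat_lit 2256122)) (.leaf (nat_lit 690888))) (.leaf
    (nat_lit 2895412)))) (.node (.node (.node (.leaf (nat_lit 2240583)) (.leaf (nat_lit 2478930)))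
    (.leaf (nat_lit 2125994))) (.node (.node (.leaf (nat_lit 1175441)) (.leaf (nat_lit 3921556)))
    (.leaf (nat_lit 1405449))))) (.node (.node (.node (.node (.leaf (nat_lit 1896626)) (.leaf
    (nat_lit 3617813))) (.leaf (nat_lit 3478255))) (.node (.node (.leaf (nat_lit 2443686)) (.leaf
    (nat_lit 1420437))) (.leaf (nat_lit 3067961)))) (.node (.node (.node (.leaf (nat_lit 3610490))
    (.leaf (nat_lit 123245))) (.leaf (nat_lit 877254))) (.node (.leaf (nat_lit 319725)) (.leaf
    (nat_lit 566642)))))))) (.node (.node (.node (.node (.node (.node (.node (.leaf (nat_lit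
    180398)) (.leaf (nat_lit 2337104))) (.leaf (nat_lit 1049804))) (.node (.node (.leaf (nat_lit
    869061)) (.leaf (nat_lit 731149))) (.leaf (nat_lit 1156111)))) (.node (.node (.node (.leaf
    (nat_lit 756013)) (.leaf (nat_lit 1060353))) (.leaf (nat_lit 3502889))) (.node (.node (.leaf
    (nat_lit 1215513)) (.leaf (nat_lit 1126107))) (.leaf (nat_lit 3765556))))) (.node (.node (.node
    (.node (.leaf (nat_lit 550337)) (.leaf (nat_lit 3502885))) (.leaf (nat_lit 3084127))) (.node
    (.node (.leaf (nat_lit 3404312)) (.leaf (nat_lit 1968107))) (.leaf (nat_lit 3552131)))) (.node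
    (.node (.node (.leaf (nat_lit 1864631)) (.leaf (nat_lit 4044733))) (.leaf (nat_lit 2692158)))
    (.node (.leaf (nat_lit 3995461)) (.leaf (nat_lit 1930570)))))) (.node (.node (.node (.node
    (.node (.leaf (nat_lit 1090490)) (.leaf (nat_lit 1108748))) (.leaf (nat_lit 2468351))) (.node
    (.node (.leaf (nat_lit 542166)) (.leaf (nat_lit 1443399))) (.leaf (nat_lit 631822)))) (.node
    (.node (.node (.leaf (nat_lit 2141660)) (.leaf (nat_lit 2191888))) (.leaf (nat_lit 1929131)))
    (.node (.node (.leaf (nat_lit 2347246)) (.leaf (nat_lit 3175266))) (.leaf (nat_lit 3995464)))))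
    (.node (.node (.node (.node (.leaf (nat_lit 3650636)) (.leaf (nat_lit 772435))) (.leaf (nat_lit
    2099287))) (.node (.node (.leaf (nat_lit 1372406)) (.leaf (nat_lit 2435883))) (.leaf (nat_lit
    2017499)))) (.node (.node (.node (.leaf (nat_lit 2364986)) (.leaf (nat_lit 1353236))) (.leaf
    (nat_lit 418102))) (.node (.leaf (nat_lit 3725205)) (.leaf (nat_lit 460103))))))) (.node (.node
    (.node (.node (.node (.node (.leaf (nat_lit 222586)) (.leaf (nat_lit 1549979))) (.leaf (nat_lit
    2255113))) (.node (.node (.leaf (nat_lit 468363)) (.leaf (nat_lit 1180721))) (.leaf (nat_lit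
    895677)))) (.node (.node (.node (.leaf (nat_lit 1921204)) (.leaf (nat_lit 1856435))) (.leaf
    (nat_lit 1519094))) (.node (.node (.leaf (nat_lit 2706708)) (.leaf (nat_lit 2306358))) (.leaf
    (nat_lit 3839431))))) (.node (.node (.node (.node (.leaf (nat_lit 2673885)) (.leaf (nat_lit
    665665))) (.leaf (nat_lit 2601352))) (.node (.node (.leaf (nat_lit 2058843)) (.leaf (nat_lit
    723171))) (.leaf (nat_lit 2371628)))) (.node (.node (.node (.leaf (nat_lit 3724509)) (.leaf
    (nat_lit 508264))) (.leaf (nat_lit 2782818))) (.node (.leaf (nat_lit 3011888)) (.leaf (nat_lit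
    3225517)))))) (.node (.node (.node (.node (.node (.leaf (nat_lit 2222622)) (.leaf (nat_lit
    2395092))) (.leaf (nat_lit 3215479))) (.node (.node (.leaf (nat_lit 1656573)) (.leaf (nat_lit
    2124402))) (.leaf (nat_lit 1320500)))) (.node (.node (.node (.leaf (nat_lit 3346897)) (.leaf
    (nat_lit 2987098))) (.leaf (nat_lit 2945534))) (.node (.node (.leaf (nat_lit 1314968)) (.leaf
    (nat_lit 3872284))) (.leaf (nat_lit 1921865))))) (.node (.node (.node (.node (.leaf (nat_lit
    2082885)) (.leaf (nat_lit 3962596))) (.leaf (nat_lit 3921540))) (.node (.node (.leaf (nat_lit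
    3593200)) (.leaf (nat_lit 2739527))) (.leaf (nat_lit 1018415)))) (.node (.node (.node (.leaf
    (nat_lit 377104)) (.leaf (nat_lit 172527))) (.leaf (nat_lit 468315))) (.node (.leaf (nat_lit
    65724)) (.leaf (nat_lit 1024851)))))))))) (.node (.node (.node (.node (.node (.node (.node
    (.node (.node (.leaf (nat_lit 81985)) (.leaf (nat_lit 1918924))) (.leaf (nat_lit 1156108)))
    (.node (.node (.leaf (nat_lit 509315)) (.leaf (nat_lit 2287896))) (.leaf (nat_lit 370010))))
    (.node (.node (.node (.leaf (nat_lit 3511095)) (.leaf (nat_lit 3010271))) (.leaf (nat_lit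
    1913200))) (.node (.node (.leaf (nat_lit 1436621)) (.leaf (nat_lit 2854387))) (.leaf (nat_lit
    3724512))))) (.node (.node (.node (.node (.leaf (nat_lit 1065888)) (.leaf (nat_lit 2813353)))
    (.leaf (nat_lit 1986070))) (.node (.node (.leaf (nat_lit 1877929)) (.leaf (nat_lit 2978060)))
    (.leaf (nat_lit 3396111)))) (.node (.node (.node (.leaf (nat_lit 3617822)) (.leaf (nat_lit
    3274006))) (.leaf (nat_lit 2626288))) (.node (.node (.leaf (nat_lit 2494915)) (.leaf (nat_lit
    3389010))) (.leaf (nat_lit 3372061)))))) (.node (.node (.node (.node (.node (.leaf (nat_lit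
    1795954)) (.leaf (nat_lit 312315))) (.leaf (nat_lit 550335))) (.node (.node (.leaf (nat_lit
    2009563)) (.leaf (nat_lit 3223684))) (.leaf (nat_lit 1763153)))) (.node (.node (.node (.leaf
    (nat_lit 1690842)) (.leaf (nat_lit 3256505))) (.leaf (nat_lit 1896094))) (.node (.node (.leaf
    (nat_lit 1756607)) (.leaf (nat_lit 2716152))) (.leaf (nat_lit 2289528))))) (.node (.node (.node
    (.node (.leaf (nat_lit 2205913)) (.leaf (nat_lit 706735))) (.leaf (nat_lit 3067714))) (.node
    (.node (.leaf (nat_lit 1492824)) (.leaf (nat_lit 3913334))) (.leaf (nat_lit 1978774)))) (.node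
    (.node (.node (.leaf (nat_lit 3642590)) (.leaf (nat_lit 229563))) (.leaf (nat_lit 3929936)))
    (.node (.leaf (nat_lit 3814919)) (.leaf (nat_lit 327918))))))) (.node (.node (.node (.node
    (.node (.node (.leaf (nat_lit 983837)) (.leaf (nat_lit 2165464))) (.leaf (nat_lit 1877920)))
    (.node (.node (.leaf (nat_lit 992682)) (.leaf (nat_lit 262985))) (.leaf (nat_lit 2230522))))
    (.node (.node (.node (.leaf (nat_lit 788861)) (.leaf (nat_lit 2977453))) (.leaf (nat_lit
    2084719))) (.node (.node (.leaf (nat_lit 1240150)) (.leaf (nat_lit 1798414))) (.leaf (nat_lit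
    1117648))))) (.node (.node (.node (.node (.leaf (nat_lit 3305817)) (.leaf (nat_lit 1304526)))
    (.leaf (nat_lit 616164))) (.node (.node (.leaf (nat_lit 2780524)) (.leaf (nat_lit 2066491)))
    (.leaf (nat_lit 3642428)))) (.node (.node (.node (.leaf (nat_lit 1635010)) (.leaf (nat_lit
    3053444))) (.leaf (nat_lit 2872572))) (.node (.leaf (nat_lit 3642437)) (.leaf (nat_lit
    3274278)))))) (.node (.node (.node (.node (.node (.leaf (nat_lit 1492593)) (.leaf (nat_lit
    2649279))) (.leaf (nat_lit 2206401))) (.node (.node (.leaf (nat_lit 2362172)) (.leaf (nat_lit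
    2698484))) (.leaf (nat_lit 885910)))) (.node (.node (.node (.leaf (nat_lit 1134190)) (.leaf
    (nat_lit 2675485))) (.leaf (nat_lit 1667193))) (.node (.node (.leaf (nat_lit 2248727)) (.leaf
    (nat_lit 4044737))) (.leaf (nat_lit 4020098))))) (.node (.node (.node (.node (.leaf (nat_lit
    1746868)) (.leaf (nat_lit 2559084))) (.leaf (nat_lit 1231738))) (.node (.node (.leaf (nat_lit
    649250)) (.leaf (nat_lit 2591869))) (.leaf (nat_lit 3494681)))) (.node (.node (.node (.leaf
    (nat_lit 3659564)) (.leaf (nat_lit 115031))) (.leaf (nat_lit 295859))) (.node (.leaf (nat_lit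
    196773)) (.leaf (nat_lit 1213535)))))))) (.node (.node (.node (.node (.node (.node (.node
    (.leaf (nat_lit 213169)) (.leaf (nat_lit 2238718))) (.leaf (nat_lit 491869))) (.node (.node
    (.leaf (nat_lit 550333)) (.leaf (nat_lit 2567278))) (.leaf (nat_lit 586280)))) (.node (.node
    (.node (.leaf (nat_lit 3043089)) (.leaf (nat_lit 2026983))) (.leaf (nat_lit 896100))) (.node
    (.node (.leaf (nat_lit 797060)) (.leaf (nat_lit 3108758))) (.leaf (nat_lit 2264305))))) (.node
    (.node (.node (.node (.leaf (nat_lit 3100553)) (.leaf (nat_lit 1828743))) (.leaf (nat_lit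
    1590973))) (.node (.node (.leaf (nat_lit 2592797)) (.leaf (nat_lit 1935321))) (.leaf (nat_lit
    1074928)))) (.node (.node (.node (.leaf (nat_lit 3847647)) (.leaf (nat_lit 3380811))) (.leaf
    (nat_lit 2585612))) (.node (.node (.leaf (nat_lit 1626838)) (.leaf (nat_lit 4036507))) (.leaf
    (nat_lit 1938692)))))) (.node (.node (.node (.node (.node (.leaf (nat_lit 1427007)) (.leaf
    (nat_lit 3207258))) (.leaf (nat_lit 992035))) (.node (.node (.leaf (nat_lit 2403165)) (.leaf
    (nat_lit 1410609))) (.leaf (nat_lit 312311)))) (.node (.node (.node (.leaf (nat_lit 1502614))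
    (.leaf (nat_lit 2568684))) (.leaf (nat_lit 2699100))) (.node (.node (.leaf (nat_lit 2879782))
    (.leaf (nat_lit 1495841))) (.leaf (nat_lit 4044716))))) (.node (.node (.node (.node (.leaf
    (nat_lit 2837983)) (.leaf (nat_lit 1575216))) (.leaf (nat_lit 1731166))) (.node (.node (.leaf
    (nat_lit 1790184)) (.leaf (nat_lit 3527508))) (.leaf (nat_lit 1034986)))) (.node (.node (.node
    (.leaf (nat_lit 3946183)) (.leaf (nat_lit 82177))) (.leaf (nat_lit 81983))) (.node (.leaf
    (nat_lit 3520327)) (.leaf (nat_lit 49321))))))) (.node (.node (.node (.node (.node (.node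
    (.leaf (nat_lit 353716)) (.leaf (nat_lit 1935323))) (.leaf (nat_lit 279088))) (.node (.node
    (.leaf (nat_lit 1853328)) (.leaf (nat_lit 3026678))) (.leaf (nat_lit 2526238)))) (.node (.node
    (.node (.leaf (nat_lit 2034750)) (.leaf (nat_lit 1691531))) (.leaf (nat_lit 2903613))) (.node
    (.node (.leaf (nat_lit 1896676)) (.leaf (nat_lit 1527969))) (.leaf (nat_lit 2010773))))) (.node
    (.node (.node (.node (.leaf (nat_lit 820846)) (.leaf (nat_lit 657455))) (.leaf (nat_lit
    567131))) (.node (.node (.leaf (nat_lit 2288529)) (.leaf (nat_lit 2173567))) (.leaf (nat_lit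
    3305844)))) (.node (.node (.node (.leaf (nat_lit 2356205)) (.leaf (nat_lit 98411))) (.leaf
    (nat_lit 2913816))) (.node (.leaf (nat_lit 3560688)) (.leaf (nat_lit 3831660)))))) (.node
    (.node (.node (.node (.node (.leaf (nat_lit 2698474)) (.leaf (nat_lit 3486472))) (.leaf
    (nat_lit 1330077))) (.node (.node (.leaf (nat_lit 2173721)) (.leaf (nat_lit 1648386))) (.leaf
    (nat_lit 3010276)))) (.node (.node (.node (.leaf (nat_lit 2338865)) (.leaf (nat_lit 3306534)))
    (.leaf (nat_lit 1356245))) (.node (.node (.leaf (nat_lit 2199657)) (.leaf (nat_lit 1889575)))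
    (.leaf (nat_lit 2740992))))) (.node (.node (.node (.node (.leaf (nat_lit 641053)) (.leaf
    (nat_lit 3839445))) (.leaf (nat_lit 764194))) (.node (.node (.leaf (nat_lit 3182596)) (.leaf
    (nat_lit 3691667))) (.leaf (nat_lit 3174383)))) (.node (.node (.node (.leaf (nat_lit 254152))
    (.leaf (nat_lit 1927122))) (.leaf (nat_lit 336117))) (.node (.leaf (nat_lit 229567)) (.leaf
    (nat_lit 1041875))))))))) (.node (.node (.node (.node (.node (.node (.node (.node (.leaf
    (nat_lit 24691)) (.leaf (nat_lit 647690))) (.leaf (nat_lit 1221749))) (.node (.node (.leaf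
    (nat_lit 65738)) (.leaf (nat_lit 1665597))) (.leaf (nat_lit 360830)))) (.node (.node (.node
    (.leaf (nat_lit 1149679)) (.leaf (nat_lit 1404252))) (.leaf (nat_lit 2223071))) (.node (.node
    (.leaf (nat_lit 977807)) (.leaf (nat_lit 1856431))) (.leaf (nat_lit 3962605))))) (.node (.node
    (.node (.node (.leaf (nat_lit 779300)) (.leaf (nat_lit 1713968))) (.leaf (nat_lit 2616463)))
    (.node (.node (.leaf (nat_lit 3273005)) (.leaf (nat_lit 2921367))) (.leaf (nat_lit 2410881))))
    (.node (.node (.node (.leaf (nat_lit 1831121)) (.leaf (nat_lit 4052947))) (.leaf (nat_lit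
    3421042))) (.node (.node (.leaf (nat_lit 1520154)) (.leaf (nat_lit 3462888))) (.leaf (nat_lit
    2684036)))))) (.node (.node (.node (.node (.node (.leaf (nat_lit 2009090)) (.leaf (nat_lit
    3149756))) (.leaf (nat_lit 246497))) (.node (.node (.leaf (nat_lit 1065890)) (.leaf (nat_lit
    378373))) (.leaf (nat_lit 746435)))) (.node (.node (.node (.leaf (nat_lit 2428203)) (.leaf
    (nat_lit 4036509))) (.leaf (nat_lit 3453599))) (.node (.node (.leaf (nat_lit 2339112)) (.leaf
    (nat_lit 3962616))) (.leaf (nat_lit 2084804))))) (.node (.node (.node (.node (.leaf (nat_lit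
    1763155)) (.leaf (nat_lit 739585))) (.leaf (nat_lit 2000897))) (.node (.node (.leaf (nat_lit
    2896084)) (.leaf (nat_lit 2394483))) (.leaf (nat_lit 1730657)))) (.node (.node (.node (.leaf
    (nat_lit 1930585)) (.leaf (nat_lit 164056))) (.leaf (nat_lit 8267))) (.node (.leaf (nat_lit
    4052943)) (.leaf (nat_lit 24711))))))) (.node (.node (.node (.node (.node (.node (.leaf
    (nat_lit 1254541)) (.leaf (nat_lit 2657472))) (.leaf (nat_lit 664059))) (.node (.node (.leaf
    (nat_lit 320822)) (.leaf (nat_lit 1082259))) (.leaf (nat_lit 2394993)))) (.node (.node (.node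
    (.leaf (nat_lit 3453608)) (.leaf (nat_lit 3043083))) (.leaf (nat_lit 1864605))) (.node (.node
    (.leaf (nat_lit 904331)) (.leaf (nat_lit 2076660))) (.leaf (nat_lit 1289781))))) (.node (.node
    (.node (.node (.leaf (nat_lit 722492)) (.leaf (nat_lit 632817))) (.leaf (nat_lit 3248301)))
    (.node (.node (.leaf (nat_lit 3461829)) (.leaf (nat_lit 2706689))) (.leaf (nat_lit 1847851))))
    (.node (.node (.node (.leaf (nat_lit 1684302)) (.leaf (nat_lit 32793))) (.leaf (nat_lit
    1979769))) (.node (.leaf (nat_lit 1807462)) (.leaf (nat_lit 3380941)))))) (.node (.node (.node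
    (.node (.node (.leaf (nat_lit 2000918)) (.leaf (nat_lit 2837988))) (.leaf (nat_lit 3059511)))
    (.node (.node (.leaf (nat_lit 2805141)) (.leaf (nat_lit 493247))) (.leaf (nat_lit 1418805))))
    (.node (.node (.node (.leaf (nat_lit 1117900)) (.leaf (nat_lit 2257811))) (.leaf (nat_lit
    3979029))) (.node (.node (.leaf (nat_lit 1355707)) (.leaf (nat_lit 3823022))) (.leaf (nat_lit
    1512025))))) (.node (.node (.node (.node (.leaf (nat_lit 3075919)) (.leaf (nat_lit 3781973)))
    (.leaf (nat_lit 2641075))) (.node (.node (.leaf (nat_lit 3453612)) (.leaf (nat_lit 2764577)))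
    (.leaf (nat_lit 1945645)))) (.node (.node (.node (.leaf (nat_lit 4003784)) (.leaf (nat_lit
    557455))) (.leaf (nat_lit 57553))) (.node (.leaf (nat_lit 106624)) (.leaf (nat_lit
    1254546)))))))) (.node (.node (.node (.node (.node (.node (.node (.leaf (nat_lit 57541)) (.leaf
    (nat_lit 2435474))) (.leaf (nat_lit 1270984))) (.node (.node (.leaf (nat_lit 90389)) (.leaf
    (nat_lit 1501312))) (.leaf (nat_lit 655868)))) (.node (.node (.node (.leaf (nat_lit 2378089))
    (.leaf (nat_lit 3979041))) (.leaf (nat_lit 2198680))) (.node (.node (.leaf (nat_lit 2501623))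
    (.leaf (nat_lit 2019095))) (.leaf (nat_lit 1011025))))) (.node (.node (.node (.node (.leaf
    (nat_lit 517606)) (.leaf (nat_lit 3724515))) (.leaf (nat_lit 1656567))) (.node (.node (.leaf
    (nat_lit 2296783)) (.leaf (nat_lit 2000893))) (.leaf (nat_lit 756392)))) (.node (.node (.node
    (.leaf (nat_lit 1405451)) (.leaf (nat_lit 3700450))) (.leaf (nat_lit 3437680))) (.node (.leaf
    (nat_lit 2650976)) (.leaf (nat_lit 3790226)))))) (.node (.node (.node (.node (.node (.leaf
    (nat_lit 623204)) (.leaf (nat_lit 583170))) (.leaf (nat_lit 460095))) (.node (.node (.leaf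
    (nat_lit 688861)) (.leaf (nat_lit 1476195))) (.leaf (nat_lit 1197133)))) (.node (.node (.node
    (.leaf (nat_lit 2280968)) (.leaf (nat_lit 2003565))) (.leaf (nat_lit 3371511))) (.node (.node
    (.leaf (nat_lit 3946184)) (.leaf (nat_lit 3970824))) (.leaf (nat_lit 2847049))))) (.node (.node
    (.node (.node (.leaf (nat_lit 3281557)) (.leaf (nat_lit 780645))) (.leaf (nat_lit 682068)))
    (.node (.node (.leaf (nat_lit 2149115)) (.leaf (nat_lit 1823502))) (.leaf (nat_lit 2969676))))
    (.node (.node (.node (.leaf (nat_lit 3143310)) (.leaf (nat_lit 1402410))) (.leaf (nat_lit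
    24707))) (.node (.leaf (nat_lit 4)) (.leaf (nat_lit 116051))))))) (.node (.node (.node (.node
    (.node (.node (.leaf (nat_lit 861574)) (.leaf (nat_lit 2879002))) (.leaf (nat_lit 2353499)))
    (.node (.node (.leaf (nat_lit 2033703)) (.leaf (nat_lit 1213533))) (.leaf (nat_lit 2641072))))
    (.node (.node (.node (.leaf (nat_lit 2641079)) (.leaf (nat_lit 1765330))) (.leaf (nat_lit
    3256510))) (.node (.node (.leaf (nat_lit 2313545)) (.leaf (nat_lit 2036060))) (.leaf (nat_lit
    1380095))))) (.node (.node (.node (.node (.leaf (nat_lit 837280)) (.leaf (nat_lit 3018473)))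
    (.leaf (nat_lit 2724402))) (.node (.node (.leaf (nat_lit 1771365)) (.leaf (nat_lit 2263309)))
    (.leaf (nat_lit 2044311)))) (.node (.node (.node (.leaf (nat_lit 3995457)) (.leaf (nat_lit
    598464))) (.leaf (nat_lit 2348713))) (.node (.leaf (nat_lit 1938793)) (.leaf (nat_lit 11))))))
    (.node (.node (.node (.node (.node (.leaf (nat_lit 2821557)) (.leaf (nat_lit 902842))) (.leaf
    (nat_lit 1133317))) (.node (.node (.leaf (nat_lit 3100548)) (.leaf (nat_lit 542515))) (.leaf
    (nat_lit 443978)))) (.node (.node (.node (.leaf (nat_lit 3921549)) (.leaf (nat_lit 2626718)))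
    (.leaf (nat_lit 1847882))) (.node (.node (.leaf (nat_lit 1290539)) (.leaf (nat_lit 2012595)))
    (.leaf (nat_lit 1684354))))) (.node (.node (.node (.node (.leaf (nat_lit 3125157)) (.leaf
    (nat_lit 1372186))) (.leaf (nat_lit 2394487))) (.node (.node (.leaf (nat_lit 3888697)) (.leaf
    (nat_lit 3979024))) (.leaf (nat_lit 2313198)))) (.node (.node (.node (.leaf (nat_lit 32888))
    (.leaf (nat_lit 180749))) (.leaf (nat_lit 98587))) (.node (.leaf (nat_lit 983834)) (.leaf
    (nat_lit 131459)))))))))))) (.node (.node (.node (.node (.node (.node (.node (.node (.node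
    (.node (.node (.leaf (nat_lit 8269)) (.leaf (nat_lit 139669))) (.leaf (nat_lit 124185))) (.node
    (.node (.leaf (nat_lit 238843)) (.leaf (nat_lit 2189492))) (.leaf (nat_lit 378008)))) (.node
    (.node (.node (.leaf (nat_lit 682078)) (.leaf (nat_lit 2829780))) (.leaf (nat_lit 788846)))
    (.node (.node (.leaf (nat_lit 2887701)) (.leaf (nat_lit 1166749))) (.leaf (nat_lit 863263)))))
    (.node (.node (.node (.node (.leaf (nat_lit 1188921)) (.leaf (nat_lit 2231017))) (.leaf
    (nat_lit 2164907))) (.node (.node (.leaf (nat_lit 631892)) (.leaf (nat_lit 1738572))) (.leaf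
    (nat_lit 2419653)))) (.node (.node (.node (.leaf (nat_lit 2052038)) (.leaf (nat_lit 2716878)))
    (.leaf (nat_lit 1798771))) (.node (.node (.leaf (nat_lit 3954399)) (.leaf (nat_lit 3560940)))
    (.leaf (nat_lit 1676236)))))) (.node (.node (.node (.node (.node (.leaf (nat_lit 393601))
    (.leaf (nat_lit 2944636))) (.leaf (nat_lit 361100))) (.node (.node (.leaf (nat_lit 2123878))
    (.leaf (nat_lit 1321856))) (.leaf (nat_lit 2673876)))) (.node (.node (.node (.leaf (nat_lit
    2593165)) (.leaf (nat_lit 3445384))) (.leaf (nat_lit 3511097))) (.node (.node (.leaf (nat_lit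
    2585264)) (.leaf (nat_lit 1872306))) (.leaf (nat_lit 1330987))))) (.node (.node (.node (.node
    (.leaf (nat_lit 2394995)) (.leaf (nat_lit 2148513))) (.leaf (nat_lit 3560335))) (.node (.node
    (.leaf (nat_lit 2394999)) (.leaf (nat_lit 3199057))) (.leaf (nat_lit 2616464)))) (.node (.node
    (.node (.leaf (nat_lit 3987250)) (.leaf (nat_lit 672264))) (.leaf (nat_lit 2979575))) (.node
    (.leaf (nat_lit 2987436)) (.leaf (nat_lit 172180))))))) (.node (.node (.node (.node (.node
    (.node (.leaf (nat_lit 590267)) (.leaf (nat_lit 221845))) (.leaf (nat_lit 442762))) (.node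
    (.node (.leaf (nat_lit 114974)) (.leaf (nat_lit 975641))) (.leaf (nat_lit 1615569)))) (.node
    (.node (.node (.leaf (nat_lit 1945664)) (.leaf (nat_lit 1748585))) (.leaf (nat_lit 1815308)))
    (.node (.node (.leaf (nat_lit 936964)) (.leaf (nat_lit 1879872))) (.leaf (nat_lit 1215862)))))
    (.node (.node (.node (.node (.leaf (nat_lit 919034)) (.leaf (nat_lit 2805154))) (.leaf (nat_lit
    2854393))) (.node (.node (.leaf (nat_lit 1140312)) (.leaf (nat_lit 3847640))) (.leaf (nat_lit
    714556)))) (.node (.node (.node (.leaf (nat_lit 1512020)) (.leaf (nat_lit 3938066))) (.leaf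
    (nat_lit 3831225))) (.node (.leaf (nat_lit 2757539)) (.leaf (nat_lit 2995654)))))) (.node
    (.node (.node (.node (.node (.leaf (nat_lit 2410879)) (.leaf (nat_lit 2854389))) (.leaf
    (nat_lit 2813360))) (.node (.node (.leaf (nat_lit 2476664)) (.leaf (nat_lit 2969256))) (.leaf
    (nat_lit 2788727)))) (.node (.node (.node (.leaf (nat_lit 1289776)) (.leaf (nat_lit 1929882)))
    (.leaf (nat_lit 2764784))) (.node (.node (.leaf (nat_lit 2076896)) (.leaf (nat_lit 2634726)))
    (.leaf (nat_lit 1339755))))) (.node (.node (.node (.node (.leaf (nat_lit 583565)) (.leaf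
    (nat_lit 3461839))) (.leaf (nat_lit 1706608))) (.node (.node (.leaf (nat_lit 2871041)) (.leaf
    (nat_lit 2534469))) (.leaf (nat_lit 2698480)))) (.node (.node (.node (.leaf (nat_lit 3970819))
    (.leaf (nat_lit 450887))) (.leaf (nat_lit 614872))) (.node (.leaf (nat_lit 24597)) (.leaf
    (nat_lit 73951)))))))) (.node (.node (.node (.node (.node (.node (.node (.leaf (nat_lit
    459085)) (.leaf (nat_lit 2140316))) (.leaf (nat_lit 524661))) (.node (.node (.leaf (nat_lit
    959245)) (.leaf (nat_lit 2509818))) (.leaf (nat_lit 1746750)))) (.node (.node (.node (.leaf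
    (nat_lit 2371652)) (.leaf (nat_lit 2329998))) (.leaf (nat_lit 2452501))) (.node (.node (.leaf
    (nat_lit 2953456)) (.leaf (nat_lit 3314030))) (.leaf (nat_lit 3864072))))) (.node (.node (.node
    (.node (.leaf (nat_lit 1057850)) (.leaf (nat_lit 2067119))) (.leaf (nat_lit 3273009))) (.node
    (.node (.leaf (nat_lit 3059515)) (.leaf (nat_lit 2952860))) (.leaf (nat_lit 1345222)))) (.node
    (.node (.node (.leaf (nat_lit 3979036)) (.leaf (nat_lit 4020085))) (.leaf (nat_lit 3732711)))
    (.node (.node (.leaf (nat_lit 3675261)) (.leaf (nat_lit 2783011))) (.leaf (nat_lit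
    1905842)))))) (.node (.node (.node (.node (.node (.leaf (nat_lit 631296)) (.leaf (nat_lit
    2419995))) (.leaf (nat_lit 951037))) (.node (.node (.leaf (nat_lit 230020)) (.leaf (nat_lit
    386583))) (.leaf (nat_lit 2149141)))) (.node (.node (.node (.leaf (nat_lit 2264402)) (.leaf
    (nat_lit 1864603))) (.leaf (nat_lit 4020089))) (.node (.node (.leaf (nat_lit 1831127)) (.leaf
    (nat_lit 3437265))) (.leaf (nat_lit 3108860))))) (.node (.node (.node (.node (.leaf (nat_lit
    2501619)) (.leaf (nat_lit 2279701))) (.leaf (nat_lit 641016))) (.node (.node (.leaf (nat_lit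
    599954)) (.leaf (nat_lit 2616466))) (.leaf (nat_lit 1665474)))) (.node (.node (.node (.leaf
    (nat_lit 3806615)) (.leaf (nat_lit 319723))) (.leaf (nat_lit 155786))) (.node (.leaf (nat_lit
    3307228)) (.leaf (nat_lit 180377))))))) (.node (.node (.node (.node (.node (.node (.leaf
    (nat_lit 532861)) (.leaf (nat_lit 1270973))) (.leaf (nat_lit 2066493))) (.node (.node (.leaf
    (nat_lit 591320)) (.leaf (nat_lit 2985652))) (.leaf (nat_lit 221839)))) (.node (.node (.node
    (.leaf (nat_lit 1543152)) (.leaf (nat_lit 4011886))) (.leaf (nat_lit 2321766))) (.node (.node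
    (.leaf (nat_lit 1993912)) (.leaf (nat_lit 1241167))) (.leaf (nat_lit 3018475))))) (.node (.node
    (.node (.node (.leaf (nat_lit 1222223)) (.leaf (nat_lit 1656838))) (.leaf (nat_lit 3264710)))
    (.node (.node (.leaf (nat_lit 3543916)) (.leaf (nat_lit 2444028))) (.leaf (nat_lit 3601408))))
    (.node (.node (.node (.leaf (nat_lit 2651008)) (.leaf (nat_lit 221362))) (.leaf (nat_lit
    4036513))) (.node (.leaf (nat_lit 3536028)) (.leaf (nat_lit 3798788)))))) (.node (.node (.node
    (.node (.node (.leaf (nat_lit 1992728)) (.leaf (nat_lit 444007))) (.leaf (nat_lit 3133359)))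
    (.node (.node (.leaf (nat_lit 779197)) (.leaf (nat_lit 1631967))) (.leaf (nat_lit 1607367))))
    (.node (.node (.node (.leaf (nat_lit 3896919)) (.leaf (nat_lit 2708446))) (.leaf (nat_lit
    1724768))) (.node (.node (.leaf (nat_lit 1716194)) (.leaf (nat_lit 3478740))) (.leaf (nat_lit
    3675251))))) (.node (.node (.node (.node (.leaf (nat_lit 2044309)) (.leaf (nat_lit 2542653)))
    (.leaf (nat_lit 2287899))) (.node (.node (.leaf (nat_lit 731580)) (.leaf (nat_lit 3864059)))
    (.leaf (nat_lit 797552)))) (.node (.node (.node (.leaf (nat_lit 16482)) (.leaf (nat_lit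
    582049))) (.leaf (nat_lit 205746))) (.node (.leaf (nat_lit 155788)) (.leaf (nat_lit
    106815))))))))) (.node (.node (.node (.node (.node (.node (.node (.node (.leaf (nat_lit 41029))
    (.leaf (nat_lit 1976302))) (.leaf (nat_lit 98564))) (.node (.node (.leaf (nat_lit 181200))
    (.leaf (nat_lit 2353496))) (.leaf (nat_lit 123227)))) (.node (.node (.node (.leaf (nat_lit
    3207261)) (.leaf (nat_lit 1674530))) (.leaf (nat_lit 2714895))) (.node (.node (.leaf (nat_lit
    830292)) (.leaf (nat_lit 3831221))) (.leaf (nat_lit 3806589))))) (.node (.node (.node (.node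
    (.leaf (nat_lit 2665677)) (.leaf (nat_lit 2641950))) (.leaf (nat_lit 1672969))) (.node (.node
    (.leaf (nat_lit 943286)) (.leaf (nat_lit 3658849))) (.leaf (nat_lit 764217)))) (.node (.node
    (.node (.leaf (nat_lit 4036515)) (.leaf (nat_lit 3544406))) (.leaf (nat_lit 2044710))) (.node
    (.node (.leaf (nat_lit 1848249)) (.leaf (nat_lit 3651210))) (.leaf (nat_lit 1782845))))))
    (.node (.node (.node (.node (.node (.leaf (nat_lit 1845135)) (.leaf (nat_lit 3034886))) (.leaf
    (nat_lit 2550865))) (.node (.node (.leaf (nat_lit 771012)) (.leaf (nat_lit 1149706))) (.leaf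
    (nat_lit 2468398)))) (.node (.node (.node (.leaf (nat_lit 1010924)) (.leaf (nat_lit 1282231)))
    (.leaf (nat_lit 3790177))) (.node (.node (.leaf (nat_lit 1027545)) (.leaf (nat_lit 3749127)))
    (.leaf (nat_lit 2273695))))) (.node (.node (.node (.node (.leaf (nat_lit 3018479)) (.leaf
    (nat_lit 723157))) (.leaf (nat_lit 3519301))) (.node (.node (.leaf (nat_lit 2576645)) (.leaf
    (nat_lit 2526880))) (.leaf (nat_lit 674372)))) (.node (.node (.node (.leaf (nat_lit 3028236))
    (.leaf (nat_lit 926446))) (.leaf (nat_lit 3741580))) (.node (.leaf (nat_lit 2192951)) (.leaf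
    (nat_lit 426300))))))) (.node (.node (.node (.node (.node (.node (.leaf (nat_lit 303350))
    (.leaf (nat_lit 2591871))) (.leaf (nat_lit 1558175))) (.node (.node (.leaf (nat_lit 951678))
    (.leaf (nat_lit 1041251))) (.leaf (nat_lit 1714857)))) (.node (.node (.node (.leaf (nat_lit
    2805145)) (.leaf (nat_lit 1823533))) (.leaf (nat_lit 2518284))) (.node (.node (.leaf (nat_lit
    2683110)) (.leaf (nat_lit 3141555))) (.leaf (nat_lit 3330583))))) (.node (.node (.node (.node
    (.leaf (nat_lit 2584082)) (.leaf (nat_lit 1951713))) (.leaf (nat_lit 1280574))) (.node (.node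
    (.leaf (nat_lit 820873)) (.leaf (nat_lit 2674545))) (.leaf (nat_lit 1798407)))) (.node (.node
    (.node (.leaf (nat_lit 1479417)) (.leaf (nat_lit 3741626))) (.leaf (nat_lit 1905964))) (.node
    (.leaf (nat_lit 3601455)) (.leaf (nat_lit 3135076)))))) (.node (.node (.node (.node (.node
    (.leaf (nat_lit 558495)) (.leaf (nat_lit 2428166))) (.leaf (nat_lit 402432))) (.node (.node
    (.leaf (nat_lit 2354067)) (.leaf (nat_lit 3519294))) (.leaf (nat_lit 3240094)))) (.node (.node
    (.node (.leaf (nat_lit 1625744)) (.leaf (nat_lit 3248962))) (.leaf (nat_lit 2134172))) (.node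
    (.node (.leaf (nat_lit 1183622)) (.leaf (nat_lit 2520159))) (.leaf (nat_lit 3946188))))) (.node
    (.node (.node (.node (.leaf (nat_lit 3060088)) (.leaf (nat_lit 3166181))) (.leaf (nat_lit
    1018038))) (.node (.node (.leaf (nat_lit 2085560)) (.leaf (nat_lit 2403495))) (.leaf (nat_lit
    2460488)))) (.node (.node (.node (.leaf (nat_lit 3225446)) (.leaf (nat_lit 516463))) (.leaf
    (nat_lit 836248))) (.node (.leaf (nat_lit 311527)) (.leaf (nat_lit 591306)))))))) (.node (.node
    (.node (.node (.node (.node (.node (.leaf (nat_lit 295861)) (.leaf (nat_lit 952627))) (.leaf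
    (nat_lit 148776))) (.node (.node (.leaf (nat_lit 918247)) (.leaf (nat_lit 238291))) (.leaf
    (nat_lit 1164321)))) (.node (.node (.node (.leaf (nat_lit 764200)) (.leaf (nat_lit 2870787)))
    (.leaf (nat_lit 2969255))) (.node (.node (.leaf (nat_lit 2067232)) (.leaf (nat_lit 2338521)))
    (.leaf (nat_lit 3404350))))) (.node (.node (.node (.node (.leaf (nat_lit 386186)) (.leaf
    (nat_lit 3683454))) (.leaf (nat_lit 468619))) (.node (.node (.leaf (nat_lit 1929252)) (.leaf
    (nat_lit 3010269))) (.leaf (nat_lit 3576781)))) (.node (.node (.node (.leaf (nat_lit 1872354))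
    (.leaf (nat_lit 3987239))) (.leaf (nat_lit 2241592))) (.node (.node (.leaf (nat_lit 2487060))
    (.leaf (nat_lit 3954645))) (.leaf (nat_lit 3503424)))))) (.node (.node (.node (.node (.node
    (.leaf (nat_lit 2124231)) (.leaf (nat_lit 3281208))) (.leaf (nat_lit 2435886))) (.node (.node
    (.leaf (nat_lit 344770)) (.leaf (nat_lit 3322283))) (.leaf (nat_lit 2821561)))) (.node (.node
    (.node (.leaf (nat_lit 1756620)) (.leaf (nat_lit 2355718))) (.leaf (nat_lit 3888705))) (.node
    (.node (.leaf (nat_lit 1945672)) (.leaf (nat_lit 3150680))) (.leaf (nat_lit 1314984))))) (.node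
    (.node (.node (.node (.leaf (nat_lit 2568039)) (.leaf (nat_lit 2345301))) (.leaf (nat_lit
    2091081))) (.node (.node (.leaf (nat_lit 3256555)) (.leaf (nat_lit 821763))) (.leaf (nat_lit
    2140929)))) (.node (.node (.node (.leaf (nat_lit 3266090)) (.leaf (nat_lit 1328640))) (.leaf
    (nat_lit 401690))) (.node (.leaf (nat_lit 3708799)) (.leaf (nat_lit 491875))))))) (.node (.node
    (.node (.node (.node (.node (.leaf (nat_lit 402776)) (.leaf (nat_lit 1648367))) (.leaf (nat_lit
    205381))) (.node (.node (.leaf (nat_lit 1820545)) (.leaf (nat_lit 2796941))) (.leaf (nat_lit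
    1254551)))) (.node (.node (.node (.leaf (nat_lit 2690923)) (.leaf (nat_lit 1191839))) (.leaf
    (nat_lit 1510894))) (.node (.node (.leaf (nat_lit 2764121)) (.leaf (nat_lit 1577161))) (.leaf
    (nat_lit 3823011))))) (.node (.node (.node (.node (.leaf (nat_lit 3396109)) (.leaf (nat_lit
    2082883))) (.leaf (nat_lit 3675246))) (.node (.node (.leaf (nat_lit 1124090)) (.leaf (nat_lit
    2222309))) (.leaf (nat_lit 3749125)))) (.node (.node (.node (.leaf (nat_lit 3191834)) (.leaf
    (nat_lit 475476))) (.leaf (nat_lit 3634766))) (.node (.leaf (nat_lit 3683618)) (.leaf (nat_lit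
    3848105)))))) (.node (.node (.node (.node (.node (.leaf (nat_lit 811812)) (.leaf (nat_lit
    690832))) (.leaf (nat_lit 419018))) (.node (.node (.leaf (nat_lit 2911818)) (.leaf (nat_lit
    3248302))) (.leaf (nat_lit 3428971)))) (.node (.node (.node (.leaf (nat_lit 1175411)) (.leaf
    (nat_lit 3823024))) (.leaf (nat_lit 3658841))) (.node (.node (.leaf (nat_lit 4003671)) (.leaf
    (nat_lit 3888711))) (.leaf (nat_lit 2913074))))) (.node (.node (.node (.node (.leaf (nat_lit
    2273669)) (.leaf (nat_lit 896131))) (.leaf (nat_lit 3905120))) (.node (.node (.leaf (nat_lit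
    1444334)) (.leaf (nat_lit 994611))) (.leaf (nat_lit 2329417)))) (.node (.node (.node (.leaf
    (nat_lit 49233)) (.leaf (nat_lit 647665))) (.leaf (nat_lit 532863))) (.node (.leaf (nat_lit
    57526)) (.leaf (nat_lit 270694)))))))))) (.node (.node (.node (.node (.node (.node (.node
    (.node (.node (.leaf (nat_lit 73807)) (.leaf (nat_lit 1902531))) (.leaf (nat_lit 352519)))
    (.node (.node (.leaf (nat_lit 213967)) (.leaf (nat_lit 2255110))) (.leaf (nat_lit 115017))))
    (.node (.node (.node (.leaf (nat_lit 2829775)) (.leaf (nat_lit 3970810))) (.leaf (nat_lit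
    3954384))) (.node (.node (.leaf (nat_lit 3043090)) (.leaf (nat_lit 4028294))) (.leaf (nat_lit
    2542699))))) (.node (.node (.node (.node (.leaf (nat_lit 738239)) (.leaf (nat_lit 509677)))
    (.leaf (nat_lit 3190797))) (.node (.node (.leaf (nat_lit 3084132)) (.leaf (nat_lit 567149)))
    (.leaf (nat_lit 3420760)))) (.node (.node (.node (.leaf (nat_lit 3864067)) (.leaf (nat_lit
    3396879))) (.leaf (nat_lit 3880485))) (.node (.node (.leaf (nat_lit 4036519)) (.leaf (nat_lit
    3675717))) (.leaf (nat_lit 3634234)))))) (.node (.node (.node (.node (.node (.leaf (nat_lit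
    435488)) (.leaf (nat_lit 2124514))) (.leaf (nat_lit 969021))) (.node (.node (.leaf (nat_lit
    1746759)) (.leaf (nat_lit 3215482))) (.leaf (nat_lit 1771359)))) (.node (.node (.node (.leaf
    (nat_lit 1141962)) (.leaf (nat_lit 2691206))) (.leaf (nat_lit 3724505))) (.node (.node (.leaf
    (nat_lit 1019283)) (.leaf (nat_lit 3355118))) (.leaf (nat_lit 2297688))))) (.node (.node (.node
    (.node (.leaf (nat_lit 706258)) (.leaf (nat_lit 2181297))) (.leaf (nat_lit 3757337))) (.node
    (.node (.leaf (nat_lit 2821565)) (.leaf (nat_lit 3264715))) (.leaf (nat_lit 2181604)))) (.node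
    (.node (.node (.leaf (nat_lit 3413192)) (.leaf (nat_lit 787052))) (.leaf (nat_lit 3077950)))
    (.node (.leaf (nat_lit 3749362)) (.leaf (nat_lit 295132))))))) (.node (.node (.node (.node
    (.node (.node (.leaf (nat_lit 336121)) (.leaf (nat_lit 2534442))) (.leaf (nat_lit 582050)))
    (.node (.node (.leaf (nat_lit 1345041)) (.leaf (nat_lit 1008459))) (.leaf (nat_lit 197167))))
    (.node (.node (.node (.leaf (nat_lit 797050)) (.leaf (nat_lit 1887896))) (.leaf (nat_lit
    3864065))) (.node (.node (.leaf (nat_lit 2018378)) (.leaf (nat_lit 2379663))) (.leaf (nat_lit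
    1150392))))) (.node (.node (.node (.node (.leaf (nat_lit 3322275)) (.leaf (nat_lit 600007)))
    (.leaf (nat_lit 2403198))) (.node (.node (.leaf (nat_lit 2673889)) (.leaf (nat_lit 1864601)))
    (.leaf (nat_lit 984926)))) (.node (.node (.node (.leaf (nat_lit 2511527)) (.leaf (nat_lit
    3643232))) (.leaf (nat_lit 1856741))) (.node (.leaf (nat_lit 2225135)) (.leaf (nat_lit
    3872277)))))) (.node (.node (.node (.node (.node (.leaf (nat_lit 2321233)) (.leaf (nat_lit
    1517185))) (.leaf (nat_lit 2961037))) (.node (.node (.leaf (nat_lit 2263911)) (.leaf (nat_lit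
    3084130))) (.leaf (nat_lit 2796937)))) (.node (.node (.node (.leaf (nat_lit 3215477)) (.leaf
    (nat_lit 3085062))) (.leaf (nat_lit 1650787))) (.node (.node (.leaf (nat_lit 2945314)) (.leaf
    (nat_lit 2864164))) (.leaf (nat_lit 1438156))))) (.node (.node (.node (.node (.leaf (nat_lit
    1419174)) (.leaf (nat_lit 2157351))) (.leaf (nat_lit 1248131))) (.node (.node (.leaf (nat_lit
    715230)) (.leaf (nat_lit 879731))) (.leaf (nat_lit 3084121)))) (.node (.node (.node (.leaf
    (nat_lit 4052939)) (.leaf (nat_lit 483673))) (.leaf (nat_lit 721454))) (.node (.leaf (nat_lit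
    188575)) (.leaf (nat_lit 82161)))))))) (.node (.node (.node (.node (.node (.node (.node (.leaf
    (nat_lit 328269)) (.leaf (nat_lit 639540))) (.leaf (nat_lit 1254828))) (.node (.node (.leaf
    (nat_lit 517429)) (.leaf (nat_lit 2559068))) (.leaf (nat_lit 246205)))) (.node (.node (.node
    (.leaf (nat_lit 3117440)) (.leaf (nat_lit 2018775))) (.leaf (nat_lit 2526286))) (.node (.node
    (.leaf (nat_lit 846687)) (.leaf (nat_lit 3502883))) (.leaf (nat_lit 3626033))))) (.node (.node
    (.node (.node (.leaf (nat_lit 1574575)) (.leaf (nat_lit 1337194))) (.leaf (nat_lit 846142)))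
    (.node (.node (.leaf (nat_lit 3051308)) (.leaf (nat_lit 1910736))) (.leaf (nat_lit 509667))))
    (.node (.node (.node (.leaf (nat_lit 1339809)) (.leaf (nat_lit 3667508))) (.leaf (nat_lit
    1938428))) (.node (.node (.leaf (nat_lit 2159302)) (.leaf (nat_lit 2832241))) (.leaf (nat_lit
    4028310)))))) (.node (.node (.node (.node (.node (.leaf (nat_lit 188953)) (.leaf (nat_lit
    853141))) (.leaf (nat_lit 1484930))) (.node (.node (.leaf (nat_lit 1525382)) (.leaf (nat_lit
    402981))) (.leaf (nat_lit 2829777)))) (.node (.node (.node (.leaf (nat_lit 2436484)) (.leaf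
    (nat_lit 1356255))) (.leaf (nat_lit 3650643))) (.node (.node (.leaf (nat_lit 1076843)) (.leaf
    (nat_lit 3806591))) (.leaf (nat_lit 1552496))))) (.node (.node (.node (.node (.leaf (nat_lit
    2526245)) (.leaf (nat_lit 1878314))) (.leaf (nat_lit 1469021))) (.node (.node (.leaf (nat_lit
    1427384)) (.leaf (nat_lit 805281))) (.leaf (nat_lit 2403031)))) (.node (.node (.node (.leaf
    (nat_lit 4044725)) (.leaf (nat_lit 352515))) (.leaf (nat_lit 278738))) (.node (.leaf (nat_lit
    3503921)) (.leaf (nat_lit 213163))))))) (.node (.node (.node (.node (.node (.node (.leaf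
    (nat_lit 959287)) (.leaf (nat_lit 2739494))) (.leaf (nat_lit 1739417))) (.node (.node (.leaf
    (nat_lit 1812346)) (.leaf (nat_lit 1297160))) (.leaf (nat_lit 434997)))) (.node (.node (.node
    (.leaf (nat_lit 2133045)) (.leaf (nat_lit 1560448))) (.leaf (nat_lit 2895405))) (.node (.node
    (.leaf (nat_lit 1559774)) (.leaf (nat_lit 1273997))) (.leaf (nat_lit 2952837))))) (.node (.node
    (.node (.node (.leaf (nat_lit 3166169)) (.leaf (nat_lit 2050097))) (.leaf (nat_lit 1771357)))
    (.node (.node (.leaf (nat_lit 2181617)) (.leaf (nat_lit 3396114))) (.leaf (nat_lit 3708083))))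
    (.node (.node (.node (.leaf (nat_lit 3732717)) (.leaf (nat_lit 344314))) (.leaf (nat_lit
    3036670))) (.node (.leaf (nat_lit 4020093)) (.leaf (nat_lit 3929946)))))) (.node (.node (.node
    (.node (.node (.leaf (nat_lit 542164)) (.leaf (nat_lit 2764575))) (.leaf (nat_lit 1139836)))
    (.node (.node (.leaf (nat_lit 1164327)) (.leaf (nat_lit 3305823))) (.leaf (nat_lit 3026686))))
    (.node (.node (.node (.leaf (nat_lit 3954393)) (.leaf (nat_lit 3527712))) (.leaf (nat_lit
    1364421))) (.node (.node (.leaf (nat_lit 3806595)) (.leaf (nat_lit 3069204))) (.leaf (nat_lit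
    2536172))))) (.node (.node (.node (.node (.leaf (nat_lit 649220)) (.leaf (nat_lit 1363056)))
    (.leaf (nat_lit 755996))) (.node (.node (.leaf (nat_lit 1968894)) (.leaf (nat_lit 1699070)))
    (.leaf (nat_lit 1723236)))) (.node (.node (.node (.leaf (nat_lit 82003)) (.leaf (nat_lit
    156101))) (.leaf (nat_lit 172624))) (.node (.leaf (nat_lit 221365)) (.leaf (nat_lit
    279892))))))))) (.node (.node (.node (.node (.node (.node (.node (.node (.leaf (nat_lit 32880))
    (.leaf (nat_lit 2074686))) (.leaf (nat_lit 688663))) (.node (.node (.leaf (nat_lit 148732))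
    (.leaf (nat_lit 2149111))) (.leaf (nat_lit 131443)))) (.node (.node (.node (.leaf (nat_lit
    1444061)) (.leaf (nat_lit 1388317))) (.leaf (nat_lit 2747713))) (.node (.node (.leaf (nat_lit
    2380012)) (.leaf (nat_lit 1068599))) (.leaf (nat_lit 904343))))) (.node (.node (.node (.node
    (.leaf (nat_lit 656402)) (.leaf (nat_lit 920234))) (.leaf (nat_lit 2411467))) (.node (.node
    (.leaf (nat_lit 984552)) (.leaf (nat_lit 3126193))) (.leaf (nat_lit 485033)))) (.node (.node
    (.node (.leaf (nat_lit 1790141)) (.leaf (nat_lit 3429772))) (.leaf (nat_lit 2650987))) (.node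
    (.node (.leaf (nat_lit 2724416)) (.leaf (nat_lit 3774166))) (.leaf (nat_lit 3445874))))))
    (.node (.node (.node (.node (.node (.leaf (nat_lit 664063)) (.leaf (nat_lit 3116956))) (.leaf
    (nat_lit 918243))) (.node (.node (.leaf (nat_lit 738247)) (.leaf (nat_lit 1336839))) (.leaf
    (nat_lit 287611)))) (.node (.node (.node (.leaf (nat_lit 3798383)) (.leaf (nat_lit 1896770)))
    (.leaf (nat_lit 1380064))) (.node (.node (.leaf (nat_lit 2281221)) (.leaf (nat_lit 2421350)))
    (.leaf (nat_lit 2863326))))) (.node (.node (.node (.node (.leaf (nat_lit 3535711)) (.leaf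
    (nat_lit 2246915))) (.leaf (nat_lit 1992695))) (.node (.node (.leaf (nat_lit 575359)) (.leaf
    (nat_lit 1806608))) (.leaf (nat_lit 2091707)))) (.node (.node (.node (.leaf (nat_lit 3814805))
    (.leaf (nat_lit 1033054))) (.leaf (nat_lit 7))) (.node (.leaf (nat_lit 3315344)) (.leaf
    (nat_lit 378225))))))) (.node (.node (.node (.node (.node (.node (.leaf (nat_lit 90381)) (.leaf
    (nat_lit 1394217))) (.leaf (nat_lit 1968109))) (.node (.node (.leaf (nat_lit 198020)) (.leaf
    (nat_lit 2895402))) (.leaf (nat_lit 2386823)))) (.node (.node (.node (.leaf (nat_lit 1215285))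
    (.leaf (nat_lit 3560336))) (.leaf (nat_lit 1002819))) (.node (.node (.leaf (nat_lit 928904))
    (.leaf (nat_lit 2461648))) (.leaf (nat_lit 3075915))))) (.node (.node (.node (.node (.leaf
    (nat_lit 2550869)) (.leaf (nat_lit 1984499))) (.leaf (nat_lit 534299))) (.node (.node (.leaf
    (nat_lit 1763159)) (.leaf (nat_lit 2240038))) (.leaf (nat_lit 1839651)))) (.node (.node (.node
    (.leaf (nat_lit 3937971)) (.leaf (nat_lit 90212))) (.leaf (nat_lit 3126640))) (.node (.leaf
    (nat_lit 3757343)) (.leaf (nat_lit 2578092)))))) (.node (.node (.node (.node (.node (.leaf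
    (nat_lit 2099289)) (.leaf (nat_lit 2796944))) (.leaf (nat_lit 3051303))) (.node (.node (.leaf
    (nat_lit 2837979)) (.leaf (nat_lit 1599169))) (.leaf (nat_lit 3248297)))) (.node (.node (.node
    (.leaf (nat_lit 1314504)) (.leaf (nat_lit 2093961))) (.leaf (nat_lit 2027826))) (.node (.node
    (.leaf (nat_lit 1339367)) (.leaf (nat_lit 3372180))) (.leaf (nat_lit 3716291))))) (.node (.node
    (.node (.node (.leaf (nat_lit 2969663)) (.leaf (nat_lit 838635))) (.leaf (nat_lit 1042662)))
    (.node (.node (.leaf (nat_lit 3125946)) (.leaf (nat_lit 2732070))) (.leaf (nat_lit 2362177))))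
    (.node (.node (.node (.leaf (nat_lit 3831730)) (.leaf (nat_lit 1722158))) (.leaf (nat_lit
    566559))) (.node (.leaf (nat_lit 114811)) (.leaf (nat_lit 247246)))))))) (.node (.node (.node
    (.node (.node (.node (.node (.leaf (nat_lit 65730)) (.leaf (nat_lit 828055))) (.leaf (nat_lit
    483696))) (.node (.node (.leaf (nat_lit 98578)) (.leaf (nat_lit 246513))) (.leaf (nat_lit
    664061)))) (.node (.node (.node (.leaf (nat_lit 2879541)) (.leaf (nat_lit 3913346))) (.leaf
    (nat_lit 2928225))) (.node (.node (.leaf (nat_lit 895606)) (.leaf (nat_lit 3642440))) (.leaf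
    (nat_lit 3560352))))) (.node (.node (.node (.node (.leaf (nat_lit 2903615)) (.leaf (nat_lit
    3601403))) (.leaf (nat_lit 3338681))) (.node (.node (.leaf (nat_lit 2526249)) (.leaf (nat_lit
    1224204))) (.leaf (nat_lit 1132329)))) (.node (.node (.node (.leaf (nat_lit 1520132)) (.leaf
    (nat_lit 3389134))) (.leaf (nat_lit 4003667))) (.node (.leaf (nat_lit 3691675)) (.leaf (nat_lit
    2594172)))))) (.node (.node (.node (.node (.node (.leaf (nat_lit 2312495)) (.leaf (nat_lit
    1207220))) (.leaf (nat_lit 2493416))) (.node (.node (.leaf (nat_lit 2608262)) (.leaf (nat_lit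
    2026291))) (.leaf (nat_lit 1567671)))) (.node (.node (.node (.leaf (nat_lit 2076888)) (.leaf
    (nat_lit 2617950))) (.leaf (nat_lit 2461620))) (.node (.node (.leaf (nat_lit 3207274)) (.leaf
    (nat_lit 3019669))) (.leaf (nat_lit 3281215))))) (.node (.node (.node (.node (.leaf (nat_lit
    3667045)) (.leaf (nat_lit 2378087))) (.leaf (nat_lit 673866))) (.node (.node (.leaf (nat_lit
    3076130)) (.leaf (nat_lit 2493436))) (.leaf (nat_lit 731387)))) (.node (.node (.node (.leaf
    (nat_lit 2848380)) (.leaf (nat_lit 853443))) (.leaf (nat_lit 524658))) (.node (.leaf (nat_lit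
    3913676)) (.leaf (nat_lit 123189))))))) (.node (.node (.node (.node (.node (.node (.leaf
    (nat_lit 886158)) (.leaf (nat_lit 2862586))) (.leaf (nat_lit 213607))) (.node (.node (.leaf
    (nat_lit 2025504)) (.leaf (nat_lit 3166158))) (.leaf (nat_lit 1877923)))) (.node (.node (.node
    (.leaf (nat_lit 3445379)) (.leaf (nat_lit 1200065))) (.leaf (nat_lit 3946181))) (.node (.node
    (.leaf (nat_lit 2411823)) (.leaf (nat_lit 1462611))) (.leaf (nat_lit 2920170))))) (.node (.node
    (.node (.node (.leaf (nat_lit 1968740)) (.leaf (nat_lit 1968820))) (.leaf (nat_lit 2109647)))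
    (.node (.node (.leaf (nat_lit 837401)) (.leaf (nat_lit 1142308))) (.leaf (nat_lit 2928223))))
    (.node (.node (.node (.leaf (nat_lit 2683982)) (.leaf (nat_lit 286938))) (.leaf (nat_lit
    3667614))) (.node (.leaf (nat_lit 2659676)) (.leaf (nat_lit 16397)))))) (.node (.node (.node
    (.node (.node (.leaf (nat_lit 2813348)) (.leaf (nat_lit 1541812))) (.leaf (nat_lit 1149725)))
    (.node (.node (.leaf (nat_lit 1098792)) (.leaf (nat_lit 1730357))) (.leaf (nat_lit 649338))))
    (.node (.node (.node (.leaf (nat_lit 3157961)) (.leaf (nat_lit 3241088))) (.leaf (nat_lit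
    1839645))) (.node (.node (.leaf (nat_lit 1306818)) (.leaf (nat_lit 3741092))) (.leaf (nat_lit
    1594231))))) (.node (.node (.node (.node (.leaf (nat_lit 3035354)) (.leaf (nat_lit 1592492)))
    (.leaf (nat_lit 2386285))) (.node (.node (.leaf (nat_lit 1108759)) (.leaf (nat_lit 2755934)))
    (.leaf (nat_lit 1043420)))) (.node (.node (.node (.leaf (nat_lit 288014)) (.leaf (nat_lit
    680463))) (.leaf (nat_lit 90393))) (.node (.leaf (nat_lit 942836)) (.leaf (nat_lit
    541061))))))))))) (.node (.node (.node (.node (.node (.node (.node (.node (.node (.node (.leaf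
    (nat_lit 106606)) (.leaf (nat_lit 1869722))) (.leaf (nat_lit 1090454))) (.node (.node (.leaf
    (nat_lit 361837)) (.leaf (nat_lit 2214110))) (.leaf (nat_lit 1451595)))) (.node (.node (.node
    (.leaf (nat_lit 2534445)) (.leaf (nat_lit 1289444))) (.leaf (nat_lit 3314023))) (.node (.node
    (.leaf (nat_lit 1010523)) (.leaf (nat_lit 1060282))) (.leaf (nat_lit 2559082))))) (.node (.node
    (.node (.node (.leaf (nat_lit 2911812)) (.leaf (nat_lit 813622))) (.leaf (nat_lit 1583825)))
    (.node (.node (.leaf (nat_lit 3174379)) (.leaf (nat_lit 3626018))) (.leaf (nat_lit 452203))))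
    (.node (.node (.node (.leaf (nat_lit 1249260)) (.leaf (nat_lit 3888713))) (.leaf (nat_lit
    2921122))) (.node (.node (.leaf (nat_lit 3905135)) (.leaf (nat_lit 3733019))) (.leaf (nat_lit
    3888703)))))) (.node (.node (.node (.node (.node (.leaf (nat_lit 1295845)) (.leaf (nat_lit
    1082338))) (.leaf (nat_lit 977219))) (.node (.node (.leaf (nat_lit 860858)) (.leaf (nat_lit
    1229956))) (.leaf (nat_lit 2714890)))) (.node (.node (.node (.leaf (nat_lit 3543921)) (.leaf
    (nat_lit 3215471))) (.leaf (nat_lit 1445474))) (.node (.node (.leaf (nat_lit 1502580)) (.leaf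
    (nat_lit 3338713))) (.leaf (nat_lit 2338872))))) (.node (.node (.node (.node (.leaf (nat_lit
    3560330)) (.leaf (nat_lit 805668))) (.leaf (nat_lit 1886127))) (.node (.node (.leaf (nat_lit
    2206195)) (.leaf (nat_lit 747807))) (.leaf (nat_lit 2205914)))) (.node (.node (.node (.leaf
    (nat_lit 1856676)) (.leaf (nat_lit 41121))) (.leaf (nat_lit 3913494))) (.node (.leaf (nat_lit
    2995664)) (.leaf (nat_lit 32814))))))) (.node (.node (.node (.node (.node (.node (.leaf
    (nat_lit 124177)) (.leaf (nat_lit 754336))) (.leaf (nat_lit 1763150))) (.node (.node (.leaf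
    (nat_lit 394400)) (.leaf (nat_lit 2484777))) (.leaf (nat_lit 188967)))) (.node (.node (.node
    (.leaf (nat_lit 1584008)) (.leaf (nat_lit 2952835))) (.leaf (nat_lit 961736))) (.node (.node
    (.leaf (nat_lit 1616934)) (.leaf (nat_lit 3240098))) (.leaf (nat_lit 3338683))))) (.node (.node
    (.node (.node (.leaf (nat_lit 3314018)) (.leaf (nat_lit 1312700))) (.leaf (nat_lit 501453)))
    (.node (.node (.leaf (nat_lit 2386883)) (.leaf (nat_lit 1657443))) (.leaf (nat_lit 3002065))))
    (.node (.node (.node (.leaf (nat_lit 2601597)) (.leaf (nat_lit 3266362))) (.leaf (nat_lit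
    3413184))) (.node (.leaf (nat_lit 1676224)) (.leaf (nat_lit 2774506)))))) (.node (.node (.node
    (.node (.node (.leaf (nat_lit 951043)) (.leaf (nat_lit 1681167))) (.leaf (nat_lit 1098651)))
    (.node (.node (.leaf (nat_lit 452009)) (.leaf (nat_lit 1517183))) (.leaf (nat_lit 1632825))))
    (.node (.node (.node (.leaf (nat_lit 1084998)) (.leaf (nat_lit 2527969))) (.leaf (nat_lit
    1953806))) (.node (.node (.leaf (nat_lit 1330991)) (.leaf (nat_lit 2044934))) (.leaf (nat_lit
    2855446))))) (.node (.node (.node (.node (.leaf (nat_lit 3699879)) (.leaf (nat_lit 3182587)))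
    (.leaf (nat_lit 903903))) (.node (.node (.leaf (nat_lit 2641083)) (.leaf (nat_lit 2141278)))
    (.leaf (nat_lit 1984790)))) (.node (.node (.node (.leaf (nat_lit 3782385)) (.leaf (nat_lit
    1508984))) (.leaf (nat_lit 180379))) (.node (.leaf (nat_lit 49195)) (.leaf (nat_lit
    1147906)))))))) (.node (.node (.node (.node (.node (.node (.node (.leaf (nat_lit 418107))
    (.leaf (nat_lit 188971))) (.leaf (nat_lit 1451592))) (.node (.node (.leaf (nat_lit 205784))
    (.leaf (nat_lit 1254852))) (.leaf (nat_lit 577795)))) (.node (.node (.node (.leaf (nat_lit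
    2764117)) (.leaf (nat_lit 2010539))) (.leaf (nat_lit 2141233))) (.node (.node (.leaf (nat_lit
    1477569)) (.leaf (nat_lit 3765545))) (.leaf (nat_lit 953557))))) (.node (.node (.node (.node
    (.leaf (nat_lit 2468663)) (.leaf (nat_lit 2468760))) (.leaf (nat_lit 829761))) (.node (.node
    (.leaf (nat_lit 484882)) (.leaf (nat_lit 591807))) (.leaf (nat_lit 640731)))) (.node (.node
    (.node (.leaf (nat_lit 1331543)) (.leaf (nat_lit 3552779))) (.leaf (nat_lit 3396566))) (.node
    (.node (.leaf (nat_lit 1413759)) (.leaf (nat_lit 2791243))) (.leaf (nat_lit 2569441))))))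
    (.node (.node (.node (.node (.node (.leaf (nat_lit 2115685)) (.leaf (nat_lit 2411473))) (.leaf
    (nat_lit 2673881))) (.node (.node (.leaf (nat_lit 1689366)) (.leaf (nat_lit 394781))) (.leaf
    (nat_lit 1090460)))) (.node (.node (.node (.leaf (nat_lit 1043812)) (.leaf (nat_lit 3346891)))
    (.leaf (nat_lit 2805556))) (.node (.node (.leaf (nat_lit 1134160)) (.leaf (nat_lit 1848051)))
    (.leaf (nat_lit 1396825))))) (.node (.node (.node (.node (.leaf (nat_lit 2067015)) (.leaf
    (nat_lit 1239978))) (.leaf (nat_lit 2837987))) (.node (.node (.leaf (nat_lit 2691360)) (.leaf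
    (nat_lit 3420764))) (.leaf (nat_lit 1084180)))) (.node (.node (.node (.leaf (nat_lit 3331514))
    (.leaf (nat_lit 1172522))) (.leaf (nat_lit 41045))) (.node (.leaf (nat_lit 3897101)) (.leaf
    (nat_lit 680465))))))) (.node (.node (.node (.node (.node (.node (.leaf (nat_lit 139576))
    (.leaf (nat_lit 2731296))) (.leaf (nat_lit 1320439))) (.node (.node (.leaf (nat_lit 189848))
    (.leaf (nat_lit 304101))) (.leaf (nat_lit 230041)))) (.node (.node (.node (.leaf (nat_lit
    1723404)) (.leaf (nat_lit 1167173))) (.leaf (nat_lit 1174922))) (.node (.node (.leaf (nat_lit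
    2634126)) (.leaf (nat_lit 3207293))) (.leaf (nat_lit 1961584))))) (.node (.node (.node (.node
    (.leaf (nat_lit 2058841)) (.leaf (nat_lit 1460716))) (.leaf (nat_lit 886592))) (.node (.node
    (.leaf (nat_lit 1451720)) (.leaf (nat_lit 698535))) (.leaf (nat_lit 911280)))) (.node (.node
    (.node (.leaf (nat_lit 1602469)) (.leaf (nat_lit 8241))) (.leaf (nat_lit 4011875))) (.node
    (.leaf (nat_lit 4028307)) (.leaf (nat_lit 3651381)))))) (.node (.node (.node (.node (.node
    (.leaf (nat_lit 312054)) (.leaf (nat_lit 1435252))) (.leaf (nat_lit 1123442))) (.node (.node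
    (.leaf (nat_lit 2936429)) (.leaf (nat_lit 3116969))) (.leaf (nat_lit 3059512)))) (.node (.node
    (.node (.leaf (nat_lit 1986318)) (.leaf (nat_lit 3142658))) (.leaf (nat_lit 1438124))) (.node
    (.node (.leaf (nat_lit 1568771)) (.leaf (nat_lit 3699966))) (.leaf (nat_lit 3101384))))) (.node
    (.node (.node (.node (.leaf (nat_lit 903195)) (.leaf (nat_lit 2780521))) (.leaf (nat_lit
    1921399))) (.node (.node (.leaf (nat_lit 673899)) (.leaf (nat_lit 961767))) (.leaf (nat_lit
    1583488)))) (.node (.node (.node (.leaf (nat_lit 131199)) (.leaf (nat_lit 1894330))) (.leaf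
    (nat_lit 1123318))) (.node (.leaf (nat_lit 623076)) (.leaf (nat_lit 1500786))))))))) (.node
    (.node (.node (.node (.node (.node (.node (.node (.leaf (nat_lit 360712)) (.leaf (nat_lit
    911369))) (.leaf (nat_lit 1295840))) (.node (.node (.leaf (nat_lit 811659)) (.leaf (nat_lit
    795251))) (.leaf (nat_lit 1640162)))) (.node (.node (.node (.leaf (nat_lit 1002019)) (.leaf
    (nat_lit 994615))) (.leaf (nat_lit 2189824))) (.node (.node (.leaf (nat_lit 756041)) (.leaf
    (nat_lit 2322256))) (.leaf (nat_lit 1993891))))) (.node (.node (.node (.node (.leaf (nat_lit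
    1771361)) (.leaf (nat_lit 2108082))) (.leaf (nat_lit 1427001))) (.node (.node (.leaf (nat_lit
    3240086)) (.leaf (nat_lit 2232865))) (.leaf (nat_lit 476829)))) (.node (.node (.node (.leaf
    (nat_lit 3823015)) (.leaf (nat_lit 3716468))) (.leaf (nat_lit 3117894))) (.node (.node (.leaf
    (nat_lit 1389052)) (.leaf (nat_lit 2553518))) (.leaf (nat_lit 1791061)))))) (.node (.node
    (.node (.node (.node (.leaf (nat_lit 500186)) (.leaf (nat_lit 353324))) (.leaf (nat_lit
    2542657))) (.node (.node (.leaf (nat_lit 2320708)) (.leaf (nat_lit 370161))) (.leaf (nat_lit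
    2173675)))) (.node (.node (.node (.leaf (nat_lit 2256144)) (.leaf (nat_lit 3929757))) (.leaf
    (nat_lit 1117890))) (.node (.node (.leaf (nat_lit 3831229)) (.leaf (nat_lit 2945617))) (.leaf
    (nat_lit 3905125))))) (.node (.node (.node (.node (.leaf (nat_lit 3478247)) (.leaf (nat_lit
    3765547))) (.leaf (nat_lit 3749123))) (.node (.node (.leaf (nat_lit 3281550)) (.leaf (nat_lit
    772445))) (.leaf (nat_lit 3157957)))) (.node (.node (.node (.leaf (nat_lit 3855857)) (.leaf
    (nat_lit 1000262))) (.leaf (nat_lit 3577774))) (.node (.leaf (nat_lit 3323500)) (.leaf (nat_lit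
    500068))))))) (.node (.node (.node (.node (.node (.node (.leaf (nat_lit 484653)) (.leaf
    (nat_lit 673803))) (.leaf (nat_lit 172519))) (.node (.node (.leaf (nat_lit 139614)) (.leaf
    (nat_lit 2846184))) (.leaf (nat_lit 778859)))) (.node (.node (.node (.leaf (nat_lit 3338685))
    (.leaf (nat_lit 3584992))) (.leaf (nat_lit 2338856))) (.node (.node (.leaf (nat_lit 1397127))
    (.leaf (nat_lit 2453438))) (.leaf (nat_lit 2870791))))) (.node (.node (.node (.node (.leaf
    (nat_lit 3387906)) (.leaf (nat_lit 1125088))) (.leaf (nat_lit 3231893))) (.node (.node (.leaf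
    (nat_lit 3166175)) (.leaf (nat_lit 665681))) (.leaf (nat_lit 1814793)))) (.node (.node (.node
    (.leaf (nat_lit 3757348)) (.leaf (nat_lit 24594))) (.leaf (nat_lit 2274632))) (.node (.leaf
    (nat_lit 3609666)) (.leaf (nat_lit 3143304)))))) (.node (.node (.node (.node (.node (.leaf
    (nat_lit 271048)) (.leaf (nat_lit 452162))) (.leaf (nat_lit 1164319))) (.node (.node (.leaf
    (nat_lit 2796928)) (.leaf (nat_lit 2313151))) (.leaf (nat_lit 1533583)))) (.node (.node (.node
    (.leaf (nat_lit 2346672)) (.leaf (nat_lit 2102120))) (.leaf (nat_lit 3987243))) (.node (.node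
    (.leaf (nat_lit 2273682)) (.leaf (nat_lit 3790179))) (.leaf (nat_lit 1520142))))) (.node (.node
    (.node (.node (.leaf (nat_lit 2634128)) (.leaf (nat_lit 870938))) (.leaf (nat_lit 2993861)))
    (.node (.node (.leaf (nat_lit 1665610)) (.leaf (nat_lit 3716293))) (.leaf (nat_lit 2345303))))
    (.node (.node (.node (.leaf (nat_lit 3602320)) (.leaf (nat_lit 1672964))) (.leaf (nat_lit
    590268))) (.node (.leaf (nat_lit 409895)) (.leaf (nat_lit 877898)))))))) (.node (.node (.node
    (.node (.node (.node (.node (.leaf (nat_lit 452005)) (.leaf (nat_lit 2369890))) (.leaf (nat_lit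
    1607364))) (.node (.node (.leaf (nat_lit 1254534)) (.leaf (nat_lit 1755813))) (.leaf (nat_lit
    1623770)))) (.node (.node (.node (.leaf (nat_lit 2747711)) (.leaf (nat_lit 2887199))) (.leaf
    (nat_lit 3445383))) (.node (.node (.leaf (nat_lit 1542986)) (.leaf (nat_lit 3855855))) (.leaf
    (nat_lit 3486465))))) (.node (.node (.node (.node (.leaf (nat_lit 492736)) (.leaf (nat_lit
    575365))) (.leaf (nat_lit 3240091))) (.node (.node (.leaf (nat_lit 3437166)) (.leaf (nat_lit
    624617))) (.leaf (nat_lit 812820)))) (.node (.node (.node (.leaf (nat_lit 1397234)) (.leaf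
    (nat_lit 3757735))) (.leaf (nat_lit 3995453))) (.node (.leaf (nat_lit 1708861)) (.leaf (nat_lit
    3814803)))))) (.node (.node (.node (.node (.node (.leaf (nat_lit 1197135)) (.leaf (nat_lit
    607726))) (.leaf (nat_lit 2476553))) (.node (.node (.leaf (nat_lit 533658)) (.leaf (nat_lit
    427589))) (.leaf (nat_lit 623648)))) (.node (.node (.node (.leaf (nat_lit 3929761)) (.leaf
    (nat_lit 2363964))) (.leaf (nat_lit 3970817))) (.node (.node (.leaf (nat_lit 3839439)) (.leaf
    (nat_lit 3781967))) (.leaf (nat_lit 1831116))))) (.node (.node (.node (.node (.leaf (nat_lit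
    608116)) (.leaf (nat_lit 3946177))) (.leaf (nat_lit 2658294))) (.node (.node (.leaf (nat_lit
    2773679)) (.leaf (nat_lit 838630))) (.leaf (nat_lit 1026796)))) (.node (.node (.node (.leaf
    (nat_lit 3012184)) (.leaf (nat_lit 1369626))) (.leaf (nat_lit 459080))) (.node (.leaf (nat_lit
    4044729)) (.leaf (nat_lit 525534))))))) (.node (.node (.node (.node (.node (.node (.leaf
    (nat_lit 345386)) (.leaf (nat_lit 1566375))) (.leaf (nat_lit 2263311))) (.node (.node (.leaf
    (nat_lit 1090504)) (.leaf (nat_lit 328751))) (.leaf (nat_lit 2624662)))) (.node (.node (.node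
    (.leaf (nat_lit 1379861)) (.leaf (nat_lit 1847856))) (.leaf (nat_lit 1789439))) (.node (.node
    (.leaf (nat_lit 3387971)) (.leaf (nat_lit 3256636))) (.leaf (nat_lit 1756880))))) (.node (.node
    (.node (.node (.leaf (nat_lit 1459856)) (.leaf (nat_lit 3864061))) (.leaf (nat_lit 3535719)))
    (.node (.node (.leaf (nat_lit 3584977)) (.leaf (nat_lit 3708092))) (.leaf (nat_lit 1951715))))
    (.node (.node (.node (.leaf (nat_lit 3355702)) (.leaf (nat_lit 549256))) (.leaf (nat_lit
    3282554))) (.node (.leaf (nat_lit 3650878)) (.leaf (nat_lit 3233731)))))) (.node (.node (.node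
    (.node (.node (.leaf (nat_lit 2706681)) (.leaf (nat_lit 476837))) (.leaf (nat_lit 3207265)))
    (.node (.node (.leaf (nat_lit 3002063)) (.leaf (nat_lit 1713965))) (.leaf (nat_lit 697914))))
    (.node (.node (.node (.leaf (nat_lit 1232788)) (.leaf (nat_lit 3773765))) (.leaf (nat_lit
    4044721))) (.node (.node (.leaf (nat_lit 1282213)) (.leaf (nat_lit 3552640))) (.leaf (nat_lit
    2650967))))) (.node (.node (.node (.node (.leaf (nat_lit 1731158)) (.leaf (nat_lit 3199059)))
    (.leaf (nat_lit 3708084))) (.node (.node (.leaf (nat_lit 1149722)) (.leaf (nat_lit 3453630)))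
    (.leaf (nat_lit 2509826)))) (.node (.node (.node (.leaf (nat_lit 385303)) (.leaf (nat_lit
    2058292))) (.leaf (nat_lit 427161))) (.node (.leaf (nat_lit 860852)) (.leaf (nat_lit
    1664766)))))))))) (.node (.node (.node (.node (.node (.node (.node (.node (.node (.leaf
    (nat_lit 237760)) (.leaf (nat_lit 262954))) (.leaf (nat_lit 1188918))) (.node (.node (.leaf
    (nat_lit 558491)) (.leaf (nat_lit 762459))) (.leaf (nat_lit 1558172)))) (.node (.node (.node
    (.leaf (nat_lit 2288544)) (.leaf (nat_lit 3798390))) (.leaf (nat_lit 2739509))) (.node (.node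
    (.leaf (nat_lit 1633190)) (.leaf (nat_lit 1052145))) (.leaf (nat_lit 3937965))))) (.node (.node
    (.node (.node (.leaf (nat_lit 3002058)) (.leaf (nat_lit 1623808))) (.leaf (nat_lit 2280367)))
    (.node (.node (.leaf (nat_lit 2468819)) (.leaf (nat_lit 3100946))) (.leaf (nat_lit 804484))))
    (.node (.node (.node (.leaf (nat_lit 2216039)) (.leaf (nat_lit 3413302))) (.leaf (nat_lit
    3175172))) (.node (.node (.leaf (nat_lit 3092957)) (.leaf (nat_lit 3282549))) (.leaf (nat_lit
    2692144)))))) (.node (.node (.node (.node (.node (.leaf (nat_lit 1836936)) (.leaf (nat_lit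
    2116230))) (.leaf (nat_lit 869057))) (.node (.node (.leaf (nat_lit 1640171)) (.leaf (nat_lit
    1287647))) (.leaf (nat_lit 977447)))) (.node (.node (.node (.leaf (nat_lit 3256507)) (.leaf
    (nat_lit 1815191))) (.leaf (nat_lit 2985655))) (.node (.node (.leaf (nat_lit 2141622)) (.leaf
    (nat_lit 2626049))) (.leaf (nat_lit 3461833))))) (.node (.node (.node (.node (.leaf (nat_lit
    3182593)) (.leaf (nat_lit 3749137))) (.leaf (nat_lit 2503026))) (.node (.node (.leaf (nat_lit
    1533798)) (.leaf (nat_lit 3075913))) (.leaf (nat_lit 2050099)))) (.node (.node (.node (.leaf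
    (nat_lit 3577066)) (.leaf (nat_lit 49337))) (.leaf (nat_lit 3364708))) (.node (.leaf (nat_lit
    2094605)) (.leaf (nat_lit 65638))))))) (.node (.node (.node (.node (.node (.node (.leaf
    (nat_lit 942841)) (.leaf (nat_lit 1049920))) (.leaf (nat_lit 598467))) (.node (.node (.leaf
    (nat_lit 1270980)) (.leaf (nat_lit 1024849))) (.leaf (nat_lit 1065921)))) (.node (.node (.node
    (.leaf (nat_lit 2739497)) (.leaf (nat_lit 1101483))) (.leaf (nat_lit 1543406))) (.node (.node
    (.leaf (nat_lit 2961043)) (.leaf (nat_lit 3601401))) (.leaf (nat_lit 1109472))))) (.node (.node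
    (.node (.node (.leaf (nat_lit 3371504)) (.leaf (nat_lit 1411028))) (.leaf (nat_lit 1288782)))
    (.node (.node (.leaf (nat_lit 3445377)) (.leaf (nat_lit 657465))) (.leaf (nat_lit 3658836))))
    (.node (.node (.node (.leaf (nat_lit 1741528)) (.leaf (nat_lit 3299208))) (.leaf (nat_lit
    1873153))) (.node (.leaf (nat_lit 3626029)) (.leaf (nat_lit 3593790)))))) (.node (.node (.node
    (.node (.node (.leaf (nat_lit 2419554)) (.leaf (nat_lit 1009196))) (.leaf (nat_lit 394232)))
    (.node (.node (.leaf (nat_lit 1262777)) (.leaf (nat_lit 1549977))) (.leaf (nat_lit 1697567))))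
    (.node (.node (.node (.leaf (nat_lit 3067959)) (.leaf (nat_lit 2994987))) (.leaf (nat_lit
    1405066))) (.node (.node (.leaf (nat_lit 3346906)) (.leaf (nat_lit 2667594))) (.leaf (nat_lit
    3699881))))) (.node (.node (.node (.node (.leaf (nat_lit 3773752)) (.leaf (nat_lit 2460153)))
    (.leaf (nat_lit 1026688))) (.node (.node (.leaf (nat_lit 641061)) (.leaf (nat_lit 887931)))
    (.leaf (nat_lit 2501615)))) (.node (.node (.node (.leaf (nat_lit 3684162)) (.leaf (nat_lit
    1590968))) (.leaf (nat_lit 213165))) (.node (.leaf (nat_lit 81981)) (.leaf (nat_lit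
    1246336)))))))) (.node (.node (.node (.node (.node (.node (.node (.leaf (nat_lit 688658))
    (.leaf (nat_lit 2271504))) (.leaf (nat_lit 1525378))) (.node (.node (.leaf (nat_lit 173081))
    (.leaf (nat_lit 2583670))) (.leaf (nat_lit 610585)))) (.node (.node (.node (.leaf (nat_lit
    1567653)) (.leaf (nat_lit 2575850))) (.leaf (nat_lit 2879317))) (.node (.node (.leaf (nat_lit
    788871)) (.leaf (nat_lit 2993857))) (.leaf (nat_lit 2256131))))) (.node (.node (.node (.node
    (.leaf (nat_lit 1451596)) (.leaf (nat_lit 3658845))) (.leaf (nat_lit 1599171))) (.node (.node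
    (.leaf (nat_lit 3379706)) (.leaf (nat_lit 616407))) (.leaf (nat_lit 517875)))) (.node (.node
    (.node (.leaf (nat_lit 3174847)) (.leaf (nat_lit 3405406))) (.leaf (nat_lit 2864150))) (.node
    (.node (.leaf (nat_lit 1733352)) (.leaf (nat_lit 2840473))) (.leaf (nat_lit 1897761))))))
    (.node (.node (.node (.node (.node (.leaf (nat_lit 2025963)) (.leaf (nat_lit 361659))) (.leaf
    (nat_lit 262945))) (.node (.node (.leaf (nat_lit 246438)) (.leaf (nat_lit 419375))) (.leaf
    (nat_lit 1705768)))) (.node (.node (.node (.leaf (nat_lit 1035686)) (.leaf (nat_lit 3675259)))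
    (.leaf (nat_lit 2707324))) (.node (.node (.leaf (nat_lit 2978034)) (.leaf (nat_lit 3568553)))
    (.leaf (nat_lit 4052930))))) (.node (.node (.node (.node (.leaf (nat_lit 1525588)) (.leaf
    (nat_lit 2550875))) (.leaf (nat_lit 2591873))) (.node (.node (.leaf (nat_lit 3355108)) (.leaf
    (nat_lit 1198907))) (.leaf (nat_lit 2034149)))) (.node (.node (.node (.leaf (nat_lit 3200516))
    (.leaf (nat_lit 1279450))) (.leaf (nat_lit 73790))) (.node (.leaf (nat_lit 2848601)) (.leaf
    (nat_lit 795253))))))) (.node (.node (.node (.node (.node (.node (.leaf (nat_lit 230822))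
    (.leaf (nat_lit 2772314))) (.leaf (nat_lit 1755809))) (.node (.node (.leaf (nat_lit 435000))
    (.leaf (nat_lit 1131526))) (.leaf (nat_lit 2550860)))) (.node (.node (.node (.leaf (nat_lit
    1608786)) (.leaf (nat_lit 1494937))) (.leaf (nat_lit 3839429))) (.node (.node (.leaf (nat_lit
    3634229)) (.leaf (nat_lit 3092657))) (.leaf (nat_lit 2240589))))) (.node (.node (.node (.node
    (.leaf (nat_lit 2796935)) (.leaf (nat_lit 2920020))) (.leaf (nat_lit 3157963))) (.node (.node
    (.leaf (nat_lit 706280)) (.leaf (nat_lit 3412559))) (.leaf (nat_lit 3519304)))) (.node (.node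
    (.node (.leaf (nat_lit 4020096)) (.leaf (nat_lit 16489))) (.leaf (nat_lit 2119203))) (.node
    (.leaf (nat_lit 1905914)) (.leaf (nat_lit 3356547)))))) (.node (.node (.node (.node (.node
    (.leaf (nat_lit 2189856)) (.leaf (nat_lit 2134144))) (.leaf (nat_lit 558499))) (.node (.node
    (.leaf (nat_lit 2214596)) (.leaf (nat_lit 1681165))) (.leaf (nat_lit 3199064)))) (.node (.node
    (.node (.leaf (nat_lit 2248524)) (.leaf (nat_lit 3954401))) (.leaf (nat_lit 3043817))) (.node
    (.node (.leaf (nat_lit 2920574)) (.leaf (nat_lit 4052951))) (.leaf (nat_lit 2306840))))) (.node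
    (.node (.node (.node (.leaf (nat_lit 2542662)) (.leaf (nat_lit 1600632))) (.leaf (nat_lit
    3297615))) (.node (.node (.leaf (nat_lit 2518035)) (.leaf (nat_lit 2641952))) (.leaf (nat_lit
    2124551)))) (.node (.node (.node (.leaf (nat_lit 262351)) (.leaf (nat_lit 1959908))) (.leaf
    (nat_lit 1221744))) (.node (.leaf (nat_lit 737858)) (.leaf (nat_lit 1582770))))))))) (.node
    (.node (.node (.node (.node (.node (.node (.node (.leaf (nat_lit 409891)) (.leaf (nat_lit
    713261))) (.leaf (nat_lit 1238143))) (.node (.node (.leaf (nat_lit 57549)) (.leaf (nat_lit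
    2468348))) (.leaf (nat_lit 147846)))) (.node (.node (.node (.leaf (nat_lit 977436)) (.leaf
    (nat_lit 2321771))) (.leaf (nat_lit 2427897))) (.node (.node (.leaf (nat_lit 1002302)) (.leaf
    (nat_lit 2051670))) (.leaf (nat_lit 928945))))) (.node (.node (.node (.node (.leaf (nat_lit
    3084118)) (.leaf (nat_lit 1738555))) (.leaf (nat_lit 1459797))) (.node (.node (.leaf (nat_lit
    3248295)) (.leaf (nat_lit 1828766))) (.leaf (nat_lit 3543926)))) (.node (.node (.node (.leaf
    (nat_lit 3880493)) (.leaf (nat_lit 3626431))) (.leaf (nat_lit 3429252))) (.node (.node (.leaf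
    (nat_lit 1405509)) (.leaf (nat_lit 3512062))) (.leaf (nat_lit 3536016)))))) (.node (.node
    (.node (.node (.node (.leaf (nat_lit 2017311)) (.leaf (nat_lit 1180760))) (.leaf (nat_lit
    731152))) (.node (.node (.leaf (nat_lit 2419074)) (.leaf (nat_lit 3346902))) (.leaf (nat_lit
    738240)))) (.node (.node (.node (.leaf (nat_lit 2329916)) (.leaf (nat_lit 3831223))) (.leaf
    (nat_lit 1388284))) (.node (.node (.leaf (nat_lit 1953817)) (.leaf (nat_lit 3183244))) (.leaf
    (nat_lit 2322401))))) (.node (.node (.node (.node (.leaf (nat_lit 1656608)) (.leaf (nat_lit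
    3026691))) (.leaf (nat_lit 3773763))) (.node (.node (.leaf (nat_lit 3363770)) (.leaf (nat_lit
    780657))) (.leaf (nat_lit 1468532)))) (.node (.node (.node (.leaf (nat_lit 3380588)) (.leaf
    (nat_lit 1074060))) (.leaf (nat_lit 16399))) (.node (.leaf (nat_lit 3659446)) (.leaf (nat_lit
    370121))))))) (.node (.node (.node (.node (.node (.node (.leaf (nat_lit 165238)) (.leaf
    (nat_lit 1468534))) (.leaf (nat_lit 180729))) (.node (.node (.leaf (nat_lit 156022)) (.leaf
    (nat_lit 295825))) (.leaf (nat_lit 1525381)))) (.node (.node (.node (.leaf (nat_lit 2460184))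
    (.leaf (nat_lit 1158921))) (.leaf (nat_lit 3486467))) (.node (.node (.leaf (nat_lit 2002076))
    (.leaf (nat_lit 3814813))) (.leaf (nat_lit 1306179))))) (.node (.node (.node (.node (.leaf
    (nat_lit 3461824)) (.leaf (nat_lit 3190802))) (.leaf (nat_lit 3092347))) (.node (.node (.leaf
    (nat_lit 1607370)) (.leaf (nat_lit 1534580))) (.leaf (nat_lit 1856045)))) (.node (.node (.node
    (.leaf (nat_lit 1594205)) (.leaf (nat_lit 23))) (.leaf (nat_lit 2381211))) (.node (.leaf
    (nat_lit 3421304)) (.leaf (nat_lit 3299028)))))) (.node (.node (.node (.node (.node (.leaf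
    (nat_lit 509321)) (.leaf (nat_lit 1443422))) (.leaf (nat_lit 1197131))) (.node (.node (.leaf
    (nat_lit 460098)) (.leaf (nat_lit 2608292))) (.leaf (nat_lit 3051306)))) (.node (.node (.node
    (.leaf (nat_lit 3749131)) (.leaf (nat_lit 2700221))) (.leaf (nat_lit 3543924))) (.node (.node
    (.leaf (nat_lit 3035388)) (.leaf (nat_lit 1840315))) (.leaf (nat_lit 1413738))))) (.node (.node
    (.node (.node (.leaf (nat_lit 1550952)) (.leaf (nat_lit 3108763))) (.leaf (nat_lit 3896908)))
    (.node (.node (.leaf (nat_lit 3872271)) (.leaf (nat_lit 2649284))) (.leaf (nat_lit 2977455))))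
    (.node (.node (.node (.leaf (nat_lit 2)) (.leaf (nat_lit 131469))) (.leaf (nat_lit 65747)))
    (.node (.leaf (nat_lit 139396)) (.leaf (nat_lit 615217)))))))) (.node (.node (.node (.node
    (.node (.node (.node (.leaf (nat_lit 852651)) (.leaf (nat_lit 1018419))) (.leaf (nat_lit
    1689362))) (.node (.node (.leaf (nat_lit 501140)) (.leaf (nat_lit 846135))) (.leaf (nat_lit
    2067013)))) (.node (.node (.node (.leaf (nat_lit 3888701)) (.leaf (nat_lit 1642056))) (.leaf
    (nat_lit 3814801))) (.node (.node (.leaf (nat_lit 1248228)) (.leaf (nat_lit 3059507))) (.leaf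
    (nat_lit 3855851))))) (.node (.node (.node (.node (.leaf (nat_lit 2895410)) (.leaf (nat_lit
    3609614))) (.leaf (nat_lit 3346899))) (.node (.node (.leaf (nat_lit 3470034)) (.leaf (nat_lit
    632827))) (.leaf (nat_lit 2427749)))) (.node (.node (.node (.leaf (nat_lit 3716295)) (.leaf
    (nat_lit 3438310))) (.leaf (nat_lit 2077831))) (.node (.leaf (nat_lit 1684334)) (.leaf (nat_lit
    2987426)))))) (.node (.node (.node (.node (.node (.leaf (nat_lit 1164323)) (.leaf (nat_lit
    3330478))) (.leaf (nat_lit 1065867))) (.node (.node (.leaf (nat_lit 352996)) (.leaf (nat_lit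
    435809))) (.leaf (nat_lit 1188940)))) (.node (.node (.node (.leaf (nat_lit 2945082)) (.leaf
    (nat_lit 2609787))) (.leaf (nat_lit 3626025))) (.node (.node (.leaf (nat_lit 1552117)) (.leaf
    (nat_lit 2118598))) (.leaf (nat_lit 3954389))))) (.node (.node (.node (.node (.leaf (nat_lit
    3273007)) (.leaf (nat_lit 3100557))) (.leaf (nat_lit 2181728))) (.node (.node (.leaf (nat_lit
    1649233)) (.leaf (nat_lit 3946175))) (.leaf (nat_lit 2246917)))) (.node (.node (.node (.leaf
    (nat_lit 3233442)) (.leaf (nat_lit 1435200))) (.leaf (nat_lit 541063))) (.node (.leaf (nat_lit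
    40998)) (.leaf (nat_lit 90326))))))) (.node (.node (.node (.node (.node (.node (.leaf (nat_lit
    1262904)) (.leaf (nat_lit 320398))) (.leaf (nat_lit 2361697))) (.node (.node (.leaf (nat_lit
    1057754)) (.leaf (nat_lit 336987))) (.leaf (nat_lit 936633)))) (.node (.node (.node (.leaf
    (nat_lit 2624667)) (.leaf (nat_lit 3494686))) (.leaf (nat_lit 1076782))) (.node (.node (.leaf
    (nat_lit 3568555)) (.leaf (nat_lit 1618285))) (.leaf (nat_lit 2076954))))) (.node (.node (.node
    (.node (.leaf (nat_lit 2296685)) (.leaf (nat_lit 1960588))) (.leaf (nat_lit 3716286))) (.node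
    (.node (.leaf (nat_lit 3018482)) (.leaf (nat_lit 739595))) (.leaf (nat_lit 2279703)))) (.node
    (.node (.node (.leaf (nat_lit 1823848)) (.leaf (nat_lit 147602))) (.leaf (nat_lit 2569922)))
    (.node (.leaf (nat_lit 3192196)) (.leaf (nat_lit 98413)))))) (.node (.node (.node (.node (.node
    (.leaf (nat_lit 2788723)) (.leaf (nat_lit 3593186))) (.leaf (nat_lit 378357))) (.node (.node
    (.leaf (nat_lit 3108755)) (.leaf (nat_lit 920220))) (.leaf (nat_lit 550486)))) (.node (.node
    (.node (.leaf (nat_lit 3905131)) (.leaf (nat_lit 3634347))) (.leaf (nat_lit 3289686))) (.node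
    (.node (.leaf (nat_lit 1798800)) (.leaf (nat_lit 3364307))) (.leaf (nat_lit 2757537))))) (.node
    (.node (.node (.node (.leaf (nat_lit 895054)) (.leaf (nat_lit 928957))) (.leaf (nat_lit
    3601407))) (.node (.node (.leaf (nat_lit 1468875)) (.leaf (nat_lit 3995448))) (.leaf (nat_lit
    2477059)))) (.node (.node (.node (.leaf (nat_lit 24701)) (.leaf (nat_lit 1583823))) (.leaf
    (nat_lit 1270975))) (.node (.leaf (nat_lit 819859)) (.leaf (nat_lit 1730359)))))))))))))

/-- Certificate data. -/
def t12_C : TC.Cert := ⟨10, 1023, 13, 8191, 3108186227687588371888144896, 254, t12_par, t12_fact, t12_just, t12_rel, 195⟩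

/-- Certificate data. -/
def t12_rs : List (List ℕ) := [[5, 5, 5], [1, 1, 1, 1], [3, 3, 2, 2], [5, 1, 1, 6, 2, 2], [6, 1, 5, 5, 2, 6, 2], [6, 3, 5, 5, 4, 6, 4], [1, 3, 2, 4], [1, 5, 3, 6, 2, 5, 4, 6], [5, 1, 6, 3, 5, 2, 6, 4], [7, 5, 7, 5], [7, 7], [7, 1, 7, 1], [7, 3, 7, 3], [8, 8, 8], [8, 1, 9, 5, 4, 2, 6, 7], [8, 7, 9, 5, 4, 2, 6], [8, 5, 1, 3, 6, 9, 7, 2], [5, 1, 6, 8, 5, 2, 6, 8, 2, 2], [10, 10, 10], [1, 1, 10, 2, 2, 10], [8, 10, 8, 10], [10, 3, 5, 1, 3, 6, 11, 5, 4, 2, 6, 4], [10, 5, 3, 6, 1, 11, 2, 5, 4, 6], [6, 10, 5, 11]]

/-- Certificate data. -/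
def t12_gl : List ℕ := [1, 126723, 253445, 380167, 506888, 633610]

theorem t12_h1_0 : allR t12_C.factChk 0 696 = true := by decide +kernel

theorem t12_h1_1 : allR t12_C.factChk 696 689 = true := by decide +kernel

theorem t12_h1_2 : allR t12_C.factChk 1385 541 = true := by decide +kernel

theorem t12_h1_3 : allR t12_C.factChk 1926 498 = true := by decide +kernel

theorem t12_h1_4 : allR t12_C.factChk 2424 527 = true := by decide +kernel

theorem t12_h1_5 : allR t12_C.factChk 2951 101 = true := by decide +kernel

theorem t12_h1 : allB t12_C.factChk 3052 = true :=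
  allB_of_allR (a := 3052)
    (allR_append (allR_append (allR_append (allR_append (allR_append (t12_h1_0) t12_h1_1) t12_h1_2)
    t12_h1_3) t12_h1_4) t12_h1_5)

theorem t12_h2 : t12_C.finChk 3052 495 t12_lv t12_tb t12_gl = true := by decide +kernel

theorem t12_h3 : TC.relChk t12_C.ivc t12_rs t12_C.rel t12_rc t12_C.nrel = true := by decide +kernel

theorem t12_bound {G : Type*} [Group G] {a b x y r c : G}
    (r0 : x * x * x = 1)
    (r1 : a * a * a * a = 1)
    (r2 : b * b * a⁻¹ * a⁻¹ = 1)
    (r3 : x * a * a * x⁻¹ * a⁻¹ * a⁻¹ = 1)
    (r4 : x⁻¹ * a * x * x * a⁻¹ * x⁻¹ * a⁻¹ = 1)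
    (r5 : x⁻¹ * b * x * x * b⁻¹ * x⁻¹ * b⁻¹ = 1)
    (r6 : a * b * a⁻¹ * b⁻¹ = 1)
    (r7 : a * x * b * x⁻¹ * a⁻¹ * x * b⁻¹ * x⁻¹ = 1)
    (r8 : x * a * x⁻¹ * b * x * a⁻¹ * x⁻¹ * b⁻¹ = 1)
    (r9 : y * x * y * x = 1)
    (r10 : y * y = 1)
    (r11 : y * a * y * a = 1)
    (r12 : y * b * y * b = 1)
    (r13 : r * r * r = 1)
    (r14 : r * a * r⁻¹ * x * b⁻¹ * a⁻¹ * x⁻¹ * y = 1)
    (r15 : r * y * r⁻¹ * x * b⁻¹ * a⁻¹ * x⁻¹ = 1)
    (r16 : r * x * a * b * x⁻¹ * r⁻¹ * y * a⁻¹ = 1)
    (r17 : x * a * x⁻¹ * r * x * a⁻¹ * x⁻¹ * r * a⁻¹ * a⁻¹ = 1)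
    (r18 : c * c * c = 1)
    (r19 : a * a * c * a⁻¹ * a⁻¹ * c = 1)
    (r20 : r * c * r * c = 1)
    (r21 : c * b * x * a * b * x⁻¹ * c⁻¹ * x * b⁻¹ * a⁻¹ * x⁻¹ * b⁻¹ = 1)
    (r22 : c * x * b * x⁻¹ * a * c⁻¹ * a⁻¹ * x * b⁻¹ * x⁻¹ = 1)
    (r23 : x⁻¹ * c * x * c⁻¹ = 1)
    (H : Subgroup G) [Finite H] (m1 : a ∈ H) (m3 : b ∈ H) (m5 : x ∈ H) (m7 : y ∈ H) :
    Finite (Subgroup.closure ({a, b, x, y, r, c} : Set G)) ∧
      Nat.card (Subgroup.closure ({a, b, x, y, r, c} : Set G)) ≤ 495 * Nat.card H := by
  have hL : TC.Lett (TC.lett [a, a⁻¹, b, b⁻¹, x, x⁻¹, y, r, r⁻¹, c, c⁻¹]) t12_C.ivc :=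
    TC.lett_ok (show Nat.shiftRight t12_C.ivc (8 * 12) = 0 by decide +kernel) (by
      intro a ha
      change a < 12 at ha
      interval_cases a
      · exact inv_one.symm
      · rfl
      · exact (inv_inv _).symm
      · rfl
      · exact (inv_inv _).symm
      · rfl
      · exact (inv_inv _).symm
      · exact (inv_eq_of_mul_eq_one_right r10).symm
      · rfl
      · exact (inv_inv _).symm
      · rfl
      · exact (inv_inv _).symm)
  have h := TC.card_le t12_h1 t12_h2 t12_h3 (by decide) hL (by
    simp only [t12_rs, List.forall_mem_cons]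
    refine ⟨?_, ?_, ?_, ?_, ?_, ?_, ?_, ?_, ?_, ?_, ?_, ?_, ?_, ?_, ?_, ?_, ?_, ?_, ?_, ?_, ?_, ?_,
    ?_, ?_, List.forall_mem_nil _⟩
    · show x * (x * (x * 1)) = 1
      simp only [mul_assoc, mul_one] at r0 ⊢
      exact r0
    · show a * (a * (a * (a * 1))) = 1
      simp only [mul_assoc, mul_one] at r1 ⊢
      exact r1
    · show b * (b * (a⁻¹ * (a⁻¹ * 1))) = 1
      simp only [mul_assoc, mul_one] at r2 ⊢
      exact r2
    · show x * (a * (a * (x⁻¹ * (a⁻¹ * (a⁻¹ * 1))))) = 1
      simp only [mul_assoc, mul_one] at r3 ⊢
      exact r3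
    · show x⁻¹ * (a * (x * (x * (a⁻¹ * (x⁻¹ * (a⁻¹ * 1)))))) = 1
      simp only [mul_assoc, mul_one] at r4 ⊢
      exact r4
    · show x⁻¹ * (b * (x * (x * (b⁻¹ * (x⁻¹ * (b⁻¹ * 1)))))) = 1
      simp only [mul_assoc, mul_one] at r5 ⊢
      exact r5
    · show a * (b * (a⁻¹ * (b⁻¹ * 1))) = 1
      simp only [mul_assoc, mul_one] at r6 ⊢
      exact r6
    · show a * (x * (b * (x⁻¹ * (a⁻¹ * (x * (b⁻¹ * (x⁻¹ * 1))))))) = 1
      simp only [mul_assoc, mul_one] at r7 ⊢
      exact r7
    · show x * (a * (x⁻¹ * (b * (x * (a⁻¹ * (x⁻¹ * (b⁻¹ * 1))))))) = 1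
      simp only [mul_assoc, mul_one] at r8 ⊢
      exact r8
    · show y * (x * (y * (x * 1))) = 1
      simp only [mul_assoc, mul_one] at r9 ⊢
      exact r9
    · show y * (y * 1) = 1
      simp only [mul_one] at r10 ⊢
      exact r10
    · show y * (a * (y * (a * 1))) = 1
      simp only [mul_assoc, mul_one] at r11 ⊢
      exact r11
    · show y * (b * (y * (b * 1))) = 1
      simp only [mul_assoc, mul_one] at r12 ⊢
      exact r12
    · show r * (r * (r * 1)) = 1
      simp only [mul_assoc, mul_one] at r13 ⊢
      exact r13
    · show r * (a * (r⁻¹ * (x * (b⁻¹ * (a⁻¹ * (x⁻¹ * (y * 1))))))) = 1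
      simp only [mul_assoc, mul_one] at r14 ⊢
      exact r14
    · show r * (y * (r⁻¹ * (x * (b⁻¹ * (a⁻¹ * (x⁻¹ * 1)))))) = 1
      simp only [mul_assoc, mul_one] at r15 ⊢
      exact r15
    · show r * (x * (a * (b * (x⁻¹ * (r⁻¹ * (y * (a⁻¹ * 1))))))) = 1
      simp only [mul_assoc, mul_one] at r16 ⊢
      exact r16
    · show x * (a * (x⁻¹ * (r * (x * (a⁻¹ * (x⁻¹ * (r * (a⁻¹ * (a⁻¹ * 1))))))))) = 1
      simp only [mul_assoc, mul_one] at r17 ⊢
      exact r17
    · show c * (c * (c * 1)) = 1
      simp only [mul_assoc, mul_one] at r18 ⊢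
      exact r18
    · show a * (a * (c * (a⁻¹ * (a⁻¹ * (c * 1))))) = 1
      simp only [mul_assoc, mul_one] at r19 ⊢
      exact r19
    · show r * (c * (r * (c * 1))) = 1
      simp only [mul_assoc, mul_one] at r20 ⊢
      exact r20
    · show c * (b * (x * (a * (b * (x⁻¹ * (c⁻¹ * (x * (b⁻¹ * (a⁻¹ * (x⁻¹ * (b⁻¹ * 1))))))))))) = 1
      simp only [mul_assoc, mul_one] at r21 ⊢
      exact r21
    · show c * (x * (b * (x⁻¹ * (a * (c⁻¹ * (a⁻¹ * (x * (b⁻¹ * (x⁻¹ * 1))))))))) = 1
      simp only [mul_assoc, mul_one] at r22 ⊢
      exact r22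
    · show x⁻¹ * (c * (x * (c⁻¹ * 1))) = 1
      simp only [mul_assoc, mul_one] at r23 ⊢
      exact r23) H
    (TC.forall_subs (K := 12) (by decide +kernel) (by
      intro a ha hb
      interval_cases a
      · exact absurd hb (by decide +kernel)
      · exact m1
      · exact H.inv_mem m1
      · exact m3
      · exact H.inv_mem m3
      · exact m5
      · exact H.inv_mem m5
      · exact m7
      · exact absurd hb (by decide +kernel)
      · exact absurd hb (by decide +kernel)
      · exact absurd hb (by decide +kernel)
      · exact absurd hb (by decide +kernel)))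
  have e : {g₀ | ∃ ak ∈ t12_gl, TC.lett [a, a⁻¹, b, b⁻¹, x, x⁻¹, y, r, r⁻¹, c, c⁻¹] (ak % 256) = g₀} =
      {a, b, x, y, r, c} := by
    ext g₀
    simp only [t12_gl, List.mem_cons, List.not_mem_nil, or_false, exists_eq_or_imp,
      exists_eq_left, Set.mem_ofPred_eq, Set.mem_insert_iff, Set.mem_singleton_iff]
    exact or_congr eq_comm (or_congr eq_comm (or_congr eq_comm (or_congr eq_comm (or_congr eq_comm (eq_comm)))))
  rw [e] at h
  exact h

theorem t12_card {G : Type*} [Group G] {a b x y r c : G}
    (e0 : x ^ 3 = 1)
    (e1 : a ^ 4 = 1)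
    (e2 : b ^ 2 = a ^ 2)
    (e3 : x * a ^ 2 = a ^ 2 * x)
    (e4 : x⁻¹ * a * x = a * (x * a * x⁻¹))
    (e5 : x⁻¹ * b * x = b * (x * b * x⁻¹))
    (e6 : a * b = b * a)
    (e7 : a * (x * b * x⁻¹) = x * b * x⁻¹ * a)
    (e8 : x * a * x⁻¹ * b = b * (x * a * x⁻¹))
    (e9 : y * x * y⁻¹ = x⁻¹)
    (e10 : y * y = 1)
    (e11 : y * a * y⁻¹ = a⁻¹)
    (e12 : y * b * y⁻¹ = b⁻¹)
    (e13 : r ^ 3 = 1)
    (e14 : r * a * r⁻¹ = y * ((x * a * x⁻¹) * (x * b * x⁻¹)))
    (e15 : r * y * r⁻¹ = ((x * a * x⁻¹) * (x * b * x⁻¹)))
    (e16 : r * ((x * a * x⁻¹) * (x * b * x⁻¹)) * r⁻¹ = a * y)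
    (e17 : (x * a * x⁻¹) * r * (x * a * x⁻¹)⁻¹ * r = a ^ 2)
    (e18 : c * c * c = 1)
    (e19 : a ^ 2 * c * (a ^ 2)⁻¹ = c⁻¹)
    (e20 : r * c * (r * c) = 1)
    (e21 : c * (b * ((x * a * x⁻¹) * (x * b * x⁻¹))) = (b * ((x * a * x⁻¹) * (x * b * x⁻¹))) * c)
    (e22 : c * ((x * b * x⁻¹) * a) = ((x * b * x⁻¹) * a) * c)
    (e23 : x⁻¹ * c * x = c)
    (H : Subgroup G) [Finite H] (ma : a ∈ H) (mb : b ∈ H) (mx : x ∈ H) (my : y ∈ H) :
    Finite (Subgroup.closure ({a, b, x, y, r, c} : Set G)) ∧
      Nat.card (Subgroup.closure ({a, b, x, y, r, c} : Set G)) ≤ 495 * Nat.card H := by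
  have iy : y⁻¹ = y := inv_eq_of_mul_eq_one_right e10
  refine t12_bound ?_ ?_ ?_ ?_ ?_ ?_ ?_ ?_ ?_ ?_ ?_ ?_ ?_ ?_ ?_ ?_ ?_ ?_ ?_ ?_ ?_ ?_ ?_ ?_ H ma mb mx my
  · have h := mul_inv_eq_one.mpr e0
    simp only [pow_succ, pow_zero, mul_inv_rev, inv_inv, inv_one, one_mul, mul_one, mul_assoc,
      mul_inv_cancel_left, inv_mul_cancel_left, mul_inv_cancel, inv_mul_cancel, iy] at h ⊢
    exact h
  · have h := mul_inv_eq_one.mpr e1
    simp only [pow_succ, pow_zero, mul_inv_rev, inv_inv, inv_one, one_mul, mul_one, mul_assoc,
      mul_inv_cancel_left, inv_mul_cancel_left, mul_inv_cancel, inv_mul_cancel, iy] at h ⊢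
    exact h
  · have h := mul_inv_eq_one.mpr e2
    simp only [pow_succ, pow_zero, mul_inv_rev, inv_inv, inv_one, one_mul, mul_one, mul_assoc,
      mul_inv_cancel_left, inv_mul_cancel_left, mul_inv_cancel, inv_mul_cancel, iy] at h ⊢
    exact h
  · have h := mul_inv_eq_one.mpr e3
    simp only [pow_succ, pow_zero, mul_inv_rev, inv_inv, inv_one, one_mul, mul_one, mul_assoc,
      mul_inv_cancel_left, inv_mul_cancel_left, mul_inv_cancel, inv_mul_cancel, iy] at h ⊢
    exact h
  · have h := mul_inv_eq_one.mpr e4
    simp only [pow_succ, pow_zero, mul_inv_rev, inv_inv, inv_one, one_mul, mul_one, mul_assoc,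
      mul_inv_cancel_left, inv_mul_cancel_left, mul_inv_cancel, inv_mul_cancel, iy] at h ⊢
    exact h
  · have h := mul_inv_eq_one.mpr e5
    simp only [pow_succ, pow_zero, mul_inv_rev, inv_inv, inv_one, one_mul, mul_one, mul_assoc,
      mul_inv_cancel_left, inv_mul_cancel_left, mul_inv_cancel, inv_mul_cancel, iy] at h ⊢
    exact h
  · have h := mul_inv_eq_one.mpr e6
    simp only [pow_succ, pow_zero, mul_inv_rev, inv_inv, inv_one, one_mul, mul_one, mul_assoc,
      mul_inv_cancel_left, inv_mul_cancel_left, mul_inv_cancel, inv_mul_cancel, iy] at h ⊢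
    exact h
  · have h := mul_inv_eq_one.mpr e7
    simp only [pow_succ, pow_zero, mul_inv_rev, inv_inv, inv_one, one_mul, mul_one, mul_assoc,
      mul_inv_cancel_left, inv_mul_cancel_left, mul_inv_cancel, inv_mul_cancel, iy] at h ⊢
    exact h
  · have h := mul_inv_eq_one.mpr e8
    simp only [pow_succ, pow_zero, mul_inv_rev, inv_inv, inv_one, one_mul, mul_one, mul_assoc,
      mul_inv_cancel_left, inv_mul_cancel_left, mul_inv_cancel, inv_mul_cancel, iy] at h ⊢
    exact h
  · have h := mul_inv_eq_one.mpr e9
    simp only [pow_succ, pow_zero, mul_inv_rev, inv_inv, inv_one, one_mul, mul_one, mul_assoc,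
      mul_inv_cancel_left, inv_mul_cancel_left, mul_inv_cancel, inv_mul_cancel, iy] at h ⊢
    exact h
  · have h := mul_inv_eq_one.mpr e10
    simp only [pow_succ, pow_zero, mul_inv_rev, inv_inv, inv_one, one_mul, mul_one, mul_assoc,
      mul_inv_cancel_left, inv_mul_cancel_left, mul_inv_cancel, inv_mul_cancel, iy] at h ⊢
    exact h
  · have h := mul_inv_eq_one.mpr e11
    simp only [pow_succ, pow_zero, mul_inv_rev, inv_inv, inv_one, one_mul, mul_one, mul_assoc,
      mul_inv_cancel_left, inv_mul_cancel_left, mul_inv_cancel, inv_mul_cancel, iy] at h ⊢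
    exact h
  · have h := mul_inv_eq_one.mpr e12
    simp only [pow_succ, pow_zero, mul_inv_rev, inv_inv, inv_one, one_mul, mul_one, mul_assoc,
      mul_inv_cancel_left, inv_mul_cancel_left, mul_inv_cancel, inv_mul_cancel, iy] at h ⊢
    exact h
  · have h := mul_inv_eq_one.mpr e13
    simp only [pow_succ, pow_zero, mul_inv_rev, inv_inv, inv_one, one_mul, mul_one, mul_assoc,
      mul_inv_cancel_left, inv_mul_cancel_left, mul_inv_cancel, inv_mul_cancel, iy] at h ⊢
    exact h
  · have h := mul_inv_eq_one.mpr e14
    simp only [pow_succ, pow_zero, mul_inv_rev, inv_inv, inv_one, one_mul, mul_one, mul_assoc,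
      mul_inv_cancel_left, inv_mul_cancel_left, mul_inv_cancel, inv_mul_cancel, iy] at h ⊢
    exact h
  · have h := mul_inv_eq_one.mpr e15
    simp only [pow_succ, pow_zero, mul_inv_rev, inv_inv, inv_one, one_mul, mul_one, mul_assoc,
      mul_inv_cancel_left, inv_mul_cancel_left, mul_inv_cancel, inv_mul_cancel, iy] at h ⊢
    exact h
  · have h := mul_inv_eq_one.mpr e16
    simp only [pow_succ, pow_zero, mul_inv_rev, inv_inv, inv_one, one_mul, mul_one, mul_assoc,
      mul_inv_cancel_left, inv_mul_cancel_left, mul_inv_cancel, inv_mul_cancel, iy] at h ⊢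
    exact h
  · have h := mul_inv_eq_one.mpr e17
    simp only [pow_succ, pow_zero, mul_inv_rev, inv_inv, inv_one, one_mul, mul_one, mul_assoc,
      mul_inv_cancel_left, inv_mul_cancel_left, mul_inv_cancel, inv_mul_cancel, iy] at h ⊢
    exact h
  · have h := mul_inv_eq_one.mpr e18
    simp only [pow_succ, pow_zero, mul_inv_rev, inv_inv, inv_one, one_mul, mul_one, mul_assoc,
      mul_inv_cancel_left, inv_mul_cancel_left, mul_inv_cancel, inv_mul_cancel, iy] at h ⊢
    exact h
  · have h := mul_inv_eq_one.mpr e19
    simp only [pow_succ, pow_zero, mul_inv_rev, inv_inv, inv_one, one_mul, mul_one, mul_assoc,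
      mul_inv_cancel_left, inv_mul_cancel_left, mul_inv_cancel, inv_mul_cancel, iy] at h ⊢
    exact h
  · have h := mul_inv_eq_one.mpr e20
    simp only [pow_succ, pow_zero, mul_inv_rev, inv_inv, inv_one, one_mul, mul_one, mul_assoc,
      mul_inv_cancel_left, inv_mul_cancel_left, mul_inv_cancel, inv_mul_cancel, iy] at h ⊢
    exact h
  · have h := mul_inv_eq_one.mpr e21
    simp only [pow_succ, pow_zero, mul_inv_rev, inv_inv, inv_one, one_mul, mul_one, mul_assoc,
      mul_inv_cancel_left, inv_mul_cancel_left, mul_inv_cancel, inv_mul_cancel, iy] at h ⊢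
    exact h
  · have h := mul_inv_eq_one.mpr e22
    simp only [pow_succ, pow_zero, mul_inv_rev, inv_inv, inv_one, one_mul, mul_one, mul_assoc,
      mul_inv_cancel_left, inv_mul_cancel_left, mul_inv_cancel, inv_mul_cancel, iy] at h ⊢
    exact h
  · have h := mul_inv_eq_one.mpr e23
    simp only [pow_succ, pow_zero, mul_inv_rev, inv_inv, inv_one, one_mul, mul_one, mul_assoc,
      mul_inv_cancel_left, inv_mul_cancel_left, mul_inv_cancel, inv_mul_cancel, iy] at h ⊢
    exact h

end Cfsg.Agent.H7.Asch
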