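import Cfsg.Agent.H7.Asch.Step
import Cfsg.Agent.H7.Asch.Pres3
import Cfsg.Agent.H7.TwoMod4
import Cfsg.Agent.H4.Golay

/-!
# The Mathieu group of degree twelve
-/

set_option autoImplicit false
set_option maxRecDepth 100000

namespace Cfsg.Agent.H7.Asch

open Subgroup H5 Equiv L0.Code H4.Golay

/-- A generator. -/
def Zgs : E MM12 := ⟨171139535290896, gs, subset_closure (by simp), by decide +kernel⟩

/-- A generator. -/
def Zgt : E MM12 := ⟨92615224025616, gt, subset_closure (by simp), by decide +kernel⟩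

/-- A generator. -/
def Zgu : E MM12 := ⟨183942805598736, gu, subset_closure (by simp), by decide +kernel⟩

/-- A generator. -/
def Zgv : E MM12 := ⟨80841396400656, gv, subset_closure (by simp), by decide +kernel⟩

/-- A generator. -/
def Zgw : E MM12 := ⟨164327252963856, gw, subset_closure (by simp), by decide +kernel⟩

/-- A generator. -/
def Zgx1 : E MM12 := ⟨167926364897811, gx1, subset_closure (by simp), by decide +kernel⟩

/-- A generator. -/
def Zgx2 : E MM12 := ⟨148896472117761, gx2, subset_closure (by simp), by decide +kernel⟩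

/-- A generator. -/
def Zgx3 : E MM12 := ⟨114875801284896, gx3, subset_closure (by simp), by decide +kernel⟩

/-- The generators. -/
def Zgens : List (E MM12) := [Zgs, Zgt, Zgu, Zgv, Zgw, Zgx1, Zgx2, Zgx3]

/-- An element. -/
noncomputable def Za : E MM12 :=
  E.lit (ev Zgens [3]) 80841396400656 (by decide +kernel)

/-- An element. -/
noncomputable def Zb : E MM12 :=
  E.lit (ev Zgens [6, 7, 4, 5, 6]) 98433310068786 (by decide +kernel)

/-- An element. -/
noncomputable def Zx : E MM12 :=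
  E.lit (ev Zgens [6, 5]) 118230153957891 (by decide +kernel)

/-- An element. -/
noncomputable def Zy : E MM12 :=
  E.lit (ev Zgens [5, 6, 5]) 133756964049456 (by decide +kernel)

/-- An element. -/
noncomputable def Zr : E MM12 :=
  E.lit (ev Zgens [2, 1, 5, 1, 6, 7, 5, 2, 6, 1, 5, 1]) 179364286608756 (by decide +kernel)

/-- An element. -/
noncomputable def Zc : E MM12 :=
  E.lit (ev Zgens [5, 0, 5, 6, 1, 5, 1, 7, 6, 5, 0]) 131954702132406 (by decide +kernel)

theorem mem_of_cd {n : ℕ} (hn : n ≤ 16) {K : Subgroup (Perm (Fin n))} {p : Perm (Fin n)} (e : E K)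
    (h : enc p = e.c) : p ∈ K := by
  obtain ⟨q, hq, e'⟩ := e.h
  rwa [enc_injective hn (h.trans e'.symm)]

theorem MK_le : MK ≤ MM12 := by
  rw [MK, closure_le]
  rintro _ (rfl | rfl | rfl | rfl)
  exacts [mem_of_cd (by decide) Za Menc_a, mem_of_cd (by decide) Zb Menc_b,
    mem_of_cd (by decide) Zx Menc_x, mem_of_cd (by decide) Zy Menc_y]

/-- The inclusion of the centralizer. -/
noncomputable def im : E MK →* E MM12 := E.incl MK_le

/-- An element. -/
noncomputable def Zh0 : E MM12 :=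
  E.lit (ev Zgens []) 205163983024656 (by decide +kernel)

/-- An element. -/
noncomputable def Zh1 : E MM12 :=
  E.lit (ev Zgens [2, 1, 5, 1, 6, 7, 5, 6, 0, 5, 1, 0, 0]) 107823336306036 (by decide +kernel)

/-- An element. -/
noncomputable def Zh2 : E MM12 :=
  E.lit (ev Zgens [2, 1, 7, 5, 6, 1, 7, 5, 1, 6, 0, 5, 1]) 11098792555851 (by decide +kernel)

/-- An element. -/
noncomputable def Zh3 : E MM12 :=
  E.lit (ev Zgens [4, 1, 5, 6, 2, 7, 1, 5, 6, 1, 5, 0]) 159993607244661 (by decide +kernel)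

/-- An element. -/
noncomputable def Zh4 : E MM12 :=
  E.lit (ev Zgens [7, 1, 5, 6, 1, 5, 1, 7, 6, 4, 5, 1, 7]) 53335349937591 (by decide +kernel)

/-- An element. -/
noncomputable def Zh5 : E MM12 :=
  E.lit (ev Zgens [1, 1, 5, 6, 0, 5, 1, 7, 6, 5, 3, 0]) 23863763175846 (by decide +kernel)

/-- An element. -/
noncomputable def Zh6 : E MM12 :=
  E.lit (ev Zgens [2, 1, 5, 6, 7, 2, 1, 5, 1, 6, 5, 1]) 114532017063351 (by decide +kernel)

/-- An element. -/
noncomputable def Zh7 : E MM12 :=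
  E.lit (ev Zgens [5, 6, 5, 3]) 81812038292016 (by decide +kernel)

/-- An element. -/
noncomputable def Zh8 : E MM12 :=
  E.lit (ev Zgens [6]) 148896472117761 (by decide +kernel)

/-- An element. -/
noncomputable def Zh9 : E MM12 :=
  E.lit (ev Zgens [5]) 167926364897811 (by decide +kernel)

/-- An element. -/
noncomputable def Zh10 : E MM12 :=
  E.lit (ev Zgens [6, 3]) 77761851568641 (by decide +kernel)

/-- An element. -/
noncomputable def Zh11 : E MM12 :=
  E.lit (ev Zgens [5, 6, 7, 4, 5, 6]) 100774032511746 (by decide +kernel)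

/-- An element. -/
noncomputable def Zh12 : E MM12 :=
  E.lit (ev Zgens [6, 1, 5, 6, 4, 7, 0, 5]) 183981552372006 (by decide +kernel)

/-- An element. -/
noncomputable def Zh13 : E MM12 :=
  E.lit (ev Zgens [6, 1, 5, 1, 6, 7, 0, 5, 2]) 58596635707686 (by decide +kernel)

/-- An element. -/
noncomputable def Zh14 : E MM12 :=
  E.lit (ev Zgens [6, 1, 7, 5, 6, 1, 4]) 25650543616146 (by decide +kernel)

/-- An element. -/
noncomputable def Zh15 : E MM12 :=
  E.lit (ev Zgens [7, 5, 6, 4, 1, 5, 1, 6, 0]) 123773547946371 (by decide +kernel)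

/-- An element. -/
noncomputable def Zh16 : E MM12 :=
  E.lit (ev Zgens [6, 1, 7, 5, 6, 2, 0]) 181743807324306 (by decide +kernel)

/-- An element. -/
noncomputable def Zh17 : E MM12 :=
  E.lit (ev Zgens [5, 1, 7, 6, 1, 5, 6, 1]) 203574209716611 (by decide +kernel)

/-- An element. -/
noncomputable def Zh18 : E MM12 :=
  E.lit (ev Zgens [4, 7, 0, 5, 6, 0, 5, 0, 4, 7]) 88591053568536 (by decide +kernel)

/-- An element. -/
noncomputable def Zh19 : E MM12 :=
  E.lit (ev Zgens [5, 6, 7, 6, 1, 5, 6, 3, 1, 7, 5]) 129782140049466 (by decide +kernel)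

/-- Conjugating elements. -/
noncomputable def ZH : List (E MM12) :=
    [Zh0, Zh1, Zh2, Zh3, Zh4, Zh5, Zh6, Zh7, Zh8, Zh9, Zh10, Zh11, Zh12, Zh13, Zh14, Zh15, Zh16,
    Zh17, Zh18, Zh19]

theorem Z_top : closure {m | m ∈ [im Ma, im Mb, im Mx, im My, Zr, Zc]} = ⊤ := by
  refine E.closure_eq_top ?_
  rintro _ (rfl | rfl | rfl | rfl | rfl | rfl | rfl | rfl)
  · exact ⟨ev [im Ma, im Mb, im Mx, im My, Zr, Zc] [5, 0, 5, 3, 5, 0, 4, 0, 0],
      ev_mem (fun _ h => subset_closure h) _, by decide +kernel⟩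
  · exact ⟨ev [im Ma, im Mb, im Mx, im My, Zr, Zc] [5, 4, 2, 3, 5, 4, 0, 0],
      ev_mem (fun _ h => subset_closure h) _, by decide +kernel⟩
  · exact ⟨ev [im Ma, im Mb, im Mx, im My, Zr, Zc] [0, 2, 2, 0, 2],
      ev_mem (fun _ h => subset_closure h) _, by decide +kernel⟩
  · exact ⟨ev [im Ma, im Mb, im Mx, im My, Zr, Zc] [0],
      ev_mem (fun _ h => subset_closure h) _, by decide +kernel⟩
  · exact ⟨ev [im Ma, im Mb, im Mx, im My, Zr, Zc] [2, 0, 2, 2, 0],
      ev_mem (fun _ h => subset_closure h) _, by decide +kernel⟩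
  · exact ⟨ev [im Ma, im Mb, im Mx, im My, Zr, Zc] [2, 3],
      ev_mem (fun _ h => subset_closure h) _, by decide +kernel⟩
  · exact ⟨ev [im Ma, im Mb, im Mx, im My, Zr, Zc] [3, 2],
      ev_mem (fun _ h => subset_closure h) _, by decide +kernel⟩
  · exact ⟨ev [im Ma, im Mb, im Mx, im My, Zr, Zc] [3, 2, 1, 0, 2],
      ev_mem (fun _ h => subset_closure h) _, by decide +kernel⟩

theorem Z_rel : PM (im Ma) (im Mb) (im Mx) (im My) Zr ∧ Zc * Zc * Zc = 1 ∧
    im Ma ^ 2 * Zc * (im Ma ^ 2)⁻¹ = Zc⁻¹ ∧ Zr * Zc * (Zr * Zc) = 1 ∧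
    Zc * (im Mb * (im Mx * im Ma * (im Mx)⁻¹ * (im Mx * im Mb * (im Mx)⁻¹))) =
      im Mb * (im Mx * im Ma * (im Mx)⁻¹ * (im Mx * im Mb * (im Mx)⁻¹)) * Zc ∧
    Zc * (im Mx * im Mb * (im Mx)⁻¹ * im Ma) = im Mx * im Mb * (im Mx)⁻¹ * im Ma * Zc ∧
    (im Mx)⁻¹ * Zc * im Mx = Zc := by
  decide +kernel

/-- A list of elements. -/
def MS : List (E MK) := E.sub Mlists
    [205163983024656, 80841396400656, 153208536773136, 98433310068786, 153139837018881,
    133756964049456, 132399770186256, 164327252963856, 202767441596466, 110456283472641,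
    81812038292016, 110731096240656, 111551502094386, 132605879264001, 113643031761456,
    163232038256931, 99403959840786, 111826310922531, 113574331031811, 97419634610736,
    182194784506416, 79827713077266, 181099570791201, 95285065495056, 183942805598736,
    77693151809586, 184011505345281, 200701578121776, 148758967423026, 80978797863681,
    148827673067811, 130333908676626, 188323669279011, 145915732631811, 170730950496816,
    204124633509906, 118023900365601, 188392374931506, 95147664024321, 145640924779056,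
    98570719396131, 147010952245266, 77555742474531, 200838984507651, 180824757055506,
    99610063995681, 117955195711506, 170799651234051, 146736138486561, 181919976661251,
    82018150326531, 166350081884961, 166418786562066, 203987229082401, 134796311597106,
    164602065724161, 163506847092786, 204957873939201, 134590204477731, 202973548708131,
    133619557671171, 79621608899361, 97213522583811, 130471313081121]
    (by decide +kernel)

theorem MS_mul : ∀ a ∈ MS, ∀ b ∈ MS, a * b ∈ MS := by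
  decide +kernel

theorem MS_one : (1 : E MK) ∈ MS := by
  decide +kernel

theorem MS_pow : Ms ∈ MS ∧ (∀ k ∈ MS, k ^ 8 = 1) ∧ MS.Nodup ∧ MS.length = 64 := by
  decide +kernel

theorem MS_Z : ∀ k ∈ MS, (∀ j ∈ MS, k * j = j * k) → k = Ms ∨ k = 1 := by
  decide +kernel

theorem MS_N : ∀ k ∈ ME, (∀ j ∈ MS, k * j * k⁻¹ ∈ MS) → k ∈ MS := by
  decide +kernel

theorem MS_cls : ∀ k ∈ MS, k * k = 1 → k = 1 ∨ ∃ h ∈ ZH, h * im k * h⁻¹ = im Ms ∨ h * im k * h⁻¹ = im Mt := by
  decide +kernel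

/-- Conjugate to `t` in the centralizer. -/
abbrev tl (k : E MK) : Prop := ∃ l ∈ ME, l * k * l⁻¹ = Mt

/-- A list of elements. -/
def MU : List (E MK) := E.sub Mlists
    [205163983024656, 132399770186256, 202767441596466, 134796311597106, 111826310922531,
    153208536773136, 110456283472641, 188392374931506, 163232038256931, 95147664024321,
    183942805598736, 77555742474531, 148758967423026, 164602065724161, 80978797863681,
    98570719396131]
    (by decide +kernel)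

theorem MU_mul : ∀ a ∈ MU, ∀ b ∈ MU, a * b ∈ MU := by
  decide +kernel

theorem MU_one : (1 : E MK) ∈ MU := by
  decide +kernel

theorem MU_pow : Ms ∈ MU ∧ (∀ k ∈ MU, k ^ 8 = 1) ∧ MU.Nodup ∧ MU.length = 16 := by
  decide +kernel

/-- A list of elements. -/
def MF : List (E MK) := E.sub Mlists
    [205163983024656, 132399770186256, 202767441596466, 77555742474531, 134796311597106,
    98570719396131, 80978797863681, 95147664024321]
    (by decide +kernel)

theorem MF_mul : ∀ a ∈ MF, ∀ b ∈ MF, a * b ∈ MF := by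
  decide +kernel

theorem MF_one : (1 : E MK) ∈ MF := by
  decide +kernel

theorem MF_pow : Ms ∈ MF ∧ (∀ k ∈ MF, k ^ 8 = 1) ∧ MF.Nodup ∧ MF.length = 8 := by
  decide +kernel

/-- The four-group of conjugates of `s`. -/
noncomputable def MV : List (E MK) := [1, Ms, Mu, Ms * Mu]

theorem MV_mul : ∀ a ∈ MV, ∀ b ∈ MV, a * b ∈ MV := by
  decide +kernel

theorem MV_one : (1 : E MK) ∈ MV := by
  decide +kernel

/-- The central involution. -/
noncomputable def MZ : List (E MK) := [1, Mt]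

theorem MZ_mul : ∀ a ∈ MZ, ∀ b ∈ MZ, a * b ∈ MZ := by
  decide +kernel

theorem MZ_one : (1 : E MK) ∈ MZ := by
  decide +kernel

theorem MU_iff : ∀ k ∈ ME, k ∈ MU ↔ k * Mt = Mt * k := by
  decide +kernel

theorem MU_Z : ∀ k ∈ MU, (∀ j ∈ MU, k * j = j * k) → k = Ms ∨ k = 1 ∨ tl k := by
  decide +kernel

theorem MU_cls : ∀ k ∈ MU, (∀ v ∈ MV, k * v * k⁻¹ ∈ MV) ∧
    (k * k = 1 → (k ∈ MV ∨ tl k) ∧ (k ∈ MF ∨ tl k ∧ tl (k * Mt))) := by
  decide +kernel

theorem MF_cls : ∀ k ∈ MF, k ∈ MU ∧ k * k = 1 ∧ (k ∈ MV ∨ k * Mt ∈ MV) ∧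
    (k ∈ MZ ∨ k * Ms ∈ MZ ∨ k * Mu ∈ MZ ∨ k * (Ms * Mu) ∈ MZ) := by
  decide +kernel

/-- The action of the second parabolic subgroup. -/
noncomputable def Mam (k : E MK) : E MK := ev [My * Mc1, Mc1, Ma * My] (Mwt k)

/-- An element. -/
def Mm : E MK := E.elt Mlists 95147664024321 (by decide +kernel)

theorem M_misc' : Mt * Mt = 1 ∧ Mt ≠ 1 ∧ Mt ∈ MT ∧ Mam Mt = Mt ∧ Ms ∈ MT ∧ Mam Ms = Mu ∧ Mu ∈ MT ∧
    Mam Mu = Ms * Mu ∧ Ms * Mu ∈ MT ∧ Mam (Ms * Mu) = Ms ∧ Mt ∈ MF ∧ Mw ∈ MU ∧ Mw ∉ MF ∧ Mt ∉ MV ∧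
    Ms ∉ MZ ∧ tl (Mt * Ms) ∧ Mw = Ma1 * Mm ∧ Mm⁻¹ ∈ MT ∧ Ma1 * Mm * Mam Mm⁻¹ * Ma1⁻¹ * Ms = Mu ∧
    Mx * Mt * Mx⁻¹ = Mw * Mt ∧ Mx * Mw * Mx⁻¹ = Mt ∧ Mw * Mu * Mw⁻¹ = Mu * Ms ∧ Mx ^ 3 = 1 ∧
    ∀ v ∈ MV, v * Mt = Mt * v ∧ ∀ v' ∈ MV, v * v' = v' * v := by
  decide +kernel

theorem card_Z : Nat.card (E MM12) = 95040 := E.card_eq.trans MM_spec.2.2.1

theorem inj_Z {G : Type*} [Group G] [Finite G] (ψ : E MM12 →* G) (h : 192 ∣ Nat.card ψ.range) :
    Function.Injective ψ := by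
  let N := (ψ.comp (E.iso MM12).toMonoidHom).ker
  have hN : N = ⊥ := by
    by_contra hN
    have h2 : MulAction.IsMultiplyPretransitive MM12 (Fin 12) 2 :=
      have := MM_spec.1
      MulAction.isMultiplyPretransitive_of_le (n := 5) (by norm_num) (by simp)
    have := MulAction.isPreprimitive_of_is_two_pretransitive h2
    have := isPretransitive_of_normal_of_ne_bot (Ω := Fin 12) N hN
    have h3 := (MulAction.stabilizer N (0 : Fin 12)).index_dvd_card
    rw [MulAction.index_stabilizer_of_transitive, Nat.card_fin] at h3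
    have h4 := N.card_mul_index
    rw [index_ker, MonoidHom.range_comp, MonoidHom.range_eq_top.2 (E.iso MM12).surjective,
      ← MonoidHom.range_eq_map, MM_spec.2.2.1] at h4
    obtain ⟨k, hk⟩ := h
    obtain ⟨l, hl⟩ := h3
    rw [hk, hl, show 12 * l * (192 * k) = 2304 * (l * k) by ring] at h4
    omega
  have := (MonoidHom.ker_eq_bot_iff _).1 hN
  exact Function.Injective.of_comp_right (g := E.iso MM12) this (E.iso MM12).surjective

theorem PM.act {G : Type*} [Group G] {φ : E MK →* G} {ρ : G}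
    (h : PM (φ Ma) (φ Mb) (φ Mx) (φ My) ρ) : ∀ k ∈ MT, ρ * φ k * ρ⁻¹ = φ (Mam k) := by
  obtain ⟨-, e1, e2, e3, -⟩ := h
  refine act_of_words (.cons ?_ (.cons ?_ (.cons ?_ .nil))) MT_wd <;>
    simp only [M_lit.2.2.2.2.1, map_mul, map_inv, e1, e2, e3]

theorem exists_hom_Z {G : Type*} [Group G] [Finite G] {φ : E MK →* G} (hφ : Function.Injective φ)
    {r c : G} (hr : PM (φ Ma) (φ Mb) (φ Mx) (φ My) r) (h1 : c * c * c = 1)
    (h2 : φ Ms * c * (φ Ms)⁻¹ = c⁻¹) (h3 : r * c * (r * c) = 1) (h4 : c * φ Mt = φ Mt * c)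
    (h5 : c * φ Mw = φ Mw * c) (h6 : (φ Mx)⁻¹ * c * φ Mx = c) :
    ∃ ψ : E MM12 →* G, Function.Injective ψ ∧ (∀ k, ψ (im k) = φ k) ∧ ψ Zr = r ∧ ψ Zc = c := by
  obtain ⟨l1, -, -, -, -, l6, l7⟩ := M_lit
  simp only [l1, l6, l7, map_mul, map_inv, map_pow] at h2 h4 h5
  have hA := (M_rel.map φ).prod (M_rel.map im)
  obtain ⟨c1, c2⟩ := hA.card_le
  obtain ⟨⟨e0, e1, e2, e3, e4, e5, e6, e7, e8⟩, e9, e10, e11, e12⟩ := hA
  obtain ⟨z0, z1, z2, z3, z4, z5, z6⟩ := Z_rel
  obtain ⟨e13, e14, e15, e16, e17⟩ := hr.prod z0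
  obtain ⟨c3, c4⟩ := t12_card (c := (c, Zc)) e0 e1 e2 e3 e4 e5 e6 e7 e8 e9 e10 e11 e12 e13 e14 e15
    e16 e17 (Prod.ext h1 z1) (Prod.ext h2 z2) (Prod.ext h3 z3) (Prod.ext h4 z4) (Prod.ext h5 z5)
    (Prod.ext h6 z6) (closure {(φ Ma, im Ma), (φ Mb, im Mb), (φ Mx, im Mx), (φ My, im My)})
    (subset_closure (by simp)) (subset_closure (by simp)) (subset_closure (by simp))
    (subset_closure (by simp))
  have e : {q | q ∈ [(φ Ma, im Ma), (φ Mb, im Mb), (φ Mx, im Mx), (φ My, im My), (r, Zr), (c, Zc)]} =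
      {(φ Ma, im Ma), (φ Mb, im Mb), (φ Mx, im Mx), (φ My, im My), (r, Zr), (c, Zc)} := by ext; simp
  obtain ⟨ψ, hψ⟩ := exists_hom_of_list
    (l := [(φ Ma, im Ma), (φ Mb, im Mb), (φ Mx, im Mx), (φ My, im My), (r, Zr), (c, Zc)]) (e ▸ c3)
    (by rw [e, card_Z]; omega) Z_top
  have hk : ψ.comp im = φ := MonoidHom.eq_of_eqOn_dense Mtop (by
    intro k hk
    have : k ∈ [Ma, Mb, Mx, My] := hk
    simp only [List.mem_cons, List.not_mem_nil, or_false] at this
    rcases this with rfl | rfl | rfl | rfl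
    exacts [hψ (φ Ma, im Ma) (by simp), hψ (φ Mb, im Mb) (by simp), hψ (φ Mx, im Mx) (by simp),
      hψ (φ My, im My) (by simp)])
  refine ⟨ψ, inj_Z ψ ?_, fun k => DFunLike.congr_fun hk k, hψ (r, Zr) (by simp), hψ (c, Zc) (by simp)⟩
  rw [← Mcard, Nat.card_congr (MonoidHom.ofInjective hφ).toEquiv]
  exact card_dvd_of_le (by rintro _ ⟨k, rfl⟩; exact ⟨im k, DFunLike.congr_fun hk k⟩)

end Cfsg.Agent.H7.Asch
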