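import Cfsg.Agent.H4.TC

/-!
# A coset enumeration for the alternating group of degree eight
-/

set_option autoImplicit false
set_option maxRecDepth 100000
set_option linter.unusedSimpArgs false

namespace Cfsg.Agent.H7.Asch

open Cfsg.Agent.H4

/-- Certificate data. -/
def t8_par : Trie :=
    (.node (.node (.node (.node (.node (.node (.node (.node (.node (.leaf (nat_lit 0)) (.leaf
    (nat_lit 27397))) (.leaf (nat_lit 13834))) (.node (.node (.leaf (nat_lit 5642)) (.leaf (nat_lit
    32771))) (.leaf (nat_lit 22283)))) (.node (.node (.node (.leaf (nat_lit 2314)) (.leaf (nat_lit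
    30218))) (.leaf (nat_lit 15618))) (.node (.node (.leaf (nat_lit 9476)) (.leaf (nat_lit 49410)))
    (.leaf (nat_lit 25863))))) (.node (.node (.node (.node (.leaf (nat_lit 522)) (.leaf (nat_lit
    28422))) (.leaf (nat_lit 14851))) (.node (.node (.leaf (nat_lit 8199)) (.leaf (nat_lit 46343)))
    (.leaf (nat_lit 25099)))) (.node (.node (.node (.leaf (nat_lit 3594)) (.leaf (nat_lit 31497)))
    (.leaf (nat_lit 18182))) (.node (.node (.leaf (nat_lit 11529)) (.leaf (nat_lit 52741))) (.leaf
    (nat_lit 26634)))))) (.node (.node (.node (.node (.node (.leaf (nat_lit 260)) (.leaf (nat_lit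
    27909))) (.leaf (nat_lit 14346))) (.node (.node (.leaf (nat_lit 7434)) (.leaf (nat_lit 45319)))
    (.leaf (nat_lit 23563)))) (.node (.node (.node (.leaf (nat_lit 3077)) (.leaf (nat_lit 30730)))
    (.leaf (nat_lit 16133))) (.node (.node (.leaf (nat_lit 10505)) (.leaf (nat_lit 50693))) (.leaf
    (nat_lit 26121))))) (.node (.node (.node (.node (.leaf (nat_lit 776)) (.leaf (nat_lit 28934)))
    (.leaf (nat_lit 15110))) (.node (.node (.leaf (nat_lit 8455)) (.leaf (nat_lit 47367))) (.leaf
    (nat_lit 25354)))) (.node (.node (.node (.leaf (nat_lit 4357)) (.leaf (nat_lit 32262))) (.leaf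
    (nat_lit 20235))) (.node (.node (.leaf (nat_lit 12549)) (.leaf (nat_lit 60677))) (.leaf
    (nat_lit 27138))))))) (.node (.node (.node (.node (.node (.node (.leaf (nat_lit 11)) (.leaf
    (nat_lit 27654))) (.leaf (nat_lit 14090))) (.node (.node (.leaf (nat_lit 7178)) (.leaf (nat_lit
    45315))) (.leaf (nat_lit 23307)))) (.node (.node (.node (.leaf (nat_lit 2570)) (.leaf (nat_lit
    30474))) (.leaf (nat_lit 15622))) (.node (.node (.leaf (nat_lit 10249)) (.leaf (nat_lit
    49669))) (.leaf (nat_lit 26117))))) (.node (.node (.node (.node (.leaf (nat_lit 772)) (.leaf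
    (nat_lit 28682))) (.leaf (nat_lit 14855))) (.node (.node (.leaf (nat_lit 8451)) (.leaf (nat_lit
    47363))) (.leaf (nat_lit 25348)))) (.node (.node (.node (.leaf (nat_lit 3850)) (.leaf (nat_lit
    32008))) (.leaf (nat_lit 19979))) (.node (.node (.leaf (nat_lit 12291)) (.leaf (nat_lit
    59141))) (.leaf (nat_lit 26885)))))) (.node (.node (.node (.node (.node (.leaf (nat_lit 266))
    (.leaf (nat_lit 28165))) (.leaf (nat_lit 14602))) (.node (.node (.leaf (nat_lit 8195)) (.leaf
    (nat_lit 46339))) (.leaf (nat_lit 24843)))) (.node (.node (.node (.leaf (nat_lit 3333)) (.leaf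
    (nat_lit 30987))) (.leaf (nat_lit 17158))) (.node (.node (.leaf (nat_lit 11273)) (.leaf
    (nat_lit 51717))) (.leaf (nat_lit 26378))))) (.node (.node (.node (.node (.leaf (nat_lit 1029))
    (.leaf (nat_lit 29188))) (.leaf (nat_lit 15363))) (.node (.node (.leaf (nat_lit 9222)) (.leaf
    (nat_lit 48389))) (.leaf (nat_lit 25610)))) (.node (.node (.node (.leaf (nat_lit 5386)) (.leaf
    (nat_lit 32518))) (.leaf (nat_lit 22027))) (.node (.leaf (nat_lit 13573)) (.leaf (nat_lit
    27142)))))))) (.node (.node (.node (.node (.node (.node (.node (.leaf (nat_lit 9)) (.leaf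
    (nat_lit 27402))) (.leaf (nat_lit 14088))) (.node (.node (.leaf (nat_lit 7176)) (.leaf (nat_lit
    32774))) (.leaf (nat_lit 23305)))) (.node (.node (.node (.leaf (nat_lit 2568)) (.leaf (nat_lit
    30472))) (.leaf (nat_lit 15620))) (.node (.node (.leaf (nat_lit 9478)) (.leaf (nat_lit 49413)))
    (.leaf (nat_lit 26115))))) (.node (.node (.node (.node (.leaf (nat_lit 769)) (.leaf (nat_lit
    28677))) (.leaf (nat_lit 14853))) (.node (.node (.leaf (nat_lit 8201)) (.leaf (nat_lit 46598)))
    (.leaf (nat_lit 25346)))) (.node (.node (.node (.leaf (nat_lit 3848)) (.leaf (nat_lit 31499)))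
    (.leaf (nat_lit 19977))) (.node (.node (.leaf (nat_lit 11531)) (.leaf (nat_lit 55301))) (.leaf
    (nat_lit 26883)))))) (.node (.node (.node (.node (.node (.leaf (nat_lit 262)) (.leaf (nat_lit
    28162))) (.leaf (nat_lit 14600))) (.node (.node (.leaf (nat_lit 7681)) (.leaf (nat_lit 45574)))
    (.leaf (nat_lit 24841)))) (.node (.node (.node (.leaf (nat_lit 3079)) (.leaf (nat_lit 30985)))
    (.leaf (nat_lit 16902))) (.node (.node (.leaf (nat_lit 10507)) (.leaf (nat_lit 51461))) (.leaf
    (nat_lit 26373))))) (.node (.node (.node (.node (.leaf (nat_lit 1026)) (.leaf (nat_lit 28937)))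
    (.leaf (nat_lit 15115))) (.node (.node (.leaf (nat_lit 9220)) (.leaf (nat_lit 47622))) (.leaf
    (nat_lit 25605)))) (.node (.node (.node (.leaf (nat_lit 5384)) (.leaf (nat_lit 32267))) (.leaf
    (nat_lit 22025))) (.node (.node (.leaf (nat_lit 13317)) (.leaf (nat_lit 61445))) (.leaf
    (nat_lit 27140))))))) (.node (.node (.node (.node (.node (.node (.leaf (nat_lit 258)) (.leaf
    (nat_lit 27907))) (.leaf (nat_lit 14344))) (.node (.node (.leaf (nat_lit 7432)) (.leaf (nat_lit
    45317))) (.leaf (nat_lit 23561)))) (.node (.node (.node (.leaf (nat_lit 3073)) (.leaf (nat_lit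
    30728))) (.leaf (nat_lit 15877))) (.node (.node (.leaf (nat_lit 10251)) (.leaf (nat_lit
    50437))) (.leaf (nat_lit 26119))))) (.node (.node (.node (.node (.leaf (nat_lit 774)) (.leaf
    (nat_lit 28932))) (.leaf (nat_lit 14859))) (.node (.node (.leaf (nat_lit 8453)) (.leaf (nat_lit
    47365))) (.leaf (nat_lit 25350)))) (.node (.node (.node (.leaf (nat_lit 4101)) (.leaf (nat_lit
    32011))) (.leaf (nat_lit 20233))) (.node (.node (.leaf (nat_lit 12293)) (.leaf (nat_lit
    59397))) (.leaf (nat_lit 26888)))))) (.node (.node (.node (.node (.node (.leaf (nat_lit 517))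
    (.leaf (nat_lit 28167))) (.leaf (nat_lit 14849))) (.node (.node (.leaf (nat_lit 8197)) (.leaf
    (nat_lit 46341))) (.leaf (nat_lit 25097)))) (.node (.node (.node (.leaf (nat_lit 3592)) (.leaf
    (nat_lit 31242))) (.leaf (nat_lit 17926))) (.node (.node (.leaf (nat_lit 11275)) (.leaf
    (nat_lit 52485))) (.leaf (nat_lit 26629))))) (.node (.node (.node (.node (.leaf (nat_lit 2312))
    (.leaf (nat_lit 30216))) (.leaf (nat_lit 15366))) (.node (.node (.leaf (nat_lit 9225)) (.leaf
    (nat_lit 48645))) (.leaf (nat_lit 25857)))) (.node (.node (.node (.leaf (nat_lit 5640)) (.leaf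
    (nat_lit 32523))) (.leaf (nat_lit 22281))) (.node (.leaf (nat_lit 13832)) (.leaf (nat_lit
    27144))))))))) (.node (.node (.node (.node (.node (.node (.node (.node (.leaf (nat_lit 8))
    (.leaf (nat_lit 27398))) (.leaf (nat_lit 13835))) (.node (.node (.leaf (nat_lit 5643)) (.leaf
    (nat_lit 32772))) (.leaf (nat_lit 23304)))) (.node (.node (.node (.leaf (nat_lit 2315)) (.leaf
    (nat_lit 30219))) (.leaf (nat_lit 15619))) (.node (.node (.leaf (nat_lit 9477)) (.leaf (nat_lit
    49412))) (.leaf (nat_lit 26114))))) (.node (.node (.node (.node (.leaf (nat_lit 523)) (.leaf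
    (nat_lit 28426))) (.leaf (nat_lit 14852))) (.node (.node (.leaf (nat_lit 8200)) (.leaf (nat_lit
    46597))) (.leaf (nat_lit 25345)))) (.node (.node (.node (.leaf (nat_lit 3595)) (.leaf (nat_lit
    31498))) (.leaf (nat_lit 19976))) (.node (.node (.leaf (nat_lit 11530)) (.leaf (nat_lit
    52742))) (.leaf (nat_lit 26635)))))) (.node (.node (.node (.node (.node (.leaf (nat_lit 261))
    (.leaf (nat_lit 27910))) (.leaf (nat_lit 14347))) (.node (.node (.leaf (nat_lit 7435)) (.leaf
    (nat_lit 45573))) (.leaf (nat_lit 24840)))) (.node (.node (.node (.leaf (nat_lit 3078)) (.leaf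
    (nat_lit 30731))) (.leaf (nat_lit 16134))) (.node (.node (.leaf (nat_lit 10506)) (.leaf
    (nat_lit 50694))) (.leaf (nat_lit 26369))))) (.node (.node (.node (.node (.leaf (nat_lit 777))
    (.leaf (nat_lit 28936))) (.leaf (nat_lit 15114))) (.node (.node (.leaf (nat_lit 9219)) (.leaf
    (nat_lit 47621))) (.leaf (nat_lit 25355)))) (.node (.node (.node (.leaf (nat_lit 4358)) (.leaf
    (nat_lit 32266))) (.leaf (nat_lit 22024))) (.node (.node (.leaf (nat_lit 12550)) (.leaf
    (nat_lit 60678))) (.leaf (nat_lit 27139))))))) (.node (.node (.node (.node (.node (.node (.leaf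
    (nat_lit 257)) (.leaf (nat_lit 27658))) (.leaf (nat_lit 14091))) (.node (.node (.leaf (nat_lit
    7179)) (.leaf (nat_lit 45316))) (.leaf (nat_lit 23560)))) (.node (.node (.node (.leaf (nat_lit
    2571)) (.leaf (nat_lit 30475))) (.leaf (nat_lit 15873))) (.node (.node (.leaf (nat_lit 10250))
    (.leaf (nat_lit 49670))) (.leaf (nat_lit 26118))))) (.node (.node (.node (.node (.leaf (nat_lit
    773)) (.leaf (nat_lit 28931))) (.leaf (nat_lit 14858))) (.node (.node (.leaf (nat_lit 8452))
    (.leaf (nat_lit 47364))) (.leaf (nat_lit 25349)))) (.node (.node (.node (.leaf (nat_lit 3851))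
    (.leaf (nat_lit 32009))) (.leaf (nat_lit 20232))) (.node (.node (.leaf (nat_lit 12292)) (.leaf
    (nat_lit 59142))) (.leaf (nat_lit 26886)))))) (.node (.node (.node (.node (.node (.leaf
    (nat_lit 267)) (.leaf (nat_lit 28166))) (.leaf (nat_lit 14603))) (.node (.node (.leaf (nat_lit
    8196)) (.leaf (nat_lit 46340))) (.leaf (nat_lit 25096)))) (.node (.node (.node (.leaf (nat_lit
    3334)) (.leaf (nat_lit 31241))) (.leaf (nat_lit 17925))) (.node (.node (.leaf (nat_lit 11274))
    (.leaf (nat_lit 51718))) (.leaf (nat_lit 26379))))) (.node (.node (.node (.node (.leaf (nat_lit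
    1030)) (.leaf (nat_lit 29189))) (.leaf (nat_lit 15364))) (.node (.node (.leaf (nat_lit 9224))
    (.leaf (nat_lit 48390))) (.leaf (nat_lit 25611)))) (.node (.node (.node (.leaf (nat_lit 5387))
    (.leaf (nat_lit 32522))) (.leaf (nat_lit 22280))) (.node (.leaf (nat_lit 13574)) (.leaf
    (nat_lit 27143)))))))) (.node (.node (.node (.node (.node (.node (.node (.leaf (nat_lit 10))
    (.leaf (nat_lit 27653))) (.leaf (nat_lit 14089))) (.node (.node (.leaf (nat_lit 7177)) (.leaf
    (nat_lit 45313))) (.leaf (nat_lit 23306)))) (.node (.node (.node (.leaf (nat_lit 2569)) (.leaf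
    (nat_lit 30473))) (.leaf (nat_lit 15621))) (.node (.node (.leaf (nat_lit 10248)) (.leaf
    (nat_lit 49414))) (.leaf (nat_lit 26116))))) (.node (.node (.node (.node (.leaf (nat_lit 771))
    (.leaf (nat_lit 28678))) (.leaf (nat_lit 14854))) (.node (.node (.leaf (nat_lit 8450)) (.leaf
    (nat_lit 47362))) (.leaf (nat_lit 25347)))) (.node (.node (.node (.leaf (nat_lit 3849)) (.leaf
    (nat_lit 31753))) (.leaf (nat_lit 19978))) (.node (.node (.leaf (nat_lit 12289)) (.leaf
    (nat_lit 55302))) (.leaf (nat_lit 26884)))))) (.node (.node (.node (.node (.node (.leaf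
    (nat_lit 263)) (.leaf (nat_lit 28163))) (.leaf (nat_lit 14601))) (.node (.node (.leaf (nat_lit
    8193)) (.leaf (nat_lit 46337))) (.leaf (nat_lit 24842)))) (.node (.node (.node (.leaf (nat_lit
    3330)) (.leaf (nat_lit 30986))) (.leaf (nat_lit 17157))) (.node (.node (.leaf (nat_lit 11272))
    (.leaf (nat_lit 51462))) (.leaf (nat_lit 26374))))) (.node (.node (.node (.node (.leaf (nat_lit
    1028)) (.leaf (nat_lit 29186))) (.leaf (nat_lit 15361))) (.node (.node (.leaf (nat_lit 9221))
    (.leaf (nat_lit 48385))) (.leaf (nat_lit 25606)))) (.node (.node (.node (.leaf (nat_lit 5385))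
    (.leaf (nat_lit 32517))) (.leaf (nat_lit 22026))) (.node (.leaf (nat_lit 13318)) (.leaf
    (nat_lit 27141))))))) (.node (.node (.node (.node (.node (.node (.leaf (nat_lit 259)) (.leaf
    (nat_lit 27908))) (.leaf (nat_lit 14345))) (.node (.node (.leaf (nat_lit 7433)) (.leaf (nat_lit
    45318))) (.leaf (nat_lit 23562)))) (.node (.node (.node (.leaf (nat_lit 3076)) (.leaf (nat_lit
    30729))) (.leaf (nat_lit 15878))) (.node (.node (.leaf (nat_lit 10504)) (.leaf (nat_lit
    50438))) (.leaf (nat_lit 26120))))) (.node (.node (.node (.node (.leaf (nat_lit 775)) (.leaf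
    (nat_lit 28933))) (.leaf (nat_lit 15109))) (.node (.node (.leaf (nat_lit 8454)) (.leaf (nat_lit
    47366))) (.leaf (nat_lit 25351)))) (.node (.node (.node (.leaf (nat_lit 4102)) (.leaf (nat_lit
    32261))) (.leaf (nat_lit 20234))) (.node (.node (.leaf (nat_lit 12294)) (.leaf (nat_lit
    59398))) (.leaf (nat_lit 26889)))))) (.node (.node (.node (.node (.node (.leaf (nat_lit 518))
    (.leaf (nat_lit 28421))) (.leaf (nat_lit 14850))) (.node (.node (.leaf (nat_lit 8198)) (.leaf
    (nat_lit 46342))) (.leaf (nat_lit 25098)))) (.node (.node (.node (.leaf (nat_lit 3593)) (.leaf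
    (nat_lit 31243))) (.leaf (nat_lit 18181))) (.node (.node (.leaf (nat_lit 11528)) (.leaf
    (nat_lit 52486))) (.leaf (nat_lit 26630))))) (.node (.node (.node (.node (.leaf (nat_lit 2313))
    (.leaf (nat_lit 30217))) (.leaf (nat_lit 15367))) (.node (.node (.leaf (nat_lit 9474)) (.leaf
    (nat_lit 48646))) (.leaf (nat_lit 25862)))) (.node (.node (.node (.leaf (nat_lit 5641)) (.leaf
    (nat_lit 32769))) (.leaf (nat_lit 22282))) (.node (.leaf (nat_lit 13833)) (.leaf (nat_lit
    27145))))))))))

/-- Certificate data. -/
def t8_fact : Trie :=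
    (.node (.node (.node (.node (.node (.node (.node (.node (.node (.node (.node (.leaf (nat_lit
    1)) (.leaf (nat_lit 7759621))) (.node (.leaf (nat_lit 7618050)) (.leaf (nat_lit 47761925))))
    (.node (.node (.leaf (nat_lit 4599558)) (.leaf (nat_lit 11299082))) (.leaf (nat_lit
    30337033)))) (.node (.node (.node (.leaf (nat_lit 4721162)) (.leaf (nat_lit 34671619))) (.node
    (.leaf (nat_lit 19835143)) (.leaf (nat_lit 24851717)))) (.node (.node (.leaf (nat_lit 4727815))
    (.leaf (nat_lit 44257798))) (.leaf (nat_lit 37647881))))) (.node (.node (.node (.node (.leaf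
    (nat_lit 3019522)) (.leaf (nat_lit 42109953))) (.node (.leaf (nat_lit 8537350)) (.leaf (nat_lit
    44004864)))) (.node (.node (.leaf (nat_lit 14052361)) (.leaf (nat_lit 26425600))) (.leaf
    (nat_lit 18141696)))) (.node (.node (.node (.leaf (nat_lit 5781506)) (.leaf (nat_lit
    15516672))) (.leaf (nat_lit 26894856))) (.node (.node (.leaf (nat_lit 11435267)) (.leaf
    (nat_lit 46092035))) (.leaf (nat_lit 40316931)))))) (.node (.node (.node (.node (.node (.leaf
    (nat_lit 132608)) (.leaf (nat_lit 41086209))) (.node (.leaf (nat_lit 21141768)) (.leaf (nat_lit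
    45970435)))) (.node (.node (.leaf (nat_lit 11542791)) (.leaf (nat_lit 27073027))) (.leaf
    (nat_lit 32044294)))) (.node (.node (.node (.leaf (nat_lit 6557448)) (.leaf (nat_lit
    25739011))) (.leaf (nat_lit 24295945))) (.node (.node (.leaf (nat_lit 12736263)) (.leaf
    (nat_lit 45661445))) (.leaf (nat_lit 25504257))))) (.node (.node (.node (.node (.leaf (nat_lit
    2232583)) (.leaf (nat_lit 18420995))) (.node (.leaf (nat_lit 19435268)) (.leaf (nat_lit
    32468736)))) (.node (.node (.leaf (nat_lit 4345857)) (.leaf (nat_lit 23784448))) (.leaf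
    (nat_lit 35417607)))) (.node (.node (.node (.leaf (nat_lit 8920074)) (.leaf (nat_lit
    10249730))) (.leaf (nat_lit 13009411))) (.node (.node (.leaf (nat_lit 17971211)) (.leaf
    (nat_lit 26395908))) (.leaf (nat_lit 41461513))))))) (.node (.node (.node (.node (.node (.node
    (.leaf (nat_lit 917763)) (.leaf (nat_lit 8852224))) (.node (.leaf (nat_lit 9608710)) (.leaf
    (nat_lit 47410947)))) (.node (.node (.leaf (nat_lit 4868871)) (.leaf (nat_lit 23914499)))
    (.leaf (nat_lit 31256326)))) (.node (.node (.node (.leaf (nat_lit 5639428)) (.leaf (nat_lit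
    24065538))) (.leaf (nat_lit 23219720))) (.node (.node (.leaf (nat_lit 4333569)) (.leaf (nat_lit
    44522241))) (.leaf (nat_lit 38565896))))) (.node (.node (.node (.node (.leaf (nat_lit 3677185))
    (.leaf (nat_lit 15669003))) (.node (.leaf (nat_lit 9345536)) (.leaf (nat_lit 24861184))))
    (.node (.node (.leaf (nat_lit 15216643)) (.leaf (nat_lit 30340618))) (.leaf (nat_lit
    13532673)))) (.node (.node (.node (.leaf (nat_lit 7879947)) (.leaf (nat_lit 38436106))) (.leaf
    (nat_lit 13029892))) (.node (.node (.leaf (nat_lit 13135875)) (.leaf (nat_lit 24294657)))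
    (.leaf (nat_lit 40926726)))))) (.node (.node (.node (.node (.node (.leaf (nat_lit 2097674))
    (.leaf (nat_lit 29704194))) (.node (.leaf (nat_lit 9453574)) (.leaf (nat_lit 49343749))))
    (.node (.node (.leaf (nat_lit 11952388)) (.leaf (nat_lit 36249344))) (.leaf (nat_lit
    33450505)))) (.node (.node (.node (.leaf (nat_lit 7091975)) (.leaf (nat_lit 40029957))) (.leaf
    (nat_lit 25713419))) (.node (.node (.leaf (nat_lit 16022279)) (.leaf (nat_lit 32328452)))
    (.leaf (nat_lit 39746059))))) (.node (.node (.node (.node (.leaf (nat_lit 2232323)) (.leaf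
    (nat_lit 18406408))) (.node (.leaf (nat_lit 19834371)) (.leaf (nat_lit 30322949)))) (.node
    (.node (.leaf (nat_lit 6443268)) (.leaf (nat_lit 43036935))) (.leaf (nat_lit 29037570))))
    (.node (.node (.node (.leaf (nat_lit 8407297)) (.leaf (nat_lit 6975750))) (.leaf (nat_lit
    29254918))) (.node (.node (.leaf (nat_lit 18758146)) (.leaf (nat_lit 46753281))) (.leaf
    (nat_lit 13539328)))))))) (.node (.node (.node (.node (.node (.node (.node (.leaf (nat_lit
    262663)) (.leaf (nat_lit 22972166))) (.node (.leaf (nat_lit 19700233)) (.leaf (nat_lit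
    47672579)))) (.node (.node (.leaf (nat_lit 1314569)) (.leaf (nat_lit 13787651))) (.leaf
    (nat_lit 30959370)))) (.node (.node (.node (.leaf (nat_lit 5253382)) (.leaf (nat_lit
    25605122))) (.leaf (nat_lit 19836162))) (.node (.node (.leaf (nat_lit 6304002)) (.leaf (nat_lit
    45136135))) (.leaf (nat_lit 38041352))))) (.node (.node (.node (.node (.leaf (nat_lit 2628099))
    (.leaf (nat_lit 14345731))) (.node (.leaf (nat_lit 3688448)) (.leaf (nat_lit 26038016))))
    (.node (.node (.leaf (nat_lit 14184450)) (.leaf (nat_lit 25491210))) (.leaf (nat_lit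
    33975301)))) (.node (.node (.node (.leaf (nat_lit 5388545)) (.leaf (nat_lit 26532864))) (.leaf
    (nat_lit 13291526))) (.node (.node (.leaf (nat_lit 13271297)) (.leaf (nat_lit 30362624)))
    (.leaf (nat_lit 40552963)))))) (.node (.node (.node (.node (.node (.leaf (nat_lit 133888))
    (.leaf (nat_lit 41844737))) (.node (.leaf (nat_lit 20882176)) (.leaf (nat_lit 49080325))))
    (.node (.node (.leaf (nat_lit 12198920)) (.leaf (nat_lit 38727683))) (.leaf (nat_lit
    29948674)))) (.node (.node (.node (.leaf (nat_lit 6819594)) (.leaf (nat_lit 26290439))) (.leaf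
    (nat_lit 25188107))) (.node (.node (.leaf (nat_lit 12089602)) (.leaf (nat_lit 46186754)))
    (.leaf (nat_lit 24980738))))) (.node (.node (.node (.node (.leaf (nat_lit 525059)) (.leaf
    (nat_lit 14354944))) (.node (.leaf (nat_lit 9192967)) (.leaf (nat_lit 24299782)))) (.node
    (.node (.leaf (nat_lit 4731140)) (.leaf (nat_lit 25876482))) (.leaf (nat_lit 33624578))))
    (.node (.node (.node (.leaf (nat_lit 8800002)) (.leaf (nat_lit 13158923))) (.leaf (nat_lit
    14474504))) (.node (.node (.leaf (nat_lit 18253571)) (.leaf (nat_lit 46711301))) (.leaf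
    (nat_lit 16569600))))))) (.node (.node (.node (.node (.node (.node (.leaf (nat_lit 1576203))
    (.leaf (nat_lit 14191366))) (.node (.leaf (nat_lit 21118211)) (.leaf (nat_lit 48460296))))
    (.node (.node (.leaf (nat_lit 10625032)) (.leaf (nat_lit 37679362))) (.leaf (nat_lit
    28208897)))) (.node (.node (.node (.leaf (nat_lit 6163977)) (.leaf (nat_lit 25766660))) (.leaf
    (nat_lit 23875337))) (.node (.node (.leaf (nat_lit 10378244)) (.leaf (nat_lit 24820999)))
    (.leaf (nat_lit 24425987))))) (.node (.node (.node (.node (.leaf (nat_lit 3019521)) (.leaf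
    (nat_lit 17514752))) (.node (.leaf (nat_lit 8688896)) (.leaf (nat_lit 32333312)))) (.node
    (.node (.leaf (nat_lit 11023368)) (.leaf (nat_lit 18294538))) (.leaf (nat_lit 34630917))))
    (.node (.node (.node (.leaf (nat_lit 8394250)) (.leaf (nat_lit 24313344))) (.leaf (nat_lit
    28367115))) (.node (.node (.leaf (nat_lit 17577992)) (.leaf (nat_lit 25881863))) (.leaf
    (nat_lit 41320197)))))) (.node (.node (.node (.node (.node (.leaf (nat_lit 2491139)) (.leaf
    (nat_lit 29554944))) (.node (.leaf (nat_lit 20464903)) (.leaf (nat_lit 42826242)))) (.node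
    (.node (.leaf (nat_lit 13641993)) (.leaf (nat_lit 37041419))) (.leaf (nat_lit 28770562))))
    (.node (.node (.node (.leaf (nat_lit 1583872)) (.leaf (nat_lit 15907840))) (.leaf (nat_lit
    25085953))) (.node (.node (.leaf (nat_lit 11303937)) (.leaf (nat_lit 46317828))) (.leaf
    (nat_lit 40008458))))) (.node (.node (.node (.node (.leaf (nat_lit 3940105)) (.leaf (nat_lit
    13835008))) (.node (.leaf (nat_lit 8143362)) (.leaf (nat_lit 28406528)))) (.node (.node (.leaf
    (nat_lit 12875522)) (.leaf (nat_lit 43693316))) (.leaf (nat_lit 36991241)))) (.node (.node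
    (.node (.leaf (nat_lit 4468226)) (.leaf (nat_lit 15480330))) (.leaf (nat_lit 30041606))) (.node
    (.node (.leaf (nat_lit 19675659)) (.leaf (nat_lit 42821635))) (.leaf (nat_lit 16540421)))))))))
    (.node (.node (.node (.node (.node (.node (.node (.node (.leaf (nat_lit 131080)) (.leaf
    (nat_lit 17226240))) (.node (.leaf (nat_lit 18911239)) (.leaf (nat_lit 47892998)))) (.node
    (.node (.leaf (nat_lit 4460041)) (.leaf (nat_lit 36223499))) (.leaf (nat_lit 14084359))))
    (.node (.node (.node (.leaf (nat_lit 1713671)) (.leaf (nat_lit 14977027))) (.node (.leaf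
    (nat_lit 22430469)) (.leaf (nat_lit 38081542)))) (.node (.node (.leaf (nat_lit 4869376)) (.leaf
    (nat_lit 44873989))) (.leaf (nat_lit 25763842))))) (.node (.node (.node (.node (.leaf (nat_lit
    3277577)) (.leaf (nat_lit 42109191))) (.node (.leaf (nat_lit 2900992)) (.leaf (nat_lit
    38622976)))) (.node (.node (.leaf (nat_lit 14560520)) (.leaf (nat_lit 28383488))) (.leaf
    (nat_lit 14060035)))) (.node (.node (.node (.leaf (nat_lit 7475462)) (.leaf (nat_lit
    12765184))) (.leaf (nat_lit 27157002))) (.node (.node (.leaf (nat_lit 13664007)) (.leaf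
    (nat_lit 23250179))) (.leaf (nat_lit 40449289)))))) (.node (.node (.node (.node (.node (.leaf
    (nat_lit 132864)) (.leaf (nat_lit 41582346))) (.node (.leaf (nat_lit 21406726)) (.leaf (nat_lit
    48196872)))) (.node (.node (.leaf (nat_lit 11805700)) (.leaf (nat_lit 15659016))) (.leaf
    (nat_lit 32532994)))) (.node (.node (.node (.leaf (nat_lit 6173442)) (.leaf (nat_lit
    24719879))) (.leaf (nat_lit 24925961))) (.node (.node (.leaf (nat_lit 10254340)) (.leaf
    (nat_lit 42819073))) (.leaf (nat_lit 39221514))))) (.node (.node (.node (.node (.leaf (nat_lit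
    399104)) (.leaf (nat_lit 41753098))) (.node (.leaf (nat_lit 8687873)) (.leaf (nat_lit
    31684864)))) (.node (.node (.leaf (nat_lit 4871169)) (.leaf (nat_lit 23905803))) (.leaf
    (nat_lit 35680006)))) (.node (.node (.node (.leaf (nat_lit 9182472)) (.leaf (nat_lit
    14973696))) (.leaf (nat_lit 28861450))) (.node (.node (.leaf (nat_lit 18123529)) (.leaf
    (nat_lit 40421633))) (.leaf (nat_lit 13561344))))))) (.node (.node (.node (.node (.node (.node
    (.leaf (nat_lit 1182214)) (.leaf (nat_lit 8716544))) (.node (.leaf (nat_lit 20987138)) (.leaf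
    (nat_lit 48418310)))) (.node (.node (.leaf (nat_lit 10362886)) (.leaf (nat_lit 40450560)))
    (.leaf (nat_lit 31125769)))) (.node (.node (.node (.leaf (nat_lit 5770501)) (.leaf (nat_lit
    29300740))) (.leaf (nat_lit 14988037))) (.node (.node (.leaf (nat_lit 6435844)) (.leaf (nat_lit
    38097920))) (.leaf (nat_lit 27076359))))) (.node (.node (.node (.node (.leaf (nat_lit 3021568))
    (.leaf (nat_lit 14868992))) (.node (.leaf (nat_lit 9323274)) (.leaf (nat_lit 25519616))))
    (.node (.node (.leaf (nat_lit 15227399)) (.leaf (nat_lit 40415490))) (.leaf (nat_lit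
    34237450)))) (.node (.node (.node (.leaf (nat_lit 8142601)) (.leaf (nat_lit 15632384))) (.leaf
    (nat_lit 27973126))) (.node (.node (.leaf (nat_lit 14976002)) (.leaf (nat_lit 24311299)))
    (.leaf (nat_lit 41057802)))))) (.node (.node (.node (.node (.node (.leaf (nat_lit 1708297))
    (.leaf (nat_lit 29835522))) (.node (.leaf (nat_lit 8012806)) (.leaf (nat_lit 43218947))))
    (.node (.node (.leaf (nat_lit 13248522)) (.leaf (nat_lit 16593930))) (.leaf (nat_lit
    23134216)))) (.node (.node (.node (.leaf (nat_lit 5780996)) (.leaf (nat_lit 24142346))) (.leaf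
    (nat_lit 25871881))) (.node (.node (.leaf (nat_lit 10386179)) (.leaf (nat_lit 25381895)))
    (.leaf (nat_lit 26554369))))) (.node (.node (.node (.node (.leaf (nat_lit 2100232)) (.leaf
    (nat_lit 15001088))) (.node (.leaf (nat_lit 9211648)) (.leaf (nat_lit 24955397)))) (.node
    (.node (.leaf (nat_lit 4739081)) (.leaf (nat_lit 43207174))) (.leaf (nat_lit 36729094))))
    (.node (.node (.node (.leaf (nat_lit 4475397)) (.leaf (nat_lit 16412933))) (.leaf (nat_lit
    29517314))) (.node (.node (.leaf (nat_lit 19282438)) (.leaf (nat_lit 47236613))) (.leaf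
    (nat_lit 17739776)))))))) (.node (.node (.node (.node (.node (.node (.node (.leaf (nat_lit
    394251)) (.leaf (nat_lit 8290822))) (.node (.leaf (nat_lit 9607943)) (.leaf (nat_lit
    47803907)))) (.node (.node (.leaf (nat_lit 6959369)) (.leaf (nat_lit 10383875))) (.leaf
    (nat_lit 27979266)))) (.node (.node (.node (.leaf (nat_lit 4991746)) (.leaf (nat_lit
    34807809))) (.leaf (nat_lit 22955781))) (.node (.node (.leaf (nat_lit 4334855)) (.leaf (nat_lit
    45398534))) (.leaf (nat_lit 37692167))))) (.node (.node (.node (.node (.leaf (nat_lit 2497282))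
    (.leaf (nat_lit 40714758))) (.node (.leaf (nat_lit 3817472)) (.leaf (nat_lit 30361088))))
    (.node (.node (.leaf (nat_lit 15085569)) (.leaf (nat_lit 17113611))) (.leaf (nat_lit
    28115969)))) (.node (.node (.node (.leaf (nat_lit 7738633)) (.leaf (nat_lit 10382592))) (.leaf
    (nat_lit 27812612))) (.node (.node (.leaf (nat_lit 16679682)) (.leaf (nat_lit 32331008)))
    (.leaf (nat_lit 16856582)))))) (.node (.node (.node (.node (.node (.leaf (nat_lit 1183236))
    (.leaf (nat_lit 41870084))) (.node (.leaf (nat_lit 9608963)) (.leaf (nat_lit 47675137))))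
    (.node (.node (.leaf (nat_lit 12723461)) (.leaf (nat_lit 24442628))) (.leaf (nat_lit
    14351618)))) (.node (.node (.node (.leaf (nat_lit 4732161)) (.leaf (nat_lit 38861579))) (.leaf
    (nat_lit 23904769))) (.node (.node (.leaf (nat_lit 15497729)) (.leaf (nat_lit 23810048)))
    (.leaf (nat_lit 39136516))))) (.node (.node (.node (.node (.leaf (nat_lit 2757889)) (.leaf
    (nat_lit 34811648))) (.node (.leaf (nat_lit 19834369)) (.leaf (nat_lit 26539525)))) (.node
    (.node (.leaf (nat_lit 6966272)) (.leaf (nat_lit 42643716))) (.leaf (nat_lit 36073478))))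
    (.node (.node (.node (.leaf (nat_lit 9444618)) (.leaf (nat_lit 10249739))) (.leaf (nat_lit
    27552516))) (.node (.node (.leaf (nat_lit 18495755)) (.leaf (nat_lit 45438724))) (.leaf
    (nat_lit 13056000))))))) (.node (.node (.node (.node (.node (.node (.leaf (nat_lit 1838855))
    (.leaf (nat_lit 14041605))) (.node (.leaf (nat_lit 21118983)) (.leaf (nat_lit 46887682))))
    (.node (.node (.leaf (nat_lit 11149572)) (.leaf (nat_lit 14955526))) (.leaf (nat_lit
    31746307)))) (.node (.node (.node (.leaf (nat_lit 4337666)) (.leaf (nat_lit 32162820))) (.leaf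
    (nat_lit 24137483))) (.node (.node (.leaf (nat_lit 11957761)) (.leaf (nat_lit 44520199)))
    (.leaf (nat_lit 38959115))))) (.node (.node (.node (.node (.leaf (nat_lit 3677446)) (.leaf
    (nat_lit 14480128))) (.node (.leaf (nat_lit 8142347)) (.leaf (nat_lit 26566400)))) (.node
    (.node (.leaf (nat_lit 6837504)) (.leaf (nat_lit 32318977))) (.leaf (nat_lit 35024387))))
    (.node (.node (.node (.leaf (nat_lit 8789001)) (.leaf (nat_lit 6484992))) (.leaf (nat_lit
    28105474))) (.node (.node (.leaf (nat_lit 14714631)) (.leaf (nat_lit 40425476))) (.leaf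
    (nat_lit 31276039)))))) (.node (.node (.node (.node (.node (.leaf (nat_lit 2758150)) (.leaf
    (nat_lit 13926403))) (.node (.leaf (nat_lit 20072457)) (.leaf (nat_lit 49243913)))) (.node
    (.node (.leaf (nat_lit 13904139)) (.leaf (nat_lit 26022915))) (.leaf (nat_lit 13534723))))
    (.node (.node (.node (.leaf (nat_lit 5388035)) (.leaf (nat_lit 16455424))) (.leaf (nat_lit
    24955399))) (.node (.node (.leaf (nat_lit 16284934)) (.leaf (nat_lit 46490374))) (.leaf
    (nat_lit 39268865))))) (.node (.node (.node (.node (.leaf (nat_lit 4459016)) (.leaf (nat_lit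
    14969089))) (.node (.leaf (nat_lit 19179522)) (.leaf (nat_lit 23392518)))) (.node (.node (.leaf
    (nat_lit 6303752)) (.leaf (nat_lit 44086535))) (.leaf (nat_lit 37384709)))) (.node (.node
    (.node (.leaf (nat_lit 3944964)) (.leaf (nat_lit 11282699))) (.leaf (nat_lit 13820423))) (.node
    (.node (.leaf (nat_lit 19830790)) (.leaf (nat_lit 47540228))) (.leaf (nat_lit
    14749696)))))))))) (.node (.node (.node (.node (.node (.node (.node (.node (.node (.leaf
    (nat_lit 5)) (.leaf (nat_lit 17607168))) (.node (.leaf (nat_lit 19414531)) (.leaf (nat_lit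
    47795714)))) (.node (.node (.leaf (nat_lit 1843968)) (.leaf (nat_lit 35830027))) (.leaf
    (nat_lit 30566145)))) (.node (.node (.node (.leaf (nat_lit 4728075)) (.leaf (nat_lit
    16812039))) (.node (.leaf (nat_lit 22299142)) (.leaf (nat_lit 37559814)))) (.node (.node (.leaf
    (nat_lit 6976768)) (.leaf (nat_lit 44611843))) (.leaf (nat_lit 27074306))))) (.node (.node
    (.node (.node (.leaf (nat_lit 2495495)) (.leaf (nat_lit 13955847))) (.node (.leaf (nat_lit
    8406272)) (.leaf (nat_lit 24341248)))) (.node (.node (.leaf (nat_lit 14298122)) (.leaf (nat_lit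
    31115522))) (.leaf (nat_lit 13011460)))) (.node (.node (.node (.leaf (nat_lit 5257220)) (.leaf
    (nat_lit 15777536))) (.leaf (nat_lit 26922505))) (.node (.node (.leaf (nat_lit 16659977))
    (.leaf (nat_lit 23245063))) (.leaf (nat_lit 40402184)))))) (.node (.node (.node (.node (.node
    (.leaf (nat_lit 131330)) (.leaf (nat_lit 33490178))) (.node (.leaf (nat_lit 9609987)) (.leaf
    (nat_lit 44397576)))) (.node (.node (.leaf (nat_lit 4740103)) (.leaf (nat_lit 15611914)))
    (.leaf (nat_lit 32401673)))) (.node (.node (.node (.leaf (nat_lit 6566665)) (.leaf (nat_lit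
    32446983))) (.leaf (nat_lit 24663563))) (.node (.node (.leaf (nat_lit 15741189)) (.leaf
    (nat_lit 45702406))) (.leaf (nat_lit 39107075))))) (.node (.node (.node (.node (.leaf (nat_lit
    2759684)) (.leaf (nat_lit 17990919))) (.node (.leaf (nat_lit 18891265)) (.leaf (nat_lit
    40589568)))) (.node (.node (.leaf (nat_lit 4338691)) (.leaf (nat_lit 31110410))) (.leaf
    (nat_lit 14879495)))) (.node (.node (.node (.leaf (nat_lit 8930571)) (.leaf (nat_lit
    12740100))) (.leaf (nat_lit 13555457))) (.node (.node (.leaf (nat_lit 18102536)) (.leaf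
    (nat_lit 26948615))) (.leaf (nat_lit 30732032))))))) (.node (.node (.node (.node (.node (.node
    (.leaf (nat_lit 1179909)) (.leaf (nat_lit 14697221))) (.node (.leaf (nat_lit 20356870)) (.leaf
    (nat_lit 44920834)))) (.node (.node (.leaf (nat_lit 10100740)) (.leaf (nat_lit 11417354)))
    (.leaf (nat_lit 31614987)))) (.node (.node (.node (.leaf (nat_lit 1707012)) (.leaf (nat_lit
    24050435))) (.leaf (nat_lit 23245321))) (.node (.node (.leaf (nat_lit 4207625)) (.leaf (nat_lit
    24831747))) (.leaf (nat_lit 38610697))))) (.node (.node (.node (.node (.leaf (nat_lit 399872))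
    (.leaf (nat_lit 40703746))) (.node (.leaf (nat_lit 3677450)) (.leaf (nat_lit 32337152))))
    (.node (.node (.leaf (nat_lit 11170817)) (.leaf (nat_lit 14594315))) (.leaf (nat_lit
    14581250)))) (.node (.node (.node (.leaf (nat_lit 8132104)) (.leaf (nat_lit 7522048))) (.leaf
    (nat_lit 13029635))) (.node (.node (.leaf (nat_lit 14707715)) (.leaf (nat_lit 25371139)))
    (.leaf (nat_lit 27998215)))))) (.node (.node (.node (.node (.node (.leaf (nat_lit 2101515))
    (.leaf (nat_lit 42106884))) (.node (.leaf (nat_lit 7881735)) (.leaf (nat_lit 45316098))))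
    (.node (.node (.leaf (nat_lit 13117449)) (.leaf (nat_lit 13028618))) (.leaf (nat_lit
    33581829)))) (.node (.node (.node (.leaf (nat_lit 5912321)) (.leaf (nat_lit 12891904))) (.leaf
    (nat_lit 25844744))) (.node (.node (.leaf (nat_lit 15891202)) (.leaf (nat_lit 43578881)))
    (.leaf (nat_lit 23539457))))) (.node (.node (.node (.node (.leaf (nat_lit 1579008)) (.leaf
    (nat_lit 14344192))) (.node (.leaf (nat_lit 7617031)) (.leaf (nat_lit 23905542)))) (.node
    (.node (.leaf (nat_lit 10630151)) (.leaf (nat_lit 43168261))) (.leaf (nat_lit 36466948))))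
    (.node (.node (.node (.leaf (nat_lit 9707009)) (.leaf (nat_lit 11301121))) (.leaf (nat_lit
    29385991))) (.node (.node (.leaf (nat_lit 19020292)) (.leaf (nat_lit 47015686))) (.leaf
    (nat_lit 14200064)))))))) (.node (.node (.node (.node (.node (.node (.node (.leaf (nat_lit
    393226)) (.leaf (nat_lit 16662278))) (.node (.leaf (nat_lit 19678472)) (.leaf (nat_lit
    48024837)))) (.node (.node (.leaf (nat_lit 1181961)) (.leaf (nat_lit 11432449))) (.leaf
    (nat_lit 30993675)))) (.node (.node (.node (.leaf (nat_lit 1714692)) (.leaf (nat_lit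
    23669767))) (.leaf (nat_lit 22720006))) (.node (.node (.leaf (nat_lit 6436103)) (.leaf (nat_lit
    38097927))) (.leaf (nat_lit 38085385))))) (.node (.node (.node (.node (.leaf (nat_lit 3539972))
    (.leaf (nat_lit 14322948))) (.node (.leaf (nat_lit 3675659)) (.leaf (nat_lit 30501120))))
    (.node (.node (.leaf (nat_lit 14953739)) (.leaf (nat_lit 25331211))) (.leaf (nat_lit
    22075913)))) (.node (.node (.node (.leaf (nat_lit 5912835)) (.leaf (nat_lit 5288960))) (.leaf
    (nat_lit 27550466))) (.node (.node (.leaf (nat_lit 17184521)) (.leaf (nat_lit 23810816)))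
    (.leaf (nat_lit 40664331)))))) (.node (.node (.node (.node (.node (.leaf (nat_lit 1968643))
    (.leaf (nat_lit 29703940))) (.node (.leaf (nat_lit 20487424)) (.leaf (nat_lit 49116934))))
    (.node (.node (.leaf (nat_lit 12461314)) (.leaf (nat_lit 25491201))) (.leaf (nat_lit
    32963590)))) (.node (.node (.node (.leaf (nat_lit 6950667)) (.leaf (nat_lit 32975104))) (.leaf
    (nat_lit 25451273))) (.node (.node (.leaf (nat_lit 16004101)) (.leaf (nat_lit 43737091)))
    (.leaf (nat_lit 26527235))))) (.node (.node (.node (.node (.leaf (nat_lit 3149833)) (.leaf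
    (nat_lit 17991681))) (.node (.leaf (nat_lit 8668674)) (.leaf (nat_lit 40590592)))) (.node
    (.node (.leaf (nat_lit 4345095)) (.leaf (nat_lit 25903879))) (.leaf (nat_lit 30470146))))
    (.node (.node (.node (.leaf (nat_lit 9323267)) (.leaf (nat_lit 31666176))) (.leaf (nat_lit
    14057985))) (.node (.node (.leaf (nat_lit 18364682)) (.leaf (nat_lit 45704195))) (.leaf
    (nat_lit 17629184))))))) (.node (.node (.node (.node (.node (.node (.leaf (nat_lit 1966598))
    (.leaf (nat_lit 7627526))) (.node (.leaf (nat_lit 20488449)) (.leaf (nat_lit 48683014))))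
    (.node (.node (.leaf (nat_lit 10887426)) (.leaf (nat_lit 23392516))) (.leaf (nat_lit
    30568195)))) (.node (.node (.node (.leaf (nat_lit 4599559)) (.leaf (nat_lit 26288131))) (.leaf
    (nat_lit 23377415))) (.node (.node (.leaf (nat_lit 10246913)) (.leaf (nat_lit 44521475)))
    (.leaf (nat_lit 37668356))))) (.node (.node (.node (.node (.leaf (nat_lit 3019531)) (.leaf
    (nat_lit 13962752))) (.node (.leaf (nat_lit 9191946)) (.leaf (nat_lit 25514496)))) (.node
    (.node (.leaf (nat_lit 6316032)) (.leaf (nat_lit 38570507))) (.leaf (nat_lit 34670854))))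
    (.node (.node (.node (.leaf (nat_lit 8405259)) (.leaf (nat_lit 12873216))) (.leaf (nat_lit
    28730374))) (.node (.node (.leaf (nat_lit 17598217)) (.leaf (nat_lit 28364034))) (.leaf
    (nat_lit 41451270)))))) (.node (.node (.node (.node (.node (.leaf (nat_lit 2753285)) (.leaf
    (nat_lit 29685760))) (.node (.leaf (nat_lit 20465665)) (.leaf (nat_lit 48986121)))) (.node
    (.node (.leaf (nat_lit 13133826)) (.leaf (nat_lit 37557257))) (.leaf (nat_lit 17623296))))
    (.node (.node (.node (.leaf (nat_lit 1707009)) (.leaf (nat_lit 10249472))) (.leaf (nat_lit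
    26501385))) (.node (.node (.leaf (nat_lit 11959299)) (.leaf (nat_lit 46448901))) (.leaf
    (nat_lit 40139531))))) (.node (.node (.node (.node (.leaf (nat_lit 4327691)) (.leaf (nat_lit
    18514183))) (.node (.leaf (nat_lit 9191940)) (.leaf (nat_lit 23391493)))) (.node (.node (.leaf
    (nat_lit 11302403)) (.leaf (nat_lit 43955462))) (.leaf (nat_lit 37122562)))) (.node (.node
    (.node (.leaf (nat_lit 3944962)) (.leaf (nat_lit 31531776))) (.leaf (nat_lit 30172679))) (.node
    (.node (.leaf (nat_lit 19806981)) (.leaf (nat_lit 47499525))) (.leaf (nat_lit 17082368)))))))))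
    (.node (.node (.node (.node (.node (.node (.node (.node (.leaf (nat_lit 131593)) (.leaf
    (nat_lit 18285312))) (.node (.leaf (nat_lit 20200203)) (.leaf (nat_lit 46624001)))) (.node
    (.node (.leaf (nat_lit 1974784)) (.leaf (nat_lit 27057408))) (.leaf (nat_lit 30828294))))
    (.node (.node (.node (.leaf (nat_lit 5245957)) (.leaf (nat_lit 18383879))) (.leaf (nat_lit
    22457350))) (.node (.node (.leaf (nat_lit 4727043)) (.leaf (nat_lit 44914438))) (.leaf (nat_lit
    37910027))))) (.node (.node (.node (.node (.leaf (nat_lit 3408898)) (.leaf (nat_lit 13797636)))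
    (.node (.leaf (nat_lit 20201481)) (.leaf (nat_lit 23947008)))) (.node (.node (.leaf (nat_lit
    14577673)) (.leaf (nat_lit 37017608))) (.leaf (nat_lit 33843978)))) (.node (.node (.node (.leaf
    (nat_lit 7354631)) (.leaf (nat_lit 13400576))) (.leaf (nat_lit 27185163))) (.node (.node (.leaf
    (nat_lit 13402114)) (.leaf (nat_lit 25385728))) (.leaf (nat_lit 40318210)))))) (.node (.node
    (.node (.node (.node (.leaf (nat_lit 131331)) (.leaf (nat_lit 41631243))) (.node (.leaf
    (nat_lit 7905280)) (.leaf (nat_lit 48948998)))) (.node (.node (.leaf (nat_lit 12067846)) (.leaf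
    (nat_lit 24440833))) (.leaf (nat_lit 32795140)))) (.node (.node (.node (.leaf (nat_lit
    4076295)) (.leaf (nat_lit 26655746))) (.leaf (nat_lit 24428034))) (.node (.node (.leaf (nat_lit
    15872262)) (.leaf (nat_lit 45965062))) (.leaf (nat_lit 26160129))))) (.node (.node (.node
    (.node (.leaf (nat_lit 525060)) (.leaf (nat_lit 13790723))) (.node (.leaf (nat_lit 9211904))
    (.leaf (nat_lit 26420742)))) (.node (.node (.leaf (nat_lit 15347975)) (.leaf (nat_lit
    17089802))) (.leaf (nat_lit 33362186)))) (.node (.node (.node (.leaf (nat_lit 9193225)) (.leaf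
    (nat_lit 7258112))) (.leaf (nat_lit 28892427))) (.node (.node (.leaf (nat_lit 17730306)) (.leaf
    (nat_lit 26396935))) (.leaf (nat_lit 30697478))))))) (.node (.node (.node (.node (.node (.node
    (.leaf (nat_lit 1573130)) (.leaf (nat_lit 13140742))) (.node (.leaf (nat_lit 20619267)) (.leaf
    (nat_lit 44003586)))) (.node (.node (.leaf (nat_lit 10493959)) (.leaf (nat_lit 13794564)))
    (.leaf (nat_lit 31093256)))) (.node (.node (.node (.leaf (nat_lit 5778694)) (.leaf (nat_lit
    39224326))) (.leaf (nat_lit 23507979))) (.node (.node (.leaf (nat_lit 4203528)) (.leaf (nat_lit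
    38085127))) (.leaf (nat_lit 38740739))))) (.node (.node (.node (.node (.leaf (nat_lit 2495488))
    (.leaf (nat_lit 13830912))) (.node (.leaf (nat_lit 7620106)) (.leaf (nat_lit 38759936))))
    (.node (.node (.leaf (nat_lit 11040001)) (.leaf (nat_lit 38608394))) (.leaf (nat_lit
    34368771)))) (.node (.node (.node (.leaf (nat_lit 7749383)) (.leaf (nat_lit 5421824))) (.leaf
    (nat_lit 28336906))) (.node (.node (.leaf (nat_lit 17335563)) (.leaf (nat_lit 31146752)))
    (.leaf (nat_lit 41105931)))))) (.node (.node (.node (.node (.node (.leaf (nat_lit 2360065))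
    (.leaf (nat_lit 13975552))) (.node (.leaf (nat_lit 21513221)) (.leaf (nat_lit 49379590))))
    (.node (.node (.leaf (nat_lit 13264395)) (.leaf (nat_lit 35861505))) (.leaf (nat_lit
    33712902)))) (.node (.node (.node (.leaf (nat_lit 5256705)) (.leaf (nat_lit 11467520))) (.leaf
    (nat_lit 26106890))) (.node (.node (.leaf (nat_lit 15891463)) (.leaf (nat_lit 46227463)))
    (.leaf (nat_lit 25505799))))) (.node (.node (.node (.node (.leaf (nat_lit 3934472)) (.leaf
    (nat_lit 14312711))) (.node (.leaf (nat_lit 8692992)) (.leaf (nat_lit 40442374)))) (.node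
    (.node (.leaf (nat_lit 15609862)) (.leaf (nat_lit 38619911))) (.leaf (nat_lit 32970499))))
    (.node (.node (.node (.leaf (nat_lit 3951108)) (.leaf (nat_lit 13382661))) (.leaf (nat_lit
    29779460))) (.node (.node (.leaf (nat_lit 19413511)) (.leaf (nat_lit 47278342))) (.leaf
    (nat_lit 16679429)))))))) (.node (.node (.node (.node (.node (.node (.node (.leaf (nat_lit
    655617)) (.leaf (nat_lit 9210629))) (.node (.leaf (nat_lit 20593668)) (.leaf (nat_lit
    48066310)))) (.node (.node (.leaf (nat_lit 4862216)) (.leaf (nat_lit 24963074))) (.leaf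
    (nat_lit 31233801)))) (.node (.node (.node (.leaf (nat_lit 1713920)) (.leaf (nat_lit
    27330823))) (.leaf (nat_lit 23086854))) (.node (.node (.leaf (nat_lit 4202503)) (.leaf (nat_lit
    42949121))) (.leaf (nat_lit 38434571))))) (.node (.node (.node (.node (.leaf (nat_lit 2627338))
    (.leaf (nat_lit 29963779))) (.node (.leaf (nat_lit 2757898)) (.leaf (nat_lit 25392128))))
    (.node (.node (.leaf (nat_lit 11039492)) (.leaf (nat_lit 32309760))) (.leaf (nat_lit
    16570112)))) (.node (.node (.node (.leaf (nat_lit 7869706)) (.leaf (nat_lit 14842880))) (.leaf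
    (nat_lit 22205704))) (.node (.node (.leaf (nat_lit 13657091)) (.leaf (nat_lit 24847876)))
    (.leaf (nat_lit 31405832)))))) (.node (.node (.node (.node (.node (.leaf (nat_lit 1704968))
    (.leaf (nat_lit 29573123))) (.node (.leaf (nat_lit 7904259)) (.leaf (nat_lit 45053700))))
    (.node (.node (.leaf (nat_lit 12854534)) (.leaf (nat_lit 30457354))) (.leaf (nat_lit
    33319432)))) (.node (.node (.node (.leaf (nat_lit 7213062)) (.leaf (nat_lit 26686980))) (.leaf
    (nat_lit 23642882))) (.node (.node (.leaf (nat_lit 16135174)) (.leaf (nat_lit 23770375)))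
    (.leaf (nat_lit 37957122))))) (.node (.node (.node (.node (.leaf (nat_lit 2101506)) (.leaf
    (nat_lit 39651595))) (.node (.leaf (nat_lit 21800710)) (.leaf (nat_lit 26945286)))) (.node
    (.node (.leaf (nat_lit 10113282)) (.leaf (nat_lit 42905862))) (.leaf (nat_lit 36204554))))
    (.node (.node (.node (.leaf (nat_lit 9575691)) (.leaf (nat_lit 5814272))) (.leaf (nat_lit
    29123841))) (.node (.node (.leaf (nat_lit 13798657)) (.leaf (nat_lit 46753030))) (.leaf
    (nat_lit 14619136))))))) (.node (.node (.node (.node (.node (.node (.leaf (nat_lit 1314561))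
    (.leaf (nat_lit 9341446))) (.node (.leaf (nat_lit 20619777)) (.leaf (nat_lit 48817925))))
    (.node (.node (.leaf (nat_lit 11411718)) (.leaf (nat_lit 12856331))) (.leaf (nat_lit
    32008453)))) (.node (.node (.node (.leaf (nat_lit 6304011)) (.leaf (nat_lit 13811461))) (.leaf
    (nat_lit 24270344))) (.node (.node (.leaf (nat_lit 11951111)) (.leaf (nat_lit 44754690)))
    (.leaf (nat_lit 26683649))))) (.node (.node (.node (.node (.leaf (nat_lit 2891009)) (.leaf
    (nat_lit 29562113))) (.node (.leaf (nat_lit 18785537)) (.leaf (nat_lit 25912576)))) (.node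
    (.node (.leaf (nat_lit 9853440)) (.leaf (nat_lit 17612043))) (.leaf (nat_lit 35286534))))
    (.node (.node (.node (.leaf (nat_lit 8274690)) (.leaf (nat_lit 12083466))) (.leaf (nat_lit
    17092864))) (.node (.node (.leaf (nat_lit 17840138)) (.leaf (nat_lit 26952704))) (.leaf
    (nat_lit 41498628)))))) (.node (.node (.node (.node (.node (.leaf (nat_lit 2365187)) (.leaf
    (nat_lit 13405187))) (.node (.leaf (nat_lit 9060615)) (.leaf (nat_lit 23820032)))) (.node
    (.node (.leaf (nat_lit 14035976)) (.leaf (nat_lit 31659009))) (.leaf (nat_lit 14583297))))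
    (.node (.node (.node (.leaf (nat_lit 5909511)) (.leaf (nat_lit 12110592))) (.leaf (nat_lit
    26763531))) (.node (.node (.leaf (nat_lit 10386689)) (.leaf (nat_lit 45441795))) (.leaf
    (nat_lit 26030850))))) (.node (.node (.node (.node (.leaf (nat_lit 4465417)) (.leaf (nat_lit
    14469125))) (.node (.leaf (nat_lit 22167302)) (.leaf (nat_lit 31531526)))) (.node (.node (.leaf
    (nat_lit 4740096)) (.leaf (nat_lit 44217861))) (.leaf (nat_lit 35200258)))) (.node (.node
    (.node (.leaf (nat_lit 4075014)) (.leaf (nat_lit 12085506))) (.leaf (nat_lit 14083850))) (.node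
    (.node (.leaf (nat_lit 19306499)) (.leaf (nat_lit 45443841))) (.leaf (nat_lit
    35590912))))))))))) (.node (.node (.node (.node (.node (.node (.node (.node (.node (.node
    (.leaf (nat_lit 3)) (.leaf (nat_lit 16552704))) (.node (.leaf (nat_lit 8142343)) (.leaf
    (nat_lit 47016963)))) (.node (.node (.leaf (nat_lit 4468480)) (.leaf (nat_lit 14596362)))
    (.leaf (nat_lit 14215178)))) (.node (.node (.node (.leaf (nat_lit 4852235)) (.leaf (nat_lit
    17337602))) (.node (.leaf (nat_lit 21932289)) (.leaf (nat_lit 28366853)))) (.node (.node (.leaf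
    (nat_lit 6451968)) (.leaf (nat_lit 44480770))) (.leaf (nat_lit 37560073))))) (.node (.node
    (.node (.node (.leaf (nat_lit 2627330)) (.leaf (nat_lit 13951489))) (.node (.leaf (nat_lit
    9584641)) (.leaf (nat_lit 23816192)))) (.node (.node (.leaf (nat_lit 13659138)) (.leaf (nat_lit
    16566539))) (.leaf (nat_lit 13011457)))) (.node (.node (.node (.leaf (nat_lit 5781505)) (.leaf
    (nat_lit 11299328))) (.leaf (nat_lit 27025929))) (.node (.node (.leaf (nat_lit 16528904))
    (.leaf (nat_lit 23283712))) (.leaf (nat_lit 40291844)))))) (.node (.node (.node (.node (.node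
    (.leaf (nat_lit 132352)) (.leaf (nat_lit 35863041))) (.node (.leaf (nat_lit 21380357)) (.leaf
    (nat_lit 47281153)))) (.node (.node (.leaf (nat_lit 4741122)) (.leaf (nat_lit 40573441)))
    (.leaf (nat_lit 32270600)))) (.node (.node (.node (.leaf (nat_lit 6688521)) (.leaf (nat_lit
    40156929))) (.leaf (nat_lit 24532490))) (.node (.node (.leaf (nat_lit 15627783)) (.leaf
    (nat_lit 45792518))) (.leaf (nat_lit 38742530))))) (.node (.node (.node (.node (.leaf (nat_lit
    2759683)) (.leaf (nat_lit 18384130))) (.node (.leaf (nat_lit 8143363)) (.leaf (nat_lit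
    31148544)))) (.node (.node (.leaf (nat_lit 15093762)) (.leaf (nat_lit 13546763))) (.leaf
    (nat_lit 14880258)))) (.node (.node (.node (.leaf (nat_lit 9051147)) (.leaf (nat_lit
    15492609))) (.leaf (nat_lit 17065735))) (.node (.node (.leaf (nat_lit 14321921)) (.leaf
    (nat_lit 37559815))) (.leaf (nat_lit 28785417))))))) (.node (.node (.node (.node (.node (.node
    (.leaf (nat_lit 1048836)) (.leaf (nat_lit 14593024))) (.node (.leaf (nat_lit 20855815)) (.leaf
    (nat_lit 48287237)))) (.node (.node (.leaf (nat_lit 9969667)) (.leaf (nat_lit 32434180)))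
    (.leaf (nat_lit 31483914)))) (.node (.node (.node (.leaf (nat_lit 1575943)) (.leaf (nat_lit
    27321347))) (.leaf (nat_lit 23350793))) (.node (.node (.leaf (nat_lit 4739584)) (.leaf (nat_lit
    44653316))) (.leaf (nat_lit 38696969))))) (.node (.node (.node (.node (.leaf (nat_lit 528896))
    (.leaf (nat_lit 38475530))) (.node (.leaf (nat_lit 9213440)) (.leaf (nat_lit 24468480))))
    (.node (.node (.leaf (nat_lit 10908675)) (.leaf (nat_lit 23269632))) (.leaf (nat_lit
    13532676)))) (.node (.node (.node (.leaf (nat_lit 7879937)) (.leaf (nat_lit 6874368))) (.leaf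
    (nat_lit 27448320))) (.node (.node (.leaf (nat_lit 14182403)) (.leaf (nat_lit 30323971)))
    (.leaf (nat_lit 40843270)))))) (.node (.node (.node (.node (.node (.leaf (nat_lit 2228747))
    (.leaf (nat_lit 42005255))) (.node (.leaf (nat_lit 8953600)) (.leaf (nat_lit 47151111))))
    (.node (.node (.leaf (nat_lit 12986376)) (.leaf (nat_lit 26529291))) (.leaf (nat_lit
    14745354)))) (.node (.node (.node (.leaf (nat_lit 5912322)) (.leaf (nat_lit 24170240))) (.leaf
    (nat_lit 25609227))) (.node (.node (.leaf (nat_lit 11434753)) (.leaf (nat_lit 32293123)))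
    (.leaf (nat_lit 39661323))))) (.node (.node (.node (.node (.leaf (nat_lit 2101507)) (.leaf
    (nat_lit 31492105))) (.node (.leaf (nat_lit 7640064)) (.leaf (nat_lit 24966662)))) (.node
    (.node (.leaf (nat_lit 10636036)) (.leaf (nat_lit 25905156))) (.leaf (nat_lit 36335875))))
    (.node (.node (.node (.leaf (nat_lit 7883014)) (.leaf (nat_lit 15757570))) (.leaf (nat_lit
    27320070))) (.node (.node (.leaf (nat_lit 18889219)) (.leaf (nat_lit 47105286))) (.leaf
    (nat_lit 13149696)))))))) (.node (.node (.node (.node (.node (.node (.node (.leaf (nat_lit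
    262659)) (.leaf (nat_lit 8160005))) (.node (.leaf (nat_lit 9083400)) (.leaf (nat_lit
    45051138)))) (.node (.node (.leaf (nat_lit 1838856)) (.leaf (nat_lit 13775110))) (.leaf
    (nat_lit 31090443)))) (.node (.node (.node (.leaf (nat_lit 5508103)) (.leaf (nat_lit
    25243905))) (.leaf (nat_lit 22824454))) (.node (.node (.leaf (nat_lit 6305027)) (.leaf (nat_lit
    38098946))) (.leaf (nat_lit 38172425))))) (.node (.node (.node (.node (.leaf (nat_lit 3412739))
    (.leaf (nat_lit 18548224))) (.node (.leaf (nat_lit 8395787)) (.leaf (nat_lit 26048000))))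
    (.node (.node (.leaf (nat_lit 14822666)) (.leaf (nat_lit 23888650))) (.leaf (nat_lit
    23003913)))) (.node (.node (.node (.leaf (nat_lit 5912836)) (.leaf (nat_lit 11303178))) (.leaf
    (nat_lit 27419393))) (.node (.node (.leaf (nat_lit 17053448)) (.leaf (nat_lit 24822018)))
    (.leaf (nat_lit 40574724)))))) (.node (.node (.node (.node (.node (.leaf (nat_lit 131335))
    (.leaf (nat_lit 29572865))) (.node (.leaf (nat_lit 8010753)) (.leaf (nat_lit 49211398))))
    (.node (.node (.leaf (nat_lit 12329993)) (.leaf (nat_lit 25489412))) (.leaf (nat_lit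
    33057286)))) (.node (.node (.node (.leaf (nat_lit 4862978)) (.leaf (nat_lit 27314948))) (.leaf
    (nat_lit 25320200))) (.node (.node (.leaf (nat_lit 12876036)) (.leaf (nat_lit 43474946)))
    (.leaf (nat_lit 26029319))))) (.node (.node (.node (.node (.leaf (nat_lit 397320)) (.leaf
    (nat_lit 14445825))) (.node (.leaf (nat_lit 21644803)) (.leaf (nat_lit 40464384)))) (.node
    (.node (.leaf (nat_lit 10115072)) (.leaf (nat_lit 42381569))) (.leaf (nat_lit 27988481))))
    (.node (.node (.node (.leaf (nat_lit 8800007)) (.leaf (nat_lit 29018634))) (.leaf (nat_lit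
    28470792))) (.node (.node (.leaf (nat_lit 18251524)) (.leaf (nat_lit 43869188))) (.leaf
    (nat_lit 13670144))))))) (.node (.node (.node (.node (.node (.node (.leaf (nat_lit 1835525))
    (.leaf (nat_lit 18132736))) (.node (.leaf (nat_lit 20357379)) (.leaf (nat_lit 48060168))))
    (.node (.node (.leaf (nat_lit 10756105)) (.leaf (nat_lit 25489671))) (.leaf (nat_lit
    28208900)))) (.node (.node (.node (.leaf (nat_lit 6041353)) (.leaf (nat_lit 37827075))) (.leaf
    (nat_lit 23770633))) (.node (.node (.leaf (nat_lit 12865281)) (.leaf (nat_lit 45137155)))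
    (.leaf (nat_lit 25502468))))) (.node (.node (.node (.node (.leaf (nat_lit 2495239)) (.leaf
    (nat_lit 37043456))) (.node (.leaf (nat_lit 7619083)) (.leaf (nat_lit 25907456)))) (.node
    (.node (.leaf (nat_lit 4879360)) (.leaf (nat_lit 18161163))) (.leaf (nat_lit 34761990))))
    (.node (.node (.node (.leaf (nat_lit 8525323)) (.leaf (nat_lit 24444672))) (.leaf (nat_lit
    28599301))) (.node (.node (.leaf (nat_lit 17709065)) (.leaf (nat_lit 37537026))) (.leaf
    (nat_lit 31406855)))))) (.node (.node (.node (.node (.node (.leaf (nat_lit 2622212)) (.leaf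
    (nat_lit 18408192))) (.node (.leaf (nat_lit 9478400)) (.leaf (nat_lit 47544833)))) (.node
    (.node (.leaf (nat_lit 13527049)) (.leaf (nat_lit 15537160))) (.leaf (nat_lit 28770563))))
    (.node (.node (.node (.leaf (nat_lit 1707271)) (.leaf (nat_lit 12865290))) (.leaf (nat_lit
    26370312))) (.node (.node (.leaf (nat_lit 16022532)) (.leaf (nat_lit 38625537))) (.leaf
    (nat_lit 25243906))))) (.node (.node (.node (.node (.leaf (nat_lit 4196618)) (.leaf (nat_lit
    14968327))) (.node (.leaf (nat_lit 8667655)) (.leaf (nat_lit 26932997)))) (.node (.node (.leaf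
    (nat_lit 12089092)) (.leaf (nat_lit 43824389))) (.leaf (nat_lit 36903433)))) (.node (.node
    (.node (.leaf (nat_lit 6572544)) (.leaf (nat_lit 7415040))) (.leaf (nat_lit 29943046))) (.node
    (.node (.leaf (nat_lit 19568139)) (.leaf (nat_lit 47408900))) (.leaf (nat_lit 8338176)))))))))
    (.node (.node (.node (.node (.node (.node (.node (.node (.leaf (nat_lit 262153)) (.leaf
    (nat_lit 9241600))) (.node (.leaf (nat_lit 20069130)) (.leaf (nat_lit 47803654)))) (.node
    (.node (.leaf (nat_lit 1837577)) (.leaf (nat_lit 24970496))) (.leaf (nat_lit 30697221))))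
    (.node (.node (.node (.leaf (nat_lit 5114884)) (.leaf (nat_lit 17757963))) (.leaf (nat_lit
    22561542))) (.node (.node (.leaf (nat_lit 4214784)) (.leaf (nat_lit 45005062))) (.leaf (nat_lit
    18554885))))) (.node (.node (.node (.node (.leaf (nat_lit 3152137)) (.leaf (nat_lit 18018816)))
    (.node (.leaf (nat_lit 2902272)) (.leaf (nat_lit 30368512)))) (.node (.node (.leaf (nat_lit
    14691593)) (.leaf (nat_lit 14866441))) (.leaf (nat_lit 14584327)))) (.node (.node (.node (.leaf
    (nat_lit 7354630)) (.leaf (nat_lit 7523328))) (.leaf (nat_lit 27288075))) (.node (.node (.leaf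
    (nat_lit 16791050)) (.leaf (nat_lit 24862720))) (.leaf (nat_lit 23409921)))))) (.node (.node
    (.node (.node (.node (.leaf (nat_lit 133120)) (.leaf (nat_lit 41713419))) (.node (.leaf
    (nat_lit 8035072)) (.leaf (nat_lit 46878473)))) (.node (.node (.leaf (nat_lit 11936773)) (.leaf
    (nat_lit 38072329))) (.leaf (nat_lit 32664067)))) (.node (.node (.node (.leaf (nat_lit
    3945222)) (.leaf (nat_lit 24034308))) (.leaf (nat_lit 24821257))) (.node (.node (.leaf (nat_lit
    15497219)) (.leaf (nat_lit 46054918))) (.leaf (nat_lit 39352587))))) (.node (.node (.node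
    (.node (.leaf (nat_lit 393991)) (.leaf (nat_lit 14838274))) (.node (.leaf (nat_lit 19435778))
    (.leaf (nat_lit 38107648)))) (.node (.node (.leaf (nat_lit 4737795)) (.leaf (nat_lit
    25985803))) (.leaf (nat_lit 35811082)))) (.node (.node (.node (.leaf (nat_lit 9313545)) (.leaf
    (nat_lit 30485760))) (.leaf (nat_lit 28992523))) (.node (.node (.leaf (nat_lit 16681729))
    (.leaf (nat_lit 26397955))) (.leaf (nat_lit 28129024))))))) (.node (.node (.node (.node (.node
    (.node (.leaf (nat_lit 1442055)) (.leaf (nat_lit 13123077))) (.node (.leaf (nat_lit 20357122))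
    (.leaf (nat_lit 48328966)))) (.node (.node (.leaf (nat_lit 10243846)) (.leaf (nat_lit
    40582656))) (.leaf (nat_lit 15003912)))) (.node (.node (.node (.leaf (nat_lit 5901574)) (.leaf
    (nat_lit 24062727))) (.leaf (nat_lit 23612939))) (.node (.node (.leaf (nat_lit 6829063)) (.leaf
    (nat_lit 24322564))) (.leaf (nat_lit 23383555))))) (.node (.node (.node (.node (.leaf (nat_lit
    525057)) (.leaf (nat_lit 13440512))) (.node (.leaf (nat_lit 7751434)) (.leaf (nat_lit
    24323589)))) (.node (.node (.leaf (nat_lit 15347716)) (.leaf (nat_lit 23406347))) (.leaf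
    (nat_lit 30475530)))) (.node (.node (.node (.leaf (nat_lit 7749378)) (.leaf (nat_lit 7127808)))
    (.leaf (nat_lit 28205831))) (.node (.node (.leaf (nat_lit 17446667)) (.leaf (nat_lit
    30340609))) (.leaf (nat_lit 41188875)))))) (.node (.node (.node (.node (.node (.leaf (nat_lit
    528648)) (.leaf (nat_lit 29703432))) (.node (.leaf (nat_lit 9585667)) (.leaf (nat_lit
    49474822)))) (.node (.node (.leaf (nat_lit 13379595)) (.leaf (nat_lit 41104395))) (.leaf
    (nat_lit 33615364)))) (.node (.node (.node (.leaf (nat_lit 7088129)) (.leaf (nat_lit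
    15676928))) (.leaf (nat_lit 23381506))) (.node (.node (.leaf (nat_lit 16266501)) (.leaf
    (nat_lit 32306695))) (.leaf (nat_lit 37695490))))) (.node (.node (.node (.node (.leaf (nat_lit
    2888967)) (.leaf (nat_lit 13426176))) (.node (.leaf (nat_lit 7618051)) (.leaf (nat_lit
    27073029)))) (.node (.node (.leaf (nat_lit 15478789)) (.leaf (nat_lit 43431169))) (.leaf
    (nat_lit 36640774)))) (.node (.node (.node (.leaf (nat_lit 9707012)) (.leaf (nat_lit
    37040896))) (.leaf (nat_lit 29648387))) (.node (.node (.leaf (nat_lit 19174150)) (.leaf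
    (nat_lit 47367686))) (.leaf (nat_lit 33719813)))))))) (.node (.node (.node (.node (.node (.node
    (.node (.leaf (nat_lit 394241)) (.leaf (nat_lit 13013504))) (.node (.leaf (nat_lit 20462595))
    (.leaf (nat_lit 48155910)))) (.node (.node (.leaf (nat_lit 6956296)) (.leaf (nat_lit
    13398534))) (.leaf (nat_lit 27979267)))) (.node (.node (.node (.leaf (nat_lit 5122819)) (.leaf
    (nat_lit 25724934))) (.leaf (nat_lit 19181313))) (.node (.node (.leaf (nat_lit 4728066)) (.leaf
    (nat_lit 45308422))) (.leaf (nat_lit 38303498))))) (.node (.node (.node (.node (.leaf (nat_lit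
    3018760)) (.leaf (nat_lit 36782596))) (.node (.leaf (nat_lit 8820992)) (.leaf (nat_lit
    38627840)))) (.node (.node (.leaf (nat_lit 10908417)) (.leaf (nat_lit 38070017))) (.leaf
    (nat_lit 28115972)))) (.node (.node (.node (.leaf (nat_lit 7617289)) (.leaf (nat_lit
    12001280))) (.leaf (nat_lit 27943685))) (.node (.node (.leaf (nat_lit 13140743)) (.leaf
    (nat_lit 24323591))) (.leaf (nat_lit 40795653)))))) (.node (.node (.node (.node (.node (.leaf
    (nat_lit 1183235)) (.leaf (nat_lit 41975811))) (.node (.leaf (nat_lit 21536517)) (.leaf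
    (nat_lit 42956546)))) (.node (.node (.leaf (nat_lit 11297026)) (.leaf (nat_lit 14204427)))
    (.leaf (nat_lit 14350599)))) (.node (.node (.node (.leaf (nat_lit 7081989)) (.leaf (nat_lit
    26278663))) (.leaf (nat_lit 25582346))) (.node (.node (.leaf (nat_lit 12745220)) (.leaf
    (nat_lit 46212612))) (.leaf (nat_lit 39614986))))) (.node (.node (.node (.node (.leaf (nat_lit
    2889220)) (.leaf (nat_lit 16058634))) (.node (.leaf (nat_lit 21904902)) (.leaf (nat_lit
    25342214)))) (.node (.node (.leaf (nat_lit 4207876)) (.leaf (nat_lit 42774789))) (.leaf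
    (nat_lit 35984134)))) (.node (.node (.node (.leaf (nat_lit 8538114)) (.leaf (nat_lit 6888704)))
    (.leaf (nat_lit 17066755))) (.node (.node (.leaf (nat_lit 18386187)) (.leaf (nat_lit
    46842374))) (.leaf (nat_lit 16689408))))))) (.node (.node (.node (.node (.node (.node (.leaf
    (nat_lit 1314562)) (.leaf (nat_lit 17580550))) (.node (.leaf (nat_lit 21249284)) (.leaf
    (nat_lit 43348739)))) (.node (.node (.leaf (nat_lit 11280645)) (.leaf (nat_lit 10365962)))
    (.leaf (nat_lit 31877380)))) (.node (.node (.node (.leaf (nat_lit 6426123)) (.leaf (nat_lit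
    25097472))) (.leaf (nat_lit 24033291))) (.node (.node (.leaf (nat_lit 10374663)) (.leaf
    (nat_lit 30364419))) (.leaf (nat_lit 38873355))))) (.node (.node (.node (.node (.leaf (nat_lit
    3677447)) (.leaf (nat_lit 14838023))) (.node (.leaf (nat_lit 21642753)) (.leaf (nat_lit
    37056768)))) (.node (.node (.leaf (nat_lit 11034368)) (.leaf (nat_lit 24822027))) (.leaf
    (nat_lit 35155461)))) (.node (.node (.node (.leaf (nat_lit 8667913)) (.leaf (nat_lit
    15777803))) (.leaf (nat_lit 28105475))) (.node (.node (.leaf (nat_lit 17728259)) (.leaf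
    (nat_lit 31137284))) (.leaf (nat_lit 40975362)))))) (.node (.node (.node (.node (.node (.leaf
    (nat_lit 3015431)) (.leaf (nat_lit 14344455))) (.node (.leaf (nat_lit 8559616)) (.leaf (nat_lit
    46753800)))) (.node (.node (.leaf (nat_lit 13789707)) (.leaf (nat_lit 40571908))) (.leaf
    (nat_lit 14059015)))) (.node (.node (.node (.leaf (nat_lit 5388036)) (.leaf (nat_lit
    16180224))) (.leaf (nat_lit 26632458))) (.node (.node (.leaf (nat_lit 15760647)) (.leaf
    (nat_lit 45966091))) (.leaf (nat_lit 40270857))))) (.node (.node (.node (.node (.leaf (nat_lit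
    4590089)) (.leaf (nat_lit 26283264))) (.node (.leaf (nat_lit 19179523)) (.leaf (nat_lit
    31125765)))) (.node (.node (.leaf (nat_lit 6303751)) (.leaf (nat_lit 38621188))) (.leaf
    (nat_lit 23534853)))) (.node (.node (.node (.leaf (nat_lit 6036999)) (.leaf (nat_lit
    15755526))) (.leaf (nat_lit 30303752))) (.node (.node (.leaf (nat_lit 19306498)) (.leaf
    (nat_lit 47630598))) (.leaf (nat_lit 14723840)))))))))) (.node (.node (.node (.node (.node
    (.node (.node (.node (.node (.leaf (nat_lit 7)) (.leaf (nat_lit 8182528))) (.node (.leaf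
    (nat_lit 18912258)) (.leaf (nat_lit 45706242)))) (.node (.node (.leaf (nat_lit 1322496)) (.leaf
    (nat_lit 14727690))) (.leaf (nat_lit 13560067)))) (.node (.node (.node (.leaf (nat_lit
    4983809)) (.leaf (nat_lit 17898496))) (.node (.leaf (nat_lit 19966466)) (.leaf (nat_lit
    31527941)))) (.node (.node (.leaf (nat_lit 6839808)) (.leaf (nat_lit 44742916))) (.leaf
    (nat_lit 37778954))))) (.node (.node (.node (.node (.leaf (nat_lit 3146504)) (.leaf (nat_lit
    14349058))) (.node (.leaf (nat_lit 3686656)) (.leaf (nat_lit 25380608)))) (.node (.node (.leaf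
    (nat_lit 14429195)) (.leaf (nat_lit 40421642))) (.leaf (nat_lit 14060034)))) (.node (.node
    (.node (.leaf (nat_lit 5257219)) (.leaf (nat_lit 25241600))) (.leaf (nat_lit 26529282))) (.node
    (.node (.leaf (nat_lit 16547593)) (.leaf (nat_lit 25904384))) (.leaf (nat_lit 40533257))))))
    (.node (.node (.node (.node (.node (.leaf (nat_lit 1183234)) (.leaf (nat_lit 28897537))) (.node
    (.leaf (nat_lit 21511430)) (.leaf (nat_lit 46616073)))) (.node (.node (.leaf (nat_lit
    11674627)) (.leaf (nat_lit 16398347))) (.leaf (nat_lit 32306953)))) (.node (.node (.node (.leaf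
    (nat_lit 6173441)) (.leaf (nat_lit 18035205))) (.leaf (nat_lit 24794888))) (.node (.node (.leaf
    (nat_lit 12744706)) (.leaf (nat_lit 45923845))) (.leaf (nat_lit 25476611))))) (.node (.node
    (.node (.node (.leaf (nat_lit 529152)) (.leaf (nat_lit 16718347))) (.node (.leaf (nat_lit
    21643783)) (.leaf (nat_lit 31672576)))) (.node (.node (.leaf (nat_lit 15348737)) (.leaf
    (nat_lit 25343234))) (.leaf (nat_lit 35548933)))) (.node (.node (.node (.leaf (nat_lit
    8930561)) (.leaf (nat_lit 16147973))) (.leaf (nat_lit 13555460))) (.node (.node (.leaf (nat_lit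
    18233609)) (.leaf (nat_lit 28366855))) (.leaf (nat_lit 13691648))))))) (.node (.node (.node
    (.node (.node (.node (.leaf (nat_lit 1310982)) (.leaf (nat_lit 7634437))) (.node (.leaf
    (nat_lit 9608964)) (.leaf (nat_lit 46493697)))) (.node (.node (.leaf (nat_lit 10231813)) (.leaf
    (nat_lit 15742731))) (.leaf (nat_lit 31518987)))) (.node (.node (.node (.leaf (nat_lit
    5384199)) (.leaf (nat_lit 24022021))) (.leaf (nat_lit 23481866))) (.node (.node (.leaf (nat_lit
    6960129)) (.leaf (nat_lit 30366471))) (.leaf (nat_lit 23930626))))) (.node (.node (.node (.node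
    (.leaf (nat_lit 525319)) (.leaf (nat_lit 30080004))) (.node (.leaf (nat_lit 7750411)) (.leaf
    (nat_lit 23290368)))) (.node (.node (.leaf (nat_lit 11039746)) (.leaf (nat_lit 24293642)))
    (.leaf (nat_lit 14581251)))) (.node (.node (.node (.leaf (nat_lit 8263177)) (.leaf (nat_lit
    7151872))) (.leaf (nat_lit 28074758))) (.node (.node (.leaf (nat_lit 17315594)) (.leaf (nat_lit
    38609409))) (.leaf (nat_lit 40936969)))))) (.node (.node (.node (.node (.node (.leaf (nat_lit
    2101505)) (.leaf (nat_lit 29704449))) (.node (.leaf (nat_lit 9585668)) (.leaf (nat_lit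
    49117185)))) (.node (.node (.leaf (nat_lit 13001737)) (.leaf (nat_lit 28364043))) (.leaf
    (nat_lit 31260674)))) (.node (.node (.node (.leaf (nat_lit 5780995)) (.leaf (nat_lit
    10407936))) (.leaf (nat_lit 25975817))) (.node (.node (.leaf (nat_lit 15629060)) (.leaf
    (nat_lit 46222339))) (.leaf (nat_lit 39877385))))) (.node (.node (.node (.node (.leaf (nat_lit
    396297)) (.leaf (nat_lit 13295872))) (.node (.leaf (nat_lit 8163584)) (.leaf (nat_lit
    23904773)))) (.node (.node (.leaf (nat_lit 10509568)) (.leaf (nat_lit 43299334))) (.leaf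
    (nat_lit 36598021)))) (.node (.node (.node (.leaf (nat_lit 3951105)) (.leaf (nat_lit
    11956483))) (.leaf (nat_lit 14999556))) (.node (.node (.leaf (nat_lit 19151365)) (.leaf
    (nat_lit 44394242))) (.leaf (nat_lit 14059014)))))))) (.node (.node (.node (.node (.node (.node
    (.node (.leaf (nat_lit 524299)) (.leaf (nat_lit 8851200))) (.node (.leaf (nat_lit 20331521))
    (.leaf (nat_lit 46755330)))) (.node (.node (.leaf (nat_lit 4333832)) (.leaf (nat_lit
    15626756))) (.leaf (nat_lit 31221765)))) (.node (.node (.node (.leaf (nat_lit 5639426)) (.leaf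
    (nat_lit 39372545))) (.leaf (nat_lit 22195713))) (.node (.node (.leaf (nat_lit 4731912)) (.leaf
    (nat_lit 45267461))) (.leaf (nat_lit 24453889))))) (.node (.node (.node (.node (.leaf (nat_lit
    2628353)) (.leaf (nat_lit 42237958))) (.node (.leaf (nat_lit 2768128)) (.leaf (nat_lit
    23427072)))) (.node (.node (.leaf (nat_lit 14840331)) (.leaf (nat_lit 30982401))) (.leaf
    (nat_lit 34106374)))) (.node (.node (.node (.leaf (nat_lit 7607560)) (.leaf (nat_lit
    13415168))) (.leaf (nat_lit 27681539))) (.node (.node (.leaf (nat_lit 17072905)) (.leaf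
    (nat_lit 38101248))) (.leaf (nat_lit 38352385)))))) (.node (.node (.node (.node (.node (.leaf
    (nat_lit 1313031)) (.leaf (nat_lit 18562823))) (.node (.leaf (nat_lit 8036102)) (.leaf (nat_lit
    47281927)))) (.node (.node (.leaf (nat_lit 12592388)) (.leaf (nat_lit 38729474))) (.leaf
    (nat_lit 33188359)))) (.node (.node (.node (.leaf (nat_lit 6829323)) (.leaf (nat_lit
    15792906))) (.leaf (nat_lit 25346569))) (.node (.node (.leaf (nat_lit 10254850)) (.leaf
    (nat_lit 38620416))) (.leaf (nat_lit 39499268))))) (.node (.node (.node (.node (.leaf (nat_lit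
    3806721)) (.leaf (nat_lit 18515972))) (.node (.leaf (nat_lit 21773829)) (.leaf (nat_lit
    24820230)))) (.node (.node (.leaf (nat_lit 4738306)) (.leaf (nat_lit 42512643))) (.leaf
    (nat_lit 22483464)))) (.node (.node (.node (.leaf (nat_lit 9321220)) (.leaf (nat_lit
    10233866))) (.leaf (nat_lit 27552513))) (.node (.node (.leaf (nat_lit 13929474)) (.leaf
    (nat_lit 45833987))) (.leaf (nat_lit 17120256))))))) (.node (.node (.node (.node (.node (.node
    (.leaf (nat_lit 1838854)) (.leaf (nat_lit 8810245))) (.node (.leaf (nat_lit 20619522)) (.leaf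
    (nat_lit 48591622)))) (.node (.node (.leaf (nat_lit 11018499)) (.leaf (nat_lit 37024003)))
    (.leaf (nat_lit 27553543)))) (.node (.node (.node (.leaf (nat_lit 6295050)) (.leaf (nat_lit
    34782980))) (.leaf (nat_lit 24006410))) (.node (.node (.leaf (nat_lit 11426818)) (.leaf
    (nat_lit 45176066))) (.leaf (nat_lit 38828042))))) (.node (.node (.node (.node (.leaf (nat_lit
    3802118)) (.leaf (nat_lit 14837251))) (.node (.leaf (nat_lit 8273674)) (.leaf (nat_lit
    23774725)))) (.node (.node (.leaf (nat_lit 10507008)) (.leaf (nat_lit 37539073))) (.leaf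
    (nat_lit 34893314)))) (.node (.node (.node (.leaf (nat_lit 8657928)) (.leaf (nat_lit
    11433995))) (.leaf (nat_lit 28629766))) (.node (.node (.leaf (nat_lit 17204994)) (.leaf
    (nat_lit 40443395))) (.leaf (nat_lit 41368582)))))) (.node (.node (.node (.node (.node (.leaf
    (nat_lit 2884358)) (.leaf (nat_lit 31915264))) (.node (.leaf (nat_lit 8407047)) (.leaf (nat_lit
    47007496)))) (.node (.node (.leaf (nat_lit 13773066)) (.leaf (nat_lit 27071490))) (.leaf
    (nat_lit 13534722)))) (.node (.node (.node (.leaf (nat_lit 1707011)) (.leaf (nat_lit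
    10291456))) (.leaf (nat_lit 26397193))) (.node (.node (.leaf (nat_lit 16397574)) (.leaf
    (nat_lit 46579974))) (.leaf (nat_lit 40055307))))) (.node (.node (.node (.node (.leaf (nat_lit
    4202763)) (.leaf (nat_lit 18383107))) (.node (.leaf (nat_lit 22036229)) (.leaf (nat_lit
    24458502)))) (.node (.node (.leaf (nat_lit 11428356)) (.leaf (nat_lit 43863814))) (.leaf
    (nat_lit 37253636)))) (.node (.node (.node (.leaf (nat_lit 4469253)) (.leaf (nat_lit
    11941387))) (.leaf (nat_lit 13821442))) (.node (.node (.leaf (nat_lit 19938054)) (.leaf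
    (nat_lit 45967873))) (.leaf (nat_lit 18263552))))))))) (.node (.node (.node (.node (.node
    (.node (.node (.node (.leaf (nat_lit 262657)) (.leaf (nat_lit 9340677))) (.node (.leaf (nat_lit
    20093451)) (.leaf (nat_lit 42953988)))) (.node (.node (.leaf (nat_lit 1187328)) (.leaf (nat_lit
    26925312))) (.leaf (nat_lit 30731014)))) (.node (.node (.node (.leaf (nat_lit 5377030)) (.leaf
    (nat_lit 25735937))) (.leaf (nat_lit 22693381))) (.node (.node (.leaf (nat_lit 6836480)) (.leaf
    (nat_lit 44258819))) (.leaf (nat_lit 37822731))))) (.node (.node (.node (.node (.leaf (nat_lit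
    2365954)) (.leaf (nat_lit 30213888))) (.node (.leaf (nat_lit 19677192)) (.leaf (nat_lit
    23783430)))) (.node (.node (.leaf (nat_lit 13135873)) (.leaf (nat_lit 17744394))) (.leaf
    (nat_lit 30343690)))) (.node (.node (.node (.leaf (nat_lit 5388546)) (.leaf (nat_lit
    15762688))) (.leaf (nat_lit 24039425))) (.node (.node (.leaf (nat_lit 16922123)) (.leaf
    (nat_lit 38623232))) (.leaf (nat_lit 24458503)))))) (.node (.node (.node (.node (.node (.leaf
    (nat_lit 1968644)) (.leaf (nat_lit 18038280))) (.node (.leaf (nat_lit 9583879)) (.leaf (nat_lit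
    48854278)))) (.node (.node (.leaf (nat_lit 11951110)) (.leaf (nat_lit 37679111))) (.leaf
    (nat_lit 32926213)))) (.node (.node (.node (.leaf (nat_lit 6696708)) (.leaf (nat_lit
    26681351))) (.leaf (nat_lit 25057034))) (.node (.node (.leaf (nat_lit 15759622)) (.leaf
    (nat_lit 44916489))) (.leaf (nat_lit 39483913))))) (.node (.node (.node (.node (.leaf (nat_lit
    2103552)) (.leaf (nat_lit 13921799))) (.node (.leaf (nat_lit 7620100)) (.leaf (nat_lit
    30327046)))) (.node (.node (.leaf (nat_lit 6445312)) (.leaf (nat_lit 25895434))) (.leaf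
    (nat_lit 35942405)))) (.node (.node (.node (.leaf (nat_lit 7751425)) (.leaf (nat_lit
    16419072))) (.leaf (nat_lit 28499209))) (.node (.node (.leaf (nat_lit 14191367)) (.leaf
    (nat_lit 31119363))) (.leaf (nat_lit 13657862))))))) (.node (.node (.node (.node (.node (.node
    (.leaf (nat_lit 1704203)) (.leaf (nat_lit 14173701))) (.node (.leaf (nat_lit 21011459)) (.leaf
    (nat_lit 48551941)))) (.node (.node (.leaf (nat_lit 4870148)) (.leaf (nat_lit 26538241)))
    (.leaf (nat_lit 14608641)))) (.node (.node (.node (.leaf (nat_lit 6032904)) (.leaf (nat_lit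
    39258372))) (.leaf (nat_lit 23744264))) (.node (.node (.leaf (nat_lit 11292164)) (.leaf
    (nat_lit 45556227))) (.leaf (nat_lit 38714884))))) (.node (.node (.node (.node (.leaf (nat_lit
    530179)) (.leaf (nat_lit 36388608))) (.node (.leaf (nat_lit 19547659)) (.leaf (nat_lit
    23295232)))) (.node (.node (.leaf (nat_lit 11171074)) (.leaf (nat_lit 23366410))) (.leaf
    (nat_lit 34499844)))) (.node (.node (.node (.leaf (nat_lit 8272643)) (.leaf (nat_lit
    13793536))) (.leaf (nat_lit 28467979))) (.node (.node (.leaf (nat_lit 14845185)) (.leaf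
    (nat_lit 23260418))) (.leaf (nat_lit 18037257)))))) (.node (.node (.node (.node (.node (.leaf
    (nat_lit 528903)) (.leaf (nat_lit 16841216))) (.node (.leaf (nat_lit 9061377)) (.leaf (nat_lit
    49606661)))) (.node (.node (.leaf (nat_lit 13510920)) (.leaf (nat_lit 16725258))) (.leaf
    (nat_lit 33620230)))) (.node (.node (.node (.leaf (nat_lit 1713664)) (.leaf (nat_lit
    12749824))) (.leaf (nat_lit 26237963))) (.node (.node (.leaf (nat_lit 15760386)) (.leaf
    (nat_lit 43994631))) (.leaf (nat_lit 39891459))))) (.node (.node (.node (.node (.leaf (nat_lit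
    4065545)) (.leaf (nat_lit 16979200))) (.node (.leaf (nat_lit 7620097)) (.leaf (nat_lit
    25478405)))) (.node (.node (.leaf (nat_lit 15496966)) (.leaf (nat_lit 43562243))) (.leaf
    (nat_lit 36860168)))) (.node (.node (.node (.leaf (nat_lit 4469255)) (.leaf (nat_lit
    12073227))) (.leaf (nat_lit 29910533))) (.node (.node (.leaf (nat_lit 19544586)) (.leaf
    (nat_lit 42821897))) (.leaf (nat_lit 17213184)))))))) (.node (.node (.node (.node (.node (.node
    (.node (.leaf (nat_lit 786690)) (.leaf (nat_lit 14577669))) (.node (.leaf (nat_lit 20724742))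
    (.leaf (nat_lit 44396289)))) (.node (.node (.leaf (nat_lit 9838593)) (.leaf (nat_lit
    26011655))) (.leaf (nat_lit 31352838)))) (.node (.node (.node (.leaf (nat_lit 1583616)) (.leaf
    (nat_lit 36622338))) (.leaf (nat_lit 22982662))) (.node (.node (.leaf (nat_lit 4857860)) (.leaf
    (nat_lit 45530369))) (.leaf (nat_lit 38348043))))) (.node (.node (.node (.node (.leaf (nat_lit
    3671045)) (.leaf (nat_lit 36643840))) (.node (.leaf (nat_lit 2891019)) (.leaf (nat_lit
    26433024)))) (.node (.node (.leaf (nat_lit 15095044)) (.leaf (nat_lit 14087691))) (.leaf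
    (nat_lit 13008391)))) (.node (.node (.node (.leaf (nat_lit 8000779)) (.leaf (nat_lit
    15629579))) (.leaf (nat_lit 27579136))) (.node (.node (.leaf (nat_lit 17202947)) (.leaf
    (nat_lit 25356039))) (.leaf (nat_lit 30725640)))))) (.node (.node (.node (.node (.node (.leaf
    (nat_lit 1707010)) (.leaf (nat_lit 29835265))) (.node (.leaf (nat_lit 21142529)) (.leaf
    (nat_lit 46626563)))) (.node (.node (.leaf (nat_lit 12739078)) (.leaf (nat_lit 13159946)))
    (.leaf (nat_lit 14614026)))) (.node (.node (.node (.leaf (nat_lit 7091974)) (.leaf (nat_lit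
    40682503))) (.leaf (nat_lit 25215749))) (.node (.node (.leaf (nat_lit 16022278)) (.leaf
    (nat_lit 38581508))) (.leaf (nat_lit 39398917))))) (.node (.node (.node (.node (.leaf (nat_lit
    2101255)) (.leaf (nat_lit 23529729))) (.node (.leaf (nat_lit 21800711)) (.leaf (nat_lit
    32450309)))) (.node (.node (.leaf (nat_lit 10630402)) (.leaf (nat_lit 42813190))) (.leaf
    (nat_lit 33494026)))) (.node (.node (.node (.leaf (nat_lit 9455883)) (.leaf (nat_lit
    15489803))) (.leaf (nat_lit 14999047))) (.node (.node (.leaf (nat_lit 18627073)) (.leaf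
    (nat_lit 46974213))) (.leaf (nat_lit 7793152))))))) (.node (.node (.node (.node (.node (.node
    (.leaf (nat_lit 1837314)) (.leaf (nat_lit 17730053))) (.node (.leaf (nat_lit 20488706)) (.leaf
    (nat_lit 46625799)))) (.node (.node (.leaf (nat_lit 11294470)) (.leaf (nat_lit 26024450)))
    (.leaf (nat_lit 32139526)))) (.node (.node (.node (.leaf (nat_lit 4206849)) (.leaf (nat_lit
    32030470))) (.leaf (nat_lit 24401417))) (.node (.node (.leaf (nat_lit 11297287)) (.leaf
    (nat_lit 45569284))) (.leaf (nat_lit 39090441))))) (.node (.node (.node (.node (.leaf (nat_lit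
    3808515)) (.leaf (nat_lit 18552071))) (.node (.leaf (nat_lit 18916612)) (.leaf (nat_lit
    26011653)))) (.node (.node (.leaf (nat_lit 4861955)) (.leaf (nat_lit 24819969))) (.leaf
    (nat_lit 35196166)))) (.node (.node (.node (.leaf (nat_lit 8797955)) (.leaf (nat_lit
    12728586))) (.leaf (nat_lit 13009410))) (.node (.node (.leaf (nat_lit 14452738)) (.leaf
    (nat_lit 23252228))) (.leaf (nat_lit 35601155)))))) (.node (.node (.node (.node (.node (.leaf
    (nat_lit 530180)) (.leaf (nat_lit 41847812))) (.node (.leaf (nat_lit 9453826)) (.leaf (nat_lit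
    30494208)))) (.node (.node (.leaf (nat_lit 14167049)) (.leaf (nat_lit 31527943))) (.leaf
    (nat_lit 14583300)))) (.node (.node (.node (.leaf (nat_lit 7344389)) (.leaf (nat_lit
    15499264))) (.leaf (nat_lit 26659851))) (.node (.node (.leaf (nat_lit 15629570)) (.leaf
    (nat_lit 44261892))) (.leaf (nat_lit 39138055))))) (.node (.node (.node (.node (.leaf (nat_lit
    4072193)) (.leaf (nat_lit 35178502))) (.node (.leaf (nat_lit 22063366)) (.leaf (nat_lit
    27079686)))) (.node (.node (.leaf (nat_lit 4344576)) (.leaf (nat_lit 44348934))) (.leaf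
    (nat_lit 37516808)))) (.node (.node (.node (.leaf (nat_lit 4468228)) (.leaf (nat_lit
    32451072))) (.leaf (nat_lit 30434825))) (.node (.node (.leaf (nat_lit 8162816)) (.leaf (nat_lit
    47668233))) (.leaf (nat_lit 13646597))))))))))))

/-- Certificate data. -/
def t8_just : Trie :=
    (.node (.node (.node (.node (.node (.node (.node (.node (.node (.node (.node (.leaf (nat_lit
    1)) (.leaf (nat_lit 17864731784249346))) (.node (.leaf (nat_lit 17438250121691138)) (.leaf
    (nat_lit 0)))) (.node (.node (.leaf (nat_lit 5174530561000298028962156407881744)) (.leaf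
    (nat_lit 43111503032877058))) (.leaf (nat_lit 26922637422886915)))) (.node (.node (.node (.leaf
    (nat_lit 0)) (.leaf (nat_lit 164400239876279417999742618531240285222058254756022648875)))
    (.node (.leaf (nat_lit 72929820106683514890)) (.leaf (nat_lit 50732381333749762)))) (.node
    (.node (.leaf (nat_lit 10206753555873794)) (.leaf (nat_lit 49481317489967113))) (.leaf (nat_lit
    0))))) (.node (.node (.node (.node (.leaf (nat_lit 9151789917171548188)) (.leaf (nat_lit
    37885266568019970))) (.node (.leaf (nat_lit
    41574414641560542252255990937705381109513000812479840352)) (.leaf (nat_lit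
    202105731868159836162)))) (.node (.node (.leaf (nat_lit 11191374808481795)) (.leaf (nat_lit
    116194165384897889316717669896350597156))) (.leaf (nat_lit
    328065202356524126725697118770344061632625)))) (.node (.node (.node (.leaf (nat_lit
    1466082579841393367745802141711)) (.leaf (nat_lit 60210498489368641538))) (.leaf (nat_lit 0)))
    (.node (.node (.leaf (nat_lit 2833351154265603727144518025238)) (.leaf (nat_lit
    58622886728512768401240695085924444))) (.leaf (nat_lit 138311199808706248710)))))) (.node
    (.node (.node (.node (.node (.leaf (nat_lit 791311143031043269129064862384142)) (.leaf (nat_lit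
    39763858384918486477470831772893192))) (.node (.leaf (nat_lit
    21890088984762794712779673123094564)) (.leaf (nat_lit 14324050280748352125839419506748))))
    (.node (.node (.leaf (nat_lit 0)) (.leaf (nat_lit 33840678685507586))) (.leaf (nat_lit
    28083996579725321)))) (.node (.node (.node (.leaf (nat_lit 0)) (.leaf (nat_lit
    41545300258717698))) (.leaf (nat_lit 23579297440727043))) (.node (.node (.leaf (nat_lit
    43681523558898663475)) (.leaf (nat_lit 0))) (.leaf (nat_lit
    27669307471509413591233282127101956))))) (.node (.node (.node (.node (.leaf (nat_lit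
    8892600290618504108909648018357616682)) (.leaf (nat_lit 38272552359034882))) (.node (.leaf
    (nat_lit 74096516018085232715)) (.leaf (nat_lit 186974059105026768898)))) (.node (.node (.leaf
    (nat_lit 9942570117496834)) (.leaf (nat_lit 110519836581613588850581765585889656868))) (.leaf
    (nat_lit 0)))) (.node (.node (.node (.leaf (nat_lit 0)) (.leaf (nat_lit 15034228077101058)))
    (.leaf (nat_lit 25409425955225602))) (.node (.node (.leaf (nat_lit 0)) (.leaf (nat_lit
    194103925345777549424))) (.leaf (nat_lit 40148585649036168571614708606894191))))))) (.node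
    (.node (.node (.node (.node (.node (.leaf (nat_lit 0)) (.leaf (nat_lit 36424604025225218)))
    (.node (.leaf (nat_lit 8501557050081289)) (.leaf (nat_lit 15105138540257713348372251148310))))
    (.node (.node (.leaf (nat_lit
    1698221793874904572225956215112963715696310715337394357731266134042)) (.leaf (nat_lit
    33066485060599810))) (.leaf (nat_lit 27415356071084041)))) (.node (.node (.node (.leaf (nat_lit
    4979812716380162)) (.leaf (nat_lit 102506985981110059039))) (.leaf (nat_lit 0))) (.node (.node
    (.leaf (nat_lit 12388244754923522)) (.leaf (nat_lit 203106708330461200458))) (.leaf (nat_lit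
    0))))) (.node (.node (.node (.node (.leaf (nat_lit
    15133907954589928349882842409250301027431060154409091110)) (.leaf (nat_lit 32009665407746050)))
    (.node (.leaf (nat_lit 33023071483796324354)) (.leaf (nat_lit 198214762149642960898)))) (.node
    (.node (.leaf (nat_lit 0)) (.leaf (nat_lit 29531357608804354))) (.leaf (nat_lit
    25973337981321218)))) (.node (.node (.node (.leaf (nat_lit 7249763061858311)) (.leaf (nat_lit
    38889146453983234))) (.leaf (nat_lit 25180598687629314))) (.node (.node (.leaf (nat_lit
    66664342779014086688)) (.leaf (nat_lit 49605107037372418))) (.leaf (nat_lit 0)))))) (.node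
    (.node (.node (.node (.node (.leaf (nat_lit 0)) (.leaf (nat_lit 109111180265286467612))) (.node
    (.leaf (nat_lit 45809079794964624063152740683180800476907075003396980832)) (.leaf (nat_lit
    0)))) (.node (.node (.leaf (nat_lit 56524524338392456033655529349354414835068442472084209708))
    (.leaf (nat_lit 126938695509244837890))) (.leaf (nat_lit 0)))) (.node (.node (.node (.leaf
    (nat_lit 24935852093554753546)) (.leaf (nat_lit
    222531333861795116729185849044249983004957410413503119496))) (.leaf (nat_lit 0))) (.node (.node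
    (.leaf (nat_lit 61407341081163661322)) (.leaf (nat_lit 55151024198357415588897694098587788)))
    (.leaf (nat_lit 0))))) (.node (.node (.node (.node (.leaf (nat_lit 13908928597965602822))
    (.leaf (nat_lit 20009659484341669544392040366145559))) (.node (.leaf (nat_lit
    97337180680197071054754089732157231126036246763882217556)) (.leaf (nat_lit
    55411739612807170)))) (.node (.node (.leaf (nat_lit 22999217950712594513)) (.leaf (nat_lit 0)))
    (.leaf (nat_lit 30061642623166664945944550703562776)))) (.node (.node (.node (.leaf (nat_lit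
    8762585463210357048339466532880392)) (.leaf (nat_lit 15403732703510530))) (.leaf (nat_lit 0)))
    (.node (.node (.leaf (nat_lit 0)) (.leaf (nat_lit
    289704869688048428917827397615243880158177022523111964710))) (.leaf (nat_lit
    144078354401965834242)))))))) (.node (.node (.node (.node (.node (.node (.node (.leaf (nat_lit
    830767517172613639787185332503969797)) (.leaf (nat_lit 23054461027090434))) (.node (.leaf
    (nat_lit 20446699660806316322055182396882969)) (.leaf (nat_lit
    15185733987837347436474526990358)))) (.node (.node (.leaf (nat_lit 4382709183021058)) (.leaf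
    (nat_lit 39628275965886466))) (.leaf (nat_lit 0)))) (.node (.node (.node (.leaf (nat_lit
    4715869796171785)) (.leaf (nat_lit 27958075782489083105796740585291800))) (.leaf (nat_lit
    1499433500531300583308853336))) (.node (.node (.leaf (nat_lit 11702115139452930)) (.leaf
    (nat_lit 0))) (.leaf (nat_lit 0))))) (.node (.node (.node (.node (.leaf (nat_lit
    8215023722751524896)) (.leaf (nat_lit 30109640595472386))) (.node (.leaf (nat_lit
    341864088732304257843202)) (.leaf (nat_lit 186685440940572868610)))) (.node (.node (.leaf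
    (nat_lit 12941643401252730524638292673495087)) (.leaf (nat_lit 47561617432510578))) (.leaf
    (nat_lit 0)))) (.node (.node (.node (.leaf (nat_lit 1337426259445675745042640535592)) (.leaf
    (nat_lit 100634878572224512002))) (.leaf (nat_lit 12495291440775808413718100039893054))) (.node
    (.node (.leaf (nat_lit 12495311675883021669620569845727240)) (.leaf (nat_lit
    205632295640498372610))) (.leaf (nat_lit 139455305480621195270)))))) (.node (.node (.node
    (.node (.node (.leaf (nat_lit 4084552552807531726247762109858333655058)) (.leaf (nat_lit 0)))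
    (.node (.leaf (nat_lit 76472445772513869826)) (.leaf (nat_lit 0)))) (.node (.node (.leaf
    (nat_lit 0)) (.leaf (nat_lit 32310201449316354))) (.leaf (nat_lit
    145409967298228507513044921987478784580753357607392837705)))) (.node (.node (.node (.leaf
    (nat_lit 0)) (.leaf (nat_lit 169809621686981689426))) (.leaf (nat_lit 0))) (.node (.node (.leaf
    (nat_lit 995114796640367643539603545)) (.leaf (nat_lit 0))) (.leaf (nat_lit
    27424666030545150394011604755087407))))) (.node (.node (.node (.node (.leaf (nat_lit
    3061903660285954)) (.leaf (nat_lit 157268960925244915714))) (.node (.leaf (nat_lit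
    88504903485274390530)) (.leaf (nat_lit 49711802614939650)))) (.node (.node (.leaf (nat_lit
    10259332545511426)) (.leaf (nat_lit 56088257976948080302500918514352152))) (.leaf (nat_lit
    1981889305057169981569302616)))) (.node (.node (.node (.leaf (nat_lit
    8925042850382912300472117810888751)) (.leaf (nat_lit 26064545906819074))) (.leaf (nat_lit
    13104219678980639202197736239071255))) (.node (.node (.leaf (nat_lit 70267698749833936902))
    (.leaf (nat_lit 0))) (.leaf (nat_lit 122316787421408329730))))))) (.node (.node (.node (.node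
    (.node (.node (.leaf (nat_lit 774258049548295)) (.leaf (nat_lit 29581316668391426))) (.node
    (.leaf (nat_lit 0)) (.leaf (nat_lit 63125841398736029881276811591483462)))) (.node (.node
    (.leaf (nat_lit 0)) (.leaf (nat_lit 33400779545116674))) (.leaf (nat_lit
    106456182751647432778)))) (.node (.node (.node (.leaf (nat_lit 0)) (.leaf (nat_lit
    129744651567036039233))) (.leaf (nat_lit 0))) (.node (.node (.leaf (nat_lit
    2749212331212658391818694950933)) (.leaf (nat_lit 205558478518618357842))) (.leaf (nat_lit
    97742457409651277934))))) (.node (.node (.node (.node (.leaf (nat_lit 2305319401291778)) (.leaf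
    (nat_lit 67989304696220352514))) (.node (.leaf (nat_lit
    36744122626057864766566926363493138455)) (.leaf (nat_lit 196125196917313568770)))) (.node
    (.node (.leaf (nat_lit 13876570845557914593924647638990884)) (.leaf (nat_lit
    48126354092327026))) (.leaf (nat_lit 0)))) (.node (.node (.node (.leaf (nat_lit 0)) (.leaf
    (nat_lit 96600002388157464578))) (.leaf (nat_lit 25550103314038791))) (.node (.node (.leaf
    (nat_lit 0)) (.leaf (nat_lit 48778377372499970))) (.leaf (nat_lit 0)))))) (.node (.node (.node
    (.node (.node (.leaf (nat_lit 0)) (.leaf (nat_lit 154241204505656098818))) (.node (.leaf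
    (nat_lit 80508111032267505684)) (.leaf (nat_lit 3492229750417214851051225176)))) (.node (.node
    (.leaf (nat_lit 0)) (.leaf (nat_lit 39576006213894146))) (.leaf (nat_lit
    1771503215557256519870644313)))) (.node (.node (.node (.leaf (nat_lit 18957604762549420034))
    (.leaf (nat_lit 61363314354959876098))) (.leaf (nat_lit 27546345025985165966822953867214856)))
    (.node (.node (.leaf (nat_lit 727950489442957105117331546)) (.leaf (nat_lit 0))) (.leaf
    (nat_lit 0))))) (.node (.node (.node (.node (.leaf (nat_lit 4152782403796995)) (.leaf (nat_lit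
    110000023927582294018))) (.node (.leaf (nat_lit 21309553253679106)) (.leaf (nat_lit
    199584841852185149442)))) (.node (.node (.leaf (nat_lit 3006447567110250937564615016509))
    (.leaf (nat_lit 0))) (.leaf (nat_lit 0)))) (.node (.node (.node (.leaf (nat_lit
    40551272989593649240454312124897296451)) (.leaf (nat_lit 31764508674490370))) (.leaf (nat_lit
    0))) (.node (.node (.leaf (nat_lit 0)) (.leaf (nat_lit
    266527686832933845737295626427579461946707965409313488939))) (.leaf (nat_lit
    34366167934173186))))))))) (.node (.node (.node (.node (.node (.node (.node (.node (.leaf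
    (nat_lit 0)) (.leaf (nat_lit 599239994743553437990914))) (.node (.leaf (nat_lit
    71642933048786485330)) (.leaf (nat_lit 0)))) (.node (.node (.leaf (nat_lit 4435451381415938))
    (.leaf (nat_lit 30955319656054786))) (.leaf (nat_lit 108040270963628245012)))) (.node (.node
    (.node (.leaf (nat_lit 302832319975616953725990754549751422795586139370402549953096319002))
    (.leaf (nat_lit 31376793386745858))) (.node (.leaf (nat_lit 0)) (.leaf (nat_lit
    923798697131228616477386031616864931086486)))) (.node (.node (.leaf (nat_lit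
    51318468095475122178)) (.leaf (nat_lit 0))) (.leaf (nat_lit
    27912661679721952194864854312878104))))) (.node (.node (.node (.node (.leaf (nat_lit 0)) (.leaf
    (nat_lit 14324051535004932731383960702006635167087237827643012895754129768525))) (.node (.leaf
    (nat_lit 31221276731110522882)) (.leaf (nat_lit 209743836870539935746)))) (.node (.node (.leaf
    (nat_lit 0)) (.leaf (nat_lit 221178953570967609924532650472074903600))) (.leaf (nat_lit
    26342653629169666)))) (.node (.node (.node (.leaf (nat_lit 0)) (.leaf (nat_lit
    59994360878742044674))) (.leaf (nat_lit 0))) (.node (.node (.leaf (nat_lit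
    51848006755863983911046946857352167429)) (.leaf (nat_lit 48866175093964802))) (.leaf (nat_lit
    33855642351566851)))))) (.node (.node (.node (.node (.node (.leaf (nat_lit
    3241169876996048720290820352912130064)) (.leaf (nat_lit 0))) (.node (.leaf (nat_lit
    19180185777733641)) (.leaf (nat_lit 62911091501614714327864123408711748)))) (.node (.node
    (.leaf (nat_lit 0)) (.leaf (nat_lit 31870396798205954))) (.leaf (nat_lit 0)))) (.node (.node
    (.node (.leaf (nat_lit 6166100130491986352114434455306287)) (.leaf (nat_lit
    8873483295344158042240419818508687868498236991043971127952913989658))) (.leaf (nat_lit 0)))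
    (.node (.node (.leaf (nat_lit 2724136863289156656326733332538)) (.leaf (nat_lit
    13779235781508713448633889325115))) (.leaf (nat_lit 0))))) (.node (.node (.node (.node (.leaf
    (nat_lit 8146009718633201666)) (.leaf (nat_lit 37392960236683266))) (.node (.leaf (nat_lit
    87999813235320750114)) (.leaf (nat_lit 965334603204342915006466)))) (.node (.node (.leaf
    (nat_lit 10505537250787330)) (.leaf (nat_lit 27009541091273074265297769546055730))) (.leaf
    (nat_lit 0)))) (.node (.node (.node (.leaf (nat_lit 0)) (.leaf (nat_lit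
    165054889360399466498))) (.leaf (nat_lit 0))) (.node (.node (.leaf (nat_lit 16963020580323331))
    (.leaf (nat_lit 19835897784718159673693499344274786661885895845367298110416017686659))) (.leaf
    (nat_lit 111508077981334700034))))))) (.node (.node (.node (.node (.node (.node (.leaf (nat_lit
    633486201454601)) (.leaf (nat_lit 92630133802585489410))) (.node (.leaf (nat_lit 0)) (.leaf
    (nat_lit 0)))) (.node (.node (.leaf (nat_lit 0)) (.leaf (nat_lit 138682975759850733570)))
    (.leaf (nat_lit 31521965086540481056818195467796505)))) (.node (.node (.node (.leaf (nat_lit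
    0)) (.leaf (nat_lit 30577155773118767823440634762952837))) (.leaf (nat_lit
    13387866018558456347551754485170282))) (.node (.node (.leaf (nat_lit 12951211888214018)) (.leaf
    (nat_lit 801237045069752398250019))) (.leaf (nat_lit
    117154810888819965726433996776321581061))))) (.node (.node (.node (.node (.leaf (nat_lit
    9010067421016555522)) (.leaf (nat_lit 35847799199524803712123072200245372))) (.node (.leaf
    (nat_lit 85334474685973463042)) (.leaf (nat_lit 98559145303546724354)))) (.node (.node (.leaf
    (nat_lit 48937329924400939038)) (.leaf (nat_lit 46965239748624386))) (.leaf (nat_lit 0))))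
    (.node (.node (.node (.leaf (nat_lit 7390534909952003)) (.leaf (nat_lit 60138792352504545282)))
    (.leaf (nat_lit 25233409605500937))) (.node (.node (.leaf (nat_lit
    13388143682242036821365660901113880)) (.leaf (nat_lit 49675492961419266))) (.leaf (nat_lit
    0)))))) (.node (.node (.node (.node (.node (.leaf (nat_lit 933050279818957092155489184579609))
    (.leaf (nat_lit 109255295496311996451))) (.node (.leaf (nat_lit 19532149757706242)) (.leaf
    (nat_lit 13829099219706748968225959444540)))) (.node (.node (.leaf (nat_lit 0)) (.leaf (nat_lit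
    34544632415256578))) (.leaf (nat_lit 26531659887780325068549492123828294)))) (.node (.node
    (.node (.leaf (nat_lit 28741260093710157322539931679905127906045299023925805110)) (.leaf
    (nat_lit 23566266509950978))) (.leaf (nat_lit 24283156681195523))) (.node (.node (.leaf
    (nat_lit 11197465782739225048134492036202588)) (.leaf (nat_lit
    17827490072905774271135523825437764233430387378651256854692100046874))) (.leaf (nat_lit
    28318364366540613734382971847639044))))) (.node (.node (.node (.node (.leaf (nat_lit
    3748119175102466)) (.leaf (nat_lit 108847033819462828034))) (.node (.leaf (nat_lit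
    88724893715925237762)) (.leaf (nat_lit 50872998563020802)))) (.node (.node (.leaf (nat_lit
    10435357485170690)) (.leaf (nat_lit 49059001945686025))) (.leaf (nat_lit 0)))) (.node (.node
    (.node (.leaf (nat_lit 84394846685307543426438780198831767748671)) (.leaf (nat_lit
    15650023308132354))) (.leaf (nat_lit 0))) (.node (.node (.leaf (nat_lit 0)) (.leaf (nat_lit
    0))) (.leaf (nat_lit 68417918530868150274)))))))) (.node (.node (.node (.node (.node (.node
    (.node (.leaf (nat_lit 351942505267207)) (.leaf (nat_lit 22368417310965762))) (.node (.leaf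
    (nat_lit 3133333206569239711815191799434982773569808422374777228003871031322)) (.leaf (nat_lit
    15265057579912167394990583316540)))) (.node (.node (.leaf (nat_lit
    6898648735737342720184748161302553)) (.leaf (nat_lit 15351145123938306))) (.leaf (nat_lit
    7102573813203671949693778526223)))) (.node (.node (.node (.leaf (nat_lit 18880762093907410975))
    (.leaf (nat_lit 46030133622271468211136920541397000))) (.leaf (nat_lit 0))) (.node (.node
    (.leaf (nat_lit 12740079885877250)) (.leaf (nat_lit 0))) (.leaf (nat_lit
    148890901489840990580205781650489475077))))) (.node (.node (.node (.node (.leaf (nat_lit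
    10594929869571948579)) (.leaf (nat_lit 34226246489604105))) (.node (.leaf (nat_lit
    34391933928182317058)) (.leaf (nat_lit 214643858354378833922)))) (.node (.node (.leaf (nat_lit
    0)) (.leaf (nat_lit 18632658656930456532571526066012261))) (.leaf (nat_lit
    1770298362994610779541799003)))) (.node (.node (.node (.leaf (nat_lit 0)) (.leaf (nat_lit
    59562155579556429826))) (.leaf (nat_lit 0))) (.node (.node (.leaf (nat_lit
    18255882224339609005559543329390639)) (.leaf (nat_lit 210027843889385373698))) (.leaf (nat_lit
    18377576525995330479627749011423294)))))) (.node (.node (.node (.node (.node (.leaf (nat_lit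
    178355254942741762372360601621)) (.leaf (nat_lit 153581338795589173313))) (.node (.leaf
    (nat_lit 19215413099495426)) (.leaf (nat_lit 3711031750422606467190554715)))) (.node (.node
    (.leaf (nat_lit 0)) (.leaf (nat_lit 32750049050099714))) (.leaf (nat_lit
    6333444348958676860852921996608942554828840384109288796184984420424)))) (.node (.node (.node
    (.leaf (nat_lit 5192485107647827608982424094441480)) (.leaf (nat_lit 32555804859170818)))
    (.leaf (nat_lit 26939130772542327005181073886216196))) (.node (.node (.leaf (nat_lit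
    997536782656499484494987354)) (.leaf (nat_lit 201884403085181386754))) (.leaf (nat_lit
    133835043901370728513))))) (.node (.node (.node (.node (.leaf (nat_lit
    594471191637370304842634231848)) (.leaf (nat_lit 34833377434331039622534772596080765))) (.node
    (.leaf (nat_lit 5032220511171253137779777208379)) (.leaf (nat_lit 54215428012113922)))) (.node
    (.node (.leaf (nat_lit 101877485946333988913228)) (.leaf (nat_lit 0))) (.leaf (nat_lit 0))))
    (.node (.node (.node (.leaf (nat_lit 0)) (.leaf (nat_lit 23214637537427458))) (.leaf (nat_lit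
    103860859934525816907))) (.node (.node (.leaf (nat_lit 0)) (.leaf (nat_lit
    57608761357043173431489479796261006))) (.leaf (nat_lit 104302425784220581890))))))) (.node
    (.node (.node (.node (.node (.node (.leaf (nat_lit 3603178996692615178)) (.leaf (nat_lit
    28948118229876738))) (.node (.leaf (nat_lit 77480369859812589588)) (.leaf (nat_lit
    15042171630379899327771790671933)))) (.node (.node (.leaf (nat_lit 0)) (.leaf (nat_lit
    31412888291901442))) (.leaf (nat_lit 0)))) (.node (.node (.node (.leaf (nat_lit
    4949254631801419799940206562836504)) (.leaf (nat_lit 32416185064850781539770823397015687)))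
    (.leaf (nat_lit 0))) (.node (.node (.leaf (nat_lit 2922533608414164087272596963387)) (.leaf
    (nat_lit 203108150984206123057))) (.leaf (nat_lit 0))))) (.node (.node (.node (.node (.leaf
    (nat_lit 2780351374163977)) (.leaf (nat_lit 124050198434951659522))) (.node (.leaf (nat_lit
    8605718986984801441625444498997349)) (.leaf (nat_lit 135236635534150533122)))) (.node (.node
    (.leaf (nat_lit 24439665894921273346)) (.leaf (nat_lit 55157886179894316307431358879694856)))
    (.leaf (nat_lit 0)))) (.node (.node (.node (.leaf (nat_lit 0)) (.leaf (nat_lit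
    60355070941137666050))) (.leaf (nat_lit 492098984822549457642570819243839890980875))) (.node
    (.node (.leaf (nat_lit 54007109605086668770843188928700743685)) (.leaf (nat_lit
    54647717240156538819594741021606028))) (.leaf (nat_lit 112281643321246547978)))))) (.node
    (.node (.node (.node (.node (.leaf (nat_lit 2041204682391561)) (.leaf (nat_lit
    28385468924166146))) (.node (.leaf (nat_lit 19162782570250242)) (.leaf (nat_lit
    64169066316600099405981460212416623)))) (.node (.node (.leaf (nat_lit 0)) (.leaf (nat_lit
    32468994980184066))) (.leaf (nat_lit 27134250461560834)))) (.node (.node (.node (.leaf (nat_lit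
    1337428677295296728160251805718)) (.leaf (nat_lit 64389768304241344514))) (.leaf (nat_lit
    112337334484945041382780492250821951493))) (.node (.node (.leaf (nat_lit 15379380238942217))
    (.leaf (nat_lit 51592895211372553))) (.leaf (nat_lit 37810591172663132347405520125493256)))))
    (.node (.node (.node (.node (.leaf (nat_lit 0)) (.leaf (nat_lit 31341514525376514))) (.node
    (.leaf (nat_lit 4943067072106313673866979180559)) (.leaf (nat_lit 49078655716032514)))) (.node
    (.node (.leaf (nat_lit 254934065013516478454400974999667509624917)) (.leaf (nat_lit 0))) (.leaf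
    (nat_lit 0)))) (.node (.node (.node (.leaf (nat_lit 8657498722664450)) (.leaf (nat_lit
    23707313235951618))) (.leaf (nat_lit 109986705500285370417))) (.node (.node (.leaf (nat_lit
    17807651668885513)) (.leaf (nat_lit 220763247489075839041))) (.leaf (nat_lit
    125631806938974191618)))))))))) (.node (.node (.node (.node (.node (.node (.node (.node (.node
    (.leaf (nat_lit 1)) (.leaf (nat_lit 119290789503164416002))) (.node (.leaf (nat_lit
    72363843219225772038)) (.leaf (nat_lit 221630612505255673891)))) (.node (.node (.leaf (nat_lit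
    21986627239712849922)) (.leaf (nat_lit 30638651717320706))) (.leaf (nat_lit 0)))) (.node (.node
    (.node (.leaf (nat_lit 4504712024031239)) (.leaf (nat_lit
    14477395822041639479599681032970726576669316155927745750204226207873))) (.node (.leaf (nat_lit
    0)) (.leaf (nat_lit 3620341113400307564614582404)))) (.node (.node (.leaf (nat_lit
    24873313310980898818)) (.leaf (nat_lit 0))) (.leaf (nat_lit
    28601204297075589243038729140371503))))) (.node (.node (.node (.node (.leaf (nat_lit
    9297576371511558174)) (.leaf (nat_lit 28561425144348674))) (.node (.leaf (nat_lit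
    36244830449517017011122046509974552676)) (.leaf (nat_lit 214499638059863310338)))) (.node
    (.node (.leaf (nat_lit 0)) (.leaf (nat_lit 37183838279041026))) (.leaf (nat_lit
    25339899024637954)))) (.node (.node (.node (.leaf (nat_lit 1327399452602031379605606498362))
    (.leaf (nat_lit 172260105532433694722))) (.leaf (nat_lit 24775858149523459))) (.node (.node
    (.leaf (nat_lit 0)) (.leaf (nat_lit 49006895402450946))) (.leaf (nat_lit 0)))))) (.node (.node
    (.node (.node (.node (.leaf (nat_lit 510461158227970)) (.leaf (nat_lit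
    33164985634218124626712762840973336))) (.node (.leaf (nat_lit
    9801589613223429813246517041365086)) (.leaf (nat_lit 57081277229729018981340876718407750))))
    (.node (.node (.leaf (nat_lit 41659424888330584113)) (.leaf (nat_lit 32046310068715522)))
    (.leaf (nat_lit 0)))) (.node (.node (.node (.leaf (nat_lit 5630886808780803)) (.leaf (nat_lit
    133275154523376001759827487069066231813))) (.leaf (nat_lit 0))) (.node (.node (.leaf (nat_lit
    0)) (.leaf (nat_lit 50677878198763529))) (.leaf (nat_lit 133987286516190347297))))) (.node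
    (.node (.node (.node (.leaf (nat_lit 11496475985770839146552393770811308454539386608314810412))
    (.leaf (nat_lit 38448482809413634))) (.node (.leaf (nat_lit 87499210938428620903)) (.leaf
    (nat_lit 139199909738605379586)))) (.node (.node (.leaf (nat_lit 10012947451609090)) (.leaf
    (nat_lit 27402857716252674))) (.leaf (nat_lit 124690044374738993201)))) (.node (.node (.node
    (.leaf (nat_lit 7883236378279943)) (.leaf (nat_lit 15104596821278722))) (.leaf (nat_lit
    106310870727984873580))) (.node (.node (.leaf (nat_lit 0)) (.leaf (nat_lit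
    197706945806637137969))) (.leaf (nat_lit 128471062474316580322699915241890250874))))))) (.node
    (.node (.node (.node (.node (.node (.leaf (nat_lit 0)) (.leaf (nat_lit 30848039962935298)))
    (.node (.leaf (nat_lit 75596917720016420933)) (.leaf (nat_lit
    13987189229288695424469982117903)))) (.node (.node (.leaf (nat_lit 0)) (.leaf (nat_lit
    23953741279526914))) (.leaf (nat_lit 0)))) (.node (.node (.node (.leaf (nat_lit
    4856676004003842)) (.leaf (nat_lit 102506984091324448801))) (.leaf (nat_lit
    23086595972399107))) (.node (.node (.leaf (nat_lit 9872579330441218)) (.leaf (nat_lit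
    57758131113432644253208619870781542))) (.leaf (nat_lit 32095994250395651))))) (.node (.node
    (.node (.node (.leaf (nat_lit 7857145882049970178)) (.leaf (nat_lit 34191096477253634))) (.node
    (.leaf (nat_lit 20605505034649602)) (.leaf (nat_lit 215148296830160404482)))) (.node (.node
    (.leaf (nat_lit 48362329701496324172)) (.leaf (nat_lit 30604506727317506))) (.leaf (nat_lit
    27890886260162562)))) (.node (.node (.node (.leaf (nat_lit 0)) (.leaf (nat_lit
    720852612220176577069058))) (.leaf (nat_lit 25215800239587330))) (.node (.node (.leaf (nat_lit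
    47353155057159962657)) (.leaf (nat_lit 51540256092192770))) (.leaf (nat_lit
    103360399401619226634)))))) (.node (.node (.node (.node (.node (.leaf (nat_lit
    1689275062157319)) (.leaf (nat_lit 0))) (.node (.leaf (nat_lit 18634948269441026)) (.leaf
    (nat_lit 14056530724117325003071452217359)))) (.node (.node (.leaf (nat_lit 0)) (.leaf (nat_lit
    25607690235543554))) (.leaf (nat_lit 0)))) (.node (.node (.node (.leaf (nat_lit
    101411788951887456960416279137345289650188)) (.leaf (nat_lit 102147890525770022914))) (.leaf
    (nat_lit 0))) (.node (.node (.leaf (nat_lit 1026551625040745151752110169)) (.leaf (nat_lit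
    201665697479248773196))) (.leaf (nat_lit 26734960123072209640847967995232264))))) (.node (.node
    (.node (.node (.leaf (nat_lit 3989794452415897798286205496785895472)) (.leaf (nat_lit
    187689819401783663315829091312243048574))) (.node (.leaf (nat_lit 17685519978856450)) (.leaf
    (nat_lit 49500782281752578)))) (.node (.node (.leaf (nat_lit 53119063452773711954)) (.leaf
    (nat_lit 0))) (.leaf (nat_lit 0)))) (.node (.node (.node (.leaf (nat_lit 0)) (.leaf (nat_lit
    15491693633732610))) (.leaf (nat_lit 0))) (.node (.node (.leaf (nat_lit 0)) (.leaf (nat_lit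
    53458130788548617))) (.leaf (nat_lit 46368258089126395906)))))))) (.node (.node (.node (.node
    (.node (.node (.node (.leaf (nat_lit 0)) (.leaf (nat_lit 34647754580033538))) (.node (.leaf
    (nat_lit 18300353137213511)) (.leaf (nat_lit 0)))) (.node (.node (.leaf (nat_lit
    4171611540422658)) (.leaf (nat_lit 15245592007671810))) (.leaf (nat_lit 27309751415209991))))
    (.node (.node (.node (.leaf (nat_lit 19027815159872815131)) (.leaf (nat_lit
    15279071154832192369711773304677741683220116588564235783412940537933))) (.leaf (nat_lit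
    22769867904122889))) (.node (.node (.leaf (nat_lit 12616917403697154)) (.leaf (nat_lit
    204261054690468495409))) (.leaf (nat_lit 31814450554208259))))) (.node (.node (.node (.node
    (.leaf (nat_lit 0)) (.leaf (nat_lit 30074473403252738))) (.node (.leaf (nat_lit
    7903877991104514)) (.leaf (nat_lit 227254236352409174018)))) (.node (.node (.leaf (nat_lit 0))
    (.leaf (nat_lit 27719157307700116019769177429966949))) (.leaf (nat_lit
    432195750714226226694253185096587489640564)))) (.node (.node (.node (.leaf (nat_lit
    1475977612590396436222463836182)) (.leaf (nat_lit 44502131886056996866))) (.leaf (nat_lit 0)))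
    (.node (.node (.leaf (nat_lit 0)) (.leaf (nat_lit 198858916688952492034))) (.leaf (nat_lit
    0)))))) (.node (.node (.node (.node (.node (.leaf (nat_lit
    20760381542318665328556332296797732536339)) (.leaf (nat_lit 109111180222336794699))) (.node
    (.leaf (nat_lit 75679829735793426434)) (.leaf (nat_lit 55464121033949193)))) (.node (.node
    (.leaf (nat_lit 0)) (.leaf (nat_lit 32662088119877634))) (.leaf (nat_lit 28400741827870729))))
    (.node (.node (.node (.leaf (nat_lit 0)) (.leaf (nat_lit 477422747370378414522397))) (.leaf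
    (nat_lit 0))) (.node (.node (.leaf (nat_lit 0)) (.leaf (nat_lit 201809812590015217696))) (.leaf
    (nat_lit 100985629872476061702))))) (.node (.node (.node (.node (.leaf (nat_lit
    2428610732490754)) (.leaf (nat_lit 69431207921377804362))) (.node (.leaf (nat_lit
    21485337675169794)) (.leaf (nat_lit 964748198696300698664962)))) (.node (.node (.leaf (nat_lit
    10153796609114114)) (.leaf (nat_lit
    18202541262014500769757585702715793467796448375818898531575852433434))) (.leaf (nat_lit
    31217878842355860432944778640293912)))) (.node (.node (.node (.leaf (nat_lit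
    33659061195786878982)) (.leaf (nat_lit 152733133173250260994))) (.leaf (nat_lit
    12902818099681778841388139137138797))) (.node (.node (.leaf (nat_lit 0)) (.leaf (nat_lit
    58428010318750515871148830745886814))) (.leaf (nat_lit 119290368802527838210))))))) (.node
    (.node (.node (.node (.node (.node (.leaf (nat_lit 0)) (.leaf (nat_lit 17583505915641858)))
    (.node (.leaf (nat_lit 75667831882091003980)) (.leaf (nat_lit 0)))) (.node (.node (.leaf
    (nat_lit 0)) (.leaf (nat_lit 33488740475338754))) (.leaf (nat_lit 114095096964520804462))))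
    (.node (.node (.node (.leaf (nat_lit 20770404651148198557527301585541529605)) (.leaf (nat_lit
    46681007646439161796117328818536540))) (.leaf (nat_lit
    109179483631858748791688563238908723205))) (.node (.node (.leaf (nat_lit
    2744265415629297950395709390888)) (.leaf (nat_lit 205270107495172603937))) (.leaf (nat_lit
    129519784100372873328))))) (.node (.node (.node (.node (.leaf (nat_lit 2762716238446594))
    (.leaf (nat_lit 156980449121361133570))) (.node (.leaf (nat_lit 21098189323108354)) (.leaf
    (nat_lit 956498612633138702319618)))) (.node (.node (.leaf (nat_lit 48506919560767799298))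
    (.leaf (nat_lit 48073616188899335))) (.leaf (nat_lit 30125188377083913)))) (.node (.node (.node
    (.leaf (nat_lit 7601692682092551)) (.leaf (nat_lit 59922689707206705154))) (.leaf (nat_lit 0)))
    (.node (.node (.leaf (nat_lit 16611090960089091)) (.leaf (nat_lit 199580178265026002975)))
    (.leaf (nat_lit 0)))))) (.node (.node (.node (.node (.node (.leaf (nat_lit 0)) (.leaf (nat_lit
    154529434873217875970))) (.node (.leaf (nat_lit 18934084151672834)) (.leaf (nat_lit
    1072490578002345739341540754924432156852372)))) (.node (.node (.leaf (nat_lit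
    12414162202531881874368384769392687)) (.leaf (nat_lit 31571793491918850))) (.leaf (nat_lit
    78432263635267832874824135954953404527)))) (.node (.node (.node (.leaf (nat_lit
    4909804749455362)) (.leaf (nat_lit 39962240016963534850))) (.leaf (nat_lit 0))) (.node (.node
    (.leaf (nat_lit 2922526348954854498113256030268)) (.leaf (nat_lit 0))) (.leaf (nat_lit 0)))))
    (.node (.node (.node (.node (.leaf (nat_lit 0)) (.leaf (nat_lit 39381134957740034))) (.node
    (.leaf (nat_lit 21731765718745090)) (.leaf (nat_lit 49113822908252162)))) (.node (.node (.leaf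
    (nat_lit 54991654973680850722011587885015403068713370359052435540)) (.leaf (nat_lit 0))) (.leaf
    (nat_lit 0)))) (.node (.node (.node (.leaf (nat_lit 8534353420353538)) (.leaf (nat_lit
    163902482096521936898))) (.leaf (nat_lit 0))) (.node (.node (.leaf (nat_lit 0)) (.leaf (nat_lit
    0))) (.leaf (nat_lit 146240224090168426498))))))))) (.node (.node (.node (.node (.node (.node
    (.node (.node (.leaf (nat_lit 140784733126659)) (.leaf (nat_lit 601605213246392239390722)))
    (.node (.leaf (nat_lit 0)) (.leaf (nat_lit 14531799345985073544488959737896)))) (.node (.node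
    (.leaf (nat_lit 4404628123283554306)) (.leaf (nat_lit 101644912974524252162))) (.leaf (nat_lit
    0)))) (.node (.node (.node (.leaf (nat_lit 0)) (.leaf (nat_lit 165340469514096279634))) (.leaf
    (nat_lit 22664280428118025))) (.node (.node (.leaf (nat_lit 12564115075760130)) (.leaf (nat_lit
    49692475262107657))) (.leaf (nat_lit 0))))) (.node (.node (.node (.node (.leaf (nat_lit 0))
    (.leaf (nat_lit 28033745462362114))) (.node (.leaf (nat_lit 18353619321618434)) (.leaf (nat_lit
    95964896000615841794)))) (.node (.node (.leaf (nat_lit 11402532580622339)) (.leaf (nat_lit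
    31308082499944450))) (.leaf (nat_lit 0)))) (.node (.node (.node (.leaf (nat_lit
    27529397902317387786)) (.leaf (nat_lit 156551583064758878210))) (.leaf (nat_lit
    24916629997617159))) (.node (.node (.leaf (nat_lit 12536327047222614724299666563203096)) (.leaf
    (nat_lit 208802847065410568194))) (.leaf (nat_lit 38824860771422715203121391136604207))))))
    (.node (.node (.node (.node (.node (.leaf (nat_lit 616048634232834)) (.leaf (nat_lit
    37304552629862407))) (.node (.leaf (nat_lit 75463639344313729026)) (.leaf (nat_lit 0)))) (.node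
    (.node (.leaf (nat_lit 0)) (.leaf (nat_lit 31923173356339202))) (.leaf (nat_lit 0)))) (.node
    (.node (.node (.leaf (nat_lit 19773544476710591799569715560750514181)) (.leaf (nat_lit
    12192867726681645151584185872900684658141510369170428204541126115400))) (.leaf (nat_lit
    27221817135795568252958299493171247))) (.node (.node (.leaf (nat_lit 0)) (.leaf (nat_lit
    50783465674768393))) (.leaf (nat_lit 28154897124827840585695628529958920))))) (.node (.node
    (.node (.node (.leaf (nat_lit 2217478730153986)) (.leaf (nat_lit 28069127402946562))) (.node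
    (.leaf (nat_lit 37906994056582934646103481306048888936)) (.leaf (nat_lit 53863541341552642))))
    (.node (.node (.leaf (nat_lit
    4673777796013051163786008798782702493834902839362729029644384731213)) (.leaf (nat_lit
    18623813760202253519603985572888624))) (.leaf (nat_lit 28700324386701426)))) (.node (.node
    (.node (.leaf (nat_lit 8024008226373635)) (.leaf (nat_lit 67705139575333781506))) (.leaf
    (nat_lit 26042804782366727))) (.node (.node (.leaf (nat_lit
    19189051331925629478803601292197935)) (.leaf (nat_lit 217450779435486871601))) (.leaf (nat_lit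
    27276439648862210))))))) (.node (.node (.node (.node (.node (.node (.leaf (nat_lit 0)) (.leaf
    (nat_lit 25675834186661890))) (.node (.leaf (nat_lit 75811947035807121440)) (.leaf (nat_lit
    13903311535711009981661465411645)))) (.node (.node (.leaf (nat_lit 0)) (.leaf (nat_lit
    38502487728193538))) (.leaf (nat_lit 27732066959491143)))) (.node (.node (.node (.leaf (nat_lit
    5208571264499721)) (.leaf (nat_lit 169160384053877342277))) (.leaf (nat_lit
    23192183448403975))) (.node (.node (.leaf (nat_lit 9907849601875970)) (.leaf (nat_lit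
    49903710343659522))) (.leaf (nat_lit 132113173237318483974))))) (.node (.node (.node (.node
    (.leaf (nat_lit 8073336273529667586)) (.leaf (nat_lit 110143013005297909762))) (.node (.leaf
    (nat_lit 17755613845127170)) (.leaf (nat_lit 131849788641383743490)))) (.node (.node (.leaf
    (nat_lit 48866873640199847970)) (.leaf (nat_lit 37085313082914062879988286453383216))) (.leaf
    (nat_lit 0)))) (.node (.node (.node (.leaf (nat_lit 33899695467425415218784232343480041477))
    (.leaf (nat_lit 45655299784347680770))) (.leaf (nat_lit 0))) (.node (.node (.leaf (nat_lit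
    16435134739906567)) (.leaf (nat_lit 537836416559083627080160292304558582464625))) (.leaf
    (nat_lit 34489115667988487)))))) (.node (.node (.node (.node (.node (.leaf (nat_lit 0)) (.leaf
    (nat_lit 635319534250525534881989099009924288757359026361608187019321))) (.node (.leaf (nat_lit
    19602518501883906)) (.leaf (nat_lit 55745699089874953)))) (.node (.node (.leaf (nat_lit
    10839445188247559)) (.leaf (nat_lit 37201052507963394))) (.leaf (nat_lit 0)))) (.node (.node
    (.node (.leaf (nat_lit 1327186658341673320138553032760)) (.leaf (nat_lit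
    54661957946223820802))) (.leaf (nat_lit 0))) (.node (.node (.leaf (nat_lit
    60830475768710758451)) (.leaf (nat_lit 210315458620629909586))) (.leaf (nat_lit
    113333403040569167176790206138487930885))))) (.node (.node (.node (.node (.leaf (nat_lit 0))
    (.leaf (nat_lit 38184831946981378))) (.node (.leaf (nat_lit 88220578497115127810)) (.leaf
    (nat_lit 236547819697120411650)))) (.node (.node (.leaf (nat_lit 0)) (.leaf (nat_lit
    18038122567747568225529088446278715731322628551035405984478461427738))) (.leaf (nat_lit
    155203014474653462711299298225810207936369851368330821685)))) (.node (.node (.node (.leaf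
    (nat_lit 34956502611827818561)) (.leaf (nat_lit 26768310658007042))) (.leaf (nat_lit 0)))
    (.node (.node (.leaf (nat_lit 0)) (.leaf (nat_lit 53634087008731145))) (.leaf (nat_lit
    34718003065126914)))))))) (.node (.node (.node (.node (.node (.node (.node (.leaf (nat_lit 0))
    (.leaf (nat_lit 22861007110144002))) (.node (.leaf (nat_lit 0)) (.leaf (nat_lit
    54408349353115657)))) (.node (.node (.leaf (nat_lit 9484490380542023)) (.leaf (nat_lit
    32943339758288898))) (.leaf (nat_lit 31667958617238598443564100588339311)))) (.node (.node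
    (.node (.leaf (nat_lit 4075446092664504635774847104315818034)) (.leaf (nat_lit
    9334272751654539818690263306849999763318349412008800720623070347290))) (.leaf (nat_lit 0)))
    (.node (.node (.leaf (nat_lit 9802193406394370)) (.leaf (nat_lit
    946094027373133012828109455598694754222092))) (.leaf (nat_lit 0))))) (.node (.node (.node
    (.node (.leaf (nat_lit 2312734608382213586014739399901221)) (.leaf (nat_lit
    145814187231419303348430839173944751676216767122584174676))) (.node (.leaf (nat_lit
    7305803795136514)) (.leaf (nat_lit 198791188013927038978)))) (.node (.node (.leaf (nat_lit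
    40790089843666518091)) (.leaf (nat_lit 133476137080627481472510456227508518935))) (.leaf
    (nat_lit 74610266522980195867561874401813594223)))) (.node (.node (.node (.leaf (nat_lit 0))
    (.leaf (nat_lit 127368433534402494466))) (.leaf (nat_lit 25882444439766995309826001282203718)))
    (.node (.node (.leaf (nat_lit 65156253785702727686)) (.leaf (nat_lit 50449506197700610)))
    (.leaf (nat_lit 31765343664135337970733078823764038)))))) (.node (.node (.node (.node (.node
    (.leaf (nat_lit 933372209527107428030453213757463)) (.leaf (nat_lit 153520120659624263713)))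
    (.node (.leaf (nat_lit 18529335023632386)) (.leaf (nat_lit 13997090255288741084557597868115))))
    (.node (.node (.leaf (nat_lit 0)) (.leaf (nat_lit 30023311752822786))) (.leaf (nat_lit 0))))
    (.node (.node (.node (.leaf (nat_lit 0)) (.leaf (nat_lit 172026520682318987339))) (.leaf
    (nat_lit 26817575341552308384188736364544024))) (.node (.node (.leaf (nat_lit 0)) (.leaf
    (nat_lit 49428927478890498))) (.leaf (nat_lit 36593552840626457915368409708036120))))) (.node
    (.node (.node (.node (.leaf (nat_lit 4280177949438500893469316001234991)) (.leaf (nat_lit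
    33258959725002754))) (.node (.leaf (nat_lit 21784464967467017)) (.leaf (nat_lit
    54426568604385282)))) (.node (.node (.leaf (nat_lit 14747016071145059423790175875432527))
    (.leaf (nat_lit 0))) (.leaf (nat_lit 0)))) (.node (.node (.node (.leaf (nat_lit 0)) (.leaf
    (nat_lit 46520377897946120194))) (.leaf (nat_lit 0))) (.node (.node (.leaf (nat_lit
    12779255476500074731776289934868488)) (.leaf (nat_lit 53211805824188425))) (.leaf (nat_lit
    122533101735579418626))))))) (.node (.node (.node (.node (.node (.node (.leaf (nat_lit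
    12931394577280920269057137871212748800012)) (.leaf (nat_lit 22966817924448258))) (.node (.leaf
    (nat_lit 77696949847775707170)) (.leaf (nat_lit 0)))) (.node (.node (.leaf (nat_lit 0)) (.leaf
    (nat_lit 42390420973551618))) (.leaf (nat_lit 0)))) (.node (.node (.node (.leaf (nat_lit
    5454930588598279)) (.leaf (nat_lit 28140054492872706))) (.leaf (nat_lit 0))) (.node (.node
    (.leaf (nat_lit 59173836947691077681)) (.leaf (nat_lit 206927836812683706448))) (.leaf (nat_lit
    28438939940351012348264455231438856))))) (.node (.node (.node (.node (.leaf (nat_lit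
    584514471797902510255803596840)) (.leaf (nat_lit 37480903987036162))) (.node (.leaf (nat_lit
    71499152885339586634)) (.leaf (nat_lit 99784300135073382402)))) (.node (.node (.leaf (nat_lit
    39283530279619330050)) (.leaf (nat_lit 47669030269616135))) (.leaf (nat_lit 0)))) (.node (.node
    (.node (.leaf (nat_lit 8559776252717011762048921116278831)) (.leaf (nat_lit
    24481214803083266))) (.leaf (nat_lit 76283184158516817401198897197901938781))) (.node (.node
    (.leaf (nat_lit 0)) (.leaf (nat_lit 227940263771465048071200928370891686014))) (.leaf (nat_lit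
    40001385229554936519027792611311633)))))) (.node (.node (.node (.node (.node (.leaf (nat_lit
    7998868455514374150)) (.leaf (nat_lit 26696636243771394))) (.node (.leaf (nat_lit
    20007241860120578)) (.leaf (nat_lit 233094126796423561792589843459675258932)))) (.node (.node
    (.leaf (nat_lit 0)) (.leaf (nat_lit 45909425118117890))) (.leaf (nat_lit 27837937903337474))))
    (.node (.node (.node (.leaf (nat_lit 21479673407744442419)) (.leaf (nat_lit
    58913391376402153474))) (.leaf (nat_lit 0))) (.node (.node (.leaf (nat_lit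
    990288572890952404979482715)) (.leaf (nat_lit 968334313867582810414891826328522547855501)))
    (.leaf (nat_lit 28033217297773772411243334621134895))))) (.node (.node (.node (.node (.leaf
    (nat_lit 4363940175937539)) (.leaf (nat_lit 30356395056562178))) (.node (.leaf (nat_lit 0))
    (.leaf (nat_lit 56009994197401602)))) (.node (.node (.leaf (nat_lit
    21278257173698857641867740042372841522)) (.leaf (nat_lit 0))) (.leaf (nat_lit
    164949940356892890759219050470117490282393718807939842121)))) (.node (.node (.node (.leaf
    (nat_lit 23928946411721392197)) (.leaf (nat_lit 14928820989722626))) (.leaf (nat_lit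
    30410726781554081754993861161582629))) (.node (.node (.leaf (nat_lit
    346491697625545778810741090751746876702739)) (.leaf (nat_lit 3440214664678263938175271003)))
    (.leaf (nat_lit 124983271073461239810))))))))))) (.node (.node (.node (.node (.node (.node
    (.node (.node (.node (.node (.leaf (nat_lit 1)) (.leaf (nat_lit 122317207306001121282))) (.node
    (.leaf (nat_lit 35233248069291410492674581978302382122)) (.leaf (nat_lit
    15076856923727210470740584693820)))) (.node (.node (.leaf (nat_lit
    20945727032729959197500594248084881478)) (.leaf (nat_lit 28685919066390530))) (.leaf (nat_lit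
    12942089172100818041954489711657008)))) (.node (.node (.node (.leaf (nat_lit 0)) (.leaf
    (nat_lit 6188613361036846590815257511604672040780458563910070173338042368128))) (.node (.leaf
    (nat_lit 422665596312349019461768651249205513879564)) (.leaf (nat_lit 54989810615582722))))
    (.node (.node (.leaf (nat_lit 51966968600522326018)) (.leaf (nat_lit 0))) (.leaf (nat_lit
    31497713895997443))))) (.node (.node (.node (.node (.leaf (nat_lit 8216554191397781533)) (.leaf
    (nat_lit 28315125949792258))) (.node (.leaf (nat_lit
    7255144130043640584873928097386503497480172340706386070118872383587)) (.leaf (nat_lit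
    209671779250732204034)))) (.node (.node (.leaf (nat_lit 12657575892379003853549790535548975))
    (.leaf (nat_lit 34509826000289794))) (.leaf (nat_lit 25146384978149378)))) (.node (.node (.node
    (.leaf (nat_lit 1485958528356089655281012047931)) (.leaf (nat_lit 41403498262587179010)))
    (.leaf (nat_lit 0))) (.node (.node (.leaf (nat_lit 0)) (.leaf (nat_lit
    231094138752000727911229274945372029050))) (.leaf (nat_lit 138311234705315528731)))))) (.node
    (.node (.node (.node (.node (.leaf (nat_lit 2234929031822901250)) (.leaf (nat_lit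
    35261242003835453200776119819108360))) (.node (.leaf (nat_lit 0)) (.leaf (nat_lit
    61830082641683257739155045731467411)))) (.node (.node (.leaf (nat_lit
    2264760653746034566371297803634112271874164321971649368354680995912)) (.leaf (nat_lit
    34016600545951746))) (.leaf (nat_lit 0)))) (.node (.node (.node (.leaf (nat_lit 0)) (.leaf
    (nat_lit 137887581978801405986))) (.leaf (nat_lit 0))) (.node (.node (.leaf (nat_lit
    54273990664158117918)) (.leaf (nat_lit 0))) (.leaf (nat_lit
    37039820584809630179698151925415983))))) (.node (.node (.node (.node (.leaf (nat_lit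
    11496476847853532518254097649772911931250052223281725483)) (.leaf (nat_lit 38307745321058306)))
    (.node (.leaf (nat_lit 24568005714467113690835037440114790)) (.leaf (nat_lit
    228407227109068701698)))) (.node (.node (.leaf (nat_lit 11736973094027266)) (.leaf (nat_lit
    27332488972075010))) (.leaf (nat_lit
    6201768619963566490912399589354204594995516509041849011804090400840)))) (.node (.node (.node
    (.leaf (nat_lit 0)) (.leaf (nat_lit 15069412449189890))) (.leaf (nat_lit
    76283184158519234662542541359990439978))) (.node (.node (.leaf (nat_lit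
    13063357740863947851210182275563528)) (.leaf (nat_lit 215793085263693152305))) (.leaf (nat_lit
    29681510501468495666086286560002169))))))) (.node (.node (.node (.node (.node (.node (.leaf
    (nat_lit 0)) (.leaf (nat_lit 149771609203814891522))) (.node (.leaf (nat_lit 0)) (.leaf
    (nat_lit 0)))) (.node (.node (.leaf (nat_lit 0)) (.leaf (nat_lit 184356409626266370050)))
    (.leaf (nat_lit 0)))) (.node (.node (.node (.leaf (nat_lit 4839083817959426)) (.leaf (nat_lit
    168293423056681107489))) (.leaf (nat_lit 0))) (.node (.node (.leaf (nat_lit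
    53624556695213768706)) (.leaf (nat_lit 203250823518537056331))) (.leaf (nat_lit 0))))) (.node
    (.node (.node (.node (.leaf (nat_lit 787523340351690599515415773223)) (.leaf (nat_lit
    32080034151923714))) (.node (.leaf (nat_lit 32878956304310403074)) (.leaf (nat_lit
    96973842530649178114)))) (.node (.node (.leaf (nat_lit 48002041731306684449)) (.leaf (nat_lit
    109368160710338354471670439731305906212))) (.leaf (nat_lit 26008522353410050)))) (.node (.node
    (.node (.leaf (nat_lit 8356947227898188091192962542141448)) (.leaf (nat_lit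
    62084273646940127234))) (.leaf (nat_lit 420984700848968105721891))) (.node (.node (.leaf
    (nat_lit 46344102424254545953)) (.leaf (nat_lit 50572677269815298))) (.leaf (nat_lit
    34242782113693705)))))) (.node (.node (.node (.node (.node (.leaf (nat_lit 0)) (.leaf (nat_lit
    154590444514290368542))) (.node (.leaf (nat_lit
    175776477294419989210625669195688961027566206287858193268833)) (.leaf (nat_lit
    219251850494773231667)))) (.node (.node (.leaf (nat_lit 0)) (.leaf (nat_lit
    44255398852689922))) (.leaf (nat_lit 13185329498263294095485384138358832)))) (.node (.node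
    (.node (.leaf (nat_lit 101411792116032408231553894073523421904907)) (.leaf (nat_lit
    111287274153744662831443928527858565257))) (.leaf (nat_lit 24107209050947591))) (.node (.node
    (.leaf (nat_lit 993910595493465990036258907)) (.leaf (nat_lit 197777190963130859598))) (.leaf
    (nat_lit 33116607328944135))))) (.node (.node (.node (.node (.leaf (nat_lit
    16000656981983690758)) (.leaf (nat_lit 31846473739549224099334687333744744))) (.node (.leaf
    (nat_lit 20307744038461599241135387738308713)) (.leaf (nat_lit 50802595459104770)))) (.node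
    (.node (.leaf (nat_lit 53112061045468495947)) (.leaf (nat_lit 199792392989963386907))) (.leaf
    (nat_lit 0)))) (.node (.node (.node (.leaf (nat_lit 8356927185062415275573203247235134)) (.leaf
    (nat_lit 15456509261643778))) (.leaf (nat_lit 25075329039204361))) (.node (.node (.leaf
    (nat_lit 0)) (.leaf (nat_lit 0))) (.leaf (nat_lit 45287393938039308290)))))))) (.node (.node
    (.node (.node (.node (.node (.node (.leaf (nat_lit 1225243050155114502)) (.leaf (nat_lit
    21875810331918338))) (.node (.leaf (nat_lit 9128050177274859882886699074125847)) (.leaf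
    (nat_lit 61530612953539075175204127416713361)))) (.node (.node (.leaf (nat_lit
    9167783787102210)) (.leaf (nat_lit 28105411286663170))) (.leaf (nat_lit 0)))) (.node (.node
    (.node (.leaf (nat_lit 0)) (.leaf (nat_lit 1661469481494184941525991554))) (.leaf (nat_lit 0)))
    (.node (.node (.leaf (nat_lit 12018783078187010)) (.leaf (nat_lit
    17866061565633061960019497042952905991113965362422255334999198793800))) (.leaf (nat_lit 0)))))
    (.node (.node (.node (.node (.leaf (nat_lit 10306136388847992865)) (.leaf (nat_lit
    292016248495952674160716))) (.node (.leaf (nat_lit 7675170982592514)) (.leaf (nat_lit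
    56590214214320130)))) (.node (.node (.leaf (nat_lit 0)) (.leaf (nat_lit
    27759722121189246693475936390021259))) (.leaf (nat_lit
    444854752952107295887121350755105699856499)))) (.node (.node (.node (.leaf (nat_lit
    1490912706069866703651560882197)) (.leaf (nat_lit 23742239910002690))) (.leaf (nat_lit 0)))
    (.node (.node (.leaf (nat_lit 0)) (.leaf (nat_lit 50097653886877698))) (.leaf (nat_lit
    139463364492830900251)))))) (.node (.node (.node (.node (.node (.leaf (nat_lit
    756811892391938)) (.leaf (nat_lit 108967065034260938826))) (.node (.leaf (nat_lit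
    18740406896427010)) (.leaf (nat_lit 0)))) (.node (.node (.leaf (nat_lit 0)) (.leaf (nat_lit
    32415754565582850))) (.leaf (nat_lit 0)))) (.node (.node (.node (.leaf (nat_lit
    5233148942699520877975545248677912)) (.leaf (nat_lit 168079274140466610203))) (.leaf (nat_lit
    0))) (.node (.node (.leaf (nat_lit 3006454825388695207738138296341)) (.leaf (nat_lit
    201377467025787650079))) (.leaf (nat_lit 114828763407352119602189894067302170629))))) (.node
    (.node (.node (.node (.leaf (nat_lit 2411018546446338)) (.leaf (nat_lit 30250661551669250)))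
    (.node (.leaf (nat_lit 21379784558903298)) (.leaf (nat_lit 217382539728072671234)))) (.node
    (.node (.leaf (nat_lit 161763979039638039035982)) (.leaf (nat_lit 0))) (.leaf (nat_lit
    1886384164370830369902362714)))) (.node (.node (.node (.leaf (nat_lit
    36557015852205453506598339751216414725)) (.leaf (nat_lit 26134914650996738))) (.leaf (nat_lit
    26148383668437063))) (.node (.node (.leaf (nat_lit 70267469845256929307)) (.leaf (nat_lit
    13878223866653421143102996217914))) (.leaf (nat_lit 45215161813710340098))))))) (.node (.node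
    (.node (.node (.node (.node (.leaf (nat_lit 0)) (.leaf (nat_lit 69787998160395894786))) (.node
    (.leaf (nat_lit 75379601505939292193)) (.leaf (nat_lit
    1052402122814795955045541168128842212638838)))) (.node (.node (.leaf (nat_lit 0)) (.leaf
    (nat_lit 33435963917205506))) (.leaf (nat_lit 106600297939723288651)))) (.node (.node (.node
    (.leaf (nat_lit 5314150150569987)) (.leaf (nat_lit 167863503955702251630))) (.leaf (nat_lit
    23332946706563075))) (.node (.node (.leaf (nat_lit 54200596325973819426)) (.leaf (nat_lit
    204115514720006635526))) (.leaf (nat_lit 98679241243501985873))))) (.node (.node (.node (.node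
    (.leaf (nat_lit 2322911587336194)) (.leaf (nat_lit 128013280546994192386))) (.node (.leaf
    (nat_lit 17720489602580482)) (.leaf (nat_lit 219327794432918618114)))) (.node (.node (.leaf
    (nat_lit 237411062663131544387710347879432935907967802678177342292025)) (.leaf (nat_lit
    19646918718848392389363654298370149))) (.leaf (nat_lit 0)))) (.node (.node (.node (.leaf
    (nat_lit 0)) (.leaf (nat_lit 96744117593413189634))) (.leaf (nat_lit 0))) (.node (.node (.leaf
    (nat_lit 0)) (.leaf (nat_lit
    18052170623686522754554918993466266124159963365169684429243721711688))) (.leaf (nat_lit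
    112858104056370102323)))))) (.node (.node (.node (.node (.node (.leaf (nat_lit 0)) (.leaf
    (nat_lit 70870552896510033922))) (.node (.leaf (nat_lit
    39733529988086248155424379358836949029)) (.leaf (nat_lit 3703791680162498557142958170))))
    (.node (.node (.leaf (nat_lit 10945024074317827)) (.leaf (nat_lit 31554201305874434))) (.leaf
    (nat_lit 7230688546063767926894450049046)))) (.node (.node (.node (.leaf (nat_lit
    4645913368854530)) (.leaf (nat_lit 24973649983438850))) (.leaf (nat_lit 0))) (.node (.node
    (.leaf (nat_lit 4219940796719174032113499766842)) (.leaf (nat_lit 197849371844205019170)))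
    (.leaf (nat_lit 27588148118765413013271630836072472))))) (.node (.node (.node (.node (.leaf
    (nat_lit 0)) (.leaf (nat_lit 26433268849180674))) (.node (.leaf (nat_lit 21520659486212098))
    (.leaf (nat_lit 54532207619997698)))) (.node (.node (.leaf (nat_lit
    2912344791348501452289101660243)) (.leaf (nat_lit 0))) (.leaf (nat_lit 31216170199810051))))
    (.node (.node (.node (.leaf (nat_lit 26923582829078196739801254725664899140)) (.leaf (nat_lit
    69002630791520518146))) (.leaf (nat_lit 26711471060811785))) (.node (.node (.leaf (nat_lit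
    17702072782815239)) (.leaf (nat_lit 15106555396573018432844736102483))) (.leaf (nat_lit
    92052933929360097282))))))))) (.node (.node (.node (.node (.node (.node (.node (.node (.leaf
    (nat_lit 0)) (.leaf (nat_lit 93350145332722466818))) (.node (.leaf (nat_lit 0)) (.leaf (nat_lit
    54056428322816009)))) (.node (.node (.leaf (nat_lit 5332661459615746)) (.leaf (nat_lit
    97825828003381444610))) (.leaf (nat_lit 0)))) (.node (.node (.node (.leaf (nat_lit 0)) (.leaf
    (nat_lit 19191901116046710046848985787203685))) (.leaf (nat_lit 0))) (.node (.node (.leaf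
    (nat_lit 39140769792948109314)) (.leaf (nat_lit 0))) (.leaf (nat_lit
    19959832258464648461893778624938090))))) (.node (.node (.node (.node (.leaf (nat_lit
    2357941340602371)) (.leaf (nat_lit 645053195606955852562481))) (.node (.leaf (nat_lit
    342404304514862438154242)) (.leaf (nat_lit 214643753273708969986)))) (.node (.node (.leaf
    (nat_lit 0)) (.leaf (nat_lit 31237713755766786))) (.leaf (nat_lit 27996319117344770)))) (.node
    (.node (.node (.leaf (nat_lit 6721902991245321)) (.leaf (nat_lit 70730990914933817346))) (.leaf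
    (nat_lit 0))) (.node (.node (.leaf (nat_lit 0)) (.leaf (nat_lit
    1078686286229282249832972330773605919533742624105648381362273))) (.leaf (nat_lit
    26655181996044165857925582910062596)))))) (.node (.node (.node (.node (.node (.leaf (nat_lit
    2379184983156916226)) (.leaf (nat_lit 0))) (.node (.leaf (nat_lit
    162440698806158768333335694686705346391459294427880134410335)) (.leaf (nat_lit
    1033689250258364033255788931170049028849780)))) (.node (.node (.leaf (nat_lit 0)) (.leaf
    (nat_lit 31887988984250370))) (.leaf (nat_lit 0)))) (.node (.node (.node (.leaf (nat_lit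
    4786826939500039256916195138797620)) (.leaf (nat_lit 169080762081833320475))) (.leaf (nat_lit
    23755262250844163))) (.node (.node (.leaf (nat_lit 3714733031324600250796861685820)) (.leaf
    (nat_lit 0))) (.leaf (nat_lit 0))))) (.node (.node (.node (.node (.leaf (nat_lit
    2164702172020738)) (.leaf (nat_lit 30444055339073538))) (.node (.leaf (nat_lit
    74312847177118056479)) (.leaf (nat_lit 195621041101919682562)))) (.node (.node (.leaf (nat_lit
    10294439608188930)) (.leaf (nat_lit 48583647850266631))) (.leaf (nat_lit 0)))) (.node (.node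
    (.node (.leaf (nat_lit 0)) (.leaf (nat_lit 110579352592758013954))) (.leaf (nat_lit 0))) (.node
    (.node (.leaf (nat_lit 18255912087301651532786499496378372)) (.leaf (nat_lit
    217450514362990264430))) (.leaf (nat_lit 140619347600450191362))))))) (.node (.node (.node
    (.node (.node (.node (.leaf (nat_lit 0)) (.leaf (nat_lit 25711009968816130))) (.node (.leaf
    (nat_lit 75379601471579553823)) (.leaf (nat_lit 54654700087279625)))) (.node (.node (.leaf
    (nat_lit 9678077441474569)) (.leaf (nat_lit 138827091635121356802))) (.leaf (nat_lit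
    13388381430890024809111986593267735)))) (.node (.node (.node (.leaf (nat_lit 0)) (.leaf
    (nat_lit 136255155532334813454954234572851298343431364763345289350))) (.leaf (nat_lit 0)))
    (.node (.node (.leaf (nat_lit 13039172818436098)) (.leaf (nat_lit 49639827552993282))) (.leaf
    (nat_lit 96012916831656542214))))) (.node (.node (.node (.node (.leaf (nat_lit
    2481206901997570)) (.leaf (nat_lit 109206264424538767362))) (.node (.leaf (nat_lit
    18248186464436226)) (.leaf (nat_lit 49746892497747970)))) (.node (.node (.leaf (nat_lit 0))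
    (.leaf (nat_lit 26725438523532212390777554895044658))) (.leaf (nat_lit 27081697241727090))))
    (.node (.node (.node (.leaf (nat_lit 8275797775141583677189854687854639)) (.leaf (nat_lit
    729145360482765122043906))) (.leaf (nat_lit 0))) (.node (.node (.leaf (nat_lit 0)) (.leaf
    (nat_lit 50625471007817730))) (.leaf (nat_lit 0)))))) (.node (.node (.node (.node (.node (.leaf
    (nat_lit 446227867770029213661480131952663)) (.leaf (nat_lit
    43617844377619614242263037699883044))) (.node (.leaf (nat_lit 19567334129795074)) (.leaf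
    (nat_lit 0)))) (.node (.node (.leaf (nat_lit 0)) (.leaf (nat_lit 34562224601300994))) (.leaf
    (nat_lit 118129899915100487792)))) (.node (.node (.node (.leaf (nat_lit
    2277532580055559880785980878553090562204431842119667429725271228471)) (.leaf (nat_lit
    54301669958854311938))) (.leaf (nat_lit 26653810569902439432017610772250671))) (.node (.node
    (.leaf (nat_lit 0)) (.leaf (nat_lit 210027210733896532050))) (.leaf (nat_lit
    36349772872795693635824206423195695))))) (.node (.node (.node (.node (.leaf (nat_lit
    15495673294463631409)) (.leaf (nat_lit 109063238818126299138))) (.node (.leaf (nat_lit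
    17544799670370306)) (.leaf (nat_lit 54778472454815746)))) (.node (.node (.leaf (nat_lit 0))
    (.leaf (nat_lit 0))) (.leaf (nat_lit 31075398351716361)))) (.node (.node (.node (.leaf (nat_lit
    166418681290288198438391816524334738505792)) (.leaf (nat_lit 128017572013891846146))) (.leaf
    (nat_lit 0))) (.node (.node (.leaf (nat_lit 17561300934721545)) (.leaf (nat_lit 0))) (.leaf
    (nat_lit 28982941824712706)))))))) (.node (.node (.node (.node (.node (.node (.node (.leaf
    (nat_lit 405672952083040371834726472155144)) (.leaf (nat_lit 105960486394034061314))) (.node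
    (.leaf (nat_lit 0)) (.leaf (nat_lit 0)))) (.node (.node (.leaf (nat_lit
    6896405572669530731300099633643543)) (.leaf (nat_lit 44044000562380802))) (.leaf (nat_lit
    7171921424698939127554275409980)))) (.node (.node (.node (.leaf (nat_lit 19168992470059122720))
    (.leaf (nat_lit 2176753998301144797812162692))) (.leaf (nat_lit 1538128511166111937395490906)))
    (.node (.node (.leaf (nat_lit 12775264257966082)) (.leaf (nat_lit 49938825996271625))) (.leaf
    (nat_lit 0))))) (.node (.node (.node (.node (.leaf (nat_lit
    2657738607100648461466192056877092)) (.leaf (nat_lit 8756848653163043342912066027603))) (.node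
    (.leaf (nat_lit 31725893967725920258)) (.leaf (nat_lit 209743941994159472642)))) (.node (.node
    (.leaf (nat_lit 40645974655590662218)) (.leaf (nat_lit 55036225488558118632785742743928840)))
    (.leaf (nat_lit 7176989272733076023145658712085)))) (.node (.node (.node (.leaf (nat_lit
    7144184175788035)) (.leaf (nat_lit 59201902978422472706))) (.leaf (nat_lit 0))) (.node (.node
    (.leaf (nat_lit 50850355349301152289312871185566400517)) (.leaf (nat_lit 49851371872190466)))
    (.leaf (nat_lit 0)))))) (.node (.node (.node (.node (.node (.leaf (nat_lit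
    198173180329317126104823496726)) (.leaf (nat_lit 0))) (.node (.leaf (nat_lit
    19303374029717506)) (.leaf (nat_lit 3439023348790354378425172057)))) (.node (.node (.leaf
    (nat_lit 54600859551317485168410635270171292013904846940598501449)) (.leaf (nat_lit
    30005719566778370))) (.leaf (nat_lit 117050074162551521329)))) (.node (.node (.node (.leaf
    (nat_lit 0)) (.leaf (nat_lit 41950032206888962))) (.leaf (nat_lit 0))) (.node (.node (.leaf
    (nat_lit 2971787745342329740376439914554)) (.leaf (nat_lit 51047400005042178))) (.leaf (nat_lit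
    0))))) (.node (.node (.node (.node (.leaf (nat_lit 599397564943461915543946526741)) (.leaf
    (nat_lit 33241367538958338))) (.node (.leaf (nat_lit 0)) (.leaf (nat_lit 51611793067474946))))
    (.node (.node (.leaf (nat_lit 9626056797585410)) (.leaf (nat_lit 0))) (.leaf (nat_lit
    30653117167173641)))) (.node (.node (.node (.leaf (nat_lit 8803630616493286581491366634127384))
    (.leaf (nat_lit 727944304894117083873282))) (.leaf (nat_lit 107608329817816236142))) (.node
    (.node (.leaf (nat_lit 17244572866445319)) (.leaf (nat_lit 0))) (.leaf (nat_lit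
    65103197960205959170))))))) (.node (.node (.node (.node (.node (.node (.leaf (nat_lit
    12931394638128150292185316360965681905675)) (.leaf (nat_lit 35668333298843650))) (.node (.leaf
    (nat_lit 0)) (.leaf (nat_lit 56594789623114996660130727881801874)))) (.node (.node (.leaf
    (nat_lit 0)) (.leaf (nat_lit 23531597533937666))) (.leaf (nat_lit 0)))) (.node (.node (.node
    (.leaf (nat_lit 0)) (.leaf (nat_lit 696417591920573305585729))) (.leaf (nat_lit
    23473718554656775))) (.node (.node (.leaf (nat_lit 39789797655554752563)) (.leaf (nat_lit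
    205702505857433141254))) (.leaf (nat_lit 32483116832653319))))) (.node (.node (.node (.node
    (.leaf (nat_lit 11388038539041243146)) (.leaf (nat_lit 30479205351424002))) (.node (.leaf
    (nat_lit 0)) (.leaf (nat_lit 189063659014922108930)))) (.node (.node (.leaf (nat_lit
    48867207522367504386)) (.leaf (nat_lit 27475522758326219847644501097513061))) (.leaf (nat_lit
    0)))) (.node (.node (.node (.leaf (nat_lit 7707271568162819)) (.leaf (nat_lit
    32503243049402370))) (.leaf (nat_lit 498294689641031148199076698994699640832019))) (.node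
    (.node (.leaf (nat_lit 68682413959964459014)) (.leaf (nat_lit
    55904889826440010396897329499537548))) (.leaf (nat_lit
    664305790169738882480087096885442482077707)))))) (.node (.node (.node (.node (.node (.leaf
    (nat_lit 0)) (.leaf (nat_lit 28614175932678146))) (.node (.leaf (nat_lit 34175324283470020610))
    (.leaf (nat_lit 252614951993662920053892047387039891474)))) (.node (.node (.leaf (nat_lit
    11085795922411527)) (.leaf (nat_lit 34105068282314754))) (.leaf (nat_lit 27169434833649666))))
    (.node (.node (.node (.leaf (nat_lit 1352154625721163863185454137402)) (.leaf (nat_lit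
    62948616436367687682))) (.leaf (nat_lit 0))) (.node (.node (.leaf (nat_lit
    60254015067946942474)) (.leaf (nat_lit 58548163764161479239836705799733385))) (.leaf (nat_lit
    0))))) (.node (.node (.node (.node (.leaf (nat_lit 0)) (.leaf (nat_lit
    545402634960254679778429985646449967861048392922275477586047))) (.node (.leaf (nat_lit
    4962897082030160503813186125884)) (.leaf (nat_lit 55939616863289346)))) (.node (.node (.leaf
    (nat_lit 15195254386276988886437867563712578)) (.leaf (nat_lit 201522197562417938459))) (.leaf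
    (nat_lit 23246944281428085)))) (.node (.node (.node (.leaf (nat_lit 35821316945714806814))
    (.leaf (nat_lit 14893636617633794))) (.leaf (nat_lit 0))) (.node (.node (.leaf (nat_lit
    340316098434937963063513498605143479353355)) (.leaf (nat_lit 0))) (.leaf (nat_lit
    47089011905576239106)))))))))) (.node (.node (.node (.node (.node (.node (.node (.node (.node
    (.leaf (nat_lit 1)) (.leaf (nat_lit 89314883911563804674))) (.node (.leaf (nat_lit
    71643267291731394588)) (.leaf (nat_lit 3482580787369441735926415504)))) (.node (.node (.leaf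
    (nat_lit 17951384617626042370)) (.leaf (nat_lit 28756296400502786))) (.leaf (nat_lit
    106383034261686124622)))) (.node (.node (.node (.leaf (nat_lit 0)) (.leaf (nat_lit
    681562053723462306103326))) (.node (.leaf (nat_lit 1232190631901704818883100761)) (.leaf
    (nat_lit 53622802255861527619337775791669397)))) (.node (.node (.leaf (nat_lit
    49661142869962063874)) (.leaf (nat_lit 0))) (.leaf (nat_lit 0))))) (.node (.node (.node (.node
    (.leaf (nat_lit 0)) (.leaf (nat_lit 28579017330393090))) (.node (.leaf (nat_lit
    32518330942964826114)) (.leaf (nat_lit 198791082568184954882)))) (.node (.node (.leaf (nat_lit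
    0)) (.leaf (nat_lit 46929909347647490))) (.leaf (nat_lit 26307469257080834)))) (.node (.node
    (.node (.leaf (nat_lit 1347333422472519445036734480444)) (.leaf (nat_lit
    98040770522178060290))) (.leaf (nat_lit 28317215827751275508506633995485231))) (.node (.node
    (.leaf (nat_lit 15801652833550339)) (.leaf (nat_lit 200804313089064501250))) (.leaf (nat_lit
    0)))))) (.node (.node (.node (.node (.node (.leaf (nat_lit 178310530886385489517557973007))
    (.leaf (nat_lit 30028326444419775803407563837865992))) (.node (.leaf (nat_lit 0)) (.leaf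
    (nat_lit 260426256087045266622392485758718443639)))) (.node (.node (.leaf (nat_lit 0)) (.leaf
    (nat_lit 43375677881319426))) (.leaf (nat_lit 28189575465795587)))) (.node (.node (.node (.leaf
    (nat_lit 6166129884590789800268709189058564)) (.leaf (nat_lit 2732455564927111319957864487)))
    (.leaf (nat_lit 0))) (.node (.node (.leaf (nat_lit 729150526029338832038854744)) (.leaf
    (nat_lit 0))) (.leaf (nat_lit 133771606302400905249))))) (.node (.node (.node (.node (.leaf
    (nat_lit 4934888226860992974567952594186318300951264749437206673727404446384173)) (.leaf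
    (nat_lit 37322591492505602))) (.node (.leaf (nat_lit 87207743600044736542)) (.leaf (nat_lit
    188343188889652101122)))) (.node (.node (.leaf (nat_lit 12088825404850178)) (.leaf (nat_lit
    47704240411508738))) (.leaf (nat_lit 0)))) (.node (.node (.node (.leaf (nat_lit
    9087430854855312430060753023074312)) (.leaf (nat_lit 15192557751500802))) (.leaf (nat_lit
    106310835543612784667))) (.node (.node (.leaf (nat_lit 0)) (.leaf (nat_lit
    216297857836390744146))) (.leaf (nat_lit 112949247372674924546))))))) (.node (.node (.node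
    (.node (.node (.node (.leaf (nat_lit 0)) (.leaf (nat_lit 17618587208515586))) (.node (.leaf
    (nat_lit 75534764526721499163)) (.leaf (nat_lit 14542097058757574950314916053051)))) (.node
    (.node (.leaf (nat_lit 0)) (.leaf (nat_lit 43815319323672578))) (.leaf (nat_lit
    27626488073420807)))) (.node (.node (.node (.leaf (nat_lit 19460653279539822643)) (.leaf
    (nat_lit 1719781813143894182519439399))) (.leaf (nat_lit 0))) (.node (.node (.leaf (nat_lit
    12933619702169602)) (.leaf (nat_lit
    10093483823698318765015289081523871766026462474593080061422078001178))) (.leaf (nat_lit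
    26937789196293524207074194649186351))))) (.node (.node (.node (.node (.leaf (nat_lit
    1935840544686082)) (.leaf (nat_lit 7544195841316779428063182454805))) (.node (.leaf (nat_lit
    18212976322543618)) (.leaf (nat_lit 200448599757261307906)))) (.node (.node (.leaf (nat_lit
    40790089878026256412)) (.leaf (nat_lit 45135652400005122))) (.leaf (nat_lit
    27926070632251394)))) (.node (.node (.node (.leaf (nat_lit 0)) (.leaf (nat_lit
    65399012149090779138))) (.leaf (nat_lit 0))) (.node (.node (.leaf (nat_lit 0)) (.leaf (nat_lit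
    51557848278237186))) (.leaf (nat_lit 162610351505807890141308002506782539895)))))) (.node
    (.node (.node (.node (.node (.leaf (nat_lit 1947363936692639350870996777631752)) (.leaf
    (nat_lit 154529102940965371938))) (.node (.leaf (nat_lit 18687724827574274)) (.leaf (nat_lit
    15631579709902930387029442560059)))) (.node (.node (.leaf (nat_lit 10733866302177283)) (.leaf
    (nat_lit 25625282421587970))) (.leaf (nat_lit 1887556552465398734048788568)))) (.node (.node
    (.node (.leaf (nat_lit 28741260367748692828794019228902608791770242707712966709)) (.leaf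
    (nat_lit 96383265758442094594))) (.leaf (nat_lit 0))) (.node (.node (.leaf (nat_lit
    3719790043309356472846864744469)) (.leaf (nat_lit 208946223682320269390))) (.leaf (nat_lit
    0))))) (.node (.node (.node (.node (.leaf (nat_lit 2375928663638018)) (.leaf (nat_lit
    108774976130935619586))) (.node (.leaf (nat_lit 74169276371852001282)) (.leaf (nat_lit
    49535975243776002)))) (.node (.node (.leaf (nat_lit 58748731134479742716500868327730053199))
    (.leaf (nat_lit 0))) (.leaf (nat_lit 0)))) (.node (.node (.node (.leaf (nat_lit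
    399042647630232387737419822)) (.leaf (nat_lit 15562062377910274))) (.leaf (nat_lit
    108256901005140230171))) (.node (.node (.leaf (nat_lit 0)) (.leaf (nat_lit
    57083820250523247800785294628159631))) (.leaf (nat_lit 28807019964268546)))))))) (.node (.node
    (.node (.node (.node (.node (.node (.leaf (nat_lit 0)) (.leaf (nat_lit 32173477964250546178)))
    (.node (.leaf (nat_lit 0)) (.leaf (nat_lit 3676031350472547335699497048)))) (.node (.node
    (.leaf (nat_lit 4949343773158901683717975115759639)) (.leaf (nat_lit 15315960751849474)))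
    (.leaf (nat_lit 0)))) (.node (.node (.node (.leaf (nat_lit 0)) (.leaf (nat_lit
    15305316972611831584771232407200318650473422945089978835804751921283))) (.leaf (nat_lit
    1551418474145042794184769627))) (.node (.node (.leaf (nat_lit 10470679296212994)) (.leaf
    (nat_lit 0))) (.leaf (nat_lit 27223104383026970353095945511960580))))) (.node (.node (.node
    (.node (.leaf (nat_lit 9369722072508596258)) (.leaf (nat_lit 0))) (.node (.leaf (nat_lit
    8667323069381148674)) (.leaf (nat_lit 99928450623485444098)))) (.node (.node (.leaf (nat_lit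
    11578497390739463)) (.leaf (nat_lit 31488446376562971794708199922663432))) (.leaf (nat_lit
    0)))) (.node (.node (.node (.leaf (nat_lit 0)) (.leaf (nat_lit 44790362245028839426))) (.leaf
    (nat_lit 0))) (.node (.node (.leaf (nat_lit 16083196529737731)) (.leaf (nat_lit
    206352924404680425474))) (.leaf (nat_lit 36877125523928313311690156996493320)))))) (.node
    (.node (.node (.node (.node (.leaf (nat_lit 6125898514116575252)) (.leaf (nat_lit
    6477335944065520088171755355511394478571779177437351291402903879706))) (.node (.leaf (nat_lit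
    19197820913451010)) (.leaf (nat_lit 219677123940081401866)))) (.node (.node (.leaf (nat_lit 0))
    (.leaf (nat_lit 32697272491966466))) (.leaf (nat_lit 0)))) (.node (.node (.node (.leaf (nat_lit
    5912439094902791)) (.leaf (nat_lit 32538212673126402))) (.leaf (nat_lit 23966420022984707)))
    (.node (.node (.leaf (nat_lit 991492185976110512620240984)) (.leaf (nat_lit
    227001998303259699872426392567648092210))) (.leaf (nat_lit 135132394904055119899))))) (.node
    (.node (.node (.node (.leaf (nat_lit 220074676190460626558320686)) (.leaf (nat_lit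
    158350278964180877387))) (.node (.leaf (nat_lit 0)) (.leaf (nat_lit 50696982213296130))))
    (.node (.node (.leaf (nat_lit 10171388795158530)) (.leaf (nat_lit 0))) (.leaf (nat_lit
    438320666474255663951759505009290410262613)))) (.node (.node (.node (.leaf (nat_lit
    33658726781043277851)) (.leaf (nat_lit 23284997691670530))) (.leaf (nat_lit
    102924111212032753738))) (.node (.node (.leaf (nat_lit 12820454144014554366104110025343000))
    (.leaf (nat_lit 14289489573396568773000627093624))) (.leaf (nat_lit
    106247945733361827842))))))) (.node (.node (.node (.node (.node (.node (.leaf (nat_lit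
    879836935618569)) (.leaf (nat_lit 22720458600349698))) (.node (.leaf (nat_lit
    76976233126958399516)) (.leaf (nat_lit 54865857859420169)))) (.node (.node (.leaf (nat_lit 0))
    (.leaf (nat_lit 182915961475899260930))) (.leaf (nat_lit 107825329814926196756)))) (.node
    (.node (.node (.leaf (nat_lit 0)) (.leaf (nat_lit 167791549685692563568))) (.leaf (nat_lit 0)))
    (.node (.node (.leaf (nat_lit 11666416924854297642466950144000087)) (.leaf (nat_lit
    206782824199781285923))) (.leaf (nat_lit 0))))) (.node (.node (.node (.node (.leaf (nat_lit 0))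
    (.leaf (nat_lit 31059738900955138))) (.node (.leaf (nat_lit
    8560108042416174440333065970974768)) (.leaf (nat_lit 49359898764509186)))) (.node (.node (.leaf
    (nat_lit 40292336574675484674)) (.leaf (nat_lit 55563974245456282482271718088310792))) (.leaf
    (nat_lit 0)))) (.node (.node (.node (.leaf (nat_lit 0)) (.leaf (nat_lit 23918247669792770)))
    (.leaf (nat_lit 25655682200109065))) (.node (.node (.leaf (nat_lit
    18580425698877821217162601890775087)) (.leaf (nat_lit 196625061532097773678))) (.leaf (nat_lit
    34629896106016777)))))) (.node (.node (.node (.node (.node (.leaf (nat_lit 0)) (.leaf (nat_lit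
    154745607715461201922))) (.node (.leaf (nat_lit 19022045081894914)) (.leaf (nat_lit
    1034026706495044064840314898020874918101077)))) (.node (.node (.leaf (nat_lit 0)) (.leaf
    (nat_lit 31606977864007682))) (.leaf (nat_lit 27116658275516418)))) (.node (.node (.node (.leaf
    (nat_lit 5085726609899522)) (.leaf (nat_lit 59633967084853198850))) (.leaf (nat_lit
    24529507415359491))) (.node (.node (.leaf (nat_lit 0)) (.leaf (nat_lit 0))) (.leaf (nat_lit
    33503721321267207))))) (.node (.node (.node (.node (.leaf (nat_lit 4258361289867271)) (.leaf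
    (nat_lit 39416319329828866))) (.node (.leaf (nat_lit 0)) (.leaf (nat_lit 49958256428318722))))
    (.node (.node (.leaf (nat_lit 2848176259690843626684297904149)) (.leaf (nat_lit
    49305352679849993))) (.leaf (nat_lit 0)))) (.node (.node (.node (.leaf (nat_lit
    8587129978486786)) (.leaf (nat_lit 24129517111083010))) (.leaf (nat_lit
    6504615394926949480375079829394752737808366210301160889946855178312))) (.node (.node (.leaf
    (nat_lit 0)) (.leaf (nat_lit 3493406810445497237386887258))) (.leaf (nat_lit
    70003289696824918018))))))))) (.node (.node (.node (.node (.node (.node (.node (.node (.leaf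
    (nat_lit 202858763193320117548882638340100)) (.leaf (nat_lit 23036868841046018))) (.node (.leaf
    (nat_lit 18194774251143175)) (.leaf (nat_lit 13784443895640810829901457653781)))) (.node (.node
    (.leaf (nat_lit 6278125606924386306)) (.leaf (nat_lit 101500797799333298178))) (.leaf (nat_lit
    27204172529139721)))) (.node (.node (.node (.leaf (nat_lit 0)) (.leaf (nat_lit
    2176598793232729880796659803))) (.leaf (nat_lit 0))) (.node (.node (.leaf (nat_lit
    51102312961381957634)) (.leaf (nat_lit
    269785028293383888747285987491224694069785620311383539755))) (.leaf (nat_lit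
    31638502923960327))))) (.node (.node (.node (.node (.leaf (nat_lit 7782678158523957279)) (.leaf
    (nat_lit 450848530173250601484323))) (.node (.leaf (nat_lit 18371211507662850)) (.leaf (nat_lit
    49324637083009026)))) (.node (.node (.leaf (nat_lit 12414295776825387658531047406501892))
    (.leaf (nat_lit 13579451658018456907029437174215989566954853786435989586486139814026))) (.leaf
    (nat_lit 26976023866376306)))) (.node (.node (.node (.leaf (nat_lit
    1352270675224821712676976984125)) (.leaf (nat_lit 60498798564249632770))) (.leaf (nat_lit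
    27059468751319792107317482561667080))) (.node (.node (.leaf (nat_lit 0)) (.leaf (nat_lit
    209523423091689193474))) (.leaf (nat_lit 111506850995724042697061884552460894213)))))) (.node
    (.node (.node (.node (.node (.leaf (nat_lit 1054749754482428364330631805992977)) (.leaf
    (nat_lit 19473049796674873620006471274528791))) (.node (.leaf (nat_lit 18441331143737346))
    (.leaf (nat_lit 55112251543257097)))) (.node (.node (.leaf (nat_lit 10311550757896201)) (.leaf
    (nat_lit 31958357728428034))) (.leaf (nat_lit 0)))) (.node (.node (.node (.leaf (nat_lit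
    23999648552735408155)) (.leaf (nat_lit 171538882958958198833))) (.leaf (nat_lit 0))) (.node
    (.node (.leaf (nat_lit 14710696780627977)) (.leaf (nat_lit
    57284160768568254390020929130791033))) (.leaf (nat_lit 0))))) (.node (.node (.node (.node
    (.leaf (nat_lit 11172463693684473858)) (.leaf (nat_lit 38360556238929922))) (.node (.leaf
    (nat_lit 17509503629131778)) (.leaf (nat_lit 55130187326685186)))) (.node (.node (.leaf
    (nat_lit 211670417689076014776369)) (.leaf (nat_lit 48654042364248178))) (.leaf (nat_lit 0))))
    (.node (.node (.node (.leaf (nat_lit 8276386928270599893729931031937028)) (.leaf (nat_lit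
    64246356417060208642))) (.leaf (nat_lit 29493664735277458241339286413049881))) (.node (.node
    (.leaf (nat_lit 53010797233870149342050442970319552517)) (.leaf (nat_lit
    54615189411761444162504036362682470))) (.leaf (nat_lit 27434777913196546))))))) (.node (.node
    (.node (.node (.node (.node (.leaf (nat_lit 0)) (.leaf (nat_lit 29686861194723330))) (.node
    (.leaf (nat_lit 76903858779082391585)) (.leaf (nat_lit 0)))) (.node (.node (.leaf (nat_lit
    39208868513765851163)) (.leaf (nat_lit 33365595173027842))) (.leaf (nat_lit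
    13146276448400640162656357009784941)))) (.node (.node (.node (.leaf (nat_lit 0)) (.leaf
    (nat_lit 169144199311435956251))) (.leaf (nat_lit 0))) (.node (.node (.leaf (nat_lit
    3778997942963495035117211522969167167262691471732794029669417484374)) (.leaf (nat_lit
    50167593134325762))) (.leaf (nat_lit 132106468832024133659))))) (.node (.node (.node (.node
    (.leaf (nat_lit 2621961570222082)) (.leaf (nat_lit 127004474135973920770))) (.node (.leaf
    (nat_lit 17773206031171586)) (.leaf (nat_lit 955900534568874047438850)))) (.node (.node (.leaf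
    (nat_lit 40934205109051785251)) (.leaf (nat_lit 39158277799249347567783924262699147))) (.leaf
    (nat_lit 0)))) (.node (.node (.node (.leaf (nat_lit 30920203956067172358)) (.leaf (nat_lit
    45727362115734536194))) (.leaf (nat_lit 0))) (.node (.node (.leaf (nat_lit
    13347301257478766076139480675713032)) (.leaf (nat_lit 48760785186455554))) (.leaf (nat_lit
    19475794634127027253741736639791129)))))) (.node (.node (.node (.node (.node (.leaf (nat_lit
    144812435734870550569073009040673346798268956424420933115254407194)) (.leaf (nat_lit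
    154169146920208105474))) (.node (.leaf (nat_lit
    2996626513622048861393053920697623684769189043475237655037070016610)) (.leaf (nat_lit 0))))
    (.node (.node (.leaf (nat_lit 0)) (.leaf (nat_lit 37359390772297730))) (.leaf (nat_lit
    28787881589997577)))) (.node (.node (.node (.leaf (nat_lit
    117332177125881146783408853991217552091551584564092953559097)) (.leaf (nat_lit
    43709203661048709122))) (.leaf (nat_lit 0))) (.node (.node (.leaf (nat_lit
    1014465875769448926328193112)) (.leaf (nat_lit 202100663798160621619))) (.leaf (nat_lit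
    137005575693987414022))))) (.node (.node (.node (.node (.leaf (nat_lit 0)) (.leaf (nat_lit
    65828667959984455682))) (.node (.leaf (nat_lit 17474439516127234)) (.leaf (nat_lit
    53406290533285890)))) (.node (.node (.leaf (nat_lit 13126987719770121)) (.leaf (nat_lit 0)))
    (.leaf (nat_lit 0)))) (.node (.node (.node (.leaf (nat_lit 9900213132224994290819138526314562))
    (.leaf (nat_lit 24446150690078722))) (.leaf (nat_lit 0))) (.node (.node (.leaf (nat_lit 0))
    (.leaf (nat_lit 56351031253419413466725800844132473))) (.leaf (nat_lit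
    66256227367276183554)))))))) (.node (.node (.node (.node (.node (.node (.node (.leaf (nat_lit
    0)) (.leaf (nat_lit 30566393187532802))) (.node (.leaf (nat_lit 0)) (.leaf (nat_lit
    3683286102334461285283201115)))) (.node (.node (.leaf (nat_lit 0)) (.leaf (nat_lit
    32978524130377730))) (.leaf (nat_lit 0)))) (.node (.node (.node (.leaf (nat_lit
    19244392566560587778)) (.leaf (nat_lit
    14569124151632382983438225022455459616524899003672694370200554831944))) (.leaf (nat_lit
    22945832714240009))) (.node (.node (.leaf (nat_lit 9819785592438786)) (.leaf (nat_lit 0)))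
    (.leaf (nat_lit 31990415364325383))))) (.node (.node (.node (.node (.leaf (nat_lit 0)) (.leaf
    (nat_lit 693004592085718632503781224961001030932892493854723873308795))) (.node (.leaf (nat_lit
    7622471733870594)) (.leaf (nat_lit 221057036003880140802)))) (.node (.node (.leaf (nat_lit
    48072339660063572033)) (.leaf (nat_lit 29513765422759938))) (.leaf (nat_lit
    25533533330210818)))) (.node (.node (.node (.leaf (nat_lit 0)) (.leaf (nat_lit
    38853962081894402))) (.leaf (nat_lit 1990829933572626540524188957909085934794178667))) (.node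
    (.node (.leaf (nat_lit 66520211072494010374)) (.leaf (nat_lit 51381900647989250))) (.leaf
    (nat_lit 526217476926828441741157966538863584804982)))))) (.node (.node (.node (.node (.node
    (.leaf (nat_lit 933327606207517223426613477572632)) (.leaf (nat_lit 154024523817889759308)))
    (.node (.leaf (nat_lit 18986731860787202)) (.leaf (nat_lit
    59523265328687255744537587150684252)))) (.node (.node (.leaf (nat_lit 10557910081994761))
    (.leaf (nat_lit 26100262854852610))) (.leaf (nat_lit 32236589413114661707656331440619557))))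
    (.node (.node (.node (.leaf (nat_lit 6088395315085321)) (.leaf (nat_lit
    172763965231307358290))) (.leaf (nat_lit 27586909762765881157948093042720874))) (.node (.node
    (.leaf (nat_lit 14992240476815369)) (.leaf (nat_lit 49446519664934914))) (.leaf (nat_lit
    37851155985605314099190289154900074))))) (.node (.node (.node (.node (.leaf (nat_lit
    17533312113086187361446588478254481450)) (.leaf (nat_lit 33294144097091586))) (.node (.leaf
    (nat_lit 89225373932666945546)) (.leaf (nat_lit 235250554245889589250)))) (.node (.node (.leaf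
    (nat_lit 52827860083079839824)) (.leaf (nat_lit 48883037135568905))) (.leaf (nat_lit
    28770770440290418)))) (.node (.node (.node (.leaf (nat_lit 8305560512495623)) (.leaf (nat_lit
    31658904018616322))) (.leaf (nat_lit
    4344611044833754477221036677173264549283673750148709409618257772570))) (.node (.node (.leaf
    (nat_lit 0)) (.leaf (nat_lit 0))) (.leaf (nat_lit 73029588486117851138))))))) (.node (.node
    (.node (.node (.node (.node (.leaf (nat_lit 267457917059300768384668794893)) (.leaf (nat_lit
    36336879318204418))) (.node (.leaf (nat_lit 77192405952021856291)) (.leaf (nat_lit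
    211469313524709392435)))) (.node (.node (.leaf (nat_lit 10030007061708809)) (.leaf (nat_lit
    33717533383196674))) (.leaf (nat_lit 0)))) (.node (.node (.node (.leaf (nat_lit
    4908541264625694418774667517427720)) (.leaf (nat_lit 28157646678917122))) (.leaf (nat_lit 0)))
    (.node (.node (.leaf (nat_lit 58669433802310483988)) (.leaf (nat_lit 205342675305555492945)))
    (.leaf (nat_lit 0))))) (.node (.node (.node (.node (.leaf (nat_lit
    3833959871532044351370533458608169)) (.leaf (nat_lit 37551272731213826))) (.node (.leaf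
    (nat_lit 71643268073415442507)) (.leaf (nat_lit 53687593711304706)))) (.node (.node (.leaf
    (nat_lit 10540695853072386)) (.leaf (nat_lit 55766773901934617228866401849507848))) (.leaf
    (nat_lit 30301153187201033)))) (.node (.node (.node (.leaf (nat_lit 32073143061449998369))
    (.leaf (nat_lit 24727513997639682))) (.leaf (nat_lit 25110358792470530))) (.node (.node (.leaf
    (nat_lit 13104338556293887210293264940204056)) (.leaf (nat_lit 48831222650109954))) (.leaf
    (nat_lit 8588410280795021294868550254712)))))) (.node (.node (.node (.node (.node (.leaf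
    (nat_lit 7928235828546043931)) (.leaf (nat_lit 37586199405264898))) (.node (.leaf (nat_lit
    20077610604298242)) (.leaf (nat_lit 227397963447240163330)))) (.node (.node (.leaf (nat_lit 0))
    (.leaf (nat_lit 46437190699450370))) (.leaf (nat_lit 27961083205648386)))) (.node (.node (.node
    (.leaf (nat_lit 0)) (.leaf (nat_lit 54085601050524581890))) (.leaf (nat_lit
    24670279263453191))) (.node (.node (.leaf (nat_lit 910499435874211586254372953)) (.leaf
    (nat_lit 269785033293562579019433915007814743042177216644391960620))) (.leaf (nat_lit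
    154041516704817283362432303178818519045))))) (.node (.node (.node (.node (.leaf (nat_lit
    4827644338387328209291840946896900)) (.leaf (nat_lit 30373987242606594))) (.node (.leaf
    (nat_lit 22347560949776393)) (.leaf (nat_lit 54673022417764354)))) (.node (.node (.leaf
    (nat_lit 40870116908435963906)) (.leaf (nat_lit 0))) (.leaf (nat_lit 0)))) (.node (.node (.node
    (.leaf (nat_lit 35605267317493268507)) (.leaf (nat_lit 115623982241019002882))) (.leaf (nat_lit
    0))) (.node (.node (.leaf (nat_lit 35233248069288993231330901626819444829)) (.leaf (nat_lit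
    1044562993893610757087297931237678150910067))) (.leaf (nat_lit 35140249889931266))))))))))))

/-- Certificate data. -/
def t8_rel : Trie :=
    (.node (.node (.node (.node (.node (.node (.node (.node (.leaf (nat_lit 0)) (.leaf (nat_lit
    2224809903362))) (.leaf (nat_lit 649090118207997191))) (.node (.leaf (nat_lit 50528770)) (.leaf
    (nat_lit 3744440599193665270774261741673215623682)))) (.node (.node (.node (.leaf (nat_lit
    129705646203079033097)) (.leaf (nat_lit 360576055205037572))) (.leaf (nat_lit 17236743)))
    (.node (.leaf (nat_lit 216455361048807434)) (.leaf (nat_lit 723723))))) (.node (.node (.node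
    (.node (.leaf (nat_lit 84346119)) (.leaf (nat_lit 2384645611935498320611311098993664132619)))
    (.leaf (nat_lit 33686018))) (.node (.leaf (nat_lit 147719758843900004615)) (.leaf (nat_lit
    794334504860125958)))) (.node (.node (.leaf (nat_lit 683275133165843550128344824649383021319))
    (.leaf (nat_lit 6601381839362))) (.node (.leaf (nat_lit 1693273744016643)) (.leaf (nat_lit
    506938666539745541)))))) (.node (.node (.node (.node (.node (.leaf (nat_lit 117573380)) (.leaf
    (nat_lit 223503272723649035217946898661639))) (.leaf (nat_lit 434885474843690505))) (.node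
    (.leaf (nat_lit 122488603424926205417332918650114)) (.leaf (nat_lit 795177838717305348))))
    (.node (.node (.node (.leaf (nat_lit 1412885427521028)) (.leaf (nat_lit
    42519818838565064147205))) (.leaf (nat_lit 1708063268373621853618186690896345826819))) (.node
    (.leaf (nat_lit 101808510414653538206229348091395)) (.leaf (nat_lit 4741246140993849328905)))))
    (.node (.node (.node (.node (.leaf (nat_lit 286981225840901)) (.leaf (nat_lit
    360576059500004867))) (.leaf (nat_lit 33751300))) (.node (.leaf (nat_lit 2220514936322)) (.leaf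
    (nat_lit 16974340)))) (.node (.node (.leaf (nat_lit 50790663)) (.leaf (nat_lit
    432632549748114692))) (.node (.leaf (nat_lit 721994332022049285)) (.leaf (nat_lit
    291336539584201218))))))) (.node (.node (.node (.node (.node (.node (.leaf (nat_lit
    578152905077885186)) (.leaf (nat_lit 1103907389957))) (.leaf (nat_lit 74317116236629257)))
    (.node (.leaf (nat_lit 794896342248915209)) (.leaf (nat_lit 435448433387177483)))) (.node
    (.node (.node (.leaf (nat_lit 34014215)) (.leaf (nat_lit 28353006494445207684360))) (.leaf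
    (nat_lit 101811599215400576172390588220932))) (.node (.leaf (nat_lit 577876944889382917))
    (.leaf (nat_lit 28389612604329329689864))))) (.node (.node (.node (.node (.leaf (nat_lit
    23759838999483288913410)) (.leaf (nat_lit 72340207366048259))) (.leaf (nat_lit 67175170)))
    (.node (.leaf (nat_lit 101808511623579357820858506020355)) (.leaf (nat_lit 117704450)))) (.node
    (.node (.leaf (nat_lit 67240705)) (.leaf (nat_lit 360857530181682692))) (.node (.leaf (nat_lit
    1693269465695748)) (.leaf (nat_lit 1131418990543878)))))) (.node (.node (.node (.node (.node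
    (.leaf (nat_lit 720862921538013698)) (.leaf (nat_lit 203301325572142815654249199108614)))
    (.leaf (nat_lit 2395294850929525511482637803038079385857))) (.node (.leaf (nat_lit
    1412876837455362)) (.leaf (nat_lit 144680354417543688)))) (.node (.node (.leaf (nat_lit
    794042013208152833)) (.leaf (nat_lit 6605693583617))) (.node (.leaf (nat_lit 1695451308950786))
    (.leaf (nat_lit 1695459899016452))))) (.node (.node (.node (.node (.leaf (nat_lit
    289920347049165317)) (.leaf (nat_lit 1125315118337))) (.leaf (nat_lit 67371265))) (.node (.leaf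
    (nat_lit 579278804917225739)) (.leaf (nat_lit 33816835)))) (.node (.node (.leaf (nat_lit
    16843780)) (.leaf (nat_lit 41043290314431958837805959285509))) (.node (.leaf (nat_lit
    4815250412650682123779)) (.leaf (nat_lit 349638987432381922492603661349885709057)))))))) (.node
    (.node (.node (.node (.node (.node (.node (.leaf (nat_lit 526344)) (.leaf (nat_lit
    693862226935455539608476105176729192194))) (.leaf (nat_lit 166527359343866742017))) (.node
    (.leaf (nat_lit 50463745)) (.leaf (nat_lit 695191454932477181890711174791947421442)))) (.node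
    (.node (.node (.leaf (nat_lit 23759839558048198033924)) (.leaf (nat_lit 433195491111732482)))
    (.leaf (nat_lit 1410694960776707))) (.node (.leaf (nat_lit 101123591)) (.leaf (nat_lit
    28371454931736742461960))))) (.node (.node (.node (.node (.leaf (nat_lit
    23648872276089278825985)) (.leaf (nat_lit 360570570482057483))) (.leaf (nat_lit 33686275)))
    (.node (.leaf (nat_lit 101811290962872705772097135576580)) (.leaf (nat_lit
    18982277804752206628354)))) (.node (.node (.leaf (nat_lit 117507843)) (.leaf (nat_lit
    5501870277122))) (.node (.leaf (nat_lit 1691070442309122)) (.leaf (nat_lit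
    223583735175794488612566373500165)))))) (.node (.node (.node (.node (.node (.leaf (nat_lit
    657930)) (.leaf (nat_lit 360857534476649987))) (.leaf (nat_lit 592137))) (.node (.leaf (nat_lit
    2207697142022)) (.leaf (nat_lit 50398210)))) (.node (.node (.leaf (nat_lit 722829947839974153))
    (.leaf (nat_lit 433195495406699777))) (.node (.leaf (nat_lit
    2044383933311275596230717214988006196482)) (.leaf (nat_lit 129560399626128393992))))) (.node
    (.node (.node (.node (.leaf (nat_lit 1691074687206657)) (.leaf (nat_lit 361139000863622657)))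
    (.leaf (nat_lit 651623410178261249))) (.node (.leaf (nat_lit 578437682867538177)) (.leaf
    (nat_lit 506094224413360392)))) (.node (.node (.leaf (nat_lit 16843009)) (.leaf (nat_lit
    41042049951855921808501866037515))) (.node (.leaf (nat_lit 9537544836831022024710)) (.leaf
    (nat_lit 101572373371049101958946435958539))))))) (.node (.node (.node (.node (.node (.node
    (.leaf (nat_lit 148080047900715976967)) (.leaf (nat_lit 432914029019727107))) (.leaf (nat_lit
    117769989))) (.node (.leaf (nat_lit 651341900825101323)) (.leaf (nat_lit 577025909937867018))))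
    (.node (.node (.node (.leaf (nat_lit 1411798800729347)) (.leaf (nat_lit 73469392771678982)))
    (.leaf (nat_lit 28371382031938238874889))) (.node (.leaf (nat_lit
    101811600447882527117161565390340)) (.leaf (nat_lit 394758))))) (.node (.node (.node (.node
    (.leaf (nat_lit 1408495903966721)) (.leaf (nat_lit 23778286302121890808324))) (.leaf (nat_lit
    3409480315636804413187981060019687850247))) (.node (.leaf (nat_lit
    2384645632217907943133928930949682431237)) (.leaf (nat_lit 144682583472080898)))) (.node (.node
    (.leaf (nat_lit 17040385)) (.leaf (nat_lit 146373597861316361))) (.node (.leaf (nat_lit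
    1409599777342721)) (.leaf (nat_lit 288080737207557)))))) (.node (.node (.node (.node (.node
    (.leaf (nat_lit 328965)) (.leaf (nat_lit 363108260549100810))) (.leaf (nat_lit
    122488908069455115057078773417217))) (.node (.leaf (nat_lit 362822378969235972)) (.leaf
    (nat_lit 1132522797073157)))) (.node (.node (.leaf (nat_lit 721421469133376264)) (.leaf
    (nat_lit 5506182021377))) (.node (.leaf (nat_lit 20361955765694904256007311131909)) (.leaf
    (nat_lit 362545302005613832))))) (.node (.node (.node (.node (.leaf (nat_lit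
    73472704191661571)) (.leaf (nat_lit 362268199355810561))) (.leaf (nat_lit 17039875))) (.node
    (.leaf (nat_lit 67568135)) (.leaf (nat_lit 37326401081239471880)))) (.node (.node (.leaf
    (nat_lit 67174660)) (.leaf (nat_lit 142135944966906672567169696466442))) (.node (.leaf (nat_lit
    50463235)) (.leaf (nat_lit 683280325462706915918509805390067467527)))))))))

/-- Certificate data. -/
def t8_rc : Trie :=
    (.node (.node (.node (.node (.node (.node (.node (.node (.leaf (nat_lit 52)) (.leaf (nat_lit
    655366))) (.leaf (nat_lit 29))) (.node (.leaf (nat_lit 262148)) (.leaf (nat_lit 655400))))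
    (.node (.node (.node (.leaf (nat_lit 1048607)) (.leaf (nat_lit 655375))) (.leaf (nat_lit
    262166))) (.node (.leaf (nat_lit 524339)) (.leaf (nat_lit 37))))) (.node (.node (.node (.node
    (.leaf (nat_lit 18)) (.leaf (nat_lit 2097193))) (.leaf (nat_lit 3))) (.node (.leaf (nat_lit
    131102)) (.leaf (nat_lit 131121)))) (.node (.node (.leaf (nat_lit 1966121)) (.leaf (nat_lit
    524294))) (.node (.leaf (nat_lit 131082)) (.leaf (nat_lit 131101)))))) (.node (.node (.node
    (.node (.node (.leaf (nat_lit 23)) (.leaf (nat_lit 39))) (.leaf (nat_lit 47))) (.node (.leaf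
    (nat_lit 1441831)) (.leaf (nat_lit 524338)))) (.node (.node (.node (.leaf (nat_lit 524298))
    (.leaf (nat_lit 393251))) (.leaf (nat_lit 786473))) (.node (.leaf (nat_lit 524330)) (.leaf
    (nat_lit 262179))))) (.node (.node (.node (.node (.leaf (nat_lit 131081)) (.leaf (nat_lit
    262158))) (.leaf (nat_lit 393228))) (.node (.leaf (nat_lit 524295)) (.leaf (nat_lit 262157))))
    (.node (.node (.leaf (nat_lit 22)) (.leaf (nat_lit 524305))) (.node (.leaf (nat_lit 48)) (.leaf
    (nat_lit 655410))))))) (.node (.node (.node (.node (.node (.node (.leaf (nat_lit 786461))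
    (.leaf (nat_lit 262151))) (.leaf (nat_lit 262172))) (.node (.leaf (nat_lit 917555)) (.leaf
    (nat_lit 49)))) (.node (.node (.node (.leaf (nat_lit 393239)) (.leaf (nat_lit 393250))) (.leaf
    (nat_lit 917542))) (.node (.leaf (nat_lit 46)) (.leaf (nat_lit 524321))))) (.node (.node (.node
    (.node (.leaf (nat_lit 655394)) (.leaf (nat_lit 393267))) (.leaf (nat_lit 393229))) (.node
    (.leaf (nat_lit 393259)) (.leaf (nat_lit 262167)))) (.node (.node (.leaf (nat_lit 12)) (.leaf
    (nat_lit 786446))) (.node (.leaf (nat_lit 786442)) (.leaf (nat_lit 655370)))))) (.node (.node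
    (.node (.node (.node (.leaf (nat_lit 262188)) (.leaf (nat_lit 1310759))) (.leaf (nat_lit
    262184))) (.node (.leaf (nat_lit 524296)) (.leaf (nat_lit 50)))) (.node (.node (.leaf (nat_lit
    655405)) (.leaf (nat_lit 7))) (.node (.leaf (nat_lit 655369)) (.leaf (nat_lit 655371)))))
    (.node (.node (.node (.node (.leaf (nat_lit 655377)) (.leaf (nat_lit 131079))) (.leaf (nat_lit
    5))) (.node (.leaf (nat_lit 786483)) (.leaf (nat_lit 13)))) (.node (.node (.leaf (nat_lit
    262149)) (.leaf (nat_lit 1572903))) (.node (.leaf (nat_lit 262177)) (.leaf (nat_lit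
    393256)))))))) (.node (.node (.node (.node (.node (.node (.node (.leaf (nat_lit 26)) (.leaf
    (nat_lit 1835049))) (.leaf (nat_lit 31))) (.node (.leaf (nat_lit 131085)) (.leaf (nat_lit
    786472)))) (.node (.node (.node (.leaf (nat_lit 786465)) (.leaf (nat_lit 524302))) (.leaf
    (nat_lit 262155))) (.node (.leaf (nat_lit 131091)) (.leaf (nat_lit 917538))))) (.node (.node
    (.node (.node (.leaf (nat_lit 131106)) (.leaf (nat_lit 524333))) (.leaf (nat_lit 4))) (.node
    (.leaf (nat_lit 1179691)) (.leaf (nat_lit 917537)))) (.node (.node (.leaf (nat_lit 393238))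
    (.leaf (nat_lit 393223))) (.node (.leaf (nat_lit 786440)) (.leaf (nat_lit 1048618)))))) (.node
    (.node (.node (.node (.node (.leaf (nat_lit 36)) (.leaf (nat_lit 131087))) (.leaf (nat_lit
    27))) (.node (.leaf (nat_lit 655367)) (.leaf (nat_lit 262156)))) (.node (.node (.leaf (nat_lit
    262194)) (.leaf (nat_lit 393231))) (.node (.leaf (nat_lit 1966120)) (.leaf (nat_lit 786463)))))
    (.node (.node (.node (.node (.leaf (nat_lit 131080)) (.leaf (nat_lit 262161))) (.leaf (nat_lit
    51))) (.node (.leaf (nat_lit 131100)) (.leaf (nat_lit 28)))) (.node (.node (.leaf (nat_lit 2))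
    (.leaf (nat_lit 1703979))) (.node (.leaf (nat_lit 786466)) (.leaf (nat_lit 1703975)))))))
    (.node (.node (.node (.node (.node (.node (.leaf (nat_lit 917535)) (.leaf (nat_lit 17))) (.leaf
    (nat_lit 131090))) (.node (.leaf (nat_lit 393266)) (.leaf (nat_lit 131122)))) (.node (.node
    (.node (.leaf (nat_lit 11)) (.leaf (nat_lit 262160))) (.leaf (nat_lit 1179681))) (.node (.leaf
    (nat_lit 1310762)) (.leaf (nat_lit 1))))) (.node (.node (.node (.node (.leaf (nat_lit 262153))
    (.leaf (nat_lit 917536))) (.leaf (nat_lit 131112))) (.node (.leaf (nat_lit 1048616)) (.leaf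
    (nat_lit 917554)))) (.node (.node (.leaf (nat_lit 131077)) (.leaf (nat_lit 917533))) (.node
    (.leaf (nat_lit 9)) (.leaf (nat_lit 262152)))))) (.node (.node (.node (.node (.node (.leaf
    (nat_lit 0)) (.leaf (nat_lit 131120))) (.leaf (nat_lit 262182))) (.node (.leaf (nat_lit
    524316)) (.leaf (nat_lit 786443)))) (.node (.node (.leaf (nat_lit 655411)) (.leaf (nat_lit
    131078))) (.node (.leaf (nat_lit 524327)) (.leaf (nat_lit 131118))))) (.node (.node (.node
    (.node (.leaf (nat_lit 393245)) (.leaf (nat_lit 262173))) (.leaf (nat_lit 131084))) (.node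
    (.leaf (nat_lit 131095)) (.leaf (nat_lit 30)))) (.node (.node (.leaf (nat_lit 393221)) (.leaf
    (nat_lit 38))) (.node (.leaf (nat_lit 131076)) (.leaf (nat_lit 917544)))))))))

/-- Certificate data. -/
def t8_lv : Trie :=
    (.node (.node (.node (.node (.node (.node (.node (.leaf (nat_lit 0)) (.leaf (nat_lit 125)))
    (.node (.leaf (nat_lit 57)) (.leaf (nat_lit 247)))) (.node (.node (.leaf (nat_lit 29)) (.leaf
    (nat_lit 190))) (.leaf (nat_lit 98)))) (.node (.node (.node (.leaf (nat_lit 13)) (.leaf
    (nat_lit 139))) (.node (.leaf (nat_lit 71)) (.leaf (nat_lit 309)))) (.node (.node (.leaf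
    (nat_lit 45)) (.leaf (nat_lit 206))) (.leaf (nat_lit 108))))) (.node (.node (.node (.node
    (.leaf (nat_lit 4)) (.leaf (nat_lit 131))) (.node (.leaf (nat_lit 63)) (.leaf (nat_lit 290))))
    (.node (.node (.leaf (nat_lit 37)) (.leaf (nat_lit 198))) (.leaf (nat_lit 103)))) (.node (.node
    (.node (.leaf (nat_lit 17)) (.leaf (nat_lit 182))) (.leaf (nat_lit 87))) (.node (.node (.leaf
    (nat_lit 53)) (.leaf (nat_lit 237))) (.leaf (nat_lit 114)))))) (.node (.node (.node (.node
    (.node (.leaf (nat_lit 2)) (.leaf (nat_lit 127))) (.node (.leaf (nat_lit 59)) (.leaf (nat_lit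
    282)))) (.node (.node (.leaf (nat_lit 33)) (.leaf (nat_lit 194))) (.leaf (nat_lit 100))))
    (.node (.node (.node (.leaf (nat_lit 15)) (.leaf (nat_lit 178))) (.leaf (nat_lit 79))) (.node
    (.node (.leaf (nat_lit 49)) (.leaf (nat_lit 231))) (.leaf (nat_lit 112))))) (.node (.node
    (.node (.node (.leaf (nat_lit 10)) (.leaf (nat_lit 135))) (.node (.leaf (nat_lit 67)) (.leaf
    (nat_lit 295)))) (.node (.node (.leaf (nat_lit 41)) (.leaf (nat_lit 202))) (.leaf (nat_lit
    105)))) (.node (.node (.node (.leaf (nat_lit 22)) (.leaf (nat_lit 186))) (.leaf (nat_lit 92)))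
    (.node (.node (.leaf (nat_lit 55)) (.leaf (nat_lit 241))) (.leaf (nat_lit 119))))))) (.node
    (.node (.node (.node (.node (.node (.leaf (nat_lit 1)) (.leaf (nat_lit 126))) (.node (.leaf
    (nat_lit 58)) (.leaf (nat_lit 276)))) (.node (.node (.leaf (nat_lit 32)) (.leaf (nat_lit 193)))
    (.leaf (nat_lit 99)))) (.node (.node (.node (.leaf (nat_lit 14)) (.leaf (nat_lit 177))) (.leaf
    (nat_lit 78))) (.node (.node (.leaf (nat_lit 48)) (.leaf (nat_lit 216))) (.leaf (nat_lit
    111))))) (.node (.node (.node (.node (.leaf (nat_lit 9)) (.leaf (nat_lit 134))) (.node (.leaf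
    (nat_lit 66)) (.leaf (nat_lit 294)))) (.node (.node (.leaf (nat_lit 40)) (.leaf (nat_lit 201)))
    (.leaf (nat_lit 104)))) (.node (.node (.node (.leaf (nat_lit 21)) (.leaf (nat_lit 185))) (.leaf
    (nat_lit 91))) (.node (.node (.leaf (nat_lit 54)) (.leaf (nat_lit 240))) (.leaf (nat_lit
    118)))))) (.node (.node (.node (.node (.node (.leaf (nat_lit 3)) (.leaf (nat_lit 130))) (.node
    (.leaf (nat_lit 62)) (.leaf (nat_lit 286)))) (.node (.node (.leaf (nat_lit 36)) (.leaf (nat_lit
    197))) (.leaf (nat_lit 102)))) (.node (.node (.node (.leaf (nat_lit 16)) (.leaf (nat_lit 181)))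
    (.leaf (nat_lit 86))) (.node (.node (.leaf (nat_lit 52)) (.leaf (nat_lit 232))) (.leaf (nat_lit
    113))))) (.node (.node (.node (.node (.leaf (nat_lit 12)) (.leaf (nat_lit 138))) (.node (.leaf
    (nat_lit 70)) (.leaf (nat_lit 308)))) (.node (.node (.leaf (nat_lit 44)) (.leaf (nat_lit 205)))
    (.leaf (nat_lit 107)))) (.node (.node (.node (.leaf (nat_lit 28)) (.leaf (nat_lit 189))) (.leaf
    (nat_lit 97))) (.node (.node (.leaf (nat_lit 56)) (.leaf (nat_lit 246))) (.leaf (nat_lit
    120))))))))

/-- Certificate data. -/
def t8_tb : Trie :=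
    (.node (.node (.node (.node (.node (.node (.node (.node (.node (.node (.leaf (nat_lit 0))
    (.leaf (nat_lit 386601))) (.leaf (nat_lit 78413))) (.node (.leaf (nat_lit 119145)) (.leaf
    (nat_lit 226938)))) (.node (.node (.node (.leaf (nat_lit 172924)) (.leaf (nat_lit 86635)))
    (.leaf (nat_lit 24662))) (.node (.leaf (nat_lit 351178)) (.leaf (nat_lit 107033))))) (.node
    (.node (.node (.node (.leaf (nat_lit 90512)) (.leaf (nat_lit 82181))) (.leaf (nat_lit 429303)))
    (.node (.leaf (nat_lit 275930)) (.leaf (nat_lit 318362)))) (.node (.node (.node (.leaf (nat_lit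
    338516)) (.leaf (nat_lit 277196))) (.leaf (nat_lit 152819))) (.node (.leaf (nat_lit 12407))
    (.leaf (nat_lit 378412)))))) (.node (.node (.node (.node (.node (.leaf (nat_lit 57532)) (.leaf
    (nat_lit 16409))) (.leaf (nat_lit 103149))) (.node (.leaf (nat_lit 152821)) (.leaf (nat_lit
    351181)))) (.node (.node (.node (.leaf (nat_lit 375325)) (.leaf (nat_lit 412313))) (.leaf
    (nat_lit 90406))) (.node (.leaf (nat_lit 367545)) (.leaf (nat_lit 324934))))) (.node (.node
    (.node (.node (.leaf (nat_lit 254705)) (.leaf (nat_lit 144569))) (.leaf (nat_lit 380154)))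
    (.node (.leaf (nat_lit 226952)) (.leaf (nat_lit 16490)))) (.node (.node (.node (.leaf (nat_lit
    33142)) (.leaf (nat_lit 416428))) (.leaf (nat_lit 271241))) (.node (.leaf (nat_lit 45405))
    (.leaf (nat_lit 173361))))))) (.node (.node (.node (.node (.node (.node (.leaf (nat_lit 28767))
    (.leaf (nat_lit 383563))) (.leaf (nat_lit 109075))) (.node (.leaf (nat_lit 86406)) (.leaf
    (nat_lit 416667)))) (.node (.node (.node (.leaf (nat_lit 271306)) (.leaf (nat_lit 246423)))
    (.leaf (nat_lit 57578))) (.node (.leaf (nat_lit 318376)) (.leaf (nat_lit 57767))))) (.node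
    (.node (.node (.node (.leaf (nat_lit 139726)) (.leaf (nat_lit 115031))) (.leaf (nat_lit
    330984))) (.node (.leaf (nat_lit 250698)) (.leaf (nat_lit 32860)))) (.node (.node (.node (.leaf
    (nat_lit 305034)) (.leaf (nat_lit 230914))) (.leaf (nat_lit 189245))) (.node (.leaf (nat_lit
    28943)) (.leaf (nat_lit 123797)))))) (.node (.node (.node (.node (.node (.leaf (nat_lit
    123235)) (.leaf (nat_lit 49253))) (.leaf (nat_lit 165902))) (.node (.leaf (nat_lit 211397))
    (.leaf (nat_lit 399999)))) (.node (.node (.node (.leaf (nat_lit 399991)) (.leaf (nat_lit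
    379588))) (.leaf (nat_lit 123233))) (.node (.leaf (nat_lit 4135)) (.leaf (nat_lit 217715)))))
    (.node (.node (.node (.node (.leaf (nat_lit 238225)) (.leaf (nat_lit 92665))) (.leaf (nat_lit
    396510))) (.node (.leaf (nat_lit 416669)) (.leaf (nat_lit 115226)))) (.node (.node (.leaf
    (nat_lit 53442)) (.leaf (nat_lit 254786))) (.node (.leaf (nat_lit 239652)) (.leaf (nat_lit
    189799)))))))) (.node (.node (.node (.node (.node (.node (.node (.leaf (nat_lit 12314)) (.leaf
    (nat_lit 222789))) (.leaf (nat_lit 280621))) (.node (.leaf (nat_lit 74436)) (.leaf (nat_lit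
    301957)))) (.node (.node (.node (.leaf (nat_lit 287671)) (.leaf (nat_lit 391839))) (.leaf
    (nat_lit 41017))) (.node (.leaf (nat_lit 313888)) (.leaf (nat_lit 291780))))) (.node (.node
    (.node (.node (.leaf (nat_lit 156093)) (.leaf (nat_lit 174650))) (.leaf (nat_lit 314598)))
    (.node (.leaf (nat_lit 186854)) (.leaf (nat_lit 4104)))) (.node (.node (.node (.leaf (nat_lit
    416678)) (.leaf (nat_lit 203364))) (.leaf (nat_lit 172858))) (.node (.leaf (nat_lit 176698))
    (.leaf (nat_lit 423812)))))) (.node (.node (.node (.node (.node (.leaf (nat_lit 110931)) (.leaf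
    (nat_lit 32817))) (.leaf (nat_lit 149525))) (.node (.leaf (nat_lit 168751)) (.leaf (nat_lit
    367559)))) (.node (.node (.node (.leaf (nat_lit 404031)) (.leaf (nat_lit 408243))) (.leaf
    (nat_lit 103163))) (.node (.leaf (nat_lit 36914)) (.leaf (nat_lit 357760))))) (.node (.node
    (.node (.node (.leaf (nat_lit 284279)) (.leaf (nat_lit 136364))) (.leaf (nat_lit 363754)))
    (.node (.leaf (nat_lit 371618)) (.leaf (nat_lit 160200)))) (.node (.node (.node (.leaf (nat_lit
    49376)) (.leaf (nat_lit 268904))) (.leaf (nat_lit 292491))) (.node (.leaf (nat_lit 219134))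
    (.leaf (nat_lit 181577))))))) (.node (.node (.node (.node (.node (.node (.leaf (nat_lit 45158))
    (.leaf (nat_lit 264071))) (.leaf (nat_lit 235550))) (.node (.leaf (nat_lit 136426)) (.leaf
    (nat_lit 371615)))) (.node (.node (.node (.leaf (nat_lit 419623)) (.leaf (nat_lit 125479)))
    (.leaf (nat_lit 70429))) (.node (.leaf (nat_lit 424886)) (.leaf (nat_lit 65995))))) (.node
    (.node (.node (.node (.leaf (nat_lit 189239)) (.leaf (nat_lit 256580))) (.leaf (nat_lit
    335055))) (.node (.leaf (nat_lit 202176)) (.leaf (nat_lit 49257)))) (.node (.node (.node (.leaf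
    (nat_lit 16592)) (.leaf (nat_lit 371360))) (.leaf (nat_lit 267935))) (.node (.leaf (nat_lit
    258884)) (.leaf (nat_lit 132039)))))) (.node (.node (.node (.node (.node (.leaf (nat_lit
    78168)) (.leaf (nat_lit 58517))) (.leaf (nat_lit 388345))) (.node (.leaf (nat_lit 243894))
    (.leaf (nat_lit 383614)))) (.node (.node (.node (.leaf (nat_lit 350853)) (.leaf (nat_lit
    334523))) (.leaf (nat_lit 136421))) (.node (.leaf (nat_lit 8245)) (.leaf (nat_lit 94847)))))
    (.node (.node (.node (.node (.leaf (nat_lit 182804)) (.leaf (nat_lit 190908))) (.leaf (nat_lit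
    4179))) (.node (.leaf (nat_lit 301960)) (.leaf (nat_lit 234120)))) (.node (.node (.leaf
    (nat_lit 107217)) (.leaf (nat_lit 202398))) (.node (.leaf (nat_lit 70185)) (.leaf (nat_lit
    198019))))))))) (.node (.node (.node (.node (.node (.node (.node (.node (.leaf (nat_lit 8206))
    (.leaf (nat_lit 247338))) (.leaf (nat_lit 82525))) (.node (.leaf (nat_lit 82622)) (.leaf
    (nat_lit 235146)))) (.node (.node (.node (.leaf (nat_lit 279449)) (.leaf (nat_lit 382498)))
    (.leaf (nat_lit 28963))) (.node (.leaf (nat_lit 379854)) (.leaf (nat_lit 275346))))) (.node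
    (.node (.node (.node (.leaf (nat_lit 147883)) (.leaf (nat_lit 170454))) (.leaf (nat_lit
    392419))) (.node (.leaf (nat_lit 284287)) (.leaf (nat_lit 359364)))) (.node (.node (.node
    (.leaf (nat_lit 428610)) (.leaf (nat_lit 424582))) (.leaf (nat_lit 160977))) (.node (.leaf
    (nat_lit 16567)) (.leaf (nat_lit 411408)))))) (.node (.node (.node (.node (.node (.leaf
    (nat_lit 102713)) (.leaf (nat_lit 69874))) (.leaf (nat_lit 115575))) (.node (.leaf (nat_lit
    258889)) (.leaf (nat_lit 424901)))) (.node (.node (.node (.leaf (nat_lit 312664)) (.leaf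
    (nat_lit 326333))) (.leaf (nat_lit 98684))) (.node (.leaf (nat_lit 4)) (.leaf (nat_lit
    341348))))) (.node (.node (.node (.node (.leaf (nat_lit 217717)) (.leaf (nat_lit 160948)))
    (.leaf (nat_lit 359666))) (.node (.leaf (nat_lit 359359)) (.leaf (nat_lit 143780)))) (.node
    (.node (.node (.leaf (nat_lit 20570)) (.leaf (nat_lit 293557))) (.leaf (nat_lit 284283)))
    (.node (.leaf (nat_lit 49545)) (.leaf (nat_lit 177471))))))) (.node (.node (.node (.node (.node
    (.node (.leaf (nat_lit 24636)) (.leaf (nat_lit 259875))) (.leaf (nat_lit 297009))) (.node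
    (.leaf (nat_lit 160975)) (.leaf (nat_lit 326449)))) (.node (.node (.node (.leaf (nat_lit
    345451)) (.leaf (nat_lit 186847))) (.leaf (nat_lit 65723))) (.node (.leaf (nat_lit 346744))
    (.leaf (nat_lit 61881))))) (.node (.node (.node (.node (.leaf (nat_lit 197426)) (.leaf (nat_lit
    252400))) (.leaf (nat_lit 425215))) (.node (.leaf (nat_lit 235174)) (.leaf (nat_lit 41489))))
    (.node (.node (.node (.leaf (nat_lit 4172)) (.leaf (nat_lit 386599))) (.leaf (nat_lit 181057)))
    (.node (.leaf (nat_lit 33067)) (.leaf (nat_lit 127923)))))) (.node (.node (.node (.node (.node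
    (.leaf (nat_lit 69950)) (.leaf (nat_lit 54428))) (.leaf (nat_lit 161820))) (.node (.leaf
    (nat_lit 292485)) (.leaf (nat_lit 392043)))) (.node (.node (.node (.leaf (nat_lit 412314))
    (.leaf (nat_lit 236034))) (.leaf (nat_lit 131469))) (.node (.leaf (nat_lit 94504)) (.leaf
    (nat_lit 390722))))) (.node (.node (.node (.node (.leaf (nat_lit 205454)) (.leaf (nat_lit
    121335))) (.leaf (nat_lit 326912))) (.node (.leaf (nat_lit 392034)) (.leaf (nat_lit 213614))))
    (.node (.node (.leaf (nat_lit 115419)) (.leaf (nat_lit 263035))) (.node (.leaf (nat_lit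
    292925)) (.leaf (nat_lit 193909)))))))) (.node (.node (.node (.node (.node (.node (.node (.leaf
    (nat_lit 41019)) (.leaf (nat_lit 243441))) (.leaf (nat_lit 141312))) (.node (.leaf (nat_lit
    94566)) (.leaf (nat_lit 310109)))) (.node (.node (.node (.leaf (nat_lit 295885)) (.leaf
    (nat_lit 301733))) (.leaf (nat_lit 45279))) (.node (.leaf (nat_lit 420432)) (.leaf (nat_lit
    53657))))) (.node (.node (.node (.node (.leaf (nat_lit 164305)) (.leaf (nat_lit 106813)))
    (.leaf (nat_lit 310454))) (.node (.leaf (nat_lit 176884)) (.leaf (nat_lit 11)))) (.node (.node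
    (.node (.leaf (nat_lit 395863)) (.leaf (nat_lit 359015))) (.leaf (nat_lit 197439))) (.node
    (.leaf (nat_lit 193112)) (.leaf (nat_lit 119685)))))) (.node (.node (.node (.node (.node (.leaf
    (nat_lit 131471)) (.leaf (nat_lit 102710))) (.leaf (nat_lit 145426))) (.node (.leaf (nat_lit
    193121)) (.leaf (nat_lit 346654)))) (.node (.node (.node (.leaf (nat_lit 361863)) (.leaf
    (nat_lit 318118))) (.leaf (nat_lit 111403))) (.node (.leaf (nat_lit 61598)) (.leaf (nat_lit
    86629))))) (.node (.node (.node (.node (.leaf (nat_lit 248056)) (.leaf (nat_lit 211417)))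
    (.leaf (nat_lit 400649))) (.node (.leaf (nat_lit 412459)) (.leaf (nat_lit 74262)))) (.node
    (.node (.leaf (nat_lit 61637)) (.leaf (nat_lit 223419))) (.node (.leaf (nat_lit 276505)) (.leaf
    (nat_lit 185685))))))) (.node (.node (.node (.node (.node (.node (.leaf (nat_lit 65750)) (.leaf
    (nat_lit 28716))) (.leaf (nat_lit 113209))) (.node (.leaf (nat_lit 144578)) (.leaf (nat_lit
    379825)))) (.node (.node (.node (.leaf (nat_lit 329037)) (.leaf (nat_lit 350851))) (.leaf
    (nat_lit 78593))) (.node (.leaf (nat_lit 310111)) (.leaf (nat_lit 308526))))) (.node (.node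
    (.node (.node (.leaf (nat_lit 223741)) (.leaf (nat_lit 152755))) (.leaf (nat_lit 306420)))
    (.node (.leaf (nat_lit 214648)) (.leaf (nat_lit 37394)))) (.node (.node (.node (.leaf (nat_lit
    36953)) (.leaf (nat_lit 322057))) (.leaf (nat_lit 248050))) (.node (.leaf (nat_lit 244193))
    (.leaf (nat_lit 169251)))))) (.node (.node (.node (.node (.node (.leaf (nat_lit 98660)) (.leaf
    (nat_lit 73975))) (.leaf (nat_lit 343269))) (.node (.leaf (nat_lit 230306)) (.leaf (nat_lit
    408515)))) (.node (.node (.node (.leaf (nat_lit 354862)) (.leaf (nat_lit 285333))) (.leaf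
    (nat_lit 144387))) (.node (.leaf (nat_lit 127358)) (.leaf (nat_lit 98955))))) (.node (.node
    (.node (.node (.leaf (nat_lit 263039)) (.leaf (nat_lit 365996))) (.leaf (nat_lit 12491)))
    (.node (.leaf (nat_lit 342977)) (.leaf (nat_lit 82460)))) (.node (.node (.leaf (nat_lit
    127365)) (.leaf (nat_lit 214467))) (.node (.leaf (nat_lit 74301)) (.leaf (nat_lit
    374273)))))))))) (.node (.node (.node (.node (.node (.node (.node (.node (.node (.leaf (nat_lit
    4165)) (.leaf (nat_lit 256584))) (.leaf (nat_lit 197215))) (.node (.leaf (nat_lit 131475))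
    (.leaf (nat_lit 238520)))) (.node (.node (.node (.leaf (nat_lit 214688)) (.leaf (nat_lit
    309955))) (.leaf (nat_lit 20567))) (.node (.leaf (nat_lit 304938)) (.leaf (nat_lit 267138)))))
    (.node (.node (.node (.node (.leaf (nat_lit 144385)) (.leaf (nat_lit 24835))) (.leaf (nat_lit
    322775))) (.node (.leaf (nat_lit 238500)) (.leaf (nat_lit 362280)))) (.node (.node (.node
    (.leaf (nat_lit 387708)) (.leaf (nat_lit 281291))) (.leaf (nat_lit 164307))) (.node (.leaf
    (nat_lit 65721)) (.leaf (nat_lit 407294)))))) (.node (.node (.node (.node (.node (.leaf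
    (nat_lit 74528)) (.leaf (nat_lit 23))) (.leaf (nat_lit 223739))) (.node (.leaf (nat_lit
    139735)) (.leaf (nat_lit 329080)))) (.node (.node (.node (.leaf (nat_lit 309959)) (.leaf
    (nat_lit 314002))) (.leaf (nat_lit 86311))) (.node (.leaf (nat_lit 399995)) (.leaf (nat_lit
    333138))))) (.node (.node (.node (.node (.leaf (nat_lit 275903)) (.leaf (nat_lit 148662)))
    (.leaf (nat_lit 355544))) (.node (.leaf (nat_lit 271315)) (.leaf (nat_lit 135574)))) (.node
    (.node (.node (.leaf (nat_lit 28965)) (.leaf (nat_lit 342734))) (.leaf (nat_lit 243898)))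
    (.node (.leaf (nat_lit 131467)) (.leaf (nat_lit 320833))))))) (.node (.node (.node (.node
    (.node (.node (.leaf (nat_lit 20543)) (.leaf (nat_lit 419621))) (.leaf (nat_lit 284647)))
    (.node (.leaf (nat_lit 98708)) (.leaf (nat_lit 427919)))) (.node (.node (.node (.leaf (nat_lit
    379823)) (.leaf (nat_lit 98965))) (.leaf (nat_lit 53483))) (.node (.leaf (nat_lit 375331))
    (.leaf (nat_lit 156091))))) (.node (.node (.node (.node (.leaf (nat_lit 211393)) (.leaf
    (nat_lit 41301))) (.leaf (nat_lit 421085))) (.node (.leaf (nat_lit 181120)) (.leaf (nat_lit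
    21013)))) (.node (.node (.node (.leaf (nat_lit 2)) (.leaf (nat_lit 214547))) (.leaf (nat_lit
    185148))) (.node (.leaf (nat_lit 98605)) (.leaf (nat_lit 287669)))))) (.node (.node (.node
    (.node (.node (.leaf (nat_lit 107281)) (.leaf (nat_lit 8291))) (.leaf (nat_lit 288830))) (.node
    (.leaf (nat_lit 223760)) (.leaf (nat_lit 338482)))) (.node (.node (.node (.leaf (nat_lit
    359349)) (.leaf (nat_lit 346825))) (.leaf (nat_lit 119136))) (.node (.leaf (nat_lit 86284))
    (.leaf (nat_lit 90737))))) (.node (.node (.node (.node (.leaf (nat_lit 267941)) (.leaf (nat_lit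
    260535))) (.leaf (nat_lit 404717))) (.node (.leaf (nat_lit 337734)) (.leaf (nat_lit 201314))))
    (.node (.node (.leaf (nat_lit 65726)) (.leaf (nat_lit 250691))) (.node (.leaf (nat_lit 231470))
    (.leaf (nat_lit 353655)))))))) (.node (.node (.node (.node (.node (.node (.node (.leaf (nat_lit
    36935)) (.leaf (nat_lit 252530))) (.leaf (nat_lit 248347))) (.node (.leaf (nat_lit 103186))
    (.leaf (nat_lit 312629)))) (.node (.node (.node (.leaf (nat_lit 235132)) (.leaf (nat_lit
    330331))) (.leaf (nat_lit 36920))) (.node (.leaf (nat_lit 408507)) (.leaf (nat_lit 139675)))))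
    (.node (.node (.node (.node (.leaf (nat_lit 160981)) (.leaf (nat_lit 242322))) (.leaf (nat_lit
    339182))) (.node (.leaf (nat_lit 174616)) (.leaf (nat_lit 8205)))) (.node (.node (.node (.leaf
    (nat_lit 391864)) (.leaf (nat_lit 207454))) (.leaf (nat_lit 168763))) (.node (.leaf (nat_lit
    184906)) (.leaf (nat_lit 271239)))))) (.node (.node (.node (.node (.node (.leaf (nat_lit
    119146)) (.leaf (nat_lit 4143))) (.leaf (nat_lit 272364))) (.node (.leaf (nat_lit 197367))
    (.leaf (nat_lit 334750)))) (.node (.node (.node (.leaf (nat_lit 424904)) (.leaf (nat_lit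
    305838))) (.leaf (nat_lit 115477))) (.node (.leaf (nat_lit 53364)) (.leaf (nat_lit 205415)))))
    (.node (.node (.node (.node (.leaf (nat_lit 230019)) (.leaf (nat_lit 140458))) (.leaf (nat_lit
    408837))) (.node (.leaf (nat_lit 321328)) (.leaf (nat_lit 111397)))) (.node (.node (.node
    (.leaf (nat_lit 45282)) (.leaf (nat_lit 273006))) (.leaf (nat_lit 287673))) (.node (.leaf
    (nat_lit 206890)) (.leaf (nat_lit 337239))))))) (.node (.node (.node (.node (.node (.node
    (.leaf (nat_lit 53464)) (.leaf (nat_lit 12308))) (.leaf (nat_lit 264680))) (.node (.leaf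
    (nat_lit 156094)) (.leaf (nat_lit 387635)))) (.node (.node (.node (.leaf (nat_lit 326334))
    (.leaf (nat_lit 129607))) (.leaf (nat_lit 82713))) (.node (.leaf (nat_lit 334756)) (.leaf
    (nat_lit 300320))))) (.node (.node (.node (.node (.leaf (nat_lit 168756)) (.leaf (nat_lit
    195006))) (.leaf (nat_lit 347326))) (.node (.leaf (nat_lit 287674)) (.leaf (nat_lit 25099))))
    (.node (.node (.node (.leaf (nat_lit 12493)) (.leaf (nat_lit 338576))) (.leaf (nat_lit
    279451))) (.node (.leaf (nat_lit 211436)) (.leaf (nat_lit 304421)))))) (.node (.node (.node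
    (.node (.node (.leaf (nat_lit 86380)) (.leaf (nat_lit 62628))) (.leaf (nat_lit 375951))) (.node
    (.leaf (nat_lit 267939)) (.leaf (nat_lit 395588)))) (.node (.node (.node (.leaf (nat_lit
    322124)) (.leaf (nat_lit 375388))) (.leaf (nat_lit 147885))) (.node (.leaf (nat_lit 119130))
    (.leaf (nat_lit 238221))))) (.node (.node (.node (.node (.leaf (nat_lit 185144)) (.leaf
    (nat_lit 96829))) (.leaf (nat_lit 8209))) (.node (.leaf (nat_lit 354132)) (.leaf (nat_lit
    103160)))) (.node (.node (.leaf (nat_lit 70431)) (.leaf (nat_lit 217992))) (.node (.leaf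
    (nat_lit 180799)) (.leaf (nat_lit 404108))))))))) (.node (.node (.node (.node (.node (.node
    (.node (.node (.leaf (nat_lit 16554)) (.leaf (nat_lit 394823))) (.leaf (nat_lit 268272)))
    (.node (.leaf (nat_lit 111401)) (.leaf (nat_lit 230350)))) (.node (.node (.node (.leaf (nat_lit
    226772)) (.leaf (nat_lit 178688))) (.leaf (nat_lit 33139))) (.node (.leaf (nat_lit 326436))
    (.leaf (nat_lit 283568))))) (.node (.node (.node (.node (.leaf (nat_lit 152817)) (.leaf
    (nat_lit 221814))) (.leaf (nat_lit 302299))) (.node (.leaf (nat_lit 205728)) (.leaf (nat_lit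
    321422)))) (.node (.node (.node (.leaf (nat_lit 342963)) (.leaf (nat_lit 363107))) (.leaf
    (nat_lit 156114))) (.node (.leaf (nat_lit 168486)) (.leaf (nat_lit 415520)))))) (.node (.node
    (.node (.node (.node (.leaf (nat_lit 82715)) (.leaf (nat_lit 78080))) (.leaf (nat_lit 137254)))
    (.node (.leaf (nat_lit 189233)) (.leaf (nat_lit 419625)))) (.node (.node (.node (.leaf (nat_lit
    367313)) (.leaf (nat_lit 395531))) (.leaf (nat_lit 94589))) (.node (.leaf (nat_lit 20516))
    (.leaf (nat_lit 349554))))) (.node (.node (.node (.node (.leaf (nat_lit 252354)) (.leaf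
    (nat_lit 165032))) (.leaf (nat_lit 384262))) (.node (.leaf (nat_lit 387637)) (.leaf (nat_lit
    151990)))) (.node (.node (.node (.leaf (nat_lit 24655)) (.leaf (nat_lit 297648))) (.leaf
    (nat_lit 295887))) (.node (.leaf (nat_lit 202805)) (.leaf (nat_lit 329035))))))) (.node (.node
    (.node (.node (.node (.node (.leaf (nat_lit 49373)) (.leaf (nat_lit 427913))) (.leaf (nat_lit
    157750))) (.node (.leaf (nat_lit 147886)) (.leaf (nat_lit 353657)))) (.node (.node (.node
    (.leaf (nat_lit 318368)) (.leaf (nat_lit 264607))) (.leaf (nat_lit 61626))) (.node (.leaf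
    (nat_lit 363072)) (.leaf (nat_lit 164301))))) (.node (.node (.node (.node (.leaf (nat_lit
    193115)) (.leaf (nat_lit 182820))) (.leaf (nat_lit 367874))) (.node (.leaf (nat_lit 279454))
    (.leaf (nat_lit 45288)))) (.node (.node (.node (.leaf (nat_lit 8210)) (.leaf (nat_lit 218661)))
    (.leaf (nat_lit 176958))) (.node (.leaf (nat_lit 250602)) (.leaf (nat_lit 295881)))))) (.node
    (.node (.node (.node (.node (.leaf (nat_lit 115494)) (.leaf (nat_lit 66719))) (.leaf (nat_lit
    371936))) (.node (.leaf (nat_lit 218012)) (.leaf (nat_lit 403781)))) (.node (.node (.node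
    (.leaf (nat_lit 382677)) (.leaf (nat_lit 240134))) (.leaf (nat_lit 127372))) (.node (.leaf
    (nat_lit 41015)) (.leaf (nat_lit 230017))))) (.node (.node (.node (.node (.leaf (nat_lit
    178660)) (.leaf (nat_lit 133615))) (.leaf (nat_lit 7))) (.node (.leaf (nat_lit 383571)) (.leaf
    (nat_lit 225916)))) (.node (.node (.leaf (nat_lit 78604)) (.leaf (nat_lit 258938))) (.node
    (.leaf (nat_lit 172587)) (.leaf (nat_lit 361861)))))))) (.node (.node (.node (.node (.node
    (.node (.node (.leaf (nat_lit 33140)) (.leaf (nat_lit 399989))) (.leaf (nat_lit 214991)))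
    (.node (.leaf (nat_lit 90488)) (.leaf (nat_lit 304436)))) (.node (.node (.node (.leaf (nat_lit
    202370)) (.leaf (nat_lit 399068))) (.leaf (nat_lit 49345))) (.node (.leaf (nat_lit 404022))
    (.leaf (nat_lit 147881))))) (.node (.node (.node (.node (.leaf (nat_lit 136430)) (.leaf
    (nat_lit 37179))) (.leaf (nat_lit 416973))) (.node (.leaf (nat_lit 248343)) (.leaf (nat_lit
    28903)))) (.node (.node (.node (.leaf (nat_lit 301737)) (.leaf (nat_lit 226812))) (.leaf
    (nat_lit 193344))) (.node (.leaf (nat_lit 90385)) (.leaf (nat_lit 279447)))))) (.node (.node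
    (.node (.node (.node (.leaf (nat_lit 127361)) (.leaf (nat_lit 110928))) (.leaf (nat_lit
    153659))) (.node (.leaf (nat_lit 254707)) (.leaf (nat_lit 342960)))) (.node (.node (.node
    (.leaf (nat_lit 408246)) (.leaf (nat_lit 420523))) (.leaf (nat_lit 107284))) (.node (.leaf
    (nat_lit 24617)) (.leaf (nat_lit 370170))))) (.node (.node (.node (.node (.leaf (nat_lit
    292487)) (.leaf (nat_lit 199026))) (.leaf (nat_lit 318634))) (.node (.leaf (nat_lit 395865))
    (.leaf (nat_lit 70444)))) (.node (.node (.leaf (nat_lit 57563)) (.leaf (nat_lit 211187)))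
    (.node (.leaf (nat_lit 227384)) (.leaf (nat_lit 345449))))))) (.node (.node (.node (.node
    (.node (.node (.leaf (nat_lit 61600)) (.leaf (nat_lit 45152))) (.leaf (nat_lit 254703))) (.node
    (.leaf (nat_lit 164308)) (.leaf (nat_lit 375327)))) (.node (.node (.node (.leaf (nat_lit
    334739)) (.leaf (nat_lit 403655))) (.leaf (nat_lit 74520))) (.node (.leaf (nat_lit 329519))
    (.leaf (nat_lit 316732))))) (.node (.node (.node (.node (.leaf (nat_lit 258887)) (.leaf
    (nat_lit 156839))) (.leaf (nat_lit 412925))) (.node (.leaf (nat_lit 295888)) (.leaf (nat_lit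
    12498)))) (.node (.node (.node (.leaf (nat_lit 41044)) (.leaf (nat_lit 428657))) (.leaf
    (nat_lit 275906))) (.node (.leaf (nat_lit 123231)) (.leaf (nat_lit 312627)))))) (.node (.node
    (.node (.node (.node (.leaf (nat_lit 94594)) (.leaf (nat_lit 20725))) (.leaf (nat_lit 351441)))
    (.node (.leaf (nat_lit 264749)) (.leaf (nat_lit 412461)))) (.node (.node (.node (.leaf (nat_lit
    371626)) (.leaf (nat_lit 289422))) (.leaf (nat_lit 139692))) (.node (.leaf (nat_lit 57465))
    (.leaf (nat_lit 367243))))) (.node (.node (.node (.node (.leaf (nat_lit 244195)) (.leaf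
    (nat_lit 354769))) (.leaf (nat_lit 16551))) (.node (.leaf (nat_lit 427920)) (.leaf (nat_lit
    78614)))) (.node (.node (.leaf (nat_lit 123259)) (.leaf (nat_lit 205722))) (.node (.leaf
    (nat_lit 189007)) (.leaf (nat_lit 210431)))))))))))

/-- Certificate data. -/
def t8_C : TC.Cert := ⟨9, 511, 12, 4095, 3108186227687588371888144896, 254, t8_par, t8_fact, t8_just, t8_rel, 149⟩

/-- Certificate data. -/
def t8_rs : List (List ℕ) := [[5, 5, 5], [1, 1, 1, 1], [3, 3, 2, 2], [5, 1, 1, 6, 2, 2], [6, 1, 5, 5, 2, 6, 2], [6, 3, 5, 5, 4, 6, 4], [1, 3, 2, 4], [1, 5, 3, 6, 2, 5, 4, 6], [5, 1, 6, 3, 5, 2, 6, 4], [7, 5, 7, 5], [7, 7], [7, 1, 7, 3], [7, 3, 7, 1], [8, 8, 8], [8, 1, 9, 5, 4, 2, 6, 7], [8, 7, 9, 7, 5, 4, 2, 6, 2], [8, 5, 1, 3, 6, 9, 5, 4, 2, 6], [5, 1, 6, 8, 5, 2, 6, 8, 2, 2], [10, 10, 10], [10, 6, 1, 5, 11, 5, 5, 4, 6, 6, 2, 2, 2, 7], [10, 7, 1, 1, 11, 2, 2, 7, 5, 5, 4, 6, 6, 2, 6, 2, 5], [10, 1, 5, 5, 3, 6, 6, 11, 5, 5, 4, 6, 6, 2], [1, 10, 2, 10, 6, 2, 2, 5], [5, 8, 5, 8, 5, 8, 5, 8], [5, 10, 5, 10, 5, 10, 5, 10], [8, 10, 9, 11, 4, 2, 2, 2]]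

/-- Certificate data. -/
def t8_gl : List ℕ := [1, 26883, 53765, 80647, 107528, 134410]

theorem t8_h1_0 : allR t8_C.factChk 0 596 = true := by decide +kernel

theorem t8_h1_1 : allR t8_C.factChk 596 601 = true := by decide +kernel

theorem t8_h1_2 : allR t8_C.factChk 1197 472 = true := by decide +kernel

theorem t8_h1 : allB t8_C.factChk 1669 = true :=
  allB_of_allR (a := 1669)
    (allR_append (allR_append (t8_h1_0) t8_h1_1) t8_h1_2)

theorem t8_h2 : t8_C.finChk 1669 105 t8_lv t8_tb t8_gl = true := by decide +kernel

theorem t8_h3 : TC.relChk t8_C.ivc t8_rs t8_C.rel t8_rc t8_C.nrel = true := by decide +kernel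

theorem t8_bound {G : Type*} [Group G] {a b x y r p : G}
    (r0 : x * x * x = 1)
    (r1 : a * a * a * a = 1)
    (r2 : b * b * a⁻¹ * a⁻¹ = 1)
    (r3 : x * a * a * x⁻¹ * a⁻¹ * a⁻¹ = 1)
    (r4 : x⁻¹ * a * x * x * a⁻¹ * x⁻¹ * a⁻¹ = 1)
    (r5 : x⁻¹ * b * x * x * b⁻¹ * x⁻¹ * b⁻¹ = 1)
    (r6 : a * b * a⁻¹ * b⁻¹ = 1)
    (r7 : a * x * b * x⁻¹ * a⁻¹ * x * b⁻¹ * x⁻¹ = 1)
    (r8 : x * a * x⁻¹ * b * x * a⁻¹ * x⁻¹ * b⁻¹ = 1)
    (r9 : y * x * y * x = 1)
    (r10 : y * y = 1)
    (r11 : y * a * y * b = 1)
    (r12 : y * b * y * a = 1)
    (r13 : r * r * r = 1)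
    (r14 : r * a * r⁻¹ * x * b⁻¹ * a⁻¹ * x⁻¹ * y = 1)
    (r15 : r * y * r⁻¹ * y * x * b⁻¹ * a⁻¹ * x⁻¹ * a⁻¹ = 1)
    (r16 : r * x * a * b * x⁻¹ * r⁻¹ * x * b⁻¹ * a⁻¹ * x⁻¹ = 1)
    (r17 : x * a * x⁻¹ * r * x * a⁻¹ * x⁻¹ * r * a⁻¹ * a⁻¹ = 1)
    (r18 : p * p * p = 1)
    (r19 : p * x⁻¹ * a * x * p⁻¹ * x * x * b⁻¹ * x⁻¹ * x⁻¹ * a⁻¹ * a⁻¹ * a⁻¹ * y = 1)
    (r20 : p * y * a * a * p⁻¹ * a⁻¹ * a⁻¹ * y * x * x * b⁻¹ * x⁻¹ * x⁻¹ * a⁻¹ * x⁻¹ * a⁻¹ * x = 1)
    (r21 : p * a * x * x * b * x⁻¹ * x⁻¹ * p⁻¹ * x * x * b⁻¹ * x⁻¹ * x⁻¹ * a⁻¹ = 1)
    (r22 : a * p * a⁻¹ * p * x⁻¹ * a⁻¹ * a⁻¹ * x = 1)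
    (r23 : x * r * x * r * x * r * x * r = 1)
    (r24 : x * p * x * p * x * p * x * p = 1)
    (r25 : r * p * r⁻¹ * p⁻¹ * b⁻¹ * a⁻¹ * a⁻¹ * a⁻¹ = 1)
    (H : Subgroup G) [Finite H] (m1 : a ∈ H) (m3 : b ∈ H) (m5 : x ∈ H) (m7 : y ∈ H) :
    Finite (Subgroup.closure ({a, b, x, y, r, p} : Set G)) ∧
      Nat.card (Subgroup.closure ({a, b, x, y, r, p} : Set G)) ≤ 105 * Nat.card H := by
  have hL : TC.Lett (TC.lett [a, a⁻¹, b, b⁻¹, x, x⁻¹, y, r, r⁻¹, p, p⁻¹]) t8_C.ivc :=
    TC.lett_ok (show Nat.shiftRight t8_C.ivc (8 * 12) = 0 by decide +kernel) (by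
      intro a ha
      change a < 12 at ha
      interval_cases a
      · exact inv_one.symm
      · rfl
      · exact (inv_inv _).symm
      · rfl
      · exact (inv_inv _).symm
      · rfl
      · exact (inv_inv _).symm
      · exact (inv_eq_of_mul_eq_one_right r10).symm
      · rfl
      · exact (inv_inv _).symm
      · rfl
      · exact (inv_inv _).symm)
  have h := TC.card_le t8_h1 t8_h2 t8_h3 (by decide) hL (by
    simp only [t8_rs, List.forall_mem_cons]
    refine ⟨?_, ?_, ?_, ?_, ?_, ?_, ?_, ?_, ?_, ?_, ?_, ?_, ?_, ?_, ?_, ?_, ?_, ?_, ?_, ?_, ?_, ?_,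
    ?_, ?_, ?_, ?_, List.forall_mem_nil _⟩
    · show x * (x * (x * 1)) = 1
      simp only [mul_assoc, mul_one] at r0 ⊢
      exact r0
    · show a * (a * (a * (a * 1))) = 1
      simp only [mul_assoc, mul_one] at r1 ⊢
      exact r1
    · show b * (b * (a⁻¹ * (a⁻¹ * 1))) = 1
      simp only [mul_assoc, mul_one] at r2 ⊢
      exact r2
    · show x * (a * (a * (x⁻¹ * (a⁻¹ * (a⁻¹ * 1))))) = 1
      simp only [mul_assoc, mul_one] at r3 ⊢
      exact r3
    · show x⁻¹ * (a * (x * (x * (a⁻¹ * (x⁻¹ * (a⁻¹ * 1)))))) = 1
      simp only [mul_assoc, mul_one] at r4 ⊢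
      exact r4
    · show x⁻¹ * (b * (x * (x * (b⁻¹ * (x⁻¹ * (b⁻¹ * 1)))))) = 1
      simp only [mul_assoc, mul_one] at r5 ⊢
      exact r5
    · show a * (b * (a⁻¹ * (b⁻¹ * 1))) = 1
      simp only [mul_assoc, mul_one] at r6 ⊢
      exact r6
    · show a * (x * (b * (x⁻¹ * (a⁻¹ * (x * (b⁻¹ * (x⁻¹ * 1))))))) = 1
      simp only [mul_assoc, mul_one] at r7 ⊢
      exact r7
    · show x * (a * (x⁻¹ * (b * (x * (a⁻¹ * (x⁻¹ * (b⁻¹ * 1))))))) = 1
      simp only [mul_assoc, mul_one] at r8 ⊢
      exact r8
    · show y * (x * (y * (x * 1))) = 1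
      simp only [mul_assoc, mul_one] at r9 ⊢
      exact r9
    · show y * (y * 1) = 1
      simp only [mul_one] at r10 ⊢
      exact r10
    · show y * (a * (y * (b * 1))) = 1
      simp only [mul_assoc, mul_one] at r11 ⊢
      exact r11
    · show y * (b * (y * (a * 1))) = 1
      simp only [mul_assoc, mul_one] at r12 ⊢
      exact r12
    · show r * (r * (r * 1)) = 1
      simp only [mul_assoc, mul_one] at r13 ⊢
      exact r13
    · show r * (a * (r⁻¹ * (x * (b⁻¹ * (a⁻¹ * (x⁻¹ * (y * 1))))))) = 1
      simp only [mul_assoc, mul_one] at r14 ⊢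
      exact r14
    · show r * (y * (r⁻¹ * (y * (x * (b⁻¹ * (a⁻¹ * (x⁻¹ * (a⁻¹ * 1)))))))) = 1
      simp only [mul_assoc, mul_one] at r15 ⊢
      exact r15
    · show r * (x * (a * (b * (x⁻¹ * (r⁻¹ * (x * (b⁻¹ * (a⁻¹ * (x⁻¹ * 1))))))))) = 1
      simp only [mul_assoc, mul_one] at r16 ⊢
      exact r16
    · show x * (a * (x⁻¹ * (r * (x * (a⁻¹ * (x⁻¹ * (r * (a⁻¹ * (a⁻¹ * 1))))))))) = 1
      simp only [mul_assoc, mul_one] at r17 ⊢
      exact r17
    · show p * (p * (p * 1)) = 1
      simp only [mul_assoc, mul_one] at r18 ⊢
      exact r18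
    · show p * (x⁻¹ * (a * (x * (p⁻¹ * (x * (x * (b⁻¹ * (x⁻¹ * (x⁻¹ * (a⁻¹ * (a⁻¹ * (a⁻¹ * (y *
    1))))))))))))) = 1
      simp only [mul_assoc, mul_one] at r19 ⊢
      exact r19
    · show p * (y * (a * (a * (p⁻¹ * (a⁻¹ * (a⁻¹ * (y * (x * (x * (b⁻¹ * (x⁻¹ * (x⁻¹ * (a⁻¹ * (x⁻¹
    * (a⁻¹ * (x * 1)))))))))))))))) = 1
      simp only [mul_assoc, mul_one] at r20 ⊢
      exact r20
    · show p * (a * (x * (x * (b * (x⁻¹ * (x⁻¹ * (p⁻¹ * (x * (x * (b⁻¹ * (x⁻¹ * (x⁻¹ * (a⁻¹ *
    1))))))))))))) = 1
      simp only [mul_assoc, mul_one] at r21 ⊢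
      exact r21
    · show a * (p * (a⁻¹ * (p * (x⁻¹ * (a⁻¹ * (a⁻¹ * (x * 1))))))) = 1
      simp only [mul_assoc, mul_one] at r22 ⊢
      exact r22
    · show x * (r * (x * (r * (x * (r * (x * (r * 1))))))) = 1
      simp only [mul_assoc, mul_one] at r23 ⊢
      exact r23
    · show x * (p * (x * (p * (x * (p * (x * (p * 1))))))) = 1
      simp only [mul_assoc, mul_one] at r24 ⊢
      exact r24
    · show r * (p * (r⁻¹ * (p⁻¹ * (b⁻¹ * (a⁻¹ * (a⁻¹ * (a⁻¹ * 1))))))) = 1
      simp only [mul_assoc, mul_one] at r25 ⊢
      exact r25) H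
    (TC.forall_subs (K := 12) (by decide +kernel) (by
      intro a ha hb
      interval_cases a
      · exact absurd hb (by decide +kernel)
      · exact m1
      · exact H.inv_mem m1
      · exact m3
      · exact H.inv_mem m3
      · exact m5
      · exact H.inv_mem m5
      · exact m7
      · exact absurd hb (by decide +kernel)
      · exact absurd hb (by decide +kernel)
      · exact absurd hb (by decide +kernel)
      · exact absurd hb (by decide +kernel)))
  have e : {g₀ | ∃ ak ∈ t8_gl, TC.lett [a, a⁻¹, b, b⁻¹, x, x⁻¹, y, r, r⁻¹, p, p⁻¹] (ak % 256) = g₀} =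
      {a, b, x, y, r, p} := by
    ext g₀
    simp only [t8_gl, List.mem_cons, List.not_mem_nil, or_false, exists_eq_or_imp,
      exists_eq_left, Set.mem_ofPred_eq, Set.mem_insert_iff, Set.mem_singleton_iff]
    exact or_congr eq_comm (or_congr eq_comm (or_congr eq_comm (or_congr eq_comm (or_congr eq_comm (eq_comm)))))
  rw [e] at h
  exact h

theorem t8_card {G : Type*} [Group G] {a b x y r p : G}
    (e0 : x ^ 3 = 1)
    (e1 : a ^ 4 = 1)
    (e2 : b ^ 2 = a ^ 2)
    (e3 : x * a ^ 2 = a ^ 2 * x)
    (e4 : x⁻¹ * a * x = a * (x * a * x⁻¹))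
    (e5 : x⁻¹ * b * x = b * (x * b * x⁻¹))
    (e6 : a * b = b * a)
    (e7 : a * (x * b * x⁻¹) = x * b * x⁻¹ * a)
    (e8 : x * a * x⁻¹ * b = b * (x * a * x⁻¹))
    (e9 : y * x * y⁻¹ = x⁻¹)
    (e10 : y * y = 1)
    (e11 : y * a * y⁻¹ = b⁻¹)
    (e12 : y * b * y⁻¹ = a⁻¹)
    (e13 : r ^ 3 = 1)
    (e14 : r * a * r⁻¹ = y * ((x * a * x⁻¹) * (x * b * x⁻¹)))
    (e15 : r * y * r⁻¹ = a * ((x * a * x⁻¹) * (x * b * x⁻¹)) * y)
    (e16 : r * ((x * a * x⁻¹) * (x * b * x⁻¹)) * r⁻¹ = ((x * a * x⁻¹) * (x * b * x⁻¹)))
    (e17 : (x * a * x⁻¹) * r * (x * a * x⁻¹)⁻¹ * r = a ^ 2)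
    (e18 : p ^ 3 = 1)
    (e19 : p * (x⁻¹ * a * x) * p⁻¹ = (y * a ^ 2) * ((x * (x⁻¹ * a * x) * x⁻¹) * (x * (x * b * x⁻¹)
    * x⁻¹)))
    (e20 : p * (y * a ^ 2) * p⁻¹ = (x⁻¹ * a * x) * ((x * (x⁻¹ * a * x) * x⁻¹) * (x * (x * b * x⁻¹)
    * x⁻¹)) * (y * a ^ 2))
    (e21 : p * ((x * (x⁻¹ * a * x) * x⁻¹) * (x * (x * b * x⁻¹) * x⁻¹)) * p⁻¹ = ((x * (x⁻¹ * a * x)
    * x⁻¹) * (x * (x * b * x⁻¹) * x⁻¹)))
    (e22 : (x * (x⁻¹ * a * x) * x⁻¹) * p * (x * (x⁻¹ * a * x) * x⁻¹)⁻¹ * p = (x⁻¹ * a * x) ^ 2)
    (e23 : (x * r) ^ 4 = 1)
    (e24 : (x * p) ^ 4 = 1)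
    (e25 : r * p * r⁻¹ * p⁻¹ = a ^ 2 * (a * b))
    (H : Subgroup G) [Finite H] (ma : a ∈ H) (mb : b ∈ H) (mx : x ∈ H) (my : y ∈ H) :
    Finite (Subgroup.closure ({a, b, x, y, r, p} : Set G)) ∧
      Nat.card (Subgroup.closure ({a, b, x, y, r, p} : Set G)) ≤ 105 * Nat.card H := by
  have iy : y⁻¹ = y := inv_eq_of_mul_eq_one_right e10
  refine t8_bound ?_ ?_ ?_ ?_ ?_ ?_ ?_ ?_ ?_ ?_ ?_ ?_ ?_ ?_ ?_ ?_ ?_ ?_ ?_ ?_ ?_ ?_ ?_ ?_ ?_ ?_ H ma mb mx my
  · have h := mul_inv_eq_one.mpr e0
    simp only [pow_succ, pow_zero, mul_inv_rev, inv_inv, inv_one, one_mul, mul_one, mul_assoc,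
      mul_inv_cancel_left, inv_mul_cancel_left, mul_inv_cancel, inv_mul_cancel, iy] at h ⊢
    exact h
  · have h := mul_inv_eq_one.mpr e1
    simp only [pow_succ, pow_zero, mul_inv_rev, inv_inv, inv_one, one_mul, mul_one, mul_assoc,
      mul_inv_cancel_left, inv_mul_cancel_left, mul_inv_cancel, inv_mul_cancel, iy] at h ⊢
    exact h
  · have h := mul_inv_eq_one.mpr e2
    simp only [pow_succ, pow_zero, mul_inv_rev, inv_inv, inv_one, one_mul, mul_one, mul_assoc,
      mul_inv_cancel_left, inv_mul_cancel_left, mul_inv_cancel, inv_mul_cancel, iy] at h ⊢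
    exact h
  · have h := mul_inv_eq_one.mpr e3
    simp only [pow_succ, pow_zero, mul_inv_rev, inv_inv, inv_one, one_mul, mul_one, mul_assoc,
      mul_inv_cancel_left, inv_mul_cancel_left, mul_inv_cancel, inv_mul_cancel, iy] at h ⊢
    exact h
  · have h := mul_inv_eq_one.mpr e4
    simp only [pow_succ, pow_zero, mul_inv_rev, inv_inv, inv_one, one_mul, mul_one, mul_assoc,
      mul_inv_cancel_left, inv_mul_cancel_left, mul_inv_cancel, inv_mul_cancel, iy] at h ⊢
    exact h
  · have h := mul_inv_eq_one.mpr e5
    simp only [pow_succ, pow_zero, mul_inv_rev, inv_inv, inv_one, one_mul, mul_one, mul_assoc,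
      mul_inv_cancel_left, inv_mul_cancel_left, mul_inv_cancel, inv_mul_cancel, iy] at h ⊢
    exact h
  · have h := mul_inv_eq_one.mpr e6
    simp only [pow_succ, pow_zero, mul_inv_rev, inv_inv, inv_one, one_mul, mul_one, mul_assoc,
      mul_inv_cancel_left, inv_mul_cancel_left, mul_inv_cancel, inv_mul_cancel, iy] at h ⊢
    exact h
  · have h := mul_inv_eq_one.mpr e7
    simp only [pow_succ, pow_zero, mul_inv_rev, inv_inv, inv_one, one_mul, mul_one, mul_assoc,
      mul_inv_cancel_left, inv_mul_cancel_left, mul_inv_cancel, inv_mul_cancel, iy] at h ⊢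
    exact h
  · have h := mul_inv_eq_one.mpr e8
    simp only [pow_succ, pow_zero, mul_inv_rev, inv_inv, inv_one, one_mul, mul_one, mul_assoc,
      mul_inv_cancel_left, inv_mul_cancel_left, mul_inv_cancel, inv_mul_cancel, iy] at h ⊢
    exact h
  · have h := mul_inv_eq_one.mpr e9
    simp only [pow_succ, pow_zero, mul_inv_rev, inv_inv, inv_one, one_mul, mul_one, mul_assoc,
      mul_inv_cancel_left, inv_mul_cancel_left, mul_inv_cancel, inv_mul_cancel, iy] at h ⊢
    exact h
  · have h := mul_inv_eq_one.mpr e10
    simp only [pow_succ, pow_zero, mul_inv_rev, inv_inv, inv_one, one_mul, mul_one, mul_assoc,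
      mul_inv_cancel_left, inv_mul_cancel_left, mul_inv_cancel, inv_mul_cancel, iy] at h ⊢
    exact h
  · have h := mul_inv_eq_one.mpr e11
    simp only [pow_succ, pow_zero, mul_inv_rev, inv_inv, inv_one, one_mul, mul_one, mul_assoc,
      mul_inv_cancel_left, inv_mul_cancel_left, mul_inv_cancel, inv_mul_cancel, iy] at h ⊢
    exact h
  · have h := mul_inv_eq_one.mpr e12
    simp only [pow_succ, pow_zero, mul_inv_rev, inv_inv, inv_one, one_mul, mul_one, mul_assoc,
      mul_inv_cancel_left, inv_mul_cancel_left, mul_inv_cancel, inv_mul_cancel, iy] at h ⊢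
    exact h
  · have h := mul_inv_eq_one.mpr e13
    simp only [pow_succ, pow_zero, mul_inv_rev, inv_inv, inv_one, one_mul, mul_one, mul_assoc,
      mul_inv_cancel_left, inv_mul_cancel_left, mul_inv_cancel, inv_mul_cancel, iy] at h ⊢
    exact h
  · have h := mul_inv_eq_one.mpr e14
    simp only [pow_succ, pow_zero, mul_inv_rev, inv_inv, inv_one, one_mul, mul_one, mul_assoc,
      mul_inv_cancel_left, inv_mul_cancel_left, mul_inv_cancel, inv_mul_cancel, iy] at h ⊢
    exact h
  · have h := mul_inv_eq_one.mpr e15
    simp only [pow_succ, pow_zero, mul_inv_rev, inv_inv, inv_one, one_mul, mul_one, mul_assoc,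
      mul_inv_cancel_left, inv_mul_cancel_left, mul_inv_cancel, inv_mul_cancel, iy] at h ⊢
    exact h
  · have h := mul_inv_eq_one.mpr e16
    simp only [pow_succ, pow_zero, mul_inv_rev, inv_inv, inv_one, one_mul, mul_one, mul_assoc,
      mul_inv_cancel_left, inv_mul_cancel_left, mul_inv_cancel, inv_mul_cancel, iy] at h ⊢
    exact h
  · have h := mul_inv_eq_one.mpr e17
    simp only [pow_succ, pow_zero, mul_inv_rev, inv_inv, inv_one, one_mul, mul_one, mul_assoc,
      mul_inv_cancel_left, inv_mul_cancel_left, mul_inv_cancel, inv_mul_cancel, iy] at h ⊢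
    exact h
  · have h := mul_inv_eq_one.mpr e18
    simp only [pow_succ, pow_zero, mul_inv_rev, inv_inv, inv_one, one_mul, mul_one, mul_assoc,
      mul_inv_cancel_left, inv_mul_cancel_left, mul_inv_cancel, inv_mul_cancel, iy] at h ⊢
    exact h
  · have h := mul_inv_eq_one.mpr e19
    simp only [pow_succ, pow_zero, mul_inv_rev, inv_inv, inv_one, one_mul, mul_one, mul_assoc,
      mul_inv_cancel_left, inv_mul_cancel_left, mul_inv_cancel, inv_mul_cancel, iy] at h ⊢
    exact h
  · have h := mul_inv_eq_one.mpr e20
    simp only [pow_succ, pow_zero, mul_inv_rev, inv_inv, inv_one, one_mul, mul_one, mul_assoc,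
      mul_inv_cancel_left, inv_mul_cancel_left, mul_inv_cancel, inv_mul_cancel, iy] at h ⊢
    exact h
  · have h := mul_inv_eq_one.mpr e21
    simp only [pow_succ, pow_zero, mul_inv_rev, inv_inv, inv_one, one_mul, mul_one, mul_assoc,
      mul_inv_cancel_left, inv_mul_cancel_left, mul_inv_cancel, inv_mul_cancel, iy] at h ⊢
    exact h
  · have h := mul_inv_eq_one.mpr e22
    simp only [pow_succ, pow_zero, mul_inv_rev, inv_inv, inv_one, one_mul, mul_one, mul_assoc,
      mul_inv_cancel_left, inv_mul_cancel_left, mul_inv_cancel, inv_mul_cancel, iy] at h ⊢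
    exact h
  · have h := mul_inv_eq_one.mpr e23
    simp only [pow_succ, pow_zero, mul_inv_rev, inv_inv, inv_one, one_mul, mul_one, mul_assoc,
      mul_inv_cancel_left, inv_mul_cancel_left, mul_inv_cancel, inv_mul_cancel, iy] at h ⊢
    exact h
  · have h := mul_inv_eq_one.mpr e24
    simp only [pow_succ, pow_zero, mul_inv_rev, inv_inv, inv_one, one_mul, mul_one, mul_assoc,
      mul_inv_cancel_left, inv_mul_cancel_left, mul_inv_cancel, inv_mul_cancel, iy] at h ⊢
    exact h
  · have h := mul_inv_eq_one.mpr e25
    simp only [pow_succ, pow_zero, mul_inv_rev, inv_inv, inv_one, one_mul, mul_one, mul_assoc,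
      mul_inv_cancel_left, inv_mul_cancel_left, mul_inv_cancel, inv_mul_cancel, iy] at h ⊢
    exact h

end Cfsg.Agent.H7.Asch
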