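import Cfsg.Agent.H7.Asch.PairA
import Cfsg.Agent.H7.Asch.Pres2
import Cfsg.Agent.S3335

/-!
# The alternating group of degree eight
-/

set_option autoImplicit false
set_option maxRecDepth 100000

namespace Cfsg.Agent.H7.Asch

open Subgroup H5 Equiv L0.Code

/-- The alternating group of degree eight. -/
abbrev N8 : Subgroup (Perm (Fin 8)) := alternatingGroup (Fin 8)

theorem AK_le : AK ≤ N8 := by
  rw [AK, closure_le]
  rintro _ (rfl | rfl | rfl | rfl) <;> exact Perm.mem_alternatingGroup.2 (by decide +kernel)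

/-- The inclusion of the centralizer. -/
noncomputable def ia : E AK →* E N8 := E.incl AK_le

/-- A standard generator. -/
def Nx0 : E N8 := ⟨1985228833, ⟨![1, 2, 0, 3, 4, 5, 6, 7], ![2, 0, 1, 3, 4, 5, 6, 7], by decide, by decide⟩,
  Perm.mem_alternatingGroup.2 (by decide +kernel), by decide +kernel⟩

/-- A standard generator. -/
def Nx1 : E N8 := ⟨1985225473, ⟨![1, 0, 3, 2, 4, 5, 6, 7], ![1, 0, 3, 2, 4, 5, 6, 7], by decide, by decide⟩,
  Perm.mem_alternatingGroup.2 (by decide +kernel), by decide +kernel⟩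

/-- A standard generator. -/
def Nx2 : E N8 := ⟨1985167873, ⟨![1, 0, 2, 4, 3, 5, 6, 7], ![1, 0, 2, 4, 3, 5, 6, 7], by decide, by decide⟩,
  Perm.mem_alternatingGroup.2 (by decide +kernel), by decide +kernel⟩

/-- A standard generator. -/
def Nx3 : E N8 := ⟨1984246273, ⟨![1, 0, 2, 3, 5, 4, 6, 7], ![1, 0, 2, 3, 5, 4, 6, 7], by decide, by decide⟩,
  Perm.mem_alternatingGroup.2 (by decide +kernel), by decide +kernel⟩

/-- A standard generator. -/
def Nx4 : E N8 := ⟨1969500673, ⟨![1, 0, 2, 3, 4, 6, 5, 7], ![1, 0, 2, 3, 4, 6, 5, 7], by decide, by decide⟩,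
  Perm.mem_alternatingGroup.2 (by decide +kernel), by decide +kernel⟩

/-- A standard generator. -/
def Nx5 : E N8 := ⟨1733571073, ⟨![1, 0, 2, 3, 4, 5, 7, 6], ![1, 0, 2, 3, 4, 5, 7, 6], by decide, by decide⟩,
  Perm.mem_alternatingGroup.2 (by decide +kernel), by decide +kernel⟩

/-- The standard generators. -/
def Nxs : List (E N8) := [Nx0, Nx1, Nx2, Nx3, Nx4, Nx5]

/-- An element. -/
noncomputable def Nr : E N8 :=
  E.lit (ev Nxs [4, 3, 1, 0]) 1967530288 (by decide +kernel)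

/-- An element. -/
noncomputable def Np : E N8 :=
  E.lit (ev Nxs [5, 4, 0]) 1702113313 (by decide +kernel)

/-- An element. -/
noncomputable def Ng : E N8 :=
  E.lit (ev Nxs [0, 0, 1, 2, 3, 0, 1, 2]) 1980781618 (by decide +kernel)

/-- An element. -/
noncomputable def Nh0 : E N8 :=
  E.lit (ev Nxs []) 1985229328 (by decide +kernel)

/-- An element. -/
noncomputable def Nh1 : E N8 :=
  E.lit (ev Nxs [0]) 1985228833 (by decide +kernel)

/-- An element. -/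
noncomputable def Nh2 : E N8 :=
  E.lit (ev Nxs [0, 0]) 1985229058 (by decide +kernel)

/-- An element. -/
noncomputable def Nh3 : E N8 :=
  E.lit (ev Nxs [2, 3, 4, 5, 0, 1, 2, 3, 0, 4, 1, 2, 3, 0, 1, 2]) 807499348 (by decide +kernel)

/-- An element. -/
noncomputable def Nh4 : E N8 :=
  E.lit (ev Nxs [2, 3, 4, 0, 5, 1, 2, 3, 0, 4, 1, 2, 3, 0, 1, 2]) 822244948 (by decide +kernel)

/-- An element. -/
noncomputable def Nh5 : E N8 :=
  E.lit (ev Nxs [4, 0]) 1969500448 (by decide +kernel)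

/-- An element. -/
noncomputable def Nh6 : E N8 :=
  E.lit (ev Nxs [0, 4]) 1969500178 (by decide +kernel)

/-- An element. -/
noncomputable def Nh7 : E N8 :=
  E.lit (ev Nxs [4, 3, 0]) 1967534113 (by decide +kernel)

/-- An element. -/
noncomputable def Nh8 : E N8 :=
  E.lit (ev Nxs [4, 0, 3]) 1967534338 (by decide +kernel)

/-- An element. -/
noncomputable def Nh9 : E N8 :=
  E.lit (ev Nxs [2, 3, 1, 2]) 1983009808 (by decide +kernel)

/-- An element. -/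
noncomputable def Nh10 : E N8 :=
  E.lit (ev Nxs [4, 2, 3, 0, 1, 2]) 1966171168 (by decide +kernel)

/-- An element. -/
noncomputable def Nh11 : E N8 :=
  E.lit (ev Nxs [4, 2, 0, 3, 1, 2]) 1966105618 (by decide +kernel)

/-- An element. -/
noncomputable def Nh12 : E N8 :=
  E.lit (ev Nxs [2, 3, 1, 0, 2, 1, 0]) 1982992468 (by decide +kernel)

/-- An element. -/
noncomputable def Nh13 : E N8 :=
  E.lit (ev Nxs [4, 2, 3, 0, 1, 2, 1]) 1966163458 (by decide +kernel)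

/-- An element. -/
noncomputable def Nh14 : E N8 :=
  E.lit (ev Nxs [4, 2, 0, 3, 1, 2, 1]) 1966097953 (by decide +kernel)

/-- An element. -/
noncomputable def Nh15 : E N8 :=
  E.lit (ev Nxs [2, 3, 4, 5, 1, 2, 3, 4]) 846615568 (by decide +kernel)

/-- An element. -/
noncomputable def Nh16 : E N8 :=
  E.lit (ev Nxs [4, 2, 3, 0, 1, 0, 2, 1, 0]) 1966153828 (by decide +kernel)

/-- An element. -/
noncomputable def Nh17 : E N8 :=
  E.lit (ev Nxs [4, 2, 0, 3, 1, 0, 2, 1, 0]) 1966084708 (by decide +kernel)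

/-- An element. -/
noncomputable def Nh18 : E N8 :=
  E.lit (ev Nxs [4, 2, 3, 1, 0, 2, 1, 0, 2]) 1966088518 (by decide +kernel)

/-- An element. -/
noncomputable def Nh19 : E N8 :=
  E.lit (ev Nxs [4, 2, 3, 0, 1, 2, 0, 1, 0, 0]) 1966146118 (by decide +kernel)

/-- An element. -/
noncomputable def Nh20 : E N8 :=
  E.lit (ev Nxs [2, 3, 4, 5, 1, 2, 3, 0, 4, 1, 0]) 846598228 (by decide +kernel)

/-- An element. -/
noncomputable def Nh21 : E N8 :=
  E.lit (ev Nxs [2, 3, 4, 5, 1, 2, 3, 0, 4, 1, 2, 3, 0, 1, 2]) 839939668 (by decide +kernel)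

/-- Conjugating elements. -/
noncomputable def NH : List (E N8) :=
    [Nh0, Nh1, Nh2, Nh3, Nh4, Nh5, Nh6, Nh7, Nh8, Nh9, Nh10, Nh11, Nh12, Nh13, Nh14, Nh15, Nh16,
    Nh17, Nh18, Nh19, Nh20, Nh21]

/-- Conjugate to `s`. -/
abbrev sty (k : E AK) : Prop := ∃ h ∈ NH, h * ia k * h⁻¹ = ia As

/-- Conjugate to `t`. -/
abbrev tty (k : E AK) : Prop := ∃ h ∈ NH, h * ia k * h⁻¹ = ia At

/-- An element. -/
def At2 : E AK := E.elt Alists 1985220658 (by decide +kernel)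

/-- An element. -/
def Aom : E AK := E.elt Alists 1732588048 (by decide +kernel)

/-- An element. -/
def Aom2 : E AK := E.elt Alists 1417032208 (by decide +kernel)

/-- An element. -/
def Ar0 : E AK := E.elt Alists 1984246273 (by decide +kernel)

/-- An element. -/
def Ae1 : E AK := E.elt Alists 1732579378 (by decide +kernel)

/-- An element. -/
def Ae2 : E AK := E.elt Alists 1417019683 (by decide +kernel)

theorem N_rel : PA (ia Aa) (ia Ab) (ia Ax) (ia Ay) Nr ∧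
    PA ((ia Ax)⁻¹ * ia Aa * ia Ax) (ia Ax * ia Ab * (ia Ax)⁻¹) (ia Ax) (ia Ay * ia Aa ^ 2) Np ∧
    (ia Ax * Nr) ^ 4 = 1 ∧ (ia Ax * Np) ^ 4 = 1 ∧ Nr * Np * Nr⁻¹ * Np⁻¹ = ia Aa ^ 2 * (ia Aa * ia Ab) := by
  decide +kernel

theorem N_words : ∀ i < 6, ev [ia Aa, ia Ab, ia Ax, ia Ay, Nr, Np]
    (List.getD [[4, 1, 5, 4, 0], [1, 5, 0, 5], [0, 2, 5, 4, 1, 2, 2], [1, 2, 2, 1, 2, 0], [5, 2, 2,
    0, 2, 4, 0], [2, 2, 0, 2, 1]] i []) = Nxs.getD i 1 := by
  decide +kernel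

theorem N_pres : Nxs.getD 0 1 ^ 3 = 1 ∧ (∀ i < 6, 1 ≤ i → Nxs.getD i 1 ^ 2 = 1) ∧
    (∀ i < 5, (Nxs.getD i 1 * Nxs.getD (i + 1) 1) ^ 3 = 1) ∧
    (∀ j < 6, ∀ i < j, i + 1 < j → (Nxs.getD i 1 * Nxs.getD j 1) ^ 2 = 1) ∧ Nx0 ≠ 1 := by
  decide +kernel

/-- A list of elements. -/
def AS : List (E AK) := E.sub Alists
    [1985229328, 838952788, 1165361458, 270750823, 839935813, 1732579378, 1732584193, 19092598,
    1417019683, 1733567248, 270759493, 271730023, 839939668, 20075623, 1416045328, 1165365283,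
    838944118, 1416036658, 271742548, 588272743, 1416049153, 20080468, 587285863, 588281413,
    1416040483, 20071798, 587298388, 1985216803, 1984242448, 1417023538, 271733878, 1164387073,
    19088743, 1984233778, 1417032208, 839927143, 1165373953, 1733571073, 1164378403, 839930998,
    1732588048, 271738693, 1985225473, 588268918, 19101268, 1985220658, 19097413, 1733558578,
    1165370128, 1733562403, 1164390928, 1984237603, 587289718, 270755668, 1164382258, 1984246273,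
    587294533, 270746998, 838956613, 588277588, 838947943, 1732575523, 1417028353, 20084293]
    (by decide +kernel)

theorem AS_mul : ∀ a ∈ AS, ∀ b ∈ AS, a * b ∈ AS := by
  decide +kernel

theorem AS_one : (1 : E AK) ∈ AS := by
  decide +kernel

theorem AS_pow : As ∈ AS ∧ (∀ k ∈ AS, k ^ 8 = 1) ∧ AS.Nodup ∧ AS.length = 64 := by
  decide +kernel

theorem AS_Z : ∀ k ∈ AS, (∀ j ∈ AS, k * j = j * k) → k = As ∨ k = 1 := by
  decide +kernel

theorem AS_N : ∀ k ∈ AE, (∀ j ∈ AS, k * j * k⁻¹ ∈ AS) → k ∈ AS := by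
  decide +kernel

theorem AS_cls : ∀ k ∈ AS, k * k = 1 → k = 1 ∨ ∃ h ∈ NH, h * ia k * h⁻¹ = ia As ∨ h * ia k * h⁻¹ = ia At := by
  decide +kernel

/-- A list of elements. -/
def AU : List (E AK) := E.sub Alists
    [1985229328, 1732579378, 1732584193, 1417019683, 1985216803, 1164387073, 1417032208,
    1164382258, 1416036658, 1165370128, 1165361458, 1416049153, 1416045328, 1733567248, 1165373953,
    1733571073, 1984237603, 1165365283, 1733558578, 1164378403, 1416040483, 1985225473, 1984233778,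
    1984242448, 1733562403, 1732575523, 1985220658, 1984246273, 1417023538, 1417028353, 1164390928,
    1732588048]
    (by decide +kernel)

theorem AU_mul : ∀ a ∈ AU, ∀ b ∈ AU, a * b ∈ AU := by
  decide +kernel

theorem AU_one : (1 : E AK) ∈ AU := by
  decide +kernel

theorem AU_pow : As ∈ AU ∧ (∀ k ∈ AU, k ^ 8 = 1) ∧ AU.Nodup ∧ AU.length = 32 := by
  decide +kernel

theorem AU_iff : ∀ k ∈ AE, k ∈ AU ↔ k * At = At * k := by
  decide +kernel

theorem AU_Z : ∀ k ∈ AU, (∀ j ∈ AU, k * j = j * k) → k = As ∨ k = 1 ∨ tty k := by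
  decide +kernel

/-- A list of elements. -/
def AR : List (E AK) := E.sub Alists
    [1984246273, 1733567248, 1984242448, 1733571073]
    (by decide +kernel)

theorem AU_fus : ∀ k ∈ AU, k * k = 1 → k = At2 ∨ k = At2 * At ∨ k ∈ AR ∨ k = 1 ∨ k = At ∨ sty k ∨
    sty (k * At) := by
  decide +kernel

/-- A list of elements. -/
def AF : List (E AK) := E.sub Alists
    [1985229328, 1732584193, 1985225473, 1984246273, 1732588048, 1733567248, 1984242448,
    1733571073]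
    (by decide +kernel)

theorem AF_mul : ∀ a ∈ AF, ∀ b ∈ AF, a * b ∈ AF := by
  decide +kernel

theorem AF_one : (1 : E AK) ∈ AF := by
  decide +kernel

theorem AF_pow : As ∈ AF ∧ (∀ k ∈ AF, k ^ 8 = 1) ∧ AF.Nodup ∧ AF.length = 8 := by
  decide +kernel

theorem AF_Z : ∀ k ∈ AF, k = As ∨ k = 1 ∨ tty k := by
  decide +kernel

theorem AF_R : ∀ r ∈ AR, (∀ k ∈ AF, k * At = At * k ∧ k * r = r * k) ∧
    ∀ k ∈ AE, k * At = At * k → k * r = r * k → k ∈ AF := by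
  decide +kernel

theorem AA_mul : ∀ a ∈ AA, ∀ b ∈ AA, a * b ∈ AA := by
  decide +kernel

theorem AA_one : (1 : E AK) ∈ AA := by
  decide +kernel

theorem AA_pow : (∀ k ∈ AA, k ^ 8 = 1 ∧ k * At = At * k ∧ k * At2 = At2 * k) ∧ AA.Nodup ∧ AA.length = 16 := by
  decide +kernel

/-- The normal four-group of the second centralizer. -/
noncomputable def AV : List (E AK) := [1, At, At2, At2 * At]

theorem AV_mul : ∀ a ∈ AV, ∀ b ∈ AV, a * b ∈ AV := by
  decide +kernel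

theorem AV_one : (1 : E AK) ∈ AV := by
  decide +kernel

theorem AV_misc : (∀ k ∈ AV, k * k = 1 ∧ k ^ 8 = 1 ∧ k * At = At * k ∧ k * At2 = At2 * k ∧ (k = 1 ∨ sty (k * Aom))) ∧
    Aom ∉ AV ∧ tty At2 ∧ tty (At2 * At) ∧ tty Aom ∧ ∀ k ∈ AE, k * At = At * k → k * At2 = At2 * k →
      k ∈ AV ∨ k * Aom ∈ AV ∨ k * Aom2 ∈ AV ∨ k * (Aom * Aom2) ∈ AV := by
  decide +kernel

theorem A_four' : ∀ e ∈ [Ae1, Ae2, Ae1 * Ae2], e * e = 1 ∧ e * At = At * e ∧ ∃ g ∈ NH,
    g * ia e * g⁻¹ = ia As ∧ ∀ j ∈ AE, ia j * (g * ia At * g⁻¹) = g * ia At * g⁻¹ * ia j → j ^ 8 = 1 := by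
  decide +kernel

theorem N_misc : At * At = 1 ∧ At ≠ 1 ∧ At2 * At2 = 1 ∧ At2 ≠ 1 ∧ At2 ≠ At ∧ At2 * At = At * At2 ∧
    Aom * Aom = 1 ∧ Aom * At = At * Aom ∧ Aom * At2 = At2 * Aom ∧ As = At * Aom ∧
    Ar0 * At = At * Ar0 ∧ Ar0 * At2 * Ar0⁻¹ = At2 * At ∧ Ar0 * Aom = Aom * Ar0 ∧
    At * Ar0 * (At * Ar0) = 1 ∧ At * Ar0 ≠ 1 := by
  decide +kernel

theorem N_misc' : Nx4 * Nx5 * (Nx4 * Nx5) * (Nx4 * Nx5) = 1 ∧ Nx4 * Nx5 * ia Aom * (Nx4 * Nx5)⁻¹ = ia Aom2 ∧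
    Nx4 * Nx5 * ia Aom2 * (Nx4 * Nx5)⁻¹ = ia Aom * ia Aom2 ∧ Nx4 * Nx5 * ia At = ia At * (Nx4 * Nx5) ∧
    Nx4 * Nx5 * ia At2 = ia At2 * (Nx4 * Nx5) ∧ (∃ z ∈ AV, Nx0 * ia z * Nx0⁻¹ = ia At) ∧
    (∃ z ∈ AV, Nx0 * ia z * Nx0⁻¹ = ia At2) ∧ Nx0 * ia Aom * Nx0⁻¹ = ia Aom ∧
    Nx0 * (Nx4 * Nx5) * Nx0⁻¹ = Nx4 * Nx5 ∧
    ia Ar0 * (Nx4 * Nx5) * (ia Ar0)⁻¹ = ia Aom * (Nx4 * Nx5)⁻¹ * (ia Aom)⁻¹ ∧ Nx1 = ia At ∧
    Nx3 = ia Ar0 ∧ Nx5 = ia Ar0 * ia Aom ∧ Ng * ia At * Ng⁻¹ = ia At * ia Ar0 ∧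
    Nx2 = ev [ia At, ia At2, Nx0, ia Ar0, Ng * ia At2 * Ng⁻¹] [1, 4, 3, 2, 4, 1] := by
  decide +kernel

theorem card_N8 : Nat.card (E N8) = 20160 := by
  rw [E.card_eq, nat_card_alternatingGroup, Nat.card_fin]
  rfl

theorem inj_of_simple {M G : Type*} [Group M] [Group G] [IsSimpleGroup M] (f : M →* G) {a : M}
    (h : f a ≠ 1) : Function.Injective f := by
  rcases f.normal_ker.eq_bot_or_eq_top with e | e
  · exact (f.ker_eq_bot_iff).1 e
  · exact absurd (show a ∈ f.ker from e ▸ mem_top a) h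

theorem exists_alt {G : Type*} [Group G] {x : ℕ → G} {m : ℕ} (hm : 2 ≤ m) (h : H4.PresAlt x (m + 1))
    (h0 : x 0 ≠ 1) : ∃ f : alternatingGroup (Fin (m + 3)) →* G, Function.Injective f ∧
      f.range = closure (x '' Set.Iio (m + 1)) := by
  obtain ⟨e⟩ := S3335.main m
  have := alternatingGroup.isSimpleGroup (α := Fin (m + 3)) (by simp; omega)
  let g := PresentedGroup.toGroup (S3335.lift_rels h)
  refine ⟨g.comp e.symm.toMonoidHom, inj_of_simple _ (a := e (PresentedGroup.of 0)) (by simpa [g] using h0), ?_⟩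
  rw [MonoidHom.range_comp, MonoidHom.range_eq_top.2 e.symm.surjective, ← PresentedGroup.closure_range_of,
    MonoidHom.map_closure]
  congr 1
  ext a
  simp only [Set.mem_image, Set.mem_range, exists_exists_eq_and, g, PresentedGroup.toGroup.of,
    Set.mem_Iio]
  exact ⟨fun ⟨i, hi⟩ => ⟨i, i.2, hi⟩, fun ⟨i, hi, e⟩ => ⟨⟨i, hi⟩, e⟩⟩

theorem N_presAlt : H4.PresAlt (fun i => Nxs.getD i 1) 6 :=
  ⟨N_pres.1, fun i h1 h2 => N_pres.2.1 i h2 h1, fun i h => N_pres.2.2.1 i (by omega),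
    fun i j h1 h2 => N_pres.2.2.2.1 j h2 i (by omega) h1⟩

theorem N_top : closure ((fun i => Nxs.getD i 1) '' Set.Iio 6) = ⊤ := by
  obtain ⟨f, hf, e⟩ := exists_alt (m := 5) (by norm_num) N_presAlt N_pres.2.2.2.2
  rw [← e]
  exact eq_top_of_card_eq _ ((Nat.card_congr (MonoidHom.ofInjective hf).toEquiv).symm.trans
    (E.card_eq (K := N8)).symm)

instance instSimpleN8 : IsSimpleGroup (E N8) :=
  have := alternatingGroup.isSimpleGroup (α := Fin 8) (by simp)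
  (E.iso N8).symm.isSimpleGroup

theorem HA.alt8 {G : Type*} [Group G] [Finite G] {a b x y r p : G} (h : HA a b x y)
    (hr : PA a b x y r) (hp : PA (x⁻¹ * a * x) (x * b * x⁻¹) x (y * a ^ 2) p)
    (hc : r * p * r⁻¹ * p⁻¹ = a ^ 2 * (a * b)) :
    ∃ ψ : E N8 →* G, Function.Injective ψ ∧ Emb (ψ.comp ia) As ∧ ψ (ia Aa) = a ∧ ψ (ia Ab) = b ∧
      ψ (ia Ax) = x := by
  have h1 := h.four hr
  have h2 : (x * p) ^ 4 = 1 := by
    have := h.sy.rot
    exact this.four hp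
  have hA := h.rel.prod (A_rel.map ia)
  obtain ⟨c1, c2⟩ := hA.card_le
  obtain ⟨⟨e0, e1, e2, e3, e4, e5, e6, e7, e8⟩, e9, e10, e11, e12⟩ := hA
  obtain ⟨e13, e14, e15, e16, e17⟩ := hr.prod N_rel.1
  obtain ⟨e18, e19, e20, e21, e22⟩ := hp.prod N_rel.2.1
  obtain ⟨c3, c4⟩ := t8_card e0 e1 e2 e3 e4 e5 e6 e7 e8 e9 e10 e11 e12 e13 e14 e15 e16 e17 e18 e19
    e20 e21 e22 (Prod.ext h1 N_rel.2.2.1) (Prod.ext h2 N_rel.2.2.2.1) (Prod.ext hc N_rel.2.2.2.2)
    (closure {(a, ia Aa), (b, ia Ab), (x, ia Ax), (y, ia Ay)}) (subset_closure (by simp))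
    (subset_closure (by simp)) (subset_closure (by simp)) (subset_closure (by simp))
  have e : {q | q ∈ [(a, ia Aa), (b, ia Ab), (x, ia Ax), (y, ia Ay), (r, Nr), (p, Np)]} =
      {(a, ia Aa), (b, ia Ab), (x, ia Ax), (y, ia Ay), (r, Nr), (p, Np)} := by ext; simp
  obtain ⟨ψ, hψ⟩ := exists_hom_of_list
    (l := [(a, ia Aa), (b, ia Ab), (x, ia Ax), (y, ia Ay), (r, Nr), (p, Np)]) (e ▸ c3)
    (by rw [e, card_N8]; omega) (by
      rw [eq_top_iff, ← N_top, closure_le]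
      rintro _ ⟨i, hi, rfl⟩
      show Nxs.getD i 1 ∈ _
      rw [← N_words i hi]
      exact ev_mem (fun g hg => subset_closure hg) _)
  have ha := hψ (a, ia Aa) (by simp)
  have hs : ψ (ia As) = a ^ 2 := by rw [A_lit.1, map_pow, map_pow, ha]
  have hi := inj_of_simple ψ (hs ▸ h.ne)
  exact ⟨ψ, hi, Emb.of_card (hi.comp (E.incl_inj AK_le)) (fun k => Acomm k (Aall k))
    (by rw [MonoidHom.comp_apply, hs, h.card, Acard]), ha, hψ (b, ia Ab) (by simp),
    hψ (x, ia Ax) (by simp)⟩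

end Cfsg.Agent.H7.Asch
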