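import Cfsg.Agent.H7.Asch.ModB
import Cfsg.Agent.H7.Asch.EMod

/-!
# A model of the centralizer of alternating type
-/

set_option autoImplicit false
set_option maxRecDepth 100000

namespace Cfsg.Agent.H7.Asch

open Subgroup H5 Equiv L0.Code

/-- A generator. -/
def Apa : Perm (Fin 8) :=
  ⟨![4, 5, 7, 6, 1, 0, 2, 3], ![5, 4, 6, 7, 0, 1, 3, 2], by decide, by decide⟩

/-- A generator. -/
def Apb : Perm (Fin 8) :=
  ⟨![7, 6, 4, 5, 3, 2, 0, 1], ![6, 7, 5, 4, 2, 3, 1, 0], by decide, by decide⟩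

/-- A generator. -/
def Apx : Perm (Fin 8) :=
  ⟨![7, 6, 1, 0, 4, 5, 2, 3], ![3, 2, 6, 7, 4, 5, 1, 0], by decide, by decide⟩

/-- A generator. -/
def Apy : Perm (Fin 8) :=
  ⟨![2, 3, 0, 1, 5, 4, 7, 6], ![2, 3, 0, 1, 5, 4, 7, 6], by decide, by decide⟩

/-- The model. -/
def AK : Subgroup (Perm (Fin 8)) := Subgroup.closure {Apa, Apb, Apx, Apy}

/-- Its elements. -/
def AL : List ℕ :=
    [1985229328, 838952788, 270750823, 844366183, 1732579378, 1732584193, 1417019683, 24519508,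
    270759493, 1729123363, 838944118, 1728136483, 1411610113, 22312483, 272966518, 588272743,
    20080468, 591750913, 588281413, 20071798, 591728758, 1985216803, 1412593168, 1164387073,
    1160934913, 1980777763, 1982992468, 593953093, 1417032208, 1729114693, 592707958, 23536453,
    593974288, 1983005953, 24528178, 24523333, 594953488, 1982026753, 1410347638, 1157719843,
    1157706358, 1982009413, 1410364978, 1731347728, 275207203, 1979786068, 1980769093, 1160905078,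
    1164382258, 275198533, 1979794738, 1980781618, 1160931088, 272983858, 22295143, 844396048,
    23540308, 592711783, 1409364583, 1158702898, 1159925878, 844370038, 1410361123, 845628688,
    1731351553, 845632513, 273966883, 1982022928, 1157723698, 1412563303, 592733968, 23548978,
    1159951888, 273970738, 21308263, 594936148, 1982005588, 1157702503, 845615173, 273953398,
    1160908903, 1980772948, 1982988613, 593956948, 1158689383, 271730023, 846594373, 839930998,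
    22308658, 1416036658, 1165370128, 846615568, 1165361458, 1411584103, 839935813, 1728131668,
    1416049153, 587285863, 1411580278, 1728127813, 1730368528, 846611713, 843412993, 276186403,
    846598228, 1730347333, 275203378, 1731330388, 1410343783, 1159948033, 1411606288, 1728140338,
    843386983, 276181588, 275194708, 1979798563, 594939973, 21312118, 21325603, 594957313,
    273949543, 845611348, 276190258, 843409168, 272970343, 22291318, 1416045328, 1730351188,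
    19088743, 587289718, 1409360758, 19092598, 1733567248, 839927143, 1165373953, 23545123,
    592737793, 1409381923, 1158685558, 1159922023, 21329458, 1409378098, 1733571073, 1158706723,
    1984237603, 271742548, 272987683, 839939668, 1165365283, 19097413, 1733558578, 844392193,
    1731334213, 838956613, 1729110868, 270755668, 1164378403, 1412567158, 1416040483, 20084293,
    1985225473, 591754768, 587298388, 20075623, 24532003, 1730364673, 593970433, 276177733,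
    843383158, 591724903, 1412589313, 1983009808, 271738693, 1984233778, 1984242448, 271733878,
    1733562403, 19101268, 1732575523, 1985220658, 588277588, 1979789893, 1984246273, 1417023538,
    1417028353, 587294533, 1164390928, 1732588048, 270746998, 588268918, 1729119538, 838947943]

/-- Words for its elements. -/
def AW : List (List ℕ) :=
    [[], [0], [1], [2], [3], [0, 0], [1, 0], [2, 0], [3, 0], [2, 1], [3, 1], [0, 2], [1, 2], [2,
    2], [3, 2], [0, 3], [1, 3], [2, 3], [0, 0, 0], [1, 0, 0], [2, 0, 0], [3, 0, 0], [2, 1, 0], [3,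
    1, 0], [0, 2, 0], [1, 2, 0], [2, 2, 0], [3, 2, 0], [0, 3, 0], [2, 3, 0], [0, 2, 1], [1, 2, 1],
    [2, 2, 1], [3, 2, 1], [2, 3, 1], [1, 0, 2], [2, 0, 2], [3, 0, 2], [2, 1, 2], [3, 1, 2], [0, 2,
    2], [1, 2, 2], [0, 3, 2], [1, 3, 2], [2, 0, 3], [2, 1, 3], [0, 2, 3], [1, 2, 3], [1, 0, 0, 0],
    [2, 0, 0, 0], [2, 1, 0, 0], [0, 2, 0, 0], [1, 2, 0, 0], [2, 2, 0, 0], [3, 2, 0, 0], [2, 3, 0,
    0], [0, 2, 1, 0], [1, 2, 1, 0], [2, 2, 1, 0], [3, 2, 1, 0], [2, 3, 1, 0], [1, 0, 2, 0], [3, 0,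
    2, 0], [2, 1, 2, 0], [3, 1, 2, 0], [0, 2, 2, 0], [1, 2, 2, 0], [0, 3, 2, 0], [1, 3, 2, 0], [2,
    0, 3, 0], [0, 2, 3, 0], [1, 2, 3, 0], [1, 0, 2, 1], [2, 0, 2, 1], [3, 0, 2, 1], [3, 1, 2, 1],
    [0, 2, 2, 1], [1, 2, 2, 1], [0, 3, 2, 1], [1, 3, 2, 1], [0, 2, 3, 1], [1, 2, 3, 1], [2, 1, 0,
    2], [3, 1, 0, 2], [1, 2, 0, 2], [2, 2, 0, 2], [0, 3, 0, 2], [2, 3, 0, 2], [0, 2, 1, 2], [2, 2,
    1, 2], [2, 3, 1, 2], [1, 0, 2, 2], [2, 0, 2, 2], [3, 0, 2, 2], [2, 1, 2, 2], [3, 1, 2, 2], [2,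
    0, 3, 2], [2, 1, 3, 2], [0, 2, 0, 3], [1, 2, 0, 3], [2, 2, 0, 3], [3, 2, 0, 3], [0, 2, 1, 3],
    [1, 2, 1, 3], [2, 2, 1, 3], [3, 2, 1, 3], [1, 0, 2, 3], [3, 0, 2, 3], [3, 1, 2, 3], [2, 1, 0,
    0, 0], [0, 2, 0, 0, 0], [1, 2, 0, 0, 0], [0, 2, 1, 0, 0], [1, 2, 1, 0, 0], [1, 0, 2, 0, 0], [1,
    0, 2, 1, 0], [3, 0, 2, 1, 0], [3, 1, 2, 1, 0], [0, 2, 2, 1, 0], [1, 2, 2, 1, 0], [0, 3, 2, 1,
    0], [1, 3, 2, 1, 0], [0, 2, 3, 1, 0], [1, 2, 3, 1, 0], [3, 1, 0, 2, 0], [0, 3, 0, 2, 0], [2, 3,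
    0, 2, 0], [0, 2, 1, 2, 0], [2, 2, 1, 2, 0], [2, 3, 1, 2, 0], [1, 0, 2, 2, 0], [2, 0, 2, 2, 0],
    [2, 1, 2, 2, 0], [2, 0, 3, 2, 0], [2, 1, 3, 2, 0], [0, 2, 0, 3, 0], [1, 2, 0, 3, 0], [2, 2, 0,
    3, 0], [3, 2, 0, 3, 0], [1, 0, 2, 3, 0], [3, 0, 2, 3, 0], [3, 1, 0, 2, 1], [2, 2, 0, 2, 1], [0,
    3, 0, 2, 1], [2, 3, 0, 2, 1], [2, 3, 1, 2, 1], [1, 0, 2, 2, 1], [2, 0, 2, 2, 1], [2, 1, 2, 2,
    1], [2, 0, 3, 2, 1], [2, 1, 3, 2, 1], [1, 0, 2, 3, 1], [3, 1, 2, 3, 1], [2, 2, 1, 0, 2], [3, 2,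
    1, 0, 2], [2, 3, 1, 0, 2], [2, 1, 2, 0, 2], [3, 1, 2, 0, 2], [0, 2, 2, 0, 2], [2, 0, 3, 0, 2],
    [2, 0, 2, 1, 2], [3, 0, 2, 1, 2], [1, 2, 2, 1, 2], [2, 1, 0, 2, 2], [0, 3, 0, 2, 2], [2, 1, 0,
    2, 3], [0, 3, 0, 2, 3], [0, 2, 1, 0, 0, 0], [1, 2, 1, 0, 0, 0], [1, 0, 2, 0, 0, 0], [1, 0, 2,
    1, 0, 0], [0, 3, 0, 2, 1, 0], [2, 3, 0, 2, 1, 0], [2, 3, 1, 2, 1, 0], [2, 0, 2, 2, 1, 0], [2,
    1, 2, 2, 1, 0], [2, 0, 3, 2, 1, 0], [2, 1, 3, 2, 1, 0], [2, 3, 1, 0, 2, 0], [2, 0, 3, 0, 2, 0],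
    [2, 0, 2, 1, 2, 0], [3, 0, 2, 1, 2, 0], [1, 2, 2, 1, 2, 0], [2, 1, 0, 2, 2, 0], [2, 3, 1, 0, 2,
    1], [0, 2, 2, 0, 2, 1], [2, 0, 3, 0, 2, 1], [2, 1, 0, 2, 2, 1], [0, 2, 1, 2, 0, 2], [3, 2, 1,
    0, 2, 2], [1, 0, 2, 1, 0, 0, 0], [2, 0, 3, 0, 2, 1, 0]]

theorem Aenc_a : enc Apa = 838952788 := by decide +kernel

theorem Aenc_b : enc Apb = 270750823 := by decide +kernel

theorem Aenc_x : enc Apx = 844366183 := by decide +kernel

theorem Aenc_y : enc Apy = 1732579378 := by decide +kernel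

theorem Alists : Lists AK AL :=
  lists_of_words (by decide) _ 1985229328 [838952788, 270750823, 844366183, 1732579378] AL AW (by decide +kernel)
    (by simp [Aenc_a, Aenc_b, Aenc_x, Aenc_y]) (by simp [← Aenc_a, ← Aenc_b, ← Aenc_x, ← Aenc_y])
    (by decide +kernel) (by decide +kernel) (by decide +kernel) (by decide +kernel)

/-- All elements. -/
def AE : List (E AK) := E.lst AL Alists.cd

theorem Aall (k : E AK) : k ∈ AE := E.mem_lst_all Alists k

theorem Acard : Nat.card (E AK) = 192 := E.card_of_lists Alists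

/-- An element. -/
def Aa : E AK := E.elt Alists 838952788 (by decide +kernel)

/-- An element. -/
def Ab : E AK := E.elt Alists 270750823 (by decide +kernel)

/-- An element. -/
def Ax : E AK := E.elt Alists 844366183 (by decide +kernel)

/-- An element. -/
def Ay : E AK := E.elt Alists 1732579378 (by decide +kernel)

theorem Atop : closure {m | m ∈ [Aa, Ab, Ax, Ay]} = ⊤ := by
  refine E.closure_eq_top ?_
  rintro _ (rfl | rfl | rfl | rfl)
  · exact ⟨Aa, subset_closure (show Aa ∈ [Aa, Ab, Ax, Ay] by simp), Aenc_a.symm⟩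
  · exact ⟨Ab, subset_closure (show Ab ∈ [Aa, Ab, Ax, Ay] by simp), Aenc_b.symm⟩
  · exact ⟨Ax, subset_closure (show Ax ∈ [Aa, Ab, Ax, Ay] by simp), Aenc_x.symm⟩
  · exact ⟨Ay, subset_closure (show Ay ∈ [Aa, Ab, Ax, Ay] by simp), Aenc_y.symm⟩

/-- An element. -/
def As : E AK := E.elt Alists 1732584193 (by decide +kernel)

/-- An element. -/
def Au : E AK := E.elt Alists 1417019683 (by decide +kernel)

/-- An element. -/
def Aa1 : E AK := E.elt Alists 1165361458 (by decide +kernel)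

/-- An element. -/
def Ab1 : E AK := E.elt Alists 839935813 (by decide +kernel)

/-- An element. -/
def Aa2 : E AK := E.elt Alists 271730023 (by decide +kernel)

/-- An element. -/
def Ab2 : E AK := E.elt Alists 1416036658 (by decide +kernel)

/-- An element. -/
def Ac1 : E AK := E.elt Alists 20075623 (by decide +kernel)

/-- An element. -/
def Av : E AK := E.elt Alists 1164378403 (by decide +kernel)

/-- An element. -/
def At : E AK := E.elt Alists 1985225473 (by decide +kernel)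

/-- An element. -/
def Ac3 : E AK := E.elt Alists 19088743 (by decide +kernel)

theorem A_lit : As = Aa ^ 2 ∧ Au = Aa * Ab ∧ Aa1 = Ax * Aa * Ax⁻¹ ∧ Ab1 = Ax * Ab * Ax⁻¹ ∧
    Ac1 = Ax * Aa * Ax⁻¹ * (Ax * Ab * Ax⁻¹) ∧ Aa2 = Ax⁻¹ * Aa * Ax ∧
    Av = Ax⁻¹ * Aa * Ax * (Ax * Ab * Ax⁻¹) ∧ At = Ax * Aa * Ax⁻¹ * (Ax⁻¹ * Ab * Ax) ∧
    Ac3 = Ax * (Ax⁻¹ * Aa * Ax) * Ax⁻¹ * (Ax * (Ax * Ab * Ax⁻¹) * Ax⁻¹) ∧ Ac3 = Aa * (Ax⁻¹ * Ab * Ax) := by
  decide +kernel

theorem A_rel : RA Aa Ab Ax Ay := by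
  decide +kernel

theorem A_rel' : RA (Ax⁻¹ * Aa * Ax) (Ax * Ab * Ax⁻¹) Ax Ay ∧ RA Aa Ab Ax (Ay * Aa ^ 2) ∧
    (Ax⁻¹ * Aa * Ax) ^ 2 = Aa ^ 2 := by
  decide +kernel

/-- A list of elements. -/
def AQ : List (E AK) := E.sub Alists
    [1985229328, 838952788, 1165361458, 270750823, 839935813, 1732584193, 19092598, 1417019683,
    1733567248, 271730023, 839939668, 20075623, 1165365283, 1416036658, 588281413, 1416040483,
    20071798, 587298388, 1984242448, 1417023538, 271733878, 19088743, 1733571073, 1164378403,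
    1732588048, 1985225473, 1164382258, 1984246273, 587294533, 270746998, 838956613, 588277588]
    (by decide +kernel)

/-- A table of words. -/
def Awqt : List (ℕ × List ℕ) :=
    [(1985229328, []), (838952788, [0]), (1165361458, [1]), (270750823, [2]), (839935813, [3]),
    (1732584193, [0, 0]), (19092598, [1, 0]), (1417019683, [2, 0]), (1733567248, [3, 0]),
    (271730023, [0, 1]), (839939668, [2, 1]), (20075623, [3, 1]), (1165365283, [3, 2]),
    (1416036658, [2, 3]), (588281413, [0, 0, 0]), (1416040483, [1, 0, 0]), (20071798, [2, 0, 0]),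
    (587298388, [3, 0, 0]), (1984242448, [2, 1, 0]), (1417023538, [3, 1, 0]), (271733878, [3, 2,
    0]), (19088743, [2, 3, 0]), (1733571073, [2, 0, 1]), (1164378403, [3, 0, 1]), (1732588048, [3,
    2, 1]), (1985225473, [2, 3, 1]), (1164382258, [2, 0, 0, 0]), (1984246273, [3, 0, 0, 0]),
    (587294533, [2, 1, 0, 0]), (270746998, [3, 1, 0, 0]), (838956613, [3, 2, 1, 0]), (588277588,
    [2, 3, 1, 0])]

/-- Words. -/
noncomputable def Awq (k : E AK) : List ℕ := look Awqt k.c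

theorem AQ_one : (1 : E AK) ∈ AQ := by
  decide +kernel

theorem AQ_mul : ∀ a ∈ AQ, ∀ b ∈ AQ, a * b ∈ AQ := by
  decide +kernel

theorem AQ_nodup : AQ.Nodup := by
  decide +kernel

theorem AQ_len : AQ.length = 32 := by
  decide +kernel

theorem AQ_wd : ∀ k ∈ AQ, ev [Aa, Aa1, Ab, Ab1] (Awq k) = k := by
  decide +kernel

theorem Ainj : ∀ k ∈ AE, k = 1 ∨ k = As ∨ ∃ c ∈ [Aa, Aa1, Ab, Ab1], k * c * k⁻¹ * c⁻¹ = As ∨
    ∃ d ∈ [Aa, Aa1, Ab, Ab1], k * c * k⁻¹ * c⁻¹ * d * (k * c * k⁻¹ * c⁻¹)⁻¹ * d⁻¹ = As := by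
  decide +kernel

theorem A_cls : ∀ k ∈ AQ, k * k = 1 → k = 1 ∨ k = As ∨ ∃ l ∈ AE, l * k * l⁻¹ ∈ [Au, Av, At] := by
  decide +kernel

/-- The normal form of the action. -/
abbrev AC (f : E AK → E AK) (t : E AK) : Prop :=
  t = As ∧ f Ac1 = Ac1 ∧ (f Aa = Ay * Ac1 ∧ f Ay = Aa * Ac1 * Ay ∨
    f Aa = Ay * As * Ac1 ∧ f (Ay * As) = Aa * Ac1 * (Ay * As))

/-- A list of elements. -/
def AT : List (E AK) := E.sub Alists
    [1985229328, 838952788, 1732579378, 20075623, 1732584193, 270759493, 1417023538, 588272743,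
    270755668, 1164378403, 588268918, 588281413, 1985216803, 270746998, 1417032208, 1732575523,
    1164390928, 20071798, 1417028353, 838956613, 1985220658, 1164387073, 20080468, 838944118,
    20084293, 838947943, 1164382258, 1985225473, 1732588048, 1417019683, 270750823, 588277588]
    (by decide +kernel)

/-- A table of words. -/
def Awtt : List (ℕ × List ℕ) :=
    [(1985229328, []), (838952788, [0]), (1732579378, [1]), (20075623, [2]), (1732584193, [0, 0]),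
    (270759493, [1, 0]), (1417023538, [2, 0]), (588272743, [0, 1]), (270755668, [2, 1]),
    (1164378403, [0, 2]), (588268918, [1, 2]), (588281413, [0, 0, 0]), (1985216803, [1, 0, 0]),
    (270746998, [2, 0, 0]), (1417032208, [0, 1, 0]), (1732575523, [2, 1, 0]), (1164390928, [1, 2,
    0]), (20071798, [1, 0, 1]), (1417028353, [0, 2, 1]), (838956613, [1, 2, 1]), (1985220658, [0,
    1, 2]), (1164387073, [2, 1, 2]), (20080468, [1, 0, 0, 0]), (838944118, [0, 1, 0, 0]),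
    (20084293, [2, 1, 0, 0]), (838947943, [1, 2, 0, 0]), (1164382258, [1, 0, 1, 0]), (1985225473,
    [1, 2, 1, 0]), (1732588048, [0, 1, 2, 1]), (1417019683, [2, 1, 2, 1]), (270750823, [1, 0, 1, 0,
    0]), (588277588, [1, 2, 1, 0, 0])]

/-- Words. -/
noncomputable def Awt (k : E AK) : List ℕ := look Awtt k.c

theorem Acomm : ∀ k ∈ AE, k * As = As * k := by
  decide +kernel

theorem AT_iff : ∀ k ∈ AE, k ∈ AT ↔ k * Au = Au * k := by
  decide +kernel

theorem AT_wd : ∀ k ∈ AT, ev [Aa, Ay, Ac1] (Awt k) = k := by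
  decide +kernel

theorem AT_pow : ∀ k ∈ AT, k ^ 16 = 1 := by
  decide +kernel

/-- A list of elements. -/
def AI : List (E AK) := E.sub Alists
    [1985229328, 1732579378, 1732584193, 1417019683, 272966518, 591750913, 1985216803, 1164387073,
    1417032208, 1164382258, 22295143, 844396048, 1731351553, 1982022928, 592733968, 21308263,
    273953398, 1980772948, 1728127813, 843412993, 19088743, 1733567248, 1733571073, 839939668,
    838956613, 1729110868, 1164378403, 1985225473, 20075623, 1730364673, 1983009808, 1984242448,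
    271733878, 1732575523, 1985220658, 588277588, 1979789893, 1984246273, 1417023538, 1417028353,
    587294533, 1164390928, 1732588048, 270746998]
    (by decide +kernel)

theorem AI_all : ∀ k ∈ AE, k * k = 1 → k ∈ AI := by
  decide +kernel

theorem Arecip : ∀ c ∈ AI, ∀ d ∈ AI, c * d * c⁻¹ * d⁻¹ * (c * d * c⁻¹ * d⁻¹) = 1 →
    c * d * c⁻¹ * d⁻¹ = 1 ∨ c * d * c⁻¹ * d⁻¹ = As ∨
    ∃ q ∈ [Aa, Aa1, Ab, Ab1], q * (c * d * c⁻¹ * d⁻¹) * q⁻¹ = c * d * c⁻¹ * d⁻¹ * As := by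
  decide +kernel

/-- An element. -/
def Ac : E AK := E.elt Alists 20075623 (by decide +kernel)

/-- An element. -/
def Ad : E AK := E.elt Alists 1417023538 (by decide +kernel)

theorem Amisc : As * As = 1 ∧ As ≠ 1 ∧ Au ≠ As ∧ Au * Au = 1 ∧ Ac * Ac = 1 ∧ Ad * Ad = 1 ∧
    Ac * Au = Au * Ac ∧ Ad * Au = Au * Ad ∧ Ac * Ad * Ac⁻¹ * Ad⁻¹ = As ∧ Aa ∈ AT ∧ Ay ∈ AT ∧
    Ac1 ∈ AT ∧ Aa * Aa = As ∧ Aa1 * Au * Aa1⁻¹ = Au * As ∧ Aa1 * Aa1 = As ∧ Ay * As ∈ AT ∧
    (∀ w ∈ [[1, 1], [0, 0, 1, 0, 0, 1], [0, 1, 0, 1, 0, 1, 0, 1]], ev [Aa, Ay] w = 1) ∧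
    ∀ w ∈ [[2, 2], [0, 2, 0, 2], [0, 1, 2, 0, 1, 2]], ev [Aa, Ay, Ac1] w = 1 := by
  decide +kernel

theorem Aenum : ∀ A0 ∈ AT, A0 * A0 = Au → ∀ A1 ∈ AT,
    (∀ w ∈ [[1, 1], [0, 0, 1, 0, 0, 1], [0, 1, 0, 1, 0, 1, 0, 1]], ev [A0, A1] w = 1) → ∀ A2 ∈ AT,
    (∀ w ∈ [[2, 2], [0, 2, 0, 2], [0, 1, 2, 0, 1, 2]], ev [A0, A1, A2] w = 1) →
    Cond1 (fun k => ev [A0, A1, A2] (Awt k)) As Au Aa Ay Ac1 A0 A1 A2 → ∀ t ∈ AT,
    Cond2 (fun k => ev [A0, A1, A2] (Awt k)) As Au Aa1 Aa Ay Ac1 t → ∃ τ ∈ AT,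
    AC (cal (fun k => ev [A0, A1, A2] (Awt k)) τ) (ct3 (fun k => ev [A0, A1, A2] (Awt k)) Aa1 t τ) := by
  decide +kernel

/-- A list of elements. -/
def AEl : List (E AK) := E.sub Alists
    [1985229328, 1732584193, 1417019683, 20075623, 1164382258, 270746998, 838956613, 588277588]
    (by decide +kernel)

/-- A list of elements. -/
def AY : List (E AK) := E.sub Alists
    [1985225473, 1985220658, 1732575523, 1164378403]
    (by decide +kernel)

/-- The action of the second parabolic subgroup. -/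
noncomputable def Aal (k : E AK) : E AK := ev [Ay * Ac1, Aa * Ac1 * Ay, Ac1] (Awt k)

theorem Adata : EData As Au Aal AE AT AEl [Av, At] AY := by
  constructor <;> decide +kernel

/-- The hypotheses on the centralizer. -/
structure HA {G : Type*} [Group G] (a b x y : G) : Prop where
  rel : RA a b x y
  ne : a ^ 2 ≠ 1
  card : Nat.card (centralizer ({a ^ 2} : Set G)) = 192

theorem HA.emb {G : Type*} [Group G] [Finite G] {a b x y : G} (h : HA a b x y) :
    ∃ φ : E AK →* G, Emb φ As ∧ φ Aa = a ∧ φ Ab = b ∧ φ Ax = x ∧ φ Ay = y := by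
  obtain ⟨h1, h2⟩ := (h.rel.prod A_rel).card_le
  have e : {p | p ∈ [(a, Aa), (b, Ab), (x, Ax), (y, Ay)]} = {(a, Aa), (b, Ab), (x, Ax), (y, Ay)} := by
    ext; simp
  obtain ⟨φ, hφ⟩ := exists_hom_of_list (l := [(a, Aa), (b, Ab), (x, Ax), (y, Ay)]) (e ▸ h1)
    (by rw [e, Acard]; exact h2) Atop
  have ha := hφ (a, Aa) (by simp)
  have hs : φ As = a ^ 2 := by rw [A_lit.1, map_pow, ha]
  exact ⟨φ, Emb.of_card (inj_of_chk φ (hs ▸ h.ne) fun k => Ainj k (Aall k))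
    (fun k => Acomm k (Aall k)) (by rw [hs, h.card, Acard]), ha,
    hφ (b, Ab) (by simp), hφ (x, Ax) (by simp), hφ (y, Ay) (by simp)⟩

end Cfsg.Agent.H7.Asch
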