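import Cfsg.Agent.H7.Asch.Rel

/-!
# A model of `2^(1+4) : 3`
-/

set_option autoImplicit false
set_option maxRecDepth 100000

namespace Cfsg.Agent.H7.Asch

open Subgroup H5 Equiv L0.Code

instance instFact8 : Fact (8 ≤ 16) := ⟨by decide⟩

/-- A generator. -/
def Bpa : Perm (Fin 8) :=
  ⟨![4, 5, 7, 6, 1, 0, 2, 3], ![5, 4, 6, 7, 0, 1, 3, 2], by decide, by decide⟩

/-- A generator. -/
def Bpb : Perm (Fin 8) :=
  ⟨![7, 6, 4, 5, 3, 2, 0, 1], ![6, 7, 5, 4, 2, 3, 1, 0], by decide, by decide⟩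

/-- A generator. -/
def Bpx : Perm (Fin 8) :=
  ⟨![7, 6, 1, 0, 4, 5, 2, 3], ![3, 2, 6, 7, 4, 5, 1, 0], by decide, by decide⟩

/-- The model. -/
def BK : Subgroup (Perm (Fin 8)) := Subgroup.closure {Bpa, Bpb, Bpx}

/-- Its elements. -/
def BL : List ℕ :=
    [1985229328, 838952788, 270750823, 844366183, 1732584193, 1417019683, 24519508, 1729123363,
    1728136483, 1411610113, 22312483, 588281413, 20071798, 591728758, 1412593168, 1160934913,
    1980777763, 1982992468, 592707958, 23536453, 593974288, 24523333, 594953488, 1410347638,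
    1157706358, 1982009413, 1164382258, 275198533, 1979794738, 1980781618, 1160931088, 272983858,
    23540308, 592711783, 1409364583, 844370038, 845628688, 845632513, 273966883, 1159951888,
    273970738, 1982005588, 1157702503, 1982988613, 1158689383, 271730023, 22308658, 1416036658,
    846615568, 1165361458, 839935813, 1159948033, 1411606288, 1728140338, 1730347333, 843386983,
    276181588, 846611713, 275194708, 1410343783, 1731330388, 1979798563, 21325603, 594957313,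
    1730351188, 19088743, 1409360758, 19092598, 1733567248, 1733571073, 272987683, 839939668,
    1165365283, 838956613, 1164378403, 1416040483, 1985225473, 587298388, 20075623, 276177733,
    843383158, 1158685558, 591724903, 21329458, 1412589313, 1731334213, 593970433, 1984242448,
    271733878, 588277588, 1984246273, 1417023538, 587294533, 1732588048, 270746998, 1729119538]

/-- Words for its elements. -/
def BW : List (List ℕ) :=
    [[], [0], [1], [2], [0, 0], [1, 0], [2, 0], [2, 1], [0, 2], [1, 2], [2, 2], [0, 0, 0], [1, 0,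
    0], [2, 0, 0], [2, 1, 0], [0, 2, 0], [1, 2, 0], [2, 2, 0], [0, 2, 1], [1, 2, 1], [2, 2, 1], [1,
    0, 2], [2, 0, 2], [2, 1, 2], [0, 2, 2], [1, 2, 2], [1, 0, 0, 0], [2, 0, 0, 0], [2, 1, 0, 0],
    [0, 2, 0, 0], [1, 2, 0, 0], [2, 2, 0, 0], [0, 2, 1, 0], [1, 2, 1, 0], [2, 2, 1, 0], [1, 0, 2,
    0], [2, 1, 2, 0], [0, 2, 2, 0], [1, 2, 2, 0], [1, 0, 2, 1], [2, 0, 2, 1], [0, 2, 2, 1], [1, 2,
    2, 1], [2, 1, 0, 2], [1, 2, 0, 2], [2, 2, 0, 2], [0, 2, 1, 2], [2, 2, 1, 2], [1, 0, 2, 2], [2,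
    0, 2, 2], [2, 1, 2, 2], [2, 1, 0, 0, 0], [0, 2, 0, 0, 0], [1, 2, 0, 0, 0], [2, 2, 0, 0, 0], [0,
    2, 1, 0, 0], [1, 2, 1, 0, 0], [2, 2, 1, 0, 0], [1, 0, 2, 0, 0], [0, 2, 2, 0, 0], [1, 2, 2, 0,
    0], [1, 0, 2, 1, 0], [0, 2, 2, 1, 0], [1, 2, 2, 1, 0], [0, 2, 1, 2, 0], [2, 2, 1, 2, 0], [1, 0,
    2, 2, 0], [2, 0, 2, 2, 0], [2, 1, 2, 2, 0], [2, 2, 0, 2, 1], [1, 0, 2, 2, 1], [2, 0, 2, 2, 1],
    [2, 1, 2, 2, 1], [2, 2, 1, 0, 2], [2, 1, 2, 0, 2], [0, 2, 2, 0, 2], [2, 0, 2, 1, 2], [1, 2, 2,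
    1, 2], [2, 1, 0, 2, 2], [0, 2, 1, 0, 0, 0], [1, 2, 1, 0, 0, 0], [2, 2, 1, 0, 0, 0], [1, 0, 2,
    0, 0, 0], [1, 2, 2, 0, 0, 0], [1, 0, 2, 1, 0, 0], [0, 2, 2, 1, 0, 0], [1, 0, 2, 2, 0, 0], [2,
    0, 2, 2, 1, 0], [2, 1, 2, 2, 1, 0], [2, 0, 2, 1, 2, 0], [1, 2, 2, 1, 2, 0], [2, 1, 0, 2, 2, 0],
    [0, 2, 2, 0, 2, 1], [2, 1, 0, 2, 2, 1], [0, 2, 1, 2, 0, 2], [1, 0, 2, 1, 0, 0, 0]]

theorem Benc_a : enc Bpa = 838952788 := by decide +kernel

theorem Benc_b : enc Bpb = 270750823 := by decide +kernel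

theorem Benc_x : enc Bpx = 844366183 := by decide +kernel

theorem Blists : Lists BK BL :=
  lists_of_words (by decide) _ 1985229328 [838952788, 270750823, 844366183] BL BW (by decide +kernel)
    (by simp [Benc_a, Benc_b, Benc_x]) (by simp [← Benc_a, ← Benc_b, ← Benc_x])
    (by decide +kernel) (by decide +kernel) (by decide +kernel) (by decide +kernel)

/-- All elements. -/
def BE : List (E BK) := E.lst BL Blists.cd

theorem Ball (k : E BK) : k ∈ BE := E.mem_lst_all Blists k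

theorem Bcard : Nat.card (E BK) = 96 := E.card_of_lists Blists

/-- An element. -/
def Ba : E BK := E.elt Blists 838952788 (by decide +kernel)

/-- An element. -/
def Bb : E BK := E.elt Blists 270750823 (by decide +kernel)

/-- An element. -/
def Bx : E BK := E.elt Blists 844366183 (by decide +kernel)

theorem Btop : closure {m | m ∈ [Ba, Bb, Bx]} = ⊤ := by
  refine E.closure_eq_top ?_
  rintro _ (rfl | rfl | rfl)
  · exact ⟨Ba, subset_closure (show Ba ∈ [Ba, Bb, Bx] by simp), Benc_a.symm⟩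
  · exact ⟨Bb, subset_closure (show Bb ∈ [Ba, Bb, Bx] by simp), Benc_b.symm⟩
  · exact ⟨Bx, subset_closure (show Bx ∈ [Ba, Bb, Bx] by simp), Benc_x.symm⟩

/-- An element. -/
def Bs : E BK := E.elt Blists 1732584193 (by decide +kernel)

/-- An element. -/
def Ba1 : E BK := E.elt Blists 1165361458 (by decide +kernel)

/-- An element. -/
def Bb1 : E BK := E.elt Blists 839935813 (by decide +kernel)

/-- An element. -/
def Ba2 : E BK := E.elt Blists 271730023 (by decide +kernel)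

/-- An element. -/
def Bb2 : E BK := E.elt Blists 1416036658 (by decide +kernel)

theorem B_lit : Bs = Ba ^ 2 ∧ Ba1 = Bx * Ba * Bx⁻¹ ∧ Bb1 = Bx * Bb * Bx⁻¹ := by
  decide +kernel

theorem B_rel : RB Ba Bb Bx := by
  decide +kernel

/-- A list of elements. -/
def BQ : List (E BK) := E.sub Blists
    [1985229328, 838952788, 1165361458, 270750823, 839935813, 1732584193, 19092598, 1417019683,
    1733567248, 271730023, 839939668, 20075623, 1165365283, 1416036658, 588281413, 1416040483,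
    20071798, 587298388, 1984242448, 1417023538, 271733878, 19088743, 1733571073, 1164378403,
    1732588048, 1985225473, 1164382258, 1984246273, 587294533, 270746998, 838956613, 588277588]
    (by decide +kernel)

/-- A table of words. -/
def Bwqt : List (ℕ × List ℕ) :=
    [(1985229328, []), (838952788, [0]), (1165361458, [1]), (270750823, [2]), (839935813, [3]),
    (1732584193, [0, 0]), (19092598, [1, 0]), (1417019683, [2, 0]), (1733567248, [3, 0]),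
    (271730023, [0, 1]), (839939668, [2, 1]), (20075623, [3, 1]), (1165365283, [3, 2]),
    (1416036658, [2, 3]), (588281413, [0, 0, 0]), (1416040483, [1, 0, 0]), (20071798, [2, 0, 0]),
    (587298388, [3, 0, 0]), (1984242448, [2, 1, 0]), (1417023538, [3, 1, 0]), (271733878, [3, 2,
    0]), (19088743, [2, 3, 0]), (1733571073, [2, 0, 1]), (1164378403, [3, 0, 1]), (1732588048, [3,
    2, 1]), (1985225473, [2, 3, 1]), (1164382258, [2, 0, 0, 0]), (1984246273, [3, 0, 0, 0]),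
    (587294533, [2, 1, 0, 0]), (270746998, [3, 1, 0, 0]), (838956613, [3, 2, 1, 0]), (588277588,
    [2, 3, 1, 0])]

/-- Words. -/
noncomputable def Bwq (k : E BK) : List ℕ := look Bwqt k.c

theorem BQ_one : (1 : E BK) ∈ BQ := by
  decide +kernel

theorem BQ_mul : ∀ a ∈ BQ, ∀ b ∈ BQ, a * b ∈ BQ := by
  decide +kernel

theorem BQ_nodup : BQ.Nodup := by
  decide +kernel

theorem BQ_len : BQ.length = 32 := by
  decide +kernel

theorem BQ_wd : ∀ k ∈ BQ, ev [Ba, Ba1, Bb, Bb1] (Bwq k) = k := by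
  decide +kernel

theorem Binj : ∀ k ∈ BE, k = 1 ∨ k = Bs ∨ ∃ c ∈ [Ba, Ba1, Bb, Bb1], k * c * k⁻¹ * c⁻¹ = Bs ∨
    ∃ d ∈ [Ba, Ba1, Bb, Bb1], k * c * k⁻¹ * c⁻¹ * d * (k * c * k⁻¹ * c⁻¹)⁻¹ * d⁻¹ = Bs := by
  decide +kernel

/-- A table of words. -/
def Bwxt : List (ℕ × List ℕ) :=
    [(1985229328, []), (838952788, [0]), (1165361458, [2, 0, 2, 2]), (270750823, [1]), (839935813,
    [2, 1, 2, 2]), (1732584193, [0, 0]), (19092598, [2, 0, 2, 2, 0]), (1417019683, [1, 0]),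
    (1733567248, [2, 1, 2, 2, 0]), (271730023, [2, 2, 0, 2]), (839939668, [2, 0, 2, 2, 1]),
    (20075623, [2, 1, 0, 2, 2]), (1165365283, [2, 1, 2, 2, 1]), (1416036658, [2, 2, 1, 2]),
    (588281413, [0, 0, 0]), (1416040483, [0, 2, 2, 0, 2]), (20071798, [1, 0, 0]), (587298388, [1,
    2, 2, 1, 2]), (1984242448, [2, 0, 2, 2, 1, 0]), (1417023538, [2, 1, 0, 2, 2, 0]), (271733878,
    [2, 1, 2, 2, 1, 0]), (19088743, [2, 2, 1, 2, 0]), (1733571073, [2, 2, 0, 2, 1]), (1164378403,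
    [2, 1, 2, 0, 2]), (1732588048, [2, 1, 0, 2, 2, 1]), (1985225473, [2, 0, 2, 1, 2]), (1164382258,
    [1, 0, 0, 0]), (1984246273, [1, 2, 2, 1, 2, 0]), (587294533, [0, 2, 2, 0, 2, 1]), (270746998,
    [0, 2, 1, 2, 0, 2]), (838956613, [2, 2, 1, 0, 2]), (588277588, [2, 0, 2, 1, 2, 0])]

/-- Words. -/
noncomputable def Bwx (k : E BK) : List ℕ := look Bwxt k.c

theorem BQ_wx : ∀ k ∈ BQ, ev [Ba, Bb, Bx] (Bwx k) = k := by
  decide +kernel

theorem B_comm : ∀ u ∈ BQ, u * u = 1 → u = 1 ∨ u = Bs ∨ ∃ c ∈ BQ, c * c = 1 ∧ c * u = u * c ∧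
    ∃ d ∈ BQ, d * d = 1 ∧ d * u = u * d ∧ c * d * c⁻¹ * d⁻¹ = Bs := by
  decide +kernel

theorem B_six : ∀ k ∈ [Ba, Ba1, Ba2, Bb, Bb1, Bb2], k ∈ BQ ∧ Bx * k * Bx⁻¹ ∈ BQ := by
  decide +kernel

theorem B_norm : ∀ A ∈ BQ, A * A = Bs → ∀ B ∈ BQ, RB A B Bx⁻¹ → ev [A, B, Bx⁻¹] (Bwx A) = Ba →
    ev [A, B, Bx⁻¹] (Bwx B) = Bb → ∃ a ∈ [Ba, Ba1, Ba2, Bb, Bb1, Bb2],
    ∃ b ∈ [Ba, Ba1, Ba2, Bb, Bb1, Bb2], RB a b Bx ∧ a ^ 2 = Bs ∧
    (ev [A, B, Bx⁻¹] (Bwx a) = b⁻¹ ∧ ev [A, B, Bx⁻¹] (Bwx b) = a⁻¹ ∨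
      ev [A, B, Bx⁻¹] (Bwx a) = a⁻¹ ∧ ev [A, B, Bx⁻¹] (Bwx b) = b⁻¹) := by
  decide +kernel

theorem RB.emb {G : Type*} [Group G] {a b x : G} (h : RB a b x) (hs : a ^ 2 ≠ 1) :
    ∃ φ : E BK →* G, Function.Injective φ ∧ φ Ba = a ∧ φ Bb = b ∧ φ Bx = x := by
  obtain ⟨h1, h2⟩ := (h.prod B_rel).card_le
  have e : {p | p ∈ [(a, Ba), (b, Bb), (x, Bx)]} = {(a, Ba), (b, Bb), (x, Bx)} := by ext; simp
  obtain ⟨φ, hφ⟩ := exists_hom_of_list (l := [(a, Ba), (b, Bb), (x, Bx)]) (e ▸ h1)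
    (by rw [e, Bcard]; exact h2) Btop
  have ha := hφ (a, Ba) (by simp)
  exact ⟨φ, inj_of_chk φ (by rwa [B_lit.1, map_pow, ha]) fun k => Binj k (Ball k), ha,
    hφ (b, Bb) (by simp), hφ (x, Bx) (by simp)⟩

end Cfsg.Agent.H7.Asch
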