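import Cfsg.Agent.H7.Asch.EMod

/-!
# A model of the centralizer of Mathieu type
-/

set_option autoImplicit false
set_option maxRecDepth 100000

namespace Cfsg.Agent.H7.Asch

open Subgroup H5 Equiv L0.Code

instance instFact12 : Fact (12 ≤ 16) := ⟨by decide⟩

/-- A generator. -/
def Mpa : Perm (Fin 12) :=
  ⟨![0, 1, 2, 3, 7, 11, 10, 5, 6, 8, 9, 4], ![0, 1, 2, 3, 11, 7, 8, 4, 9, 10, 6, 5], by decide, by decide⟩

/-- A generator. -/
def Mpb : Perm (Fin 12) :=
  ⟨![2, 3, 0, 1, 11, 7, 10, 4, 6, 8, 9, 5], ![2, 3, 0, 1, 7, 11, 8, 5, 9, 10, 6, 4], by decide, by decide⟩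

/-- A generator. -/
def Mpx : Perm (Fin 12) :=
  ⟨![3, 0, 2, 1, 4, 5, 10, 9, 7, 8, 11, 6], ![1, 3, 2, 0, 4, 5, 11, 8, 9, 7, 6, 10], by decide, by decide⟩

/-- A generator. -/
def Mpy : Perm (Fin 12) :=
  ⟨![0, 3, 2, 1, 4, 5, 8, 11, 6, 10, 9, 7], ![0, 3, 2, 1, 4, 5, 8, 11, 6, 10, 9, 7], by decide, by decide⟩

/-- The model. -/
def MK : Subgroup (Perm (Fin 12)) := Subgroup.closure {Mpa, Mpb, Mpx, Mpy}

/-- Its elements. -/
def ML : List ℕ :=
    [205163983024656, 80841396400656, 98433310068786, 118230153957891, 133756964049456,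
    132399770186256, 202767441596466, 79690356822531, 81812038292016, 97282277376786,
    99403959840786, 180756009128451, 181851221864481, 183040958792241, 148896472117761,
    97419634610736, 79827713077266, 167926364897811, 95285065495056, 77693151809586,
    166762444558851, 200701578121776, 113986692711186, 130333908676626, 130127655080451,
    200426622824481, 78732499354161, 77761851568641, 204124633509906, 83182117847571,
    200495323546386, 130058950418736, 96324415009026, 95353771131186, 100774032511746,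
    171143312191521, 198622782751281, 163300738019841, 199718002365216, 164395958603811,
    169704437514801, 169635730890771, 111757611184641, 110662390583331, 96255760466451,
    78663845810946, 147650870968851, 147719569743921, 134796311597106, 99747521499651,
    82155600937746, 146873494737411, 145778282016801, 151417583370801, 188667281093121,
    117066233610771, 182057333883666, 180962113298736, 186601419583746, 153483446845746,
    169841987425026, 81880793100321, 202698642567681, 116859981992736, 132262269423651,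
    129212926526001, 198485380309011, 134452699804161, 204889072930851, 115150611092226,
    128186361446931, 199649248550961, 99472707756336, 116928680767746, 132330969170226,
    202629936915216, 199580594024706, 128117706920736, 204820373176626, 134521405448976,
    198554033853186, 129281580085536, 148131934376736, 184286415425571, 100705283612691,
    110731096240656, 153277337767971, 145640924779056, 83113364034336, 111826310922531,
    146736138486561, 151142773563411, 153208536773136, 186189054935571, 153139837018881,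
    186120356175921, 182194784506416, 181099570791201, 199443142410771, 127980255322161,
    98364610327041, 100499173540401, 129075470013186, 198347923796256, 80772690739506,
    82907257909506, 117341045399601, 114669544735281, 114738251374611, 171005905797906,
    203712270832131, 133413303103521, 133344602358546, 203780975501616, 113849286340641,
    166625040146736, 164533360066866, 163438147347216, 167445301506306, 167514000266016,
    110524989112626, 111620201849616, 151005223654146, 150936517030176, 81047503507491,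
    95078958370851, 113643031761456, 186326607794976, 188323669279011, 166350081884961,
    78526389297171, 164327252963856, 110456283472641, 170730950496816, 118023900365601,
    182834702258946, 182903408898336, 184080306340146, 147857122603266, 83044709507121,
    129350328983571, 98639419155216, 188392374931506, 77487042732816, 166418786562066,
    113574331031811, 96118308868896, 111551502094386, 163232038256931, 117955195711506,
    170799651234051, 100636630069536, 128255115276546, 134590204477731, 114875801284896,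
    203987229082401, 95147664024321, 96393168822321, 183942805598736, 130471313081121,
    77555742474531, 78801248268576, 184011505345281, 132605879264001, 167651553124401,
    188461173973776, 183315768614931, 145572169974546, 146667390574896, 97557085237281,
    79965170573616, 149102579229456, 147010952245266, 145915732631811, 148758967423026,
    148827673067811, 180824757055506, 181919976661251, 79621608899361, 99610063995681,
    202973548708131, 170116797247776, 164602065724161, 80978797863681, 97213522583811,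
    163506847092786, 82018150326531, 98570719396131, 204957873939201, 200838984507651,
    118367558377776, 133619557671171]

/-- Words for its elements. -/
def MW : List (List ℕ) :=
    [[], [0], [1], [2], [3], [0, 0], [1, 0], [2, 0], [3, 0], [2, 1], [3, 1], [0, 2], [1, 2], [2,
    2], [3, 2], [0, 3], [1, 3], [2, 3], [0, 0, 0], [1, 0, 0], [2, 0, 0], [3, 0, 0], [2, 1, 0], [3,
    1, 0], [0, 2, 0], [1, 2, 0], [2, 2, 0], [3, 2, 0], [1, 3, 0], [2, 3, 0], [0, 2, 1], [1, 2, 1],
    [2, 2, 1], [3, 2, 1], [2, 3, 1], [1, 0, 2], [2, 0, 2], [3, 0, 2], [2, 1, 2], [3, 1, 2], [0, 2,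
    2], [1, 2, 2], [0, 3, 2], [1, 3, 2], [2, 0, 3], [2, 1, 3], [0, 2, 3], [1, 2, 3], [1, 0, 0, 0],
    [2, 0, 0, 0], [2, 1, 0, 0], [0, 2, 0, 0], [1, 2, 0, 0], [2, 2, 0, 0], [3, 2, 0, 0], [2, 3, 0,
    0], [0, 2, 1, 0], [1, 2, 1, 0], [2, 2, 1, 0], [3, 2, 1, 0], [2, 3, 1, 0], [1, 0, 2, 0], [3, 0,
    2, 0], [2, 1, 2, 0], [3, 1, 2, 0], [0, 2, 2, 0], [1, 2, 2, 0], [0, 3, 2, 0], [1, 3, 2, 0], [2,
    1, 3, 0], [0, 2, 3, 0], [1, 2, 3, 0], [1, 0, 2, 1], [2, 0, 2, 1], [3, 0, 2, 1], [3, 1, 2, 1],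
    [0, 2, 2, 1], [1, 2, 2, 1], [0, 3, 2, 1], [1, 3, 2, 1], [0, 2, 3, 1], [1, 2, 3, 1], [2, 1, 0,
    2], [3, 1, 0, 2], [1, 2, 0, 2], [2, 2, 0, 2], [1, 3, 0, 2], [2, 3, 0, 2], [0, 2, 1, 2], [2, 2,
    1, 2], [2, 3, 1, 2], [1, 0, 2, 2], [2, 0, 2, 2], [3, 0, 2, 2], [2, 1, 2, 2], [3, 1, 2, 2], [2,
    0, 3, 2], [2, 1, 3, 2], [0, 2, 0, 3], [1, 2, 0, 3], [2, 2, 0, 3], [3, 2, 0, 3], [0, 2, 1, 3],
    [1, 2, 1, 3], [2, 2, 1, 3], [3, 2, 1, 3], [1, 0, 2, 3], [3, 0, 2, 3], [3, 1, 2, 3], [2, 1, 0,
    0, 0], [0, 2, 0, 0, 0], [1, 2, 0, 0, 0], [0, 2, 1, 0, 0], [1, 2, 1, 0, 0], [1, 0, 2, 0, 0], [1,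
    0, 2, 1, 0], [3, 0, 2, 1, 0], [3, 1, 2, 1, 0], [0, 2, 2, 1, 0], [1, 2, 2, 1, 0], [0, 3, 2, 1,
    0], [1, 3, 2, 1, 0], [0, 2, 3, 1, 0], [1, 2, 3, 1, 0], [3, 1, 0, 2, 0], [1, 3, 0, 2, 0], [2, 3,
    0, 2, 0], [0, 2, 1, 2, 0], [2, 2, 1, 2, 0], [2, 3, 1, 2, 0], [1, 0, 2, 2, 0], [2, 0, 2, 2, 0],
    [2, 1, 2, 2, 0], [2, 0, 3, 2, 0], [2, 1, 3, 2, 0], [0, 2, 1, 3, 0], [1, 2, 1, 3, 0], [2, 2, 1,
    3, 0], [3, 2, 1, 3, 0], [1, 0, 2, 3, 0], [3, 1, 2, 3, 0], [3, 1, 0, 2, 1], [2, 2, 0, 2, 1], [1,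
    3, 0, 2, 1], [2, 3, 0, 2, 1], [2, 3, 1, 2, 1], [1, 0, 2, 2, 1], [2, 0, 2, 2, 1], [2, 1, 2, 2,
    1], [2, 0, 3, 2, 1], [2, 1, 3, 2, 1], [1, 0, 2, 3, 1], [3, 0, 2, 3, 1], [2, 2, 1, 0, 2], [3, 2,
    1, 0, 2], [2, 3, 1, 0, 2], [2, 1, 2, 0, 2], [3, 1, 2, 0, 2], [0, 2, 2, 0, 2], [2, 1, 3, 0, 2],
    [2, 0, 2, 1, 2], [3, 0, 2, 1, 2], [1, 2, 2, 1, 2], [2, 1, 0, 2, 2], [1, 3, 0, 2, 2], [2, 1, 0,
    2, 3], [1, 3, 0, 2, 3], [0, 2, 1, 0, 0, 0], [1, 2, 1, 0, 0, 0], [1, 0, 2, 0, 0, 0], [1, 0, 2,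
    1, 0, 0], [1, 3, 0, 2, 1, 0], [2, 3, 0, 2, 1, 0], [2, 3, 1, 2, 1, 0], [2, 0, 2, 2, 1, 0], [2,
    1, 2, 2, 1, 0], [2, 0, 3, 2, 1, 0], [2, 1, 3, 2, 1, 0], [2, 3, 1, 0, 2, 0], [2, 1, 3, 0, 2, 0],
    [2, 0, 2, 1, 2, 0], [3, 0, 2, 1, 2, 0], [1, 2, 2, 1, 2, 0], [2, 1, 0, 2, 2, 0], [2, 3, 1, 0, 2,
    1], [0, 2, 2, 0, 2, 1], [2, 1, 3, 0, 2, 1], [2, 1, 0, 2, 2, 1], [0, 2, 1, 2, 0, 2], [3, 2, 1,
    0, 2, 2], [1, 0, 2, 1, 0, 0, 0], [2, 1, 3, 0, 2, 1, 0]]

theorem Menc_a : enc Mpa = 80841396400656 := by decide +kernel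

theorem Menc_b : enc Mpb = 98433310068786 := by decide +kernel

theorem Menc_x : enc Mpx = 118230153957891 := by decide +kernel

theorem Menc_y : enc Mpy = 133756964049456 := by decide +kernel

theorem Mlists : Lists MK ML :=
  lists_of_words (by decide) _ 205163983024656 [80841396400656, 98433310068786, 118230153957891, 133756964049456] ML MW (by decide +kernel)
    (by simp [Menc_a, Menc_b, Menc_x, Menc_y]) (by simp [← Menc_a, ← Menc_b, ← Menc_x, ← Menc_y])
    (by decide +kernel) (by decide +kernel) (by decide +kernel) (by decide +kernel)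

/-- All elements. -/
def ME : List (E MK) := E.lst ML Mlists.cd

theorem Mall (k : E MK) : k ∈ ME := E.mem_lst_all Mlists k

theorem Mcard : Nat.card (E MK) = 192 := E.card_of_lists Mlists

/-- An element. -/
def Ma : E MK := E.elt Mlists 80841396400656 (by decide +kernel)

/-- An element. -/
def Mb : E MK := E.elt Mlists 98433310068786 (by decide +kernel)

/-- An element. -/
def Mx : E MK := E.elt Mlists 118230153957891 (by decide +kernel)

/-- An element. -/
def My : E MK := E.elt Mlists 133756964049456 (by decide +kernel)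

theorem Mtop : closure {m | m ∈ [Ma, Mb, Mx, My]} = ⊤ := by
  refine E.closure_eq_top ?_
  rintro _ (rfl | rfl | rfl | rfl)
  · exact ⟨Ma, subset_closure (show Ma ∈ [Ma, Mb, Mx, My] by simp), Menc_a.symm⟩
  · exact ⟨Mb, subset_closure (show Mb ∈ [Ma, Mb, Mx, My] by simp), Menc_b.symm⟩
  · exact ⟨Mx, subset_closure (show Mx ∈ [Ma, Mb, Mx, My] by simp), Menc_x.symm⟩
  · exact ⟨My, subset_closure (show My ∈ [Ma, Mb, Mx, My] by simp), Menc_y.symm⟩

/-- An element. -/
def Ms : E MK := E.elt Mlists 132399770186256 (by decide +kernel)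

/-- An element. -/
def Mu : E MK := E.elt Mlists 202767441596466 (by decide +kernel)

/-- An element. -/
def Ma1 : E MK := E.elt Mlists 153208536773136 (by decide +kernel)

/-- An element. -/
def Mb1 : E MK := E.elt Mlists 153139837018881 (by decide +kernel)

/-- An element. -/
def Mc1 : E MK := E.elt Mlists 132605879264001 (by decide +kernel)

/-- An element. -/
def Mt : E MK := E.elt Mlists 77555742474531 (by decide +kernel)

/-- An element. -/
def Mw : E MK := E.elt Mlists 110456283472641 (by decide +kernel)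

theorem M_lit : Ms = Ma ^ 2 ∧ Mu = Ma * Mb ∧ Ma1 = Mx * Ma * Mx⁻¹ ∧ Mb1 = Mx * Mb * Mx⁻¹ ∧
    Mc1 = Mx * Ma * Mx⁻¹ * (Mx * Mb * Mx⁻¹) ∧ Mt = Mb * (Mx * Ma * Mx⁻¹ * (Mx * Mb * Mx⁻¹)) ∧
    Mw = Mx * Mb * Mx⁻¹ * Ma := by
  decide +kernel

theorem M_rel : RM Ma Mb Mx My := by
  decide +kernel

theorem M_rel' : RM Ma Mb Mx (My * Ma ^ 2) := by
  decide +kernel

/-- A list of elements. -/
def MQ : List (E MK) := E.sub Mlists
    [205163983024656, 80841396400656, 153208536773136, 98433310068786, 153139837018881,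
    132399770186256, 164327252963856, 202767441596466, 110456283472641, 110731096240656,
    111551502094386, 132605879264001, 163232038256931, 111826310922531, 95285065495056,
    183942805598736, 77693151809586, 184011505345281, 148758967423026, 80978797863681,
    148827673067811, 188323669279011, 188392374931506, 95147664024321, 98570719396131,
    77555742474531, 134796311597106, 164602065724161, 163506847092786, 204957873939201,
    134590204477731, 202973548708131]
    (by decide +kernel)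

/-- A table of words. -/
def Mwqt : List (ℕ × List ℕ) :=
    [(205163983024656, []), (80841396400656, [0]), (153208536773136, [1]), (98433310068786, [2]),
    (153139837018881, [3]), (132399770186256, [0, 0]), (164327252963856, [1, 0]), (202767441596466,
    [2, 0]), (110456283472641, [3, 0]), (110731096240656, [0, 1]), (111551502094386, [2, 1]),
    (132605879264001, [3, 1]), (163232038256931, [3, 2]), (111826310922531, [2, 3]),
    (95285065495056, [0, 0, 0]), (183942805598736, [1, 0, 0]), (77693151809586, [2, 0, 0]),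
    (184011505345281, [3, 0, 0]), (148758967423026, [2, 1, 0]), (80978797863681, [3, 1, 0]),
    (148827673067811, [3, 2, 0]), (188323669279011, [2, 3, 0]), (188392374931506, [2, 0, 1]),
    (95147664024321, [3, 0, 1]), (98570719396131, [3, 2, 1]), (77555742474531, [2, 3, 1]),
    (134796311597106, [2, 0, 0, 0]), (164602065724161, [3, 0, 0, 0]), (163506847092786, [2, 1, 0,
    0]), (204957873939201, [3, 1, 0, 0]), (134590204477731, [3, 2, 1, 0]), (202973548708131, [2, 3,
    1, 0])]

/-- Words. -/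
noncomputable def Mwq (k : E MK) : List ℕ := look Mwqt k.c

theorem MQ_one : (1 : E MK) ∈ MQ := by
  decide +kernel

theorem MQ_mul : ∀ a ∈ MQ, ∀ b ∈ MQ, a * b ∈ MQ := by
  decide +kernel

theorem MQ_nodup : MQ.Nodup := by
  decide +kernel

theorem MQ_len : MQ.length = 32 := by
  decide +kernel

theorem MQ_wd : ∀ k ∈ MQ, ev [Ma, Ma1, Mb, Mb1] (Mwq k) = k := by
  decide +kernel

theorem Minj : ∀ k ∈ ME, k = 1 ∨ k = Ms ∨ ∃ c ∈ [Ma, Ma1, Mb, Mb1], k * c * k⁻¹ * c⁻¹ = Ms ∨
    ∃ d ∈ [Ma, Ma1, Mb, Mb1], k * c * k⁻¹ * c⁻¹ * d * (k * c * k⁻¹ * c⁻¹)⁻¹ * d⁻¹ = Ms := by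
  decide +kernel

theorem M_cls : ∀ k ∈ MQ, k * k = 1 → k = 1 ∨ k = Ms ∨ ∃ l ∈ ME, l * k * l⁻¹ ∈ [Mu, Mt] := by
  decide +kernel

/-- The normal forms of the action. -/
abbrev MC (f : E MK → E MK) (t : E MK) : Prop :=
  ∃ y ∈ [My, My * Ms], f Ma = y * Mc1 ∧ (f y = Mc1 ∧ f Mc1 = Ma * y ∧ t = Ms ∨
    f y = Mc1 * y * Mc1 * Ma ∧ f Mc1 = Mc1)

/-- A list of elements. -/
def MT : List (E MK) := E.sub Mlists
    [205163983024656, 80841396400656, 133756964049456, 132605879264001, 132399770186256,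
    81812038292016, 80978797863681, 97419634610736, 203987229082401, 95147664024321,
    200838984507651, 95285065495056, 200701578121776, 204957873939201, 79621608899361,
    82018150326531, 99610063995681, 134590204477731, 97213522583811, 130333908676626,
    130471313081121, 133619557671171, 77555742474531, 79827713077266, 98570719396131,
    202767441596466, 99403959840786, 202973548708131, 204124633509906, 77693151809586,
    98433310068786, 134796311597106]
    (by decide +kernel)

/-- A table of words. -/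
def Mwtt : List (ℕ × List ℕ) :=
    [(205163983024656, []), (80841396400656, [0]), (133756964049456, [1]), (132605879264001, [2]),
    (132399770186256, [0, 0]), (81812038292016, [1, 0]), (80978797863681, [2, 0]), (97419634610736,
    [0, 1]), (203987229082401, [2, 1]), (95147664024321, [0, 2]), (200838984507651, [1, 2]),
    (95285065495056, [0, 0, 0]), (200701578121776, [1, 0, 0]), (204957873939201, [2, 0, 0]),
    (79621608899361, [2, 1, 0]), (82018150326531, [1, 2, 0]), (99610063995681, [2, 0, 1]),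
    (134590204477731, [1, 2, 1]), (97213522583811, [1, 0, 2]), (130333908676626, [2, 1, 2]),
    (130471313081121, [2, 1, 0, 0]), (133619557671171, [1, 2, 0, 0]), (77555742474531, [1, 2, 1,
    0]), (79827713077266, [2, 1, 2, 0]), (98570719396131, [1, 2, 0, 1]), (202767441596466, [2, 1,
    2, 1]), (99403959840786, [2, 1, 0, 2]), (202973548708131, [1, 2, 1, 0, 0]), (204124633509906,
    [2, 1, 2, 0, 0]), (77693151809586, [2, 1, 2, 1, 0]), (98433310068786, [2, 1, 2, 0, 1]),
    (134796311597106, [2, 1, 2, 1, 0, 0])]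

/-- Words. -/
noncomputable def Mwt (k : E MK) : List ℕ := look Mwtt k.c

theorem Mcomm : ∀ k ∈ ME, k * Ms = Ms * k := by
  decide +kernel

theorem MT_iff : ∀ k ∈ ME, k ∈ MT ↔ k * Mu = Mu * k := by
  decide +kernel

theorem MT_wd : ∀ k ∈ MT, ev [Ma, My, Mc1] (Mwt k) = k := by
  decide +kernel

theorem MT_pow : ∀ k ∈ MT, k ^ 16 = 1 := by
  decide +kernel

/-- A list of elements. -/
def MI : List (E MK) := E.sub Mlists
    [205163983024656, 133756964049456, 132399770186256, 202767441596466, 81812038292016,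
    99403959840786, 148896472117761, 97419634610736, 79827713077266, 167926364897811,
    200701578121776, 130333908676626, 204124633509906, 134796311597106, 188667281093121,
    117066233610771, 202698642567681, 134452699804161, 128186361446931, 202629936915216,
    134521405448976, 129281580085536, 199443142410771, 198347923796256, 188323669279011,
    110456283472641, 188392374931506, 111551502094386, 134590204477731, 114875801284896,
    95147664024321, 77555742474531, 132605879264001, 188461173973776, 149102579229456,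
    148758967423026, 148827673067811, 202973548708131, 170116797247776, 164602065724161,
    80978797863681, 163506847092786, 98570719396131, 204957873939201]
    (by decide +kernel)

theorem MI_all : ∀ k ∈ ME, k * k = 1 → k ∈ MI := by
  decide +kernel

theorem Mrecip : ∀ c ∈ MI, ∀ d ∈ MI, c * d * c⁻¹ * d⁻¹ * (c * d * c⁻¹ * d⁻¹) = 1 →
    c * d * c⁻¹ * d⁻¹ = 1 ∨ c * d * c⁻¹ * d⁻¹ = Ms ∨
    ∃ q ∈ [Ma, Ma1, Mb, Mb1], q * (c * d * c⁻¹ * d⁻¹) * q⁻¹ = c * d * c⁻¹ * d⁻¹ * Ms := by
  decide +kernel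

/-- An element. -/
def Mc : E MK := E.elt Mlists 133756964049456 (by decide +kernel)

/-- An element. -/
def Md : E MK := E.elt Mlists 81812038292016 (by decide +kernel)

theorem Mmisc : Ms * Ms = 1 ∧ Ms ≠ 1 ∧ Mu ≠ Ms ∧ Mu * Mu = 1 ∧ Mc * Mc = 1 ∧ Md * Md = 1 ∧
    Mc * Mu = Mu * Mc ∧ Md * Mu = Mu * Md ∧ Mc * Md * Mc⁻¹ * Md⁻¹ = Ms ∧ Ma ∈ MT ∧ My ∈ MT ∧
    Mc1 ∈ MT ∧ Ma * Ma = Ms ∧ Ma1 * Mu * Ma1⁻¹ = Mu * Ms ∧ Ma1 * Ma1 = Ms ∧ My * Ms ∈ MT ∧
    (∀ w ∈ [[1, 1], [0, 1, 0, 1]], ev [Ma, My] w = 1) ∧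
    ∀ w ∈ [[2, 2], [0, 2, 0, 2], [1, 2, 1, 2, 1, 2, 1, 2]], ev [Ma, My, Mc1] w = 1 := by
  decide +kernel

theorem Menum : ∀ A0 ∈ MT, A0 * A0 = Mu → ∀ A1 ∈ MT,
    (∀ w ∈ [[1, 1], [0, 1, 0, 1]], ev [A0, A1] w = 1) → ∀ A2 ∈ MT,
    (∀ w ∈ [[2, 2], [0, 2, 0, 2], [1, 2, 1, 2, 1, 2, 1, 2]], ev [A0, A1, A2] w = 1) →
    Cond1 (fun k => ev [A0, A1, A2] (Mwt k)) Ms Mu Ma My Mc1 A0 A1 A2 → ∀ t ∈ MT,
    Cond2 (fun k => ev [A0, A1, A2] (Mwt k)) Ms Mu Ma1 Ma My Mc1 t → ∃ τ ∈ MT,
    MC (cal (fun k => ev [A0, A1, A2] (Mwt k)) τ) (ct3 (fun k => ev [A0, A1, A2] (Mwt k)) Ma1 t τ) := by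
  decide +kernel

/-- A list of elements. -/
def MEl : List (E MK) := E.sub Mlists
    [205163983024656, 132399770186256, 202767441596466, 132605879264001, 134796311597106,
    204957873939201, 134590204477731, 202973548708131]
    (by decide +kernel)

/-- A list of elements. -/
def MY : List (E MK) := E.sub Mlists
    [130333908676626, 77555742474531]
    (by decide +kernel)

/-- The action of the second parabolic subgroup. -/
noncomputable def Mal (k : E MK) : E MK := ev [My * Mc1, Mc1 * My * Mc1 * Ma, Mc1] (Mwt k)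

theorem Mdata : EData Ms Mu Mal ME MT MEl [Mt] MY := by
  constructor <;> decide +kernel

/-- The hypotheses on the centralizer. -/
structure HM {G : Type*} [Group G] (a b x y : G) : Prop where
  rel : RM a b x y
  ne : a ^ 2 ≠ 1
  card : Nat.card (centralizer ({a ^ 2} : Set G)) = 192

theorem HM.emb {G : Type*} [Group G] [Finite G] {a b x y : G} (h : HM a b x y) :
    ∃ φ : E MK →* G, Emb φ Ms ∧ φ Ma = a ∧ φ Mb = b ∧ φ Mx = x ∧ φ My = y := by
  obtain ⟨h1, h2⟩ := (h.rel.prod M_rel).card_le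
  have e : {p | p ∈ [(a, Ma), (b, Mb), (x, Mx), (y, My)]} = {(a, Ma), (b, Mb), (x, Mx), (y, My)} := by
    ext; simp
  obtain ⟨φ, hφ⟩ := exists_hom_of_list (l := [(a, Ma), (b, Mb), (x, Mx), (y, My)]) (e ▸ h1)
    (by rw [e, Mcard]; exact h2) Mtop
  have ha := hφ (a, Ma) (by simp)
  have hs : φ Ms = a ^ 2 := by rw [M_lit.1, map_pow, ha]
  exact ⟨φ, Emb.of_card (inj_of_chk φ (hs ▸ h.ne) fun k => Minj k (Mall k))
    (fun k => Mcomm k (Mall k)) (by rw [hs, h.card, Mcard]), ha,
    hφ (b, Mb) (by simp), hφ (x, Mx) (by simp), hφ (y, My) (by simp)⟩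

end Cfsg.Agent.H7.Asch
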