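import Cfsg.Agent.H7.Asch.Step

/-!
# Two fused classes in the centralizer of alternating type
-/

set_option autoImplicit false
set_option maxRecDepth 100000

namespace Cfsg.Agent.H7.Asch

open Subgroup H5 Equiv L0.Code

/-- A list of elements. -/
def AA : List (E AK) := E.sub Alists
    [1985229328, 1732579378, 1732584193, 1417023538, 1164378403, 1985216803, 1417032208,
    1732575523, 1164390928, 1417028353, 1985220658, 1164387073, 1164382258, 1985225473, 1732588048,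
    1417019683]
    (by decide +kernel)

/-- A table of words. -/
def Aw3t : List (ℕ × List ℕ) :=
    [(1985229328, []), (1732579378, [1]), (1732584193, [0, 0]), (1417023538, [1, 0, 1, 0]),
    (1164378403, [2, 1, 2, 1]), (1985216803, [1, 0, 0]), (1417032208, [0, 1, 2]), (1732575523, [0,
    2, 1]), (1164390928, [0, 1, 0]), (1417028353, [2, 1, 2]), (1985220658, [1, 2, 0]), (1164387073,
    [2, 1, 0]), (1164382258, [0, 1, 2, 1]), (1985225473, [0, 2]), (1732588048, [2, 0]),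
    (1417019683, [1, 2, 1, 0])]

/-- Words. -/
noncomputable def Aw3 (k : E AK) : List ℕ := look Aw3t k.c

/-- A table of words. -/
def Aw4t : List (ℕ × List ℕ) :=
    [(1985229328, []), (1732579378, [1, 0, 0]), (1732584193, [0, 0]), (1417023538, [1, 0, 1, 0]),
    (1164378403, [2, 1, 2, 1]), (1985216803, [1]), (1417032208, [2, 1, 0]), (1732575523, [1, 2,
    0]), (1164390928, [2, 1, 2]), (1417028353, [0, 1, 0]), (1985220658, [0, 2, 1]), (1164387073,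
    [0, 1, 2]), (1164382258, [0, 1, 2, 1]), (1985225473, [0, 2]), (1732588048, [2, 0]),
    (1417019683, [1, 2, 1, 0])]

/-- Words. -/
noncomputable def Aw4 (k : E AK) : List ℕ := look Aw4t k.c

/-- The action of the third parabolic subgroup, same sign. -/
noncomputable def Aal3 (k : E AK) : E AK := ev [Ay * Ac3, Aa2 * Ac3 * Ay, Ac3] (Aw3 k)

/-- The action of the third parabolic subgroup, opposite sign. -/
noncomputable def Aal4 (k : E AK) : E AK :=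
  ev [Ay * As * Ac3, Aa2 * Ac3 * (Ay * As), Ac3] (Aw4 k)

theorem AA_w3 : ∀ k ∈ AA, ev [Aa2, Ay, Ac3] (Aw3 k) = k := by
  decide +kernel

theorem AA_w4 : ∀ k ∈ AA, ev [Aa2, Ay * As, Ac3] (Aw4 k) = k := by
  decide +kernel

theorem AA_cl : ∀ k ∈ AA, k ∈ AT ∧ Aal k ∈ AA ∧ Aal3 k ∈ AA ∧ Aal4 k ∈ AA ∧ k⁻¹ ∈ AA := by
  decide +kernel

theorem AA_same : As ∈ AA ∧ Aal (Aal3 (Aal (Aal3 (Aal As)))) = As ∧
    ∀ l ∈ AE, ∃ k ∈ AA, l * k * l⁻¹ ≠ Aal (Aal3 (Aal (Aal3 (Aal k)))) := by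
  decide +kernel

theorem AA_comm : ∀ k ∈ AA, ∃ j ∈ AA, Aal4 (Aal j) = k ∧ Aal (Aal4 j) = k := by
  decide +kernel

theorem AA_cent : ∀ l ∈ AE, (∀ k ∈ AA, l * k = k * l) → l ∈ AA := by
  decide +kernel

/-- An element. -/
def Ap1 : E AK := E.elt Alists 1732575523 (by decide +kernel)

/-- An element. -/
def Ap2 : E AK := E.elt Alists 1417032208 (by decide +kernel)

/-- An element. -/
def Ap3 : E AK := E.elt Alists 1985216803 (by decide +kernel)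

theorem AA_misc : Ap1 ∈ AA ∧ Ap2 ∈ AA ∧ Ap3 ∈ AA ∧ Aal Aa = Aa * Ap1 ∧ Ay * As * Ac3 = Aa2 * Ap2 ∧
    Ap3 = As * Aa * Aal (Aal Aa⁻¹) ∧ Aa2 = Aa * Aa1 ∧ Aa⁻¹ ∈ AT ∧ Aal Aa⁻¹ ∈ AT ∧ Aal As = Au ∧
    Au * As ∈ AA ∧ Au * (Av * Ay) * Aal4 (Au * As) * As = As * Au ∧ Aa2 ^ 2 = As := by
  decide +kernel

theorem AA_w : ∀ w ∈ AA, Aa * Ap1 * w * Aal4 Ap1⁻¹ * Aa⁻¹ * As * Aal4 (Aal4 w) = Au →
    Aa2 * Ap2 * w⁻¹ * Aal Ap2⁻¹ * Aa2⁻¹ * Ap3 * Aal (Aal w⁻¹) = Aal4 Ap3 → w = As * Au ∨ w = Av * Ay := by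
  decide +kernel

/-- A list of elements. -/
def AH : List (E AK) := E.sub Alists
    [1985229328, 844366183, 1732579378, 19088743, 22312483, 272966518, 1159951888, 591750913,
    271738693, 1980777763, 587289718, 1982005588, 1731351553, 1158689383, 1409378098, 1412567158,
    1728127813, 839939668, 845628688, 23540308, 276190258, 1417028353, 1164378403, 594939973]
    (by decide +kernel)

theorem AH_mul : ∀ a ∈ AH, ∀ b ∈ AH, a * b ∈ AH := by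
  decide +kernel

theorem AH_misc : (1 : E AK) ∈ AH ∧ AH.Nodup ∧ AH.length = 24 ∧ Ax ∈ AH ∧ Ay ∈ AH ∧ Ac3 ∈ AH ∧
    Ac3 * Ac3 = 1 := by
  decide +kernel

/-- The action of `x ρ` on the normal subgroup. -/
noncomputable def Af (k : E AK) : E AK := Ax * Aal k * Ax⁻¹

theorem A_four : ∀ e ∈ AEl, Af e ∈ AEl ∧ Af (Af (Af (Af e))) = e ∧ (Af e = e → e = 1 ∨ e = As * Au * Ac1) := by
  decide +kernel

variable {G : Type*} [Group G]

theorem PA.act3 {φ : E AK →* G} {ρ : G}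
    (h : PA ((φ Ax)⁻¹ * φ Aa * φ Ax) (φ Ax * φ Ab * (φ Ax)⁻¹) (φ Ax) (φ Ay) ρ) :
    ∀ k ∈ AA, ρ * φ k * ρ⁻¹ = φ (Aal3 k) := by
  obtain ⟨-, e1, e2, e3, -⟩ := h
  obtain ⟨-, -, -, -, -, l6, -, -, l9, -⟩ := A_lit
  refine act_of_words (.cons ?_ (.cons ?_ (.cons ?_ .nil))) AA_w3 <;>
    simp only [l6, l9, map_mul, map_inv, e1, e2, e3]

theorem PA.act4 {φ : E AK →* G} {ρ : G}
    (h : PA ((φ Ax)⁻¹ * φ Aa * φ Ax) (φ Ax * φ Ab * (φ Ax)⁻¹) (φ Ax) (φ Ay * φ Aa ^ 2) ρ) :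
    ∀ k ∈ AA, ρ * φ k * ρ⁻¹ = φ (Aal4 k) := by
  obtain ⟨-, e1, e2, e3, -⟩ := h
  obtain ⟨l1, -, -, -, -, l6, -, -, l9, -⟩ := A_lit
  refine act_of_words (.cons ?_ (.cons ?_ (.cons ?_ .nil))) AA_w4 <;>
    simp only [l1, l6, l9, map_mul, map_inv, map_pow, e1, e2, e3]

theorem act_comp {M : Type*} [Group M] {φ : M →* G} {l : List M} {r p : G} {f g : M → M}
    (hf : ∀ k ∈ l, r * φ k * r⁻¹ = φ (f k) ∧ f k ∈ l) (hg : ∀ k ∈ l, p * φ k * p⁻¹ = φ (g k) ∧ g k ∈ l) :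
    ∀ k ∈ l, r * p * φ k * (r * p)⁻¹ = φ (f (g k)) ∧ f (g k) ∈ l := fun k hk => by
  obtain ⟨h1, h2⟩ := hg k hk
  refine ⟨?_, (hf _ h2).2⟩
  rw [← (hf _ h2).1, ← h1]
  group

theorem inv_eq_sq {r : G} (h : r ^ 3 = 1) : r⁻¹ = r * r :=
  inv_eq_of_mul_eq_one_right (by rw [← h, pow_three])

theorem act_inv {M : Type*} [Group M] {φ : M →* G} {r : G} (h : r ^ 3 = 1) {k k1 k2 : M}
    (h1 : r * φ k * r⁻¹ = φ k1) (h2 : r * φ k1 * r⁻¹ = φ k2) : r⁻¹ * φ k * r = φ k2 := by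
  rw [← h2, ← h1]
  calc _ = r * r * φ k * (r * r)⁻¹ := by rw [← inv_eq_sq h, inv_inv]
    _ = _ := by group

variable [Finite G]

theorem HA.same {a b x y r p : G} (h : HA a b x y) (hr : PA a b x y r)
    (hp : PA (x⁻¹ * a * x) (x * b * x⁻¹) x y p) : False := by
  obtain ⟨φ, hφ, rfl, rfl, rfl, rfl⟩ := h.emb
  have k1 : ∀ k ∈ AA, r * φ k * r⁻¹ = φ (Aal k) ∧ Aal k ∈ AA := fun k hk =>
    ⟨hr.act k (AA_cl k hk).1, (AA_cl k hk).2.1⟩
  have k3 : ∀ k ∈ AA, p * φ k * p⁻¹ = φ (Aal3 k) ∧ Aal3 k ∈ AA := fun k hk =>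
    ⟨hp.act3 k hk, (AA_cl k hk).2.2.1⟩
  have k := act_comp k1 (act_comp k3 (act_comp k1 (act_comp k3 k1)))
  obtain ⟨s1, s2, s3⟩ := AA_same
  obtain ⟨l, hl⟩ := hφ.cent _ (conj_eq_iff_comm.1 (by rw [(k _ s1).1, s2]))
  obtain ⟨j, hj, e⟩ := s3 l (Aall l)
  exact e (hφ.inj (by rw [← (k j hj).1, ← hl]; simp))

theorem HA.four {a b x y r : G} (h : HA a b x y) (hr : PA a b x y r) : (x * r) ^ 4 = 1 := by
  obtain ⟨φ, hφ, rfl, rfl, rfl, rfl⟩ := h.emb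
  have k1 : ∀ k ∈ AEl, φ Ax * r * φ k * (φ Ax * r)⁻¹ = φ (Af k) ∧ Af k ∈ AEl := fun k hk =>
    ⟨by simp only [Af, map_mul, map_inv, ← hr.act k (Adata.act k hk).1]; group, (A_four k hk).1⟩
  have k := act_comp k1 (act_comp k1 (act_comp k1 k1))
  have e4 : φ Ax * r * (φ Ax * r * (φ Ax * r * (φ Ax * r))) = (φ Ax * r) ^ 4 := by
    simp only [pow_succ, pow_zero, one_mul, mul_assoc]
  simp only [e4] at k
  have k2 : ∀ e ∈ AEl, (φ Ax * r) ^ 4 * φ e = φ e * (φ Ax * r) ^ 4 := fun e he =>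
    conj_eq_iff_comm.1 (by rw [(k e he).1, (A_four e he).2.1])
  obtain ⟨e, he⟩ := hφ.cent _ (k2 _ Adata.sE)
  have heE := Adata.cent e (Aall e) fun j hj => hφ.comm_iff.1 (he ▸ k2 j hj)
  rcases (A_four e heE).2.2 (hφ.inj (by
    rw [← (k1 e heE).1, he]; generalize φ Ax * r = g; group)) with rfl | rfl
  · rw [← he, map_one]
  exfalso
  obtain ⟨h1, h2, h3, h4, h5, h6, h7⟩ := AH_misc
  obtain ⟨l1, l2, -, -, l5, -, -, -, -, l10⟩ := A_lit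
  obtain ⟨⟨e0, e1, e2, e3, e4, e5, e6, e7, e8⟩, e9, e10, e11, e12⟩ := h.rel
  obtain ⟨e13, e14, e15, e16, e17⟩ := hr
  obtain ⟨-, c1⟩ := te_card (z := φ Ac3) e0 e1 e2 e3 e4 e5 e6 e7 e8 e9 e10 e11 e12 e13 e14 e15 e16 e17
    (by rw [← he]; simp [l1, l2, l5]) (by rw [← map_mul, h7, map_one]) (by simp [l10])
    ((lsub AH h1 AH_mul).map φ) ⟨_, h4, rfl⟩ ⟨_, h5, rfl⟩ ⟨_, h6, rfl⟩
  rw [card_map_of_injective hφ.inj, card_lsub h2, h3] at c1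
  have c2 : (⊤ : Subgroup (E AK)).map φ ≤ closure {φ Aa, φ Ab, φ Ax, φ Ay, r, φ Ac3} := by
    rw [← Atop, MonoidHom.map_closure]
    refine closure_mono ?_
    rintro _ ⟨k, hk, rfl⟩
    have : k ∈ [Aa, Ab, Ax, Ay] := hk
    simp only [List.mem_cons, List.not_mem_nil, or_false] at this
    rcases this with rfl | rfl | rfl | rfl <;> simp
  have c3 := card_le_of_le c2
  rw [card_map_of_injective hφ.inj, card_top, Acard] at c3
  omega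

theorem HA.comm {a b x y r p : G} (h : HA a b x y) (hr : PA a b x y r)
    (hp : PA (x⁻¹ * a * x) (x * b * x⁻¹) x (y * a ^ 2) p) :
    ∃ p, PA (x⁻¹ * a * x) (x * b * x⁻¹) x (y * a ^ 2) p ∧ r * p * r⁻¹ * p⁻¹ = a ^ 2 * (a * b) := by
  obtain ⟨φ, hφ, rfl, rfl, rfl, rfl⟩ := h.emb
  have k1 := hr.act
  have k4 := hp.act4
  obtain ⟨m1, m2, m3, m4, m5, m6, m7, m8, m9, n1, n2, n3, n4⟩ := AA_misc
  obtain ⟨l1, l2, l3, -, -, l6, -, -, l9, -⟩ := A_lit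
  have hw : ∀ k ∈ AA, r * p * r⁻¹ * p⁻¹ * φ k = φ k * (r * p * r⁻¹ * p⁻¹) := fun k hk => by
    obtain ⟨j, hj, e1, e2⟩ := AA_comm k hk
    rw [← conj_eq_iff_comm]
    nth_rewrite 1 [← e1]
    rw [← e2, ← k4 _ (AA_cl j hj).2.1, ← k1 j (AA_cl j hj).1,
      ← k1 _ (AA_cl _ (AA_cl j hj).2.2.2.1).1, ← k4 j hj]
    group
  obtain ⟨w, ew⟩ := hφ.cent _ (hw _ AA_same.1)
  have wA := AA_cent w (Aall w) fun k hk => hφ.comm_iff.1 (ew ▸ hw k hk)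
  have wi := (AA_cl w wA).2.2.2.2
  have r3 := hr.1
  have p3 := hp.1
  have rq : φ Aa1 * r * (φ Aa1)⁻¹ * r = φ As := by simpa [l1, l3] using hr.2.2.2.2
  have pq : φ Aa * p * (φ Aa)⁻¹ * p = φ As := by
    have := hp.2.2.2.2
    rw [← n4, l6]
    simpa [mul_assoc] using this
  have pa : p * φ Aa2 * p⁻¹ = φ Aa2 * φ Ap2 := by
    rw [← map_mul, ← m5]
    simpa only [l1, l6, l9, map_mul, map_inv, map_pow] using hp.2.1
  have ra : r * φ Aa * r⁻¹ = φ Aa * φ Ap1 := by rw [k1 _ Amisc.2.2.2.2.2.2.2.2.2.1, m4, map_mul]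
  have rs : r * φ As * r⁻¹ = φ Au := by rw [k1 _ (AA_cl _ AA_same.1).1, n1]
  have rq2 : φ Aa2 * r * (φ Aa2)⁻¹ * r = φ Ap3 := by
    rw [m6, m7, map_mul φ (As * Aa), ← hφ.comm Aa]
    simp only [map_mul, ← act_inv r3 (k1 _ m8) (k1 _ m9), ← rq, map_inv]
    group
  rcases AA_w w wA (hφ.inj (by
      simp only [map_mul, ← k4 _ (AA_cl _ m1).2.2.2.2, ← act_inv p3 (k4 w wA)
        (k4 _ (AA_cl w wA).2.2.2.1), ← rs, map_inv, ew]
      rw [← pq, ← ra, eq_inv_mul_of_mul_eq ra.symm]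
      group)) (hφ.inj (by
      simp only [map_mul, ← k1 _ (AA_cl _ (AA_cl _ m2).2.2.2.2).1, ← act_inv r3 (k1 _ (AA_cl _ wi).1)
        (k1 _ (AA_cl _ (AA_cl _ wi).2.1).1), ← k4 _ m3, map_inv, ew]
      rw [← rq2, ← pa, eq_inv_mul_of_mul_eq pa.symm]
      group)) with rfl | rfl
  · exact ⟨p, hp, by rw [← ew]; simp [l1, l2]⟩
  have hs : ∀ k, As * k * As⁻¹ = k := fun k => conj_eq_iff_comm.2 (hφ.comm k).symm
  refine ⟨φ As * p * (φ As)⁻¹, ?_, ?_⟩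
  · have := hp.map (MulAut.conj (φ As)).toMonoidHom
    simpa only [MulEquiv.coe_toMonoidHom, MulAut.conj_apply, ← map_mul, ← map_inv, ← map_pow, hs]
      using this
  · have ss : (φ As)⁻¹ = φ As := inv_eq_of_mul_eq_one_left (by rw [← map_mul, Amisc.1, map_one])
    have uu : (φ Au)⁻¹ = φ Au := inv_eq_of_mul_eq_one_left (by rw [← map_mul, Amisc.2.2.2.1, map_one])
    rw [← map_pow, ← map_mul, ← map_mul, ← l1, ← l2, ← n3, map_mul, map_mul, map_mul, ew, ← k4 _ n2,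
      map_mul]
    calc _ = (r * φ As * r⁻¹) * (r * p * r⁻¹) * (r * φ As * r⁻¹)⁻¹ * φ As * p⁻¹ * (φ As)⁻¹ := by group
      _ = _ := by rw [rs, uu, ss]; group

end Cfsg.Agent.H7.Asch
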