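import Cfsg.Agent.H4.TC

/-!
# Coset enumerations for the centralizer
-/

set_option autoImplicit false
set_option maxRecDepth 100000
set_option linter.unusedSimpArgs false

namespace Cfsg.Agent.H7.Asch

open Cfsg.Agent.H4

/-- Certificate data. -/
def tb_par : Trie :=
    (.node (.node (.node (.node (.node (.leaf (nat_lit 0)) (.leaf (nat_lit 1541))) (.node (.leaf
    (nat_lit 261)) (.leaf (nat_lit 3073)))) (.node (.node (.leaf (nat_lit 4)) (.leaf (nat_lit
    2051))) (.node (.leaf (nat_lit 773)) (.leaf (nat_lit 4097))))) (.node (.node (.node (.leaf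
    (nat_lit 2)) (.leaf (nat_lit 1797))) (.node (.leaf (nat_lit 517)) (.leaf (nat_lit 3329))))
    (.node (.node (.leaf (nat_lit 259)) (.leaf (nat_lit 2307))) (.node (.leaf (nat_lit 1029))
    (.leaf (nat_lit 4099)))))) (.node (.node (.node (.node (.leaf (nat_lit 1)) (.leaf (nat_lit
    1542))) (.node (.leaf (nat_lit 262)) (.leaf (nat_lit 3074)))) (.node (.node (.leaf (nat_lit
    257)) (.leaf (nat_lit 2052))) (.node (.leaf (nat_lit 774)) (.leaf (nat_lit 4098))))) (.node
    (.node (.node (.leaf (nat_lit 3)) (.leaf (nat_lit 1798))) (.node (.leaf (nat_lit 518)) (.leaf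
    (nat_lit 3330)))) (.node (.node (.leaf (nat_lit 260)) (.leaf (nat_lit 2308))) (.node (.leaf
    (nat_lit 1030)) (.leaf (nat_lit 4100)))))))

/-- Certificate data. -/
def tb_fact : Trie :=
    (.node (.node (.node (.node (.node (.node (.node (.leaf (nat_lit 5)) (.leaf (nat_lit 203268)))
    (.leaf (nat_lit 115717))) (.node (.node (.leaf (nat_lit 26369)) (.leaf (nat_lit 163075)))
    (.leaf (nat_lit 182531)))) (.node (.node (.node (.leaf (nat_lit 42245)) (.leaf (nat_lit
    233473))) (.leaf (nat_lit 135430))) (.node (.node (.leaf (nat_lit 90630)) (.leaf (nat_lit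
    204294))) (.leaf (nat_lit 199681))))) (.node (.node (.node (.node (.leaf (nat_lit 32772))
    (.leaf (nat_lit 129794))) (.leaf (nat_lit 118532))) (.node (.node (.leaf (nat_lit 67846))
    (.leaf (nat_lit 249859))) (.leaf (nat_lit 190724)))) (.node (.node (.node (.leaf (nat_lit
    34305)) (.leaf (nat_lit 146435))) (.leaf (nat_lit 165891))) (.node (.node (.leaf (nat_lit
    99077)) (.leaf (nat_lit 163585))) (.leaf (nat_lit 121090)))))) (.node (.node (.node (.node
    (.node (.leaf (nat_lit 16386)) (.leaf (nat_lit 170501))) (.leaf (nat_lit 123910))) (.node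
    (.node (.leaf (nat_lit 65797)) (.leaf (nat_lit 228613))) (.leaf (nat_lit 177665)))) (.node
    (.node (.node (.leaf (nat_lit 49411)) (.leaf (nat_lit 220165))) (.leaf (nat_lit 157446)))
    (.node (.node (.leaf (nat_lit 68353)) (.leaf (nat_lit 258052))) (.leaf (nat_lit 186374)))))
    (.node (.node (.node (.node (.leaf (nat_lit 17665)) (.leaf (nat_lit 211716))) (.leaf (nat_lit
    132613))) (.node (.node (.leaf (nat_lit 82437)) (.leaf (nat_lit 146945))) (.leaf (nat_lit
    169729)))) (.node (.node (.node (.leaf (nat_lit 57604)) (.leaf (nat_lit 241666))) (.leaf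
    (nat_lit 174084))) (.node (.node (.leaf (nat_lit 101638)) (.leaf (nat_lit 212742))) (.leaf
    (nat_lit 216321))))))) (.node (.node (.node (.node (.node (.node (.leaf (nat_lit 8193)) (.leaf
    (nat_lit 211459))) (.leaf (nat_lit 110084))) (.node (.node (.leaf (nat_lit 34562)) (.leaf
    (nat_lit 179462))) (.leaf (nat_lit 95747)))) (.node (.node (.node (.leaf (nat_lit 41988))
    (.leaf (nat_lit 154625))) (.leaf (nat_lit 149253))) (.node (.node (.leaf (nat_lit 84742))
    (.leaf (nat_lit 187909))) (.leaf (nat_lit 120833))))) (.node (.node (.node (.node (.leaf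
    (nat_lit 41217)) (.leaf (nat_lit 203523))) (.leaf (nat_lit 102147))) (.node (.node (.leaf
    (nat_lit 67842)) (.leaf (nat_lit 155139))) (.leaf (nat_lit 96004)))) (.node (.node (.node
    (.leaf (nat_lit 26114)) (.leaf (nat_lit 234243))) (.leaf (nat_lit 87043))) (.node (.node (.leaf
    (nat_lit 107270)) (.leaf (nat_lit 147202))) (.leaf (nat_lit 194822)))))) (.node (.node (.node
    (.node (.node (.leaf (nat_lit 24579)) (.leaf (nat_lit 224514))) (.leaf (nat_lit 118534)))
    (.node (.node (.leaf (nat_lit 73990)) (.leaf (nat_lit 146692))) (.leaf (nat_lit 169474))))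
    (.node (.node (.node (.leaf (nat_lit 17923)) (.leaf (nat_lit 171014))) (.leaf (nat_lit
    152326))) (.node (.node (.leaf (nat_lit 84738)) (.leaf (nat_lit 155396))) (.leaf (nat_lit
    207874))))) (.node (.node (.node (.node (.leaf (nat_lit 25860)) (.leaf (nat_lit 178949)))
    (.leaf (nat_lit 140806))) (.node (.node (.leaf (nat_lit 76290)) (.leaf (nat_lit 163330)))
    (.leaf (nat_lit 177922)))) (.node (.node (.node (.leaf (nat_lit 18180)) (.leaf (nat_lit
    154882))) (.leaf (nat_lit 87300))) (.node (.node (.leaf (nat_lit 101636)) (.leaf (nat_lit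
    196357))) (.leaf (nat_lit 129537))))))))

/-- Certificate data. -/
def tb_just : Trie :=
    (.node (.node (.node (.node (.node (.node (.node (.leaf (nat_lit 1)) (.leaf (nat_lit
    31593903983624216))) (.leaf (nat_lit 0))) (.node (.node (.leaf (nat_lit 7340464181280778))
    (.leaf (nat_lit 43787625374613531))) (.leaf (nat_lit 0)))) (.node (.node (.node (.leaf (nat_lit
    184611559270951223301)) (.leaf (nat_lit 0))) (.leaf (nat_lit 83902186258444))) (.node (.node
    (.leaf (nat_lit 0)) (.leaf (nat_lit 654723896322740168556579))) (.leaf (nat_lit 0))))) (.node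
    (.node (.node (.node (.leaf (nat_lit 0)) (.leaf (nat_lit 35602766328168470))) (.leaf (nat_lit
    302583172825318586449937))) (.node (.node (.leaf (nat_lit 39749922455564)) (.leaf (nat_lit 0)))
    (.leaf (nat_lit 0)))) (.node (.node (.node (.leaf (nat_lit 5359109868290056)) (.leaf (nat_lit
    98610492422144141541441568))) (.leaf (nat_lit 0))) (.node (.node (.leaf (nat_lit 0)) (.leaf
    (nat_lit 49162141290397706))) (.leaf (nat_lit 32211803748630550)))))) (.node (.node (.node
    (.node (.node (.leaf (nat_lit 0)) (.leaf (nat_lit 483829289843793120854042))) (.leaf (nat_lit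
    0))) (.node (.node (.leaf (nat_lit 0)) (.leaf (nat_lit 2480912722432358678557))) (.leaf
    (nat_lit 26792216446042120)))) (.node (.node (.node (.leaf (nat_lit 0)) (.leaf (nat_lit
    586702737893232973578271))) (.leaf (nat_lit 0))) (.node (.node (.leaf (nat_lit
    777502008327207714831)) (.leaf (nat_lit 0))) (.leaf (nat_lit 116236365504875077040537621)))))
    (.node (.node (.node (.node (.leaf (nat_lit 1129245686562819)) (.leaf (nat_lit
    33282796793561116))) (.leaf (nat_lit 0))) (.node (.node (.leaf (nat_lit 0)) (.leaf (nat_lit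
    42943251984089096))) (.leaf (nat_lit 28816451712516106)))) (.node (.node (.node (.leaf (nat_lit
    0)) (.leaf (nat_lit 0))) (.leaf (nat_lit 0))) (.node (.node (.leaf (nat_lit 61826054357004))
    (.leaf (nat_lit 616371911529472205389861))) (.leaf (nat_lit 0))))))) (.node (.node (.node
    (.node (.node (.node (.leaf (nat_lit 0)) (.leaf (nat_lit 34132676332159001))) (.leaf (nat_lit
    289098386734637610565650))) (.node (.node (.leaf (nat_lit 2255222902816779)) (.leaf (nat_lit
    2037038506108676014103))) (.leaf (nat_lit 15533217377615879)))) (.node (.node (.node (.leaf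
    (nat_lit 3663611398651910)) (.leaf (nat_lit 1515161870520117690398))) (.leaf (nat_lit 0)))
    (.node (.node (.leaf (nat_lit 48588965150732)) (.leaf (nat_lit 454106098932256153665572)))
    (.leaf (nat_lit 18928578003664916))))) (.node (.node (.node (.node (.leaf (nat_lit 0)) (.leaf
    (nat_lit 36165716281589787))) (.leaf (nat_lit 284564538730964595376147))) (.node (.node (.leaf
    (nat_lit 170042159213989700435981)) (.leaf (nat_lit 41254402123825159))) (.leaf (nat_lit
    14964804225794054)))) (.node (.node (.node (.leaf (nat_lit 1692238589657097)) (.leaf (nat_lit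
    714703254719591390511137))) (.leaf (nat_lit 13276985157681159))) (.node (.node (.leaf (nat_lit
    0)) (.leaf (nat_lit 46897147337179147))) (.leaf (nat_lit 2018077753379911958551)))))) (.node
    (.node (.node (.node (.node (.leaf (nat_lit 0)) (.leaf (nat_lit 0))) (.leaf (nat_lit
    70665097052172))) (.node (.node (.leaf (nat_lit 0)) (.leaf (nat_lit
    98667456688417549532463138))) (.leaf (nat_lit 24816394050928649)))) (.node (.node (.node (.leaf
    (nat_lit 3388785031315463)) (.leaf (nat_lit 106575162595466967735795733))) (.leaf (nat_lit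
    90525025828876))) (.node (.node (.leaf (nat_lit 869738270766638891024)) (.leaf (nat_lit
    44645347523493894))) (.leaf (nat_lit 0))))) (.node (.node (.node (.node (.leaf (nat_lit
    1692195639984132)) (.leaf (nat_lit 2037033417474373386269))) (.leaf (nat_lit 0))) (.node (.node
    (.leaf (nat_lit 795807179266544959502)) (.leaf (nat_lit 45208245937307657))) (.leaf (nat_lit
    25942328317509643)))) (.node (.node (.node (.leaf (nat_lit 1129322995974150)) (.leaf (nat_lit
    41254350584217622))) (.leaf (nat_lit 15258322290802694))) (.node (.node (.leaf (nat_lit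
    264563275852161388773393)) (.leaf (nat_lit 578723119621997215481894))) (.leaf (nat_lit
    20621877450047508))))))))

/-- Certificate data. -/
def tb_rel : Trie :=
    (.node (.node (.node (.node (.node (.node (.leaf (nat_lit 0)) (.leaf (nat_lit
    432914029019727107))) (.leaf (nat_lit 1693273744016643))) (.node (.leaf (nat_lit 50528770))
    (.leaf (nat_lit 568469003567622)))) (.node (.node (.node (.leaf (nat_lit 50463235)) (.leaf
    (nat_lit 849935457322502))) (.leaf (nat_lit 16843009))) (.node (.leaf (nat_lit 6605693583617))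
    (.leaf (nat_lit 2224809903362))))) (.node (.node (.node (.node (.leaf (nat_lit 33686275))
    (.leaf (nat_lit 1132514240692998))) (.leaf (nat_lit 33751810))) (.node (.leaf (nat_lit 328965))
    (.leaf (nat_lit 17039875)))) (.node (.node (.leaf (nat_lit 67175170)) (.leaf (nat_lit
    33816835))) (.node (.leaf (nat_lit 5506182021377)) (.leaf (nat_lit 432632549748114692))))))
    (.node (.node (.node (.node (.node (.leaf (nat_lit 33686018)) (.leaf (nat_lit
    1132522797073157))) (.leaf (nat_lit 1412885427521028))) (.node (.leaf (nat_lit 50463745))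
    (.leaf (nat_lit 16843780)))) (.node (.node (.leaf (nat_lit 67174660)) (.leaf (nat_lit
    1103907389957))) (.node (.leaf (nat_lit 5501870277122)) (.leaf (nat_lit 569555697336582)))))
    (.node (.node (.node (.node (.leaf (nat_lit 2207697142022)) (.leaf (nat_lit 849939769197317)))
    (.leaf (nat_lit 145808457474638597))) (.node (.leaf (nat_lit 1409599777342721)) (.leaf (nat_lit
    1103890612742)))) (.node (.node (.leaf (nat_lit 67240705)) (.leaf (nat_lit 33751300))) (.node
    (.leaf (nat_lit 1411798800729347)) (.leaf (nat_lit 1695459899016452)))))))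

/-- Certificate data. -/
def tb_rc : Trie :=
    (.node (.node (.node (.node (.node (.node (.leaf (nat_lit 18)) (.leaf (nat_lit 17))) (.leaf
    (nat_lit 131082))) (.node (.leaf (nat_lit 262148)) (.leaf (nat_lit 655368)))) (.node (.node
    (.node (.leaf (nat_lit 131076)) (.leaf (nat_lit 393227))) (.leaf (nat_lit 2))) (.node (.leaf
    (nat_lit 7)) (.leaf (nat_lit 655366))))) (.node (.node (.node (.node (.leaf (nat_lit 4)) (.leaf
    (nat_lit 10))) (.leaf (nat_lit 393220))) (.node (.leaf (nat_lit 0)) (.leaf (nat_lit 131084))))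
    (.node (.node (.leaf (nat_lit 393229)) (.leaf (nat_lit 13))) (.node (.leaf (nat_lit 131078))
    (.leaf (nat_lit 524305)))))) (.node (.node (.node (.node (.node (.leaf (nat_lit 3)) (.leaf
    (nat_lit 786443))) (.leaf (nat_lit 524298))) (.node (.leaf (nat_lit 131085)) (.leaf (nat_lit
    262149)))) (.node (.node (.leaf (nat_lit 393221)) (.leaf (nat_lit 262151))) (.node (.leaf
    (nat_lit 393223)) (.leaf (nat_lit 8))))) (.node (.node (.node (.node (.leaf (nat_lit 655367))
    (.leaf (nat_lit 131083))) (.leaf (nat_lit 15))) (.node (.leaf (nat_lit 9)) (.leaf (nat_lit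
    393222)))) (.node (.node (.leaf (nat_lit 12)) (.leaf (nat_lit 393228))) (.node (.leaf (nat_lit
    11)) (.leaf (nat_lit 655371)))))))

/-- Certificate data. -/
def tb_lv : Trie :=
    (.node (.node (.node (.node (.node (.leaf (nat_lit 0)) (.leaf (nat_lit 16))) (.node (.leaf
    (nat_lit 8)) (.leaf (nat_lit 24)))) (.node (.node (.leaf (nat_lit 4)) (.leaf (nat_lit 20)))
    (.node (.leaf (nat_lit 12)) (.leaf (nat_lit 28))))) (.node (.node (.node (.leaf (nat_lit 2))
    (.leaf (nat_lit 18))) (.node (.leaf (nat_lit 10)) (.leaf (nat_lit 26)))) (.node (.node (.leaf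
    (nat_lit 6)) (.leaf (nat_lit 22))) (.node (.leaf (nat_lit 14)) (.leaf (nat_lit 30)))))) (.node
    (.node (.node (.node (.leaf (nat_lit 1)) (.leaf (nat_lit 17))) (.node (.leaf (nat_lit 9))
    (.leaf (nat_lit 25)))) (.node (.node (.leaf (nat_lit 5)) (.leaf (nat_lit 21))) (.node (.leaf
    (nat_lit 13)) (.leaf (nat_lit 29))))) (.node (.node (.node (.leaf (nat_lit 3)) (.leaf (nat_lit
    19))) (.node (.leaf (nat_lit 11)) (.leaf (nat_lit 27)))) (.node (.node (.leaf (nat_lit 7))
    (.leaf (nat_lit 23))) (.node (.leaf (nat_lit 15)) (.leaf (nat_lit 31)))))))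

/-- Certificate data. -/
def tb_tb : Trie :=
    (.node (.node (.node (.node (.node (.node (.node (.leaf (nat_lit 258)) (.leaf (nat_lit 0)))
    (.leaf (nat_lit 774))) (.node (.node (.leaf (nat_lit 7312)) (.leaf (nat_lit 4433))) (.leaf
    (nat_lit 7848)))) (.node (.node (.node (.leaf (nat_lit 2347)) (.leaf (nat_lit 2345))) (.leaf
    (nat_lit 5208))) (.node (.node (.leaf (nat_lit 3698)) (.leaf (nat_lit 7857))) (.leaf (nat_lit
    6785))))) (.node (.node (.node (.node (.leaf (nat_lit 1827)) (.leaf (nat_lit 3648))) (.leaf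
    (nat_lit 9))) (.node (.node (.leaf (nat_lit 5735)) (.leaf (nat_lit 7319))) (.leaf (nat_lit
    2650)))) (.node (.node (.node (.leaf (nat_lit 6256)) (.leaf (nat_lit 3389))) (.leaf (nat_lit
    3391))) (.node (.node (.leaf (nat_lit 4754)) (.leaf (nat_lit 6804))) (.leaf (nat_lit 4504))))))
    (.node (.node (.node (.node (.node (.leaf (nat_lit 5)) (.leaf (nat_lit 2604))) (.leaf (nat_lit
    1823))) (.node (.node (.leaf (nat_lit 7583)) (.leaf (nat_lit 4951))) (.leaf (nat_lit 8119))))
    (.node (.node (.node (.leaf (nat_lit 2871)) (.leaf (nat_lit 2867))) (.leaf (nat_lit 5471)))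
    (.node (.node (.leaf (nat_lit 3966)) (.leaf (nat_lit 5252))) (.leaf (nat_lit 6530))))) (.node
    (.node (.node (.node (.leaf (nat_lit 1048)) (.leaf (nat_lit 4172))) (.leaf (nat_lit 534)))
    (.node (.node (.leaf (nat_lit 5476)) (.leaf (nat_lit 6261))) (.leaf (nat_lit 2914)))) (.node
    (.node (.node (.leaf (nat_lit 6521)) (.leaf (nat_lit 3911))) (.leaf (nat_lit 3913))) (.node
    (.node (.leaf (nat_lit 4524)) (.leaf (nat_lit 5810))) (.leaf (nat_lit 4778))))))) (.node (.node
    (.node (.node (.node (.node (.leaf (nat_lit 1290)) (.leaf (nat_lit 2084))) (.leaf (nat_lit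
    1556))) (.node (.node (.leaf (nat_lit 8123)) (.leaf (nat_lit 1615))) (.leaf (nat_lit 7591))))
    (.node (.node (.node (.leaf (nat_lit 2607)) (.leaf (nat_lit 295))) (.leaf (nat_lit 5728)))
    (.node (.node (.leaf (nat_lit 3191)) (.leaf (nat_lit 8125))) (.leaf (nat_lit 7053))))) (.node
    (.node (.node (.node (.leaf (nat_lit 524)) (.leaf (nat_lit 1296))) (.leaf (nat_lit 1043)))
    (.node (.node (.leaf (nat_lit 5999)) (.leaf (nat_lit 7587))) (.leaf (nat_lit 2141)))) (.node
    (.node (.node (.leaf (nat_lit 6780)) (.leaf (nat_lit 827))) (.leaf (nat_lit 3651))) (.node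
    (.node (.leaf (nat_lit 4253)) (.leaf (nat_lit 7076))) (.leaf (nat_lit 5024)))))) (.node (.node
    (.node (.node (.node (.leaf (nat_lit 1563)) (.leaf (nat_lit 3128))) (.leaf (nat_lit 1295)))
    (.node (.node (.leaf (nat_lit 7855)) (.leaf (nat_lit 1877))) (.leaf (nat_lit 7322)))) (.node
    (.node (.node (.leaf (nat_lit 2100)) (.leaf (nat_lit 561))) (.leaf (nat_lit 5995))) (.node
    (.node (.leaf (nat_lit 3463)) (.leaf (nat_lit 5518))) (.leaf (nat_lit 6282))))) (.node (.node
    (.node (.node (.leaf (nat_lit 800)) (.leaf (nat_lit 4690))) (.leaf (nat_lit 285))) (.node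
    (.node (.leaf (nat_lit 5228)) (.leaf (nat_lit 6523))) (.leaf (nat_lit 2409)))) (.node (.node
    (.node (.leaf (nat_lit 7049)) (.leaf (nat_lit 1093))) (.leaf (nat_lit 3146))) (.node (.node
    (.leaf (nat_lit 5048)) (.leaf (nat_lit 6078))) (.leaf (nat_lit 4277))))))))

/-- Certificate data. -/
def tb_C : TC.Cert := ⟨5, 31, 8, 255, 1413984905396736, 96, tb_par, tb_fact, tb_just, tb_rel, 37⟩

/-- Certificate data. -/
def tb_rs : List (List ℕ) := [[5, 5, 5], [1, 1, 1, 1], [3, 3, 2, 2], [5, 1, 1, 6, 2, 2], [6, 1, 5, 5, 2, 6, 2], [6, 3, 5, 5, 4, 6, 4], [1, 3, 2, 4], [1, 5, 3, 6, 2, 5, 4, 6], [5, 1, 6, 3, 5, 2, 6, 4]]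

/-- Certificate data. -/
def tb_gl : List ℕ := [1, 8195, 16389]

theorem tb_h1 : allB tb_C.factChk 96 = true := by decide +kernel

theorem tb_h2 : tb_C.finChk 96 32 tb_lv tb_tb tb_gl = true := by decide +kernel

theorem tb_h3 : TC.relChk tb_C.ivc tb_rs tb_C.rel tb_rc tb_C.nrel = true := by decide +kernel

theorem tb_bound {G : Type*} [Group G] {a b x : G}
    (r0 : x * x * x = 1)
    (r1 : a * a * a * a = 1)
    (r2 : b * b * a⁻¹ * a⁻¹ = 1)
    (r3 : x * a * a * x⁻¹ * a⁻¹ * a⁻¹ = 1)
    (r4 : x⁻¹ * a * x * x * a⁻¹ * x⁻¹ * a⁻¹ = 1)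
    (r5 : x⁻¹ * b * x * x * b⁻¹ * x⁻¹ * b⁻¹ = 1)
    (r6 : a * b * a⁻¹ * b⁻¹ = 1)
    (r7 : a * x * b * x⁻¹ * a⁻¹ * x * b⁻¹ * x⁻¹ = 1)
    (r8 : x * a * x⁻¹ * b * x * a⁻¹ * x⁻¹ * b⁻¹ = 1)
    (H : Subgroup G) [Finite H] (m5 : x ∈ H) :
    Finite (Subgroup.closure ({a, b, x} : Set G)) ∧
      Nat.card (Subgroup.closure ({a, b, x} : Set G)) ≤ 32 * Nat.card H := by
  have hL : TC.Lett (TC.lett [a, a⁻¹, b, b⁻¹, x, x⁻¹]) tb_C.ivc :=
    TC.lett_ok (show Nat.shiftRight tb_C.ivc (8 * 7) = 0 by decide +kernel) (by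
      intro a ha
      change a < 7 at ha
      interval_cases a
      · exact inv_one.symm
      · rfl
      · exact (inv_inv _).symm
      · rfl
      · exact (inv_inv _).symm
      · rfl
      · exact (inv_inv _).symm)
  have h := TC.card_le tb_h1 tb_h2 tb_h3 (by decide) hL (by
    simp only [tb_rs, List.forall_mem_cons]
    refine ⟨?_, ?_, ?_, ?_, ?_, ?_, ?_, ?_, ?_, List.forall_mem_nil _⟩
    · show x * (x * (x * 1)) = 1
      simp only [mul_assoc, mul_one] at r0 ⊢
      exact r0
    · show a * (a * (a * (a * 1))) = 1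
      simp only [mul_assoc, mul_one] at r1 ⊢
      exact r1
    · show b * (b * (a⁻¹ * (a⁻¹ * 1))) = 1
      simp only [mul_assoc, mul_one] at r2 ⊢
      exact r2
    · show x * (a * (a * (x⁻¹ * (a⁻¹ * (a⁻¹ * 1))))) = 1
      simp only [mul_assoc, mul_one] at r3 ⊢
      exact r3
    · show x⁻¹ * (a * (x * (x * (a⁻¹ * (x⁻¹ * (a⁻¹ * 1)))))) = 1
      simp only [mul_assoc, mul_one] at r4 ⊢
      exact r4
    · show x⁻¹ * (b * (x * (x * (b⁻¹ * (x⁻¹ * (b⁻¹ * 1)))))) = 1
      simp only [mul_assoc, mul_one] at r5 ⊢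
      exact r5
    · show a * (b * (a⁻¹ * (b⁻¹ * 1))) = 1
      simp only [mul_assoc, mul_one] at r6 ⊢
      exact r6
    · show a * (x * (b * (x⁻¹ * (a⁻¹ * (x * (b⁻¹ * (x⁻¹ * 1))))))) = 1
      simp only [mul_assoc, mul_one] at r7 ⊢
      exact r7
    · show x * (a * (x⁻¹ * (b * (x * (a⁻¹ * (x⁻¹ * (b⁻¹ * 1))))))) = 1
      simp only [mul_assoc, mul_one] at r8 ⊢
      exact r8) H
    (TC.forall_subs (K := 7) (by decide +kernel) (by
      intro a ha hb
      interval_cases a
      · exact absurd hb (by decide +kernel)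
      · exact absurd hb (by decide +kernel)
      · exact absurd hb (by decide +kernel)
      · exact absurd hb (by decide +kernel)
      · exact absurd hb (by decide +kernel)
      · exact m5
      · exact H.inv_mem m5))
  have e : {g₀ | ∃ ak ∈ tb_gl, TC.lett [a, a⁻¹, b, b⁻¹, x, x⁻¹] (ak % 256) = g₀} =
      {a, b, x} := by
    ext g₀
    simp only [tb_gl, List.mem_cons, List.not_mem_nil, or_false, exists_eq_or_imp,
      exists_eq_left, Set.mem_ofPred_eq, Set.mem_insert_iff, Set.mem_singleton_iff]
    exact or_congr eq_comm (or_congr eq_comm (eq_comm))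
  rw [e] at h
  exact h

theorem tb_card {G : Type*} [Group G] {a b x : G}
    (e0 : x ^ 3 = 1)
    (e1 : a ^ 4 = 1)
    (e2 : b ^ 2 = a ^ 2)
    (e3 : x * a ^ 2 = a ^ 2 * x)
    (e4 : x⁻¹ * a * x = a * (x * a * x⁻¹))
    (e5 : x⁻¹ * b * x = b * (x * b * x⁻¹))
    (e6 : a * b = b * a)
    (e7 : a * (x * b * x⁻¹) = x * b * x⁻¹ * a)
    (e8 : x * a * x⁻¹ * b = b * (x * a * x⁻¹))
    (H : Subgroup G) [Finite H] (mx : x ∈ H) :
    Finite (Subgroup.closure ({a, b, x} : Set G)) ∧
      Nat.card (Subgroup.closure ({a, b, x} : Set G)) ≤ 32 * Nat.card H := by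
  refine tb_bound ?_ ?_ ?_ ?_ ?_ ?_ ?_ ?_ ?_ H mx
  · have h := mul_inv_eq_one.mpr e0
    simp only [pow_succ, pow_zero, mul_inv_rev, inv_inv, inv_one, one_mul, mul_one, mul_assoc,
      mul_inv_cancel_left, inv_mul_cancel_left, mul_inv_cancel, inv_mul_cancel] at h ⊢
    exact h
  · have h := mul_inv_eq_one.mpr e1
    simp only [pow_succ, pow_zero, mul_inv_rev, inv_inv, inv_one, one_mul, mul_one, mul_assoc,
      mul_inv_cancel_left, inv_mul_cancel_left, mul_inv_cancel, inv_mul_cancel] at h ⊢
    exact h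
  · have h := mul_inv_eq_one.mpr e2
    simp only [pow_succ, pow_zero, mul_inv_rev, inv_inv, inv_one, one_mul, mul_one, mul_assoc,
      mul_inv_cancel_left, inv_mul_cancel_left, mul_inv_cancel, inv_mul_cancel] at h ⊢
    exact h
  · have h := mul_inv_eq_one.mpr e3
    simp only [pow_succ, pow_zero, mul_inv_rev, inv_inv, inv_one, one_mul, mul_one, mul_assoc,
      mul_inv_cancel_left, inv_mul_cancel_left, mul_inv_cancel, inv_mul_cancel] at h ⊢
    exact h
  · have h := mul_inv_eq_one.mpr e4
    simp only [pow_succ, pow_zero, mul_inv_rev, inv_inv, inv_one, one_mul, mul_one, mul_assoc,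
      mul_inv_cancel_left, inv_mul_cancel_left, mul_inv_cancel, inv_mul_cancel] at h ⊢
    exact h
  · have h := mul_inv_eq_one.mpr e5
    simp only [pow_succ, pow_zero, mul_inv_rev, inv_inv, inv_one, one_mul, mul_one, mul_assoc,
      mul_inv_cancel_left, inv_mul_cancel_left, mul_inv_cancel, inv_mul_cancel] at h ⊢
    exact h
  · have h := mul_inv_eq_one.mpr e6
    simp only [pow_succ, pow_zero, mul_inv_rev, inv_inv, inv_one, one_mul, mul_one, mul_assoc,
      mul_inv_cancel_left, inv_mul_cancel_left, mul_inv_cancel, inv_mul_cancel] at h ⊢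
    exact h
  · have h := mul_inv_eq_one.mpr e7
    simp only [pow_succ, pow_zero, mul_inv_rev, inv_inv, inv_one, one_mul, mul_one, mul_assoc,
      mul_inv_cancel_left, inv_mul_cancel_left, mul_inv_cancel, inv_mul_cancel] at h ⊢
    exact h
  · have h := mul_inv_eq_one.mpr e8
    simp only [pow_succ, pow_zero, mul_inv_rev, inv_inv, inv_one, one_mul, mul_one, mul_assoc,
      mul_inv_cancel_left, inv_mul_cancel_left, mul_inv_cancel, inv_mul_cancel] at h ⊢
    exact h
/-- Certificate data. -/
def ta_par : Trie :=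
    (.node (.leaf (nat_lit 0)) (.leaf (nat_lit 7)))

/-- Certificate data. -/
def ta_fact : Trie :=
    (.node (.node (.node (.leaf (nat_lit 1)) (.leaf (nat_lit 773))) (.node (.leaf (nat_lit 5))
    (.leaf (nat_lit 769)))) (.node (.node (.leaf (nat_lit 3)) (.leaf (nat_lit 771))) (.leaf
    (nat_lit 519))))

/-- Certificate data. -/
def ta_just : Trie :=
    (.node (.node (.node (.leaf (nat_lit 1)) (.leaf (nat_lit 6970732118019))) (.node (.leaf
    (nat_lit 1)) (.leaf (nat_lit 6833293164549)))) (.node (.node (.leaf (nat_lit 1)) (.leaf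
    (nat_lit 6695854211076))) (.leaf (nat_lit 0))))

/-- Certificate data. -/
def ta_rel : Trie :=
    (.node (.node (.leaf (nat_lit 0)) (.leaf (nat_lit 117573380))) (.node (.leaf (nat_lit
    117835526)) (.leaf (nat_lit 117704450))))

/-- Certificate data. -/
def ta_rc : Trie :=
    (.node (.node (.leaf (nat_lit 26)) (.leaf (nat_lit 23))) (.node (.leaf (nat_lit 19)) (.leaf
    (nat_lit 262167))))

/-- Certificate data. -/
def ta_lv : Trie :=
    (.node (.leaf (nat_lit 0)) (.leaf (nat_lit 1)))

/-- Certificate data. -/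
def ta_tb : Trie :=
    (.node (.node (.node (.leaf (nat_lit 0)) (.leaf (nat_lit 4))) (.node (.leaf (nat_lit 2)) (.leaf
    (nat_lit 22)))) (.node (.node (.leaf (nat_lit 28)) (.leaf (nat_lit 24))) (.node (.leaf (nat_lit
    26)) (.leaf (nat_lit 7)))))

/-- Certificate data. -/
def ta_C : TC.Cert := ⟨1, 1, 4, 15, 505817143170892288, 126, ta_par, ta_fact, ta_just, ta_rel, 4⟩

/-- Certificate data. -/
def ta_rs : List (List ℕ) := [[5, 5, 5], [1, 1, 1, 1], [3, 3, 2, 2], [5, 1, 1, 6, 2, 2], [6, 1, 5, 5, 2, 6, 2], [6, 3, 5, 5, 4, 6, 4], [1, 3, 2, 4], [1, 5, 3, 6, 2, 5, 4, 6], [5, 1, 6, 3, 5, 2, 6, 4], [7, 5, 7, 5], [7, 7], [7, 1, 7, 3], [7, 3, 7, 1]]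

/-- Certificate data. -/
def ta_gl : List ℕ := [1, 515, 1029, 1543]

theorem ta_h1 : allB ta_C.factChk 7 = true := by decide +kernel

theorem ta_h2 : ta_C.finChk 7 2 ta_lv ta_tb ta_gl = true := by decide +kernel

theorem ta_h3 : TC.relChk ta_C.ivc ta_rs ta_C.rel ta_rc ta_C.nrel = true := by decide +kernel

theorem ta_bound {G : Type*} [Group G] {a b x y : G}
    (r0 : x * x * x = 1)
    (r1 : a * a * a * a = 1)
    (r2 : b * b * a⁻¹ * a⁻¹ = 1)
    (r3 : x * a * a * x⁻¹ * a⁻¹ * a⁻¹ = 1)
    (r4 : x⁻¹ * a * x * x * a⁻¹ * x⁻¹ * a⁻¹ = 1)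
    (r5 : x⁻¹ * b * x * x * b⁻¹ * x⁻¹ * b⁻¹ = 1)
    (r6 : a * b * a⁻¹ * b⁻¹ = 1)
    (r7 : a * x * b * x⁻¹ * a⁻¹ * x * b⁻¹ * x⁻¹ = 1)
    (r8 : x * a * x⁻¹ * b * x * a⁻¹ * x⁻¹ * b⁻¹ = 1)
    (r9 : y * x * y * x = 1)
    (r10 : y * y = 1)
    (r11 : y * a * y * b = 1)
    (r12 : y * b * y * a = 1)
    (H : Subgroup G) [Finite H] (m1 : a ∈ H) (m3 : b ∈ H) (m5 : x ∈ H) :
    Finite (Subgroup.closure ({a, b, x, y} : Set G)) ∧
      Nat.card (Subgroup.closure ({a, b, x, y} : Set G)) ≤ 2 * Nat.card H := by
  have hL : TC.Lett (TC.lett [a, a⁻¹, b, b⁻¹, x, x⁻¹, y]) ta_C.ivc :=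
    TC.lett_ok (show Nat.shiftRight ta_C.ivc (8 * 8) = 0 by decide +kernel) (by
      intro a ha
      change a < 8 at ha
      interval_cases a
      · exact inv_one.symm
      · rfl
      · exact (inv_inv _).symm
      · rfl
      · exact (inv_inv _).symm
      · rfl
      · exact (inv_inv _).symm
      · exact (inv_eq_of_mul_eq_one_right r10).symm)
  have h := TC.card_le ta_h1 ta_h2 ta_h3 (by decide) hL (by
    simp only [ta_rs, List.forall_mem_cons]
    refine ⟨?_, ?_, ?_, ?_, ?_, ?_, ?_, ?_, ?_, ?_, ?_, ?_, ?_, List.forall_mem_nil _⟩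
    · show x * (x * (x * 1)) = 1
      simp only [mul_assoc, mul_one] at r0 ⊢
      exact r0
    · show a * (a * (a * (a * 1))) = 1
      simp only [mul_assoc, mul_one] at r1 ⊢
      exact r1
    · show b * (b * (a⁻¹ * (a⁻¹ * 1))) = 1
      simp only [mul_assoc, mul_one] at r2 ⊢
      exact r2
    · show x * (a * (a * (x⁻¹ * (a⁻¹ * (a⁻¹ * 1))))) = 1
      simp only [mul_assoc, mul_one] at r3 ⊢
      exact r3
    · show x⁻¹ * (a * (x * (x * (a⁻¹ * (x⁻¹ * (a⁻¹ * 1)))))) = 1
      simp only [mul_assoc, mul_one] at r4 ⊢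
      exact r4
    · show x⁻¹ * (b * (x * (x * (b⁻¹ * (x⁻¹ * (b⁻¹ * 1)))))) = 1
      simp only [mul_assoc, mul_one] at r5 ⊢
      exact r5
    · show a * (b * (a⁻¹ * (b⁻¹ * 1))) = 1
      simp only [mul_assoc, mul_one] at r6 ⊢
      exact r6
    · show a * (x * (b * (x⁻¹ * (a⁻¹ * (x * (b⁻¹ * (x⁻¹ * 1))))))) = 1
      simp only [mul_assoc, mul_one] at r7 ⊢
      exact r7
    · show x * (a * (x⁻¹ * (b * (x * (a⁻¹ * (x⁻¹ * (b⁻¹ * 1))))))) = 1
      simp only [mul_assoc, mul_one] at r8 ⊢
      exact r8
    · show y * (x * (y * (x * 1))) = 1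
      simp only [mul_assoc, mul_one] at r9 ⊢
      exact r9
    · show y * (y * 1) = 1
      simp only [mul_one] at r10 ⊢
      exact r10
    · show y * (a * (y * (b * 1))) = 1
      simp only [mul_assoc, mul_one] at r11 ⊢
      exact r11
    · show y * (b * (y * (a * 1))) = 1
      simp only [mul_assoc, mul_one] at r12 ⊢
      exact r12) H
    (TC.forall_subs (K := 8) (by decide +kernel) (by
      intro a ha hb
      interval_cases a
      · exact absurd hb (by decide +kernel)
      · exact m1
      · exact H.inv_mem m1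
      · exact m3
      · exact H.inv_mem m3
      · exact m5
      · exact H.inv_mem m5
      · exact absurd hb (by decide +kernel)))
  have e : {g₀ | ∃ ak ∈ ta_gl, TC.lett [a, a⁻¹, b, b⁻¹, x, x⁻¹, y] (ak % 256) = g₀} =
      {a, b, x, y} := by
    ext g₀
    simp only [ta_gl, List.mem_cons, List.not_mem_nil, or_false, exists_eq_or_imp,
      exists_eq_left, Set.mem_ofPred_eq, Set.mem_insert_iff, Set.mem_singleton_iff]
    exact or_congr eq_comm (or_congr eq_comm (or_congr eq_comm (eq_comm)))
  rw [e] at h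
  exact h

theorem ta_card {G : Type*} [Group G] {a b x y : G}
    (e0 : x ^ 3 = 1)
    (e1 : a ^ 4 = 1)
    (e2 : b ^ 2 = a ^ 2)
    (e3 : x * a ^ 2 = a ^ 2 * x)
    (e4 : x⁻¹ * a * x = a * (x * a * x⁻¹))
    (e5 : x⁻¹ * b * x = b * (x * b * x⁻¹))
    (e6 : a * b = b * a)
    (e7 : a * (x * b * x⁻¹) = x * b * x⁻¹ * a)
    (e8 : x * a * x⁻¹ * b = b * (x * a * x⁻¹))
    (e9 : y * x * y⁻¹ = x⁻¹)
    (e10 : y * y = 1)
    (e11 : y * a * y⁻¹ = b⁻¹)
    (e12 : y * b * y⁻¹ = a⁻¹)
    (H : Subgroup G) [Finite H] (ma : a ∈ H) (mb : b ∈ H) (mx : x ∈ H) :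
    Finite (Subgroup.closure ({a, b, x, y} : Set G)) ∧
      Nat.card (Subgroup.closure ({a, b, x, y} : Set G)) ≤ 2 * Nat.card H := by
  have iy : y⁻¹ = y := inv_eq_of_mul_eq_one_right e10
  refine ta_bound ?_ ?_ ?_ ?_ ?_ ?_ ?_ ?_ ?_ ?_ ?_ ?_ ?_ H ma mb mx
  · have h := mul_inv_eq_one.mpr e0
    simp only [pow_succ, pow_zero, mul_inv_rev, inv_inv, inv_one, one_mul, mul_one, mul_assoc,
      mul_inv_cancel_left, inv_mul_cancel_left, mul_inv_cancel, inv_mul_cancel, iy] at h ⊢
    exact h
  · have h := mul_inv_eq_one.mpr e1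
    simp only [pow_succ, pow_zero, mul_inv_rev, inv_inv, inv_one, one_mul, mul_one, mul_assoc,
      mul_inv_cancel_left, inv_mul_cancel_left, mul_inv_cancel, inv_mul_cancel, iy] at h ⊢
    exact h
  · have h := mul_inv_eq_one.mpr e2
    simp only [pow_succ, pow_zero, mul_inv_rev, inv_inv, inv_one, one_mul, mul_one, mul_assoc,
      mul_inv_cancel_left, inv_mul_cancel_left, mul_inv_cancel, inv_mul_cancel, iy] at h ⊢
    exact h
  · have h := mul_inv_eq_one.mpr e3
    simp only [pow_succ, pow_zero, mul_inv_rev, inv_inv, inv_one, one_mul, mul_one, mul_assoc,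
      mul_inv_cancel_left, inv_mul_cancel_left, mul_inv_cancel, inv_mul_cancel, iy] at h ⊢
    exact h
  · have h := mul_inv_eq_one.mpr e4
    simp only [pow_succ, pow_zero, mul_inv_rev, inv_inv, inv_one, one_mul, mul_one, mul_assoc,
      mul_inv_cancel_left, inv_mul_cancel_left, mul_inv_cancel, inv_mul_cancel, iy] at h ⊢
    exact h
  · have h := mul_inv_eq_one.mpr e5
    simp only [pow_succ, pow_zero, mul_inv_rev, inv_inv, inv_one, one_mul, mul_one, mul_assoc,
      mul_inv_cancel_left, inv_mul_cancel_left, mul_inv_cancel, inv_mul_cancel, iy] at h ⊢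
    exact h
  · have h := mul_inv_eq_one.mpr e6
    simp only [pow_succ, pow_zero, mul_inv_rev, inv_inv, inv_one, one_mul, mul_one, mul_assoc,
      mul_inv_cancel_left, inv_mul_cancel_left, mul_inv_cancel, inv_mul_cancel, iy] at h ⊢
    exact h
  · have h := mul_inv_eq_one.mpr e7
    simp only [pow_succ, pow_zero, mul_inv_rev, inv_inv, inv_one, one_mul, mul_one, mul_assoc,
      mul_inv_cancel_left, inv_mul_cancel_left, mul_inv_cancel, inv_mul_cancel, iy] at h ⊢
    exact h
  · have h := mul_inv_eq_one.mpr e8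
    simp only [pow_succ, pow_zero, mul_inv_rev, inv_inv, inv_one, one_mul, mul_one, mul_assoc,
      mul_inv_cancel_left, inv_mul_cancel_left, mul_inv_cancel, inv_mul_cancel, iy] at h ⊢
    exact h
  · have h := mul_inv_eq_one.mpr e9
    simp only [pow_succ, pow_zero, mul_inv_rev, inv_inv, inv_one, one_mul, mul_one, mul_assoc,
      mul_inv_cancel_left, inv_mul_cancel_left, mul_inv_cancel, inv_mul_cancel, iy] at h ⊢
    exact h
  · have h := mul_inv_eq_one.mpr e10
    simp only [pow_succ, pow_zero, mul_inv_rev, inv_inv, inv_one, one_mul, mul_one, mul_assoc,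
      mul_inv_cancel_left, inv_mul_cancel_left, mul_inv_cancel, inv_mul_cancel, iy] at h ⊢
    exact h
  · have h := mul_inv_eq_one.mpr e11
    simp only [pow_succ, pow_zero, mul_inv_rev, inv_inv, inv_one, one_mul, mul_one, mul_assoc,
      mul_inv_cancel_left, inv_mul_cancel_left, mul_inv_cancel, inv_mul_cancel, iy] at h ⊢
    exact h
  · have h := mul_inv_eq_one.mpr e12
    simp only [pow_succ, pow_zero, mul_inv_rev, inv_inv, inv_one, one_mul, mul_one, mul_assoc,
      mul_inv_cancel_left, inv_mul_cancel_left, mul_inv_cancel, inv_mul_cancel, iy] at h ⊢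
    exact h
/-- Certificate data. -/
def tm_par : Trie :=
    (.node (.leaf (nat_lit 0)) (.leaf (nat_lit 7)))

/-- Certificate data. -/
def tm_fact : Trie :=
    (.node (.node (.node (.leaf (nat_lit 1)) (.leaf (nat_lit 773))) (.node (.leaf (nat_lit 5))
    (.leaf (nat_lit 771)))) (.node (.node (.leaf (nat_lit 3)) (.leaf (nat_lit 769))) (.leaf
    (nat_lit 519))))

/-- Certificate data. -/
def tm_just : Trie :=
    (.node (.node (.node (.leaf (nat_lit 1)) (.leaf (nat_lit 6970732118019))) (.node (.leaf
    (nat_lit 1)) (.leaf (nat_lit 6833293164549)))) (.node (.node (.leaf (nat_lit 1)) (.leaf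
    (nat_lit 6695854211076))) (.leaf (nat_lit 0))))

/-- Certificate data. -/
def tm_rel : Trie :=
    (.node (.node (.leaf (nat_lit 0)) (.leaf (nat_lit 117573378))) (.node (.leaf (nat_lit
    117835526)) (.leaf (nat_lit 117704452))))

/-- Certificate data. -/
def tm_rc : Trie :=
    (.node (.node (.leaf (nat_lit 26)) (.leaf (nat_lit 23))) (.node (.leaf (nat_lit 19)) (.leaf
    (nat_lit 25))))

/-- Certificate data. -/
def tm_lv : Trie :=
    (.node (.leaf (nat_lit 0)) (.leaf (nat_lit 1)))

/-- Certificate data. -/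
def tm_tb : Trie :=
    (.node (.node (.node (.leaf (nat_lit 0)) (.leaf (nat_lit 4))) (.node (.leaf (nat_lit 2)) (.leaf
    (nat_lit 22)))) (.node (.node (.leaf (nat_lit 26)) (.leaf (nat_lit 24))) (.node (.leaf (nat_lit
    28)) (.leaf (nat_lit 7)))))

/-- Certificate data. -/
def tm_C : TC.Cert := ⟨1, 1, 4, 15, 505817143170892288, 126, tm_par, tm_fact, tm_just, tm_rel, 4⟩

/-- Certificate data. -/
def tm_rs : List (List ℕ) := [[5, 5, 5], [1, 1, 1, 1], [3, 3, 2, 2], [5, 1, 1, 6, 2, 2], [6, 1, 5, 5, 2, 6, 2], [6, 3, 5, 5, 4, 6, 4], [1, 3, 2, 4], [1, 5, 3, 6, 2, 5, 4, 6], [5, 1, 6, 3, 5, 2, 6, 4], [7, 5, 7, 5], [7, 7], [7, 1, 7, 1], [7, 3, 7, 3]]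

/-- Certificate data. -/
def tm_gl : List ℕ := [1, 515, 1029, 1543]

theorem tm_h1 : allB tm_C.factChk 7 = true := by decide +kernel

theorem tm_h2 : tm_C.finChk 7 2 tm_lv tm_tb tm_gl = true := by decide +kernel

theorem tm_h3 : TC.relChk tm_C.ivc tm_rs tm_C.rel tm_rc tm_C.nrel = true := by decide +kernel

theorem tm_bound {G : Type*} [Group G] {a b x y : G}
    (r0 : x * x * x = 1)
    (r1 : a * a * a * a = 1)
    (r2 : b * b * a⁻¹ * a⁻¹ = 1)
    (r3 : x * a * a * x⁻¹ * a⁻¹ * a⁻¹ = 1)
    (r4 : x⁻¹ * a * x * x * a⁻¹ * x⁻¹ * a⁻¹ = 1)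
    (r5 : x⁻¹ * b * x * x * b⁻¹ * x⁻¹ * b⁻¹ = 1)
    (r6 : a * b * a⁻¹ * b⁻¹ = 1)
    (r7 : a * x * b * x⁻¹ * a⁻¹ * x * b⁻¹ * x⁻¹ = 1)
    (r8 : x * a * x⁻¹ * b * x * a⁻¹ * x⁻¹ * b⁻¹ = 1)
    (r9 : y * x * y * x = 1)
    (r10 : y * y = 1)
    (r11 : y * a * y * a = 1)
    (r12 : y * b * y * b = 1)
    (H : Subgroup G) [Finite H] (m1 : a ∈ H) (m3 : b ∈ H) (m5 : x ∈ H) :
    Finite (Subgroup.closure ({a, b, x, y} : Set G)) ∧
      Nat.card (Subgroup.closure ({a, b, x, y} : Set G)) ≤ 2 * Nat.card H := by
  have hL : TC.Lett (TC.lett [a, a⁻¹, b, b⁻¹, x, x⁻¹, y]) tm_C.ivc :=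
    TC.lett_ok (show Nat.shiftRight tm_C.ivc (8 * 8) = 0 by decide +kernel) (by
      intro a ha
      change a < 8 at ha
      interval_cases a
      · exact inv_one.symm
      · rfl
      · exact (inv_inv _).symm
      · rfl
      · exact (inv_inv _).symm
      · rfl
      · exact (inv_inv _).symm
      · exact (inv_eq_of_mul_eq_one_right r10).symm)
  have h := TC.card_le tm_h1 tm_h2 tm_h3 (by decide) hL (by
    simp only [tm_rs, List.forall_mem_cons]
    refine ⟨?_, ?_, ?_, ?_, ?_, ?_, ?_, ?_, ?_, ?_, ?_, ?_, ?_, List.forall_mem_nil _⟩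
    · show x * (x * (x * 1)) = 1
      simp only [mul_assoc, mul_one] at r0 ⊢
      exact r0
    · show a * (a * (a * (a * 1))) = 1
      simp only [mul_assoc, mul_one] at r1 ⊢
      exact r1
    · show b * (b * (a⁻¹ * (a⁻¹ * 1))) = 1
      simp only [mul_assoc, mul_one] at r2 ⊢
      exact r2
    · show x * (a * (a * (x⁻¹ * (a⁻¹ * (a⁻¹ * 1))))) = 1
      simp only [mul_assoc, mul_one] at r3 ⊢
      exact r3
    · show x⁻¹ * (a * (x * (x * (a⁻¹ * (x⁻¹ * (a⁻¹ * 1)))))) = 1
      simp only [mul_assoc, mul_one] at r4 ⊢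
      exact r4
    · show x⁻¹ * (b * (x * (x * (b⁻¹ * (x⁻¹ * (b⁻¹ * 1)))))) = 1
      simp only [mul_assoc, mul_one] at r5 ⊢
      exact r5
    · show a * (b * (a⁻¹ * (b⁻¹ * 1))) = 1
      simp only [mul_assoc, mul_one] at r6 ⊢
      exact r6
    · show a * (x * (b * (x⁻¹ * (a⁻¹ * (x * (b⁻¹ * (x⁻¹ * 1))))))) = 1
      simp only [mul_assoc, mul_one] at r7 ⊢
      exact r7
    · show x * (a * (x⁻¹ * (b * (x * (a⁻¹ * (x⁻¹ * (b⁻¹ * 1))))))) = 1
      simp only [mul_assoc, mul_one] at r8 ⊢
      exact r8
    · show y * (x * (y * (x * 1))) = 1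
      simp only [mul_assoc, mul_one] at r9 ⊢
      exact r9
    · show y * (y * 1) = 1
      simp only [mul_one] at r10 ⊢
      exact r10
    · show y * (a * (y * (a * 1))) = 1
      simp only [mul_assoc, mul_one] at r11 ⊢
      exact r11
    · show y * (b * (y * (b * 1))) = 1
      simp only [mul_assoc, mul_one] at r12 ⊢
      exact r12) H
    (TC.forall_subs (K := 8) (by decide +kernel) (by
      intro a ha hb
      interval_cases a
      · exact absurd hb (by decide +kernel)
      · exact m1
      · exact H.inv_mem m1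
      · exact m3
      · exact H.inv_mem m3
      · exact m5
      · exact H.inv_mem m5
      · exact absurd hb (by decide +kernel)))
  have e : {g₀ | ∃ ak ∈ tm_gl, TC.lett [a, a⁻¹, b, b⁻¹, x, x⁻¹, y] (ak % 256) = g₀} =
      {a, b, x, y} := by
    ext g₀
    simp only [tm_gl, List.mem_cons, List.not_mem_nil, or_false, exists_eq_or_imp,
      exists_eq_left, Set.mem_ofPred_eq, Set.mem_insert_iff, Set.mem_singleton_iff]
    exact or_congr eq_comm (or_congr eq_comm (or_congr eq_comm (eq_comm)))
  rw [e] at h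
  exact h

theorem tm_card {G : Type*} [Group G] {a b x y : G}
    (e0 : x ^ 3 = 1)
    (e1 : a ^ 4 = 1)
    (e2 : b ^ 2 = a ^ 2)
    (e3 : x * a ^ 2 = a ^ 2 * x)
    (e4 : x⁻¹ * a * x = a * (x * a * x⁻¹))
    (e5 : x⁻¹ * b * x = b * (x * b * x⁻¹))
    (e6 : a * b = b * a)
    (e7 : a * (x * b * x⁻¹) = x * b * x⁻¹ * a)
    (e8 : x * a * x⁻¹ * b = b * (x * a * x⁻¹))
    (e9 : y * x * y⁻¹ = x⁻¹)
    (e10 : y * y = 1)
    (e11 : y * a * y⁻¹ = a⁻¹)
    (e12 : y * b * y⁻¹ = b⁻¹)
    (H : Subgroup G) [Finite H] (ma : a ∈ H) (mb : b ∈ H) (mx : x ∈ H) :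
    Finite (Subgroup.closure ({a, b, x, y} : Set G)) ∧
      Nat.card (Subgroup.closure ({a, b, x, y} : Set G)) ≤ 2 * Nat.card H := by
  have iy : y⁻¹ = y := inv_eq_of_mul_eq_one_right e10
  refine tm_bound ?_ ?_ ?_ ?_ ?_ ?_ ?_ ?_ ?_ ?_ ?_ ?_ ?_ H ma mb mx
  · have h := mul_inv_eq_one.mpr e0
    simp only [pow_succ, pow_zero, mul_inv_rev, inv_inv, inv_one, one_mul, mul_one, mul_assoc,
      mul_inv_cancel_left, inv_mul_cancel_left, mul_inv_cancel, inv_mul_cancel, iy] at h ⊢
    exact h
  · have h := mul_inv_eq_one.mpr e1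
    simp only [pow_succ, pow_zero, mul_inv_rev, inv_inv, inv_one, one_mul, mul_one, mul_assoc,
      mul_inv_cancel_left, inv_mul_cancel_left, mul_inv_cancel, inv_mul_cancel, iy] at h ⊢
    exact h
  · have h := mul_inv_eq_one.mpr e2
    simp only [pow_succ, pow_zero, mul_inv_rev, inv_inv, inv_one, one_mul, mul_one, mul_assoc,
      mul_inv_cancel_left, inv_mul_cancel_left, mul_inv_cancel, inv_mul_cancel, iy] at h ⊢
    exact h
  · have h := mul_inv_eq_one.mpr e3
    simp only [pow_succ, pow_zero, mul_inv_rev, inv_inv, inv_one, one_mul, mul_one, mul_assoc,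
      mul_inv_cancel_left, inv_mul_cancel_left, mul_inv_cancel, inv_mul_cancel, iy] at h ⊢
    exact h
  · have h := mul_inv_eq_one.mpr e4
    simp only [pow_succ, pow_zero, mul_inv_rev, inv_inv, inv_one, one_mul, mul_one, mul_assoc,
      mul_inv_cancel_left, inv_mul_cancel_left, mul_inv_cancel, inv_mul_cancel, iy] at h ⊢
    exact h
  · have h := mul_inv_eq_one.mpr e5
    simp only [pow_succ, pow_zero, mul_inv_rev, inv_inv, inv_one, one_mul, mul_one, mul_assoc,
      mul_inv_cancel_left, inv_mul_cancel_left, mul_inv_cancel, inv_mul_cancel, iy] at h ⊢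
    exact h
  · have h := mul_inv_eq_one.mpr e6
    simp only [pow_succ, pow_zero, mul_inv_rev, inv_inv, inv_one, one_mul, mul_one, mul_assoc,
      mul_inv_cancel_left, inv_mul_cancel_left, mul_inv_cancel, inv_mul_cancel, iy] at h ⊢
    exact h
  · have h := mul_inv_eq_one.mpr e7
    simp only [pow_succ, pow_zero, mul_inv_rev, inv_inv, inv_one, one_mul, mul_one, mul_assoc,
      mul_inv_cancel_left, inv_mul_cancel_left, mul_inv_cancel, inv_mul_cancel, iy] at h ⊢
    exact h
  · have h := mul_inv_eq_one.mpr e8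
    simp only [pow_succ, pow_zero, mul_inv_rev, inv_inv, inv_one, one_mul, mul_one, mul_assoc,
      mul_inv_cancel_left, inv_mul_cancel_left, mul_inv_cancel, inv_mul_cancel, iy] at h ⊢
    exact h
  · have h := mul_inv_eq_one.mpr e9
    simp only [pow_succ, pow_zero, mul_inv_rev, inv_inv, inv_one, one_mul, mul_one, mul_assoc,
      mul_inv_cancel_left, inv_mul_cancel_left, mul_inv_cancel, inv_mul_cancel, iy] at h ⊢
    exact h
  · have h := mul_inv_eq_one.mpr e10
    simp only [pow_succ, pow_zero, mul_inv_rev, inv_inv, inv_one, one_mul, mul_one, mul_assoc,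
      mul_inv_cancel_left, inv_mul_cancel_left, mul_inv_cancel, inv_mul_cancel, iy] at h ⊢
    exact h
  · have h := mul_inv_eq_one.mpr e11
    simp only [pow_succ, pow_zero, mul_inv_rev, inv_inv, inv_one, one_mul, mul_one, mul_assoc,
      mul_inv_cancel_left, inv_mul_cancel_left, mul_inv_cancel, inv_mul_cancel, iy] at h ⊢
    exact h
  · have h := mul_inv_eq_one.mpr e12
    simp only [pow_succ, pow_zero, mul_inv_rev, inv_inv, inv_one, one_mul, mul_one, mul_assoc,
      mul_inv_cancel_left, inv_mul_cancel_left, mul_inv_cancel, inv_mul_cancel, iy] at h ⊢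
    exact h
/-- Certificate data. -/
def te_par : Trie :=
    (.node (.node (.node (.node (.node (.node (.node (.leaf (nat_lit 0)) (.leaf (nat_lit 5633)))
    (.node (.leaf (nat_lit 2057)) (.leaf (nat_lit 13064)))) (.node (.node (.leaf (nat_lit 1032))
    (.leaf (nat_lit 6921))) (.node (.leaf (nat_lit 3079)) (.leaf (nat_lit 17153))))) (.node (.node
    (.node (.leaf (nat_lit 259)) (.leaf (nat_lit 6657))) (.node (.leaf (nat_lit 2566)) (.leaf
    (nat_lit 15624)))) (.node (.node (.leaf (nat_lit 1287)) (.leaf (nat_lit 10504))) (.leaf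
    (nat_lit 3589))))) (.node (.node (.node (.node (.leaf (nat_lit 4)) (.leaf (nat_lit 5642)))
    (.node (.leaf (nat_lit 2562)) (.leaf (nat_lit 14601)))) (.node (.node (.leaf (nat_lit 1283))
    (.leaf (nat_lit 9992))) (.leaf (nat_lit 3338)))) (.node (.node (.node (.leaf (nat_lit 520))
    (.leaf (nat_lit 6666))) (.node (.leaf (nat_lit 3074)) (.leaf (nat_lit 16393)))) (.node (.node
    (.leaf (nat_lit 1546)) (.leaf (nat_lit 12040))) (.leaf (nat_lit 4101)))))) (.node (.node (.node
    (.node (.node (.leaf (nat_lit 2)) (.leaf (nat_lit 5640))) (.node (.leaf (nat_lit 2313)) (.leaf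
    (nat_lit 14345)))) (.node (.node (.leaf (nat_lit 1281)) (.leaf (nat_lit 8198))) (.node (.leaf
    (nat_lit 3333)) (.leaf (nat_lit 17157))))) (.node (.node (.node (.leaf (nat_lit 264)) (.leaf
    (nat_lit 6664))) (.node (.leaf (nat_lit 2822)) (.leaf (nat_lit 15881)))) (.node (.node (.leaf
    (nat_lit 1541)) (.leaf (nat_lit 10761))) (.leaf (nat_lit 3845))))) (.node (.node (.node (.node
    (.leaf (nat_lit 9)) (.leaf (nat_lit 5892))) (.node (.leaf (nat_lit 2564)) (.leaf (nat_lit
    15113)))) (.node (.node (.leaf (nat_lit 1285)) (.leaf (nat_lit 10248))) (.leaf (nat_lit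
    3586)))) (.node (.node (.node (.leaf (nat_lit 776)) (.leaf (nat_lit 6916))) (.node (.leaf
    (nat_lit 3077)) (.leaf (nat_lit 16649)))) (.node (.node (.leaf (nat_lit 1801)) (.leaf (nat_lit
    12808))) (.leaf (nat_lit 4357))))))) (.node (.node (.node (.node (.node (.node (.leaf (nat_lit
    1)) (.leaf (nat_lit 5634))) (.node (.leaf (nat_lit 2312)) (.leaf (nat_lit 13065)))) (.node
    (.node (.leaf (nat_lit 1033)) (.leaf (nat_lit 8197))) (.node (.leaf (nat_lit 3082)) (.leaf
    (nat_lit 17155))))) (.node (.node (.node (.leaf (nat_lit 260)) (.leaf (nat_lit 6658))) (.node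
    (.leaf (nat_lit 2821)) (.leaf (nat_lit 15880)))) (.node (.node (.leaf (nat_lit 1290)) (.leaf
    (nat_lit 10760))) (.leaf (nat_lit 3590))))) (.node (.node (.node (.node (.leaf (nat_lit 8))
    (.leaf (nat_lit 5891))) (.node (.leaf (nat_lit 2563)) (.leaf (nat_lit 14857)))) (.node (.node
    (.leaf (nat_lit 1284)) (.leaf (nat_lit 9993))) (.leaf (nat_lit 3585)))) (.node (.node (.node
    (.leaf (nat_lit 521)) (.leaf (nat_lit 6915))) (.node (.leaf (nat_lit 3075)) (.leaf (nat_lit
    16648)))) (.node (.node (.leaf (nat_lit 1800)) (.leaf (nat_lit 12041))) (.leaf (nat_lit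
    4102)))))) (.node (.node (.node (.node (.node (.leaf (nat_lit 3)) (.leaf (nat_lit 5641)))
    (.node (.leaf (nat_lit 2561)) (.leaf (nat_lit 14600)))) (.node (.node (.leaf (nat_lit 1282))
    (.leaf (nat_lit 8453))) (.leaf (nat_lit 3334)))) (.node (.node (.node (.leaf (nat_lit 265))
    (.leaf (nat_lit 6665))) (.node (.leaf (nat_lit 3073)) (.leaf (nat_lit 16392)))) (.node (.node
    (.leaf (nat_lit 1542)) (.leaf (nat_lit 11785))) (.leaf (nat_lit 3846))))) (.node (.node (.node
    (.node (.leaf (nat_lit 257)) (.leaf (nat_lit 5897))) (.node (.leaf (nat_lit 2565)) (.leaf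
    (nat_lit 15368)))) (.node (.node (.leaf (nat_lit 1286)) (.leaf (nat_lit 10249))) (.leaf
    (nat_lit 3587)))) (.node (.node (.node (.leaf (nat_lit 777)) (.leaf (nat_lit 6920))) (.node
    (.leaf (nat_lit 3078)) (.leaf (nat_lit 16897)))) (.node (.node (.leaf (nat_lit 2056)) (.leaf
    (nat_lit 12809))) (.leaf (nat_lit 4358))))))))

/-- Certificate data. -/
def te_fact : Trie :=
    (.node (.node (.node (.node (.node (.node (.node (.node (.node (.leaf (nat_lit 5)) (.leaf
    (nat_lit 532227))) (.node (.leaf (nat_lit 174848)) (.leaf (nat_lit 1289728)))) (.node (.node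
    (.leaf (nat_lit 858886)) (.leaf (nat_lit 3237383))) (.node (.leaf (nat_lit 1523202)) (.leaf
    (nat_lit 768))))) (.node (.node (.node (.leaf (nat_lit 297223)) (.leaf (nat_lit 2185734)))
    (.node (.leaf (nat_lit 1193216)) (.leaf (nat_lit 902656)))) (.node (.node (.leaf (nat_lit
    1313286)) (.leaf (nat_lit 3404295))) (.leaf (nat_lit 2299652))))) (.node (.node (.node (.node
    (.leaf (nat_lit 100100)) (.leaf (nat_lit 2675206))) (.node (.leaf (nat_lit 1289991)) (.leaf
    (nat_lit 1662208)))) (.node (.node (.leaf (nat_lit 1056775)) (.leaf (nat_lit 3621129))) (.node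
    (.leaf (nat_lit 1188362)) (.leaf (nat_lit 165123))))) (.node (.node (.node (.leaf (nat_lit
    525320)) (.leaf (nat_lit 3137794))) (.node (.leaf (nat_lit 735747)) (.leaf (nat_lit 199425))))
    (.node (.node (.leaf (nat_lit 632065)) (.leaf (nat_lit 3172100))) (.leaf (nat_lit 2050308))))))
    (.node (.node (.node (.node (.node (.leaf (nat_lit 131076)) (.leaf (nat_lit 2662405))) (.node
    (.leaf (nat_lit 1579011)) (.leaf (nat_lit 2417152)))) (.node (.node (.leaf (nat_lit 990727))
    (.leaf (nat_lit 3467785))) (.node (.leaf (nat_lit 2102785)) (.leaf (nat_lit 198145))))) (.node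
    (.node (.node (.leaf (nat_lit 396553)) (.leaf (nat_lit 3005698))) (.node (.leaf (nat_lit
    1150979)) (.leaf (nat_lit 99328)))) (.node (.node (.leaf (nat_lit 332800)) (.leaf (nat_lit
    3103746))) (.leaf (nat_lit 531716))))) (.node (.node (.node (.node (.leaf (nat_lit 264199))
    (.leaf (nat_lit 2828296))) (.node (.leaf (nat_lit 1773058)) (.leaf (nat_lit 1890816)))) (.node
    (.node (.leaf (nat_lit 1122823)) (.leaf (nat_lit 2813953))) (.node (.leaf (nat_lit 2147590))
    (.leaf (nat_lit 890625))))) (.node (.node (.node (.leaf (nat_lit 689412)) (.leaf (nat_lit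
    3298563))) (.node (.leaf (nat_lit 1970181)) (.leaf (nat_lit 368640)))) (.node (.node (.leaf
    (nat_lit 1519366)) (.leaf (nat_lit 877568))) (.leaf (nat_lit 871424))))))) (.node (.node (.node
    (.node (.node (.node (.leaf (nat_lit 65538)) (.leaf (nat_lit 2595592))) (.node (.leaf (nat_lit
    1223680)) (.leaf (nat_lit 876544)))) (.node (.node (.leaf (nat_lit 984841)) (.leaf (nat_lit
    2647813))) (.node (.leaf (nat_lit 1654535)) (.leaf (nat_lit 739328))))) (.node (.node (.node
    (.leaf (nat_lit 360713)) (.leaf (nat_lit 2480643))) (.node (.leaf (nat_lit 467970)) (.leaf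
    (nat_lit 894984)))) (.node (.node (.leaf (nat_lit 1379078)) (.leaf (nat_lit 3399175))) (.leaf
    (nat_lit 1000965))))) (.node (.node (.node (.node (.leaf (nat_lit 262403)) (.leaf (nat_lit
    2118402))) (.node (.leaf (nat_lit 759303)) (.leaf (nat_lit 2150656)))) (.node (.node (.leaf
    (nat_lit 1116425)) (.leaf (nat_lit 2649091))) (.node (.leaf (nat_lit 2266883)) (.leaf (nat_lit
    858888))))) (.node (.node (.node (.leaf (nat_lit 558595)) (.leaf (nat_lit 3291401))) (.node
    (.leaf (nat_lit 1358599)) (.leaf (nat_lit 1382921)))) (.node (.node (.leaf (nat_lit 1444866))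
    (.leaf (nat_lit 2645504))) (.leaf (nat_lit 2345735)))))) (.node (.node (.node (.node (.node
    (.leaf (nat_lit 196617)) (.leaf (nat_lit 406528))) (.node (.leaf (nat_lit 165386)) (.leaf
    (nat_lit 742400)))) (.node (.node (.leaf (nat_lit 1050633)) (.leaf (nat_lit 3555337))) (.node
    (.leaf (nat_lit 2135554)) (.leaf (nat_lit 730880))))) (.node (.node (.node (.leaf (nat_lit
    462601)) (.leaf (nat_lit 2645762))) (.node (.leaf (nat_lit 1904389)) (.leaf (nat_lit
    2280968)))) (.node (.node (.leaf (nat_lit 1184515)) (.leaf (nat_lit 3138565))) (.leaf (nat_lit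
    2050051))))) (.node (.node (.node (.node (.leaf (nat_lit 295172)) (.leaf (nat_lit 2894088)))
    (.node (.leaf (nat_lit 1849606)) (.leaf (nat_lit 2583808)))) (.node (.node (.leaf (nat_lit
    1182210)) (.leaf (nat_lit 3240193))) (.leaf (nat_lit 1090816)))) (.node (.node (.node (.leaf
    (nat_lit 787719)) (.leaf (nat_lit 2876679))) (.node (.leaf (nat_lit 2002950)) (.leaf (nat_lit
    204800)))) (.node (.node (.leaf (nat_lit 1674502)) (.leaf (nat_lit 1295104))) (.leaf (nat_lit
    1199621)))))))) (.node (.node (.node (.node (.node (.node (.node (.leaf (nat_lit 10)) (.leaf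
    (nat_lit 2367237))) (.node (.leaf (nat_lit 166913)) (.leaf (nat_lit 2715136)))) (.node (.node
    (.leaf (nat_lit 919050)) (.leaf (nat_lit 3366659))) (.node (.leaf (nat_lit 2068742)) (.leaf
    (nat_lit 171776))))) (.node (.node (.node (.leaf (nat_lit 35077)) (.leaf (nat_lit 2349826)))
    (.node (.leaf (nat_lit 528896)) (.leaf (nat_lit 1333248)))) (.node (.node (.leaf (nat_lit
    894977)) (.leaf (nat_lit 3109376))) (.leaf (nat_lit 2115079))))) (.node (.node (.node (.node
    (.leaf (nat_lit 132867)) (.leaf (nat_lit 2728197))) (.node (.leaf (nat_lit 169984)) (.leaf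
    (nat_lit 330752)))) (.node (.node (.leaf (nat_lit 1052931)) (.leaf (nat_lit 2649601))) (.node
    (.leaf (nat_lit 2201097)) (.leaf (nat_lit 857602))))) (.node (.node (.node (.leaf (nat_lit
    528649)) (.leaf (nat_lit 3225609))) (.node (.leaf (nat_lit 1937158)) (.leaf (nat_lit
    2269190)))) (.node (.node (.leaf (nat_lit 697089)) (.leaf (nat_lit 1658624))) (.leaf (nat_lit
    2431496)))))) (.node (.node (.node (.node (.node (.leaf (nat_lit 33798)) (.leaf (nat_lit
    2412801))) (.node (.leaf (nat_lit 171008)) (.leaf (nat_lit 1850368)))) (.node (.node (.leaf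
    (nat_lit 986371)) (.leaf (nat_lit 3496452))) (.node (.leaf (nat_lit 1294339)) (.leaf (nat_lit
    768256))))) (.node (.node (.node (.leaf (nat_lit 459528)) (.leaf (nat_lit 3125769))) (.node
    (.leaf (nat_lit 1652737)) (.leaf (nat_lit 460033)))) (.node (.node (.leaf (nat_lit 1185025))
    (.leaf (nat_lit 3697158))) (.leaf (nat_lit 2365953))))) (.node (.node (.node (.node (.leaf
    (nat_lit 262917)) (.leaf (nat_lit 2217729))) (.node (.leaf (nat_lit 1838597)) (.leaf (nat_lit
    462848)))) (.node (.node (.leaf (nat_lit 1117955)) (.leaf (nat_lit 3695108))) (.node (.leaf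
    (nat_lit 738304)) (.leaf (nat_lit 726536))))) (.node (.node (.node (.leaf (nat_lit 754950))
    (.leaf (nat_lit 2875907))) (.node (.leaf (nat_lit 867331)) (.leaf (nat_lit 335616)))) (.node
    (.node (.leaf (nat_lit 1608714)) (.leaf (nat_lit 1334784))) (.leaf (nat_lit 2562820)))))))
    (.node (.node (.node (.node (.node (.node (.leaf (nat_lit 66311)) (.leaf (nat_lit 2609161)))
    (.node (.leaf (nat_lit 402689)) (.leaf (nat_lit 1886720)))) (.node (.node (.leaf (nat_lit
    564737)) (.leaf (nat_lit 3456520))) (.node (.leaf (nat_lit 1556228)) (.leaf (nat_lit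
    198147))))) (.node (.node (.node (.leaf (nat_lit 393736)) (.leaf (nat_lit 3059465))) (.node
    (.leaf (nat_lit 167938)) (.leaf (nat_lit 1057280)))) (.node (.node (.leaf (nat_lit 764418))
    (.leaf (nat_lit 3106819))) (.leaf (nat_lit 335106))))) (.node (.node (.node (.node (.leaf
    (nat_lit 133121)) (.leaf (nat_lit 2762504))) (.node (.leaf (nat_lit 1707274)) (.leaf (nat_lit
    1367296)))) (.node (.node (.leaf (nat_lit 369153)) (.leaf (nat_lit 3436293))) (.node (.leaf
    (nat_lit 2016514)) (.leaf (nat_lit 890626))))) (.node (.node (.node (.leaf (nat_lit 623874))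
    (.leaf (nat_lit 3236866))) (.node (.leaf (nat_lit 1943555)) (.leaf (nat_lit 32770)))) (.node
    (.node (.leaf (nat_lit 1510405)) (.leaf (nat_lit 1331200))) (.leaf (nat_lit 2530051))))))
    (.node (.node (.node (.node (.node (.leaf (nat_lit 229633)) (.leaf (nat_lit 396554))) (.node
    (.leaf (nat_lit 1517575)) (.leaf (nat_lit 868352)))) (.node (.node (.leaf (nat_lit 434177))
    (.leaf (nat_lit 3563779))) (.node (.leaf (nat_lit 1294596)) (.leaf (nat_lit 1))))) (.node
    (.node (.node (.leaf (nat_lit 364295)) (.leaf (nat_lit 3191561))) (.node (.leaf (nat_lit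
    1292802)) (.leaf (nat_lit 2148353)))) (.node (.node (.leaf (nat_lit 890634)) (.leaf (nat_lit
    3527941))) (.leaf (nat_lit 2398722))))) (.node (.node (.node (.node (.leaf (nat_lit 100609))
    (.leaf (nat_lit 2959881))) (.node (.leaf (nat_lit 464128)) (.leaf (nat_lit 1841668)))) (.node
    (.node (.leaf (nat_lit 1247748)) (.leaf (nat_lit 3722761))) (.leaf (nat_lit 401665)))) (.node
    (.node (.node (.leaf (nat_lit 853509)) (.leaf (nat_lit 3357449))) (.node (.leaf (nat_lit
    2035973)) (.leaf (nat_lit 902400)))) (.node (.node (.leaf (nat_lit 1290753)) (.leaf (nat_lit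
    908288))) (.leaf (nat_lit 335617))))))))) (.node (.node (.node (.node (.node (.node (.node
    (.node (.leaf (nat_lit 7)) (.leaf (nat_lit 1122058))) (.node (.leaf (nat_lit 398080)) (.leaf
    (nat_lit 1304320)))) (.node (.node (.leaf (nat_lit 858887)) (.leaf (nat_lit 2778630))) (.node
    (.leaf (nat_lit 1981953)) (.leaf (nat_lit 256))))) (.node (.node (.node (.leaf (nat_lit
    133382)) (.leaf (nat_lit 2993673))) (.node (.leaf (nat_lit 1160704)) (.leaf (nat_lit
    2380544)))) (.node (.node (.leaf (nat_lit 1288198)) (.leaf (nat_lit 3238150))) (.leaf (nat_lit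
    1558018))))) (.node (.node (.node (.node (.leaf (nat_lit 231173)) (.leaf (nat_lit 1331713)))
    (.node (.leaf (nat_lit 339968)) (.leaf (nat_lit 1322752)))) (.node (.node (.leaf (nat_lit
    368643)) (.leaf (nat_lit 3599881))) (.node (.leaf (nat_lit 2168328)) (.leaf (nat_lit
    165122))))) (.node (.node (.node (.leaf (nat_lit 558089)) (.leaf (nat_lit 2810119))) (.node
    (.leaf (nat_lit 528138)) (.leaf (nat_lit 2138117)))) (.node (.node (.leaf (nat_lit 1151748))
    (.leaf (nat_lit 3039237))) (.leaf (nat_lit 968966)))))) (.node (.node (.node (.node (.node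
    (.leaf (nat_lit 33799)) (.leaf (nat_lit 2380034))) (.node (.leaf (nat_lit 1644035)) (.leaf
    (nat_lit 2413568)))) (.node (.node (.leaf (nat_lit 499203)) (.leaf (nat_lit 3074567))) (.node
    (.leaf (nat_lit 1851396)) (.leaf (nat_lit 1292288))))) (.node (.node (.node (.leaf (nat_lit
    199937)) (.leaf (nat_lit 3093000))) (.node (.leaf (nat_lit 1183748)) (.leaf (nat_lit 1792))))
    (.node (.node (.leaf (nat_lit 166404)) (.leaf (nat_lit 3665930))) (.leaf (nat_lit 2332425)))))
    (.node (.node (.node (.node (.leaf (nat_lit 262662)) (.leaf (nat_lit 2861065))) (.node (.leaf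
    (nat_lit 1805827)) (.leaf (nat_lit 1283593)))) (.node (.node (.leaf (nat_lit 434691)) (.leaf
    (nat_lit 3567623))) (.node (.leaf (nat_lit 1131781)) (.leaf (nat_lit 890632))))) (.node (.node
    (.node (.leaf (nat_lit 722181)) (.leaf (nat_lit 3293956))) (.node (.leaf (nat_lit 1883143))
    (.leaf (nat_lit 34816)))) (.node (.node (.leaf (nat_lit 1575943)) (.leaf (nat_lit 2549248)))
    (.leaf (nat_lit 858634))))))) (.node (.node (.node (.node (.node (.node (.leaf (nat_lit 98307))
    (.leaf (nat_lit 2628361))) (.node (.leaf (nat_lit 402436)) (.leaf (nat_lit 1987840)))) (.node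
    (.node (.leaf (nat_lit 957961)) (.leaf (nat_lit 3423496))) (.node (.leaf (nat_lit 769793))
    (.leaf (nat_lit 773632))))) (.node (.node (.node (.leaf (nat_lit 330505)) (.leaf (nat_lit
    3026696))) (.node (.leaf (nat_lit 467713)) (.leaf (nat_lit 363776)))) (.node (.node (.leaf
    (nat_lit 1354246)) (.leaf (nat_lit 2870022))) (.leaf (nat_lit 959232))))) (.node (.node (.node
    (.node (.leaf (nat_lit 67587)) (.leaf (nat_lit 2151169))) (.node (.leaf (nat_lit 692743))
    (.leaf (nat_lit 3592713)))) (.node (.node (.leaf (nat_lit 1090057)) (.leaf (nat_lit 3654145)))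
    (.node (.leaf (nat_lit 1557761)) (.leaf (nat_lit 857603))))) (.node (.node (.node (.leaf
    (nat_lit 591105)) (.leaf (nat_lit 3269641))) (.node (.leaf (nat_lit 1882883)) (.leaf (nat_lit
    33543)))) (.node (.node (.leaf (nat_lit 1477635)) (.leaf (nat_lit 1645320))) (.leaf (nat_lit
    2497034)))))) (.node (.node (.node (.node (.node (.leaf (nat_lit 165385)) (.leaf (nat_lit
    438528))) (.node (.leaf (nat_lit 863748)) (.leaf (nat_lit 2158848)))) (.node (.node (.leaf
    (nat_lit 1024009)) (.leaf (nat_lit 3369986))) (.node (.leaf (nat_lit 1851651)) (.leaf (nat_lit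
    3))))) (.node (.node (.node (.leaf (nat_lit 200450)) (.leaf (nat_lit 3158792))) (.node (.leaf
    (nat_lit 1391111)) (.leaf (nat_lit 760579)))) (.node (.node (.leaf (nat_lit 1151491)) (.leaf
    (nat_lit 3039239))) (.leaf (nat_lit 1198086))))) (.node (.node (.node (.node (.leaf (nat_lit
    67844)) (.leaf (nat_lit 2927112))) (.node (.leaf (nat_lit 899330)) (.leaf (nat_lit 727554))))
    (.node (.node (.leaf (nat_lit 1214979)) (.leaf (nat_lit 3633415))) (.leaf (nat_lit 336132))))
    (.node (.node (.node (.leaf (nat_lit 820490)) (.leaf (nat_lit 3334404))) (.node (.leaf (nat_lit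
    1981702)) (.leaf (nat_lit 868608)))) (.node (.node (.leaf (nat_lit 1651462)) (.leaf (nat_lit
    1533696))) (.leaf (nat_lit 1025024)))))))) (.node (.node (.node (.node (.node (.node (.node
    (.leaf (nat_lit 32769)) (.leaf (nat_lit 2563846))) (.node (.leaf (nat_lit 1191168)) (.leaf
    (nat_lit 1696512)))) (.node (.node (.leaf (nat_lit 952072)) (.leaf (nat_lit 3390472))) (.node
    (.leaf (nat_lit 2047750)) (.leaf (nat_lit 167424))))) (.node (.node (.node (.leaf (nat_lit
    327944)) (.leaf (nat_lit 2972423))) (.node (.leaf (nat_lit 460036)) (.leaf (nat_lit 2281984))))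
    (.node (.node (.leaf (nat_lit 1346309)) (.leaf (nat_lit 2219526))) (.leaf (nat_lit 2115078)))))
    (.node (.node (.node (.node (.leaf (nat_lit 231175)) (.leaf (nat_lit 1659652))) (.node (.leaf
    (nat_lit 165127)) (.leaf (nat_lit 1356288)))) (.node (.node (.leaf (nat_lit 1083656)) (.leaf
    (nat_lit 3206658))) (.node (.leaf (nat_lit 2233866)) (.leaf (nat_lit 890627))))) (.node (.node
    (.node (.leaf (nat_lit 430343)) (.leaf (nat_lit 3258632))) (.node (.leaf (nat_lit 1915654))
    (.leaf (nat_lit 1024010)))) (.node (.node (.leaf (nat_lit 1412097)) (.leaf (nat_lit 909056)))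
    (.leaf (nat_lit 2464265)))))) (.node (.node (.node (.node (.node (.leaf (nat_lit 163848))
    (.leaf (nat_lit 1528068))) (.node (.leaf (nat_lit 203008)) (.leaf (nat_lit 739584)))) (.node
    (.node (.leaf (nat_lit 1017864)) (.leaf (nat_lit 3522568))) (.node (.leaf (nat_lit 999430))
    (.leaf (nat_lit 763904))))) (.node (.node (.node (.leaf (nat_lit 492297)) (.leaf (nat_lit
    3104521))) (.node (.leaf (nat_lit 1880836)) (.leaf (nat_lit 2149897)))) (.node (.node (.leaf
    (nat_lit 1217025)) (.leaf (nat_lit 3075078))) (.leaf (nat_lit 1361924))))) (.node (.node (.node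
    (.node (.leaf (nat_lit 198151)) (.leaf (nat_lit 2807554))) (.node (.leaf (nat_lit 1871366))
    (.leaf (nat_lit 171264)))) (.node (.node (.leaf (nat_lit 1149441)) (.leaf (nat_lit 3719939)))
    (.node (.leaf (nat_lit 726538)) (.leaf (nat_lit 857604))))) (.node (.node (.node (.leaf
    (nat_lit 726790)) (.leaf (nat_lit 3324425))) (.node (.leaf (nat_lit 1358849)) (.leaf (nat_lit
    199424)))) (.node (.node (.leaf (nat_lit 1641733)) (.leaf (nat_lit 1660672))) (.leaf (nat_lit
    2379271))))))) (.node (.node (.node (.node (.node (.node (.leaf (nat_lit 66310)) (.leaf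
    (nat_lit 2215943))) (.node (.leaf (nat_lit 462855)) (.leaf (nat_lit 1690368)))) (.node (.node
    (.leaf (nat_lit 368130)) (.leaf (nat_lit 3489289))) (.node (.leaf (nat_lit 2014979)) (.leaf
    (nat_lit 895488))))) (.node (.node (.node (.leaf (nat_lit 426505)) (.leaf (nat_lit 3038473)))
    (.node (.leaf (nat_lit 1216513)) (.leaf (nat_lit 874752)))) (.node (.node (.leaf (nat_lit
    173568)) (.leaf (nat_lit 2779399))) (.leaf (nat_lit 466177))))) (.node (.node (.node (.node
    (.leaf (nat_lit 100354)) (.leaf (nat_lit 2795273))) (.node (.leaf (nat_lit 1740289)) (.leaf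
    (nat_lit 866569)))) (.node (.node (.leaf (nat_lit 565762)) (.leaf (nat_lit 3687169))) (.node
    (.leaf (nat_lit 2147591)) (.leaf (nat_lit 857865))))) (.node (.node (.node (.leaf (nat_lit
    656643)) (.leaf (nat_lit 3138567))) (.node (.leaf (nat_lit 1517825)) (.leaf (nat_lit 98308))))
    (.node (.node (.leaf (nat_lit 1543174)) (.leaf (nat_lit 1892608))) (.leaf (nat_lit
    2411782)))))) (.node (.node (.node (.node (.node (.leaf (nat_lit 67329)) (.leaf (nat_lit
    2695174))) (.node (.leaf (nat_lit 1550851)) (.leaf (nat_lit 1547017)))) (.node (.node (.leaf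
    (nat_lit 499714)) (.leaf (nat_lit 3588360))) (.node (.leaf (nat_lit 1130758)) (.leaf (nat_lit
    735232))))) (.node (.node (.node (.leaf (nat_lit 199427)) (.leaf (nat_lit 3170569))) (.node
    (.leaf (nat_lit 1849857)) (.leaf (nat_lit 1353737)))) (.node (.node (.leaf (nat_lit 599043))
    (.leaf (nat_lit 3529729))) (.leaf (nat_lit 1362179))))) (.node (.node (.node (.node (.leaf
    (nat_lit 133378)) (.leaf (nat_lit 2939401))) (.node (.leaf (nat_lit 177920)) (.leaf (nat_lit
    1284611)))) (.node (.node (.leaf (nat_lit 1280517)) (.leaf (nat_lit 3752709))) (.leaf (nat_lit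
    532738)))) (.node (.node (.node (.leaf (nat_lit 886278)) (.leaf (nat_lit 3335682))) (.node
    (.leaf (nat_lit 1687047)) (.leaf (nat_lit 166400)))) (.node (.node (.leaf (nat_lit 1323779))
    (.leaf (nat_lit 906752))) (.leaf (nat_lit 401156))))))))))

/-- Certificate data. -/
def te_just : Trie :=
    (.node (.node (.node (.node (.node (.node (.node (.node (.node (.leaf (nat_lit 1)) (.leaf
    (nat_lit 1493115315814402))) (.node (.leaf (nat_lit 132108624293451321788828203089958)) (.leaf
    (nat_lit 3507253562769714446338)))) (.node (.node (.leaf (nat_lit 545903228354586)) (.leaf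
    (nat_lit 3104943449325802643207760990699537))) (.node (.leaf (nat_lit
    1729299886694846798561331)) (.leaf (nat_lit 35404476278046722))))) (.node (.node (.node (.leaf
    (nat_lit 283810584221384709)) (.leaf (nat_lit
    2502945521521981420428317313633852171161954898500583491))) (.node (.leaf (nat_lit
    956158603121852418)) (.leaf (nat_lit 593474337533788162)))) (.node (.node (.leaf (nat_lit 0))
    (.leaf (nat_lit 2925156948037009452))) (.leaf (nat_lit 0))))) (.node (.node (.node (.node
    (.leaf (nat_lit 45066907153530889)) (.leaf (nat_lit 2324500725235738))) (.node (.leaf (nat_lit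
    874952801757888556)) (.leaf (nat_lit 3363047963583774722)))) (.node (.node (.leaf (nat_lit
    770964370343521723511066187005969)) (.leaf (nat_lit 0))) (.node (.leaf (nat_lit
    1518638117328949346338)) (.leaf (nat_lit 1442039564730370))))) (.node (.node (.node (.leaf
    (nat_lit 0)) (.leaf (nat_lit 2952439340947418605151119147032))) (.node (.leaf (nat_lit
    565759061273055046676305608756)) (.leaf (nat_lit 364260471472130)))) (.node (.node (.leaf
    (nat_lit 486860274150866952)) (.leaf (nat_lit 3295305381454217284))) (.leaf (nat_lit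
    1744535575840620602)))))) (.node (.node (.node (.node (.node (.leaf (nat_lit 0)) (.leaf
    (nat_lit 0))) (.node (.leaf (nat_lit 1091019519654297625)) (.leaf (nat_lit
    2147023420779593730)))) (.node (.node (.leaf (nat_lit 689740904934054959099680983089169))
    (.leaf (nat_lit 2870339528949767))) (.node (.leaf (nat_lit 0)) (.leaf (nat_lit
    3803721821716482))))) (.node (.node (.node (.leaf (nat_lit 334590837391367)) (.leaf (nat_lit
    2863261007556631309102256422936))) (.node (.leaf (nat_lit 960170003922946)) (.leaf (nat_lit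
    386412778782654466)))) (.node (.node (.leaf (nat_lit 852091201942388738)) (.leaf (nat_lit
    3607994139936680152129053374545996))) (.leaf (nat_lit 1484113064361986))))) (.node (.node
    (.node (.node (.leaf (nat_lit 202745722209239043)) (.leaf (nat_lit 0))) (.node (.leaf (nat_lit
    0)) (.leaf (nat_lit 1543672853193490434)))) (.node (.node (.leaf (nat_lit
    852173265821451816347615225184273)) (.leaf (nat_lit 2551525236013203464))) (.node (.leaf
    (nat_lit 1998043677219297269381464124)) (.leaf (nat_lit 865964191252482))))) (.node (.node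
    (.node (.leaf (nat_lit 0)) (.leaf (nat_lit 2808419204355784729))) (.node (.leaf (nat_lit 0))
    (.leaf (nat_lit 460909066460574014783564795050690265342073957270602907732)))) (.node (.node
    (.leaf (nat_lit 1038965473935386)) (.leaf (nat_lit 588733973539258370))) (.leaf (nat_lit
    2254849201562397392044094))))))) (.node (.node (.node (.node (.node (.node (.leaf (nat_lit 0))
    (.leaf (nat_lit 0))) (.node (.leaf (nat_lit 1014450010932314114)) (.leaf (nat_lit
    3470765404369784668162)))) (.node (.node (.leaf (nat_lit 0)) (.leaf (nat_lit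
    3125591254629905002595198964029556744932718293589884997))) (.node (.leaf (nat_lit
    1108335779819749403)) (.leaf (nat_lit 517370819878518786))))) (.node (.node (.node (.leaf
    (nat_lit 0)) (.leaf (nat_lit 2204813588726743065))) (.node (.leaf (nat_lit 1333986777497602))
    (.leaf (nat_lit 3517488021241858)))) (.node (.node (.leaf (nat_lit 0)) (.leaf (nat_lit
    3099269875761154))) (.leaf (nat_lit 1965208966650839508495761430))))) (.node (.node (.node
    (.node (.leaf (nat_lit 0)) (.leaf (nat_lit 1889473822512921776029747))) (.node (.leaf (nat_lit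
    523711076370677804)) (.leaf (nat_lit 1863366639337275394)))) (.node (.node (.leaf (nat_lit 0))
    (.leaf (nat_lit 3047422495016812556))) (.node (.leaf (nat_lit 0)) (.leaf (nat_lit
    3843407319531522))))) (.node (.node (.node (.leaf (nat_lit 464236031408013337)) (.leaf (nat_lit
    0))) (.node (.leaf (nat_lit 892118879801901083)) (.leaf (nat_lit 2514922395271170)))) (.node
    (.node (.leaf (nat_lit 0)) (.leaf (nat_lit 2367651312339976194))) (.leaf (nat_lit
    2364853604906732021070141439082513)))))) (.node (.node (.node (.node (.node (.leaf (nat_lit 0))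
    (.leaf (nat_lit 1121665875366335480135720))) (.node (.leaf (nat_lit 542158016872450)) (.leaf
    (nat_lit 3477832588197890)))) (.node (.node (.leaf (nat_lit 0)) (.leaf (nat_lit 0))) (.node
    (.leaf (nat_lit 0)) (.leaf (nat_lit 517343031440113666))))) (.node (.node (.node (.leaf
    (nat_lit 369809569218567)) (.leaf (nat_lit 2585443941230788897810636275736))) (.node (.leaf
    (nat_lit 0)) (.leaf (nat_lit 3777586846805196802)))) (.node (.node (.leaf (nat_lit
    829590787401646112)) (.leaf (nat_lit 2969588829722243693380047929423))) (.leaf (nat_lit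
    1735132518040141857))))) (.node (.node (.node (.node (.leaf (nat_lit 0)) (.leaf (nat_lit 0)))
    (.node (.leaf (nat_lit 1355934060380186)) (.leaf (nat_lit 3160522667686297602)))) (.node (.node
    (.leaf (nat_lit 0)) (.leaf (nat_lit 3124014586676838413))) (.leaf (nat_lit
    862880970425965313277342878531622)))) (.node (.node (.node (.leaf (nat_lit 0)) (.leaf (nat_lit
    2852384848326895342746589207199761))) (.node (.leaf (nat_lit 0)) (.leaf (nat_lit
    3900448780189698)))) (.node (.node (.leaf (nat_lit 0)) (.leaf (nat_lit 877026304594214914)))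
    (.leaf (nat_lit 2294358786245356324768841750)))))))) (.node (.node (.node (.node (.node (.node
    (.node (.leaf (nat_lit 1)) (.leaf (nat_lit 2091249641324546))) (.node (.leaf (nat_lit
    480499466371074)) (.leaf (nat_lit 2466761638360055810)))) (.node (.node (.leaf (nat_lit 0))
    (.leaf (nat_lit 2889536825746194457))) (.node (.leaf (nat_lit 0)) (.leaf (nat_lit
    3935650332147714))))) (.node (.node (.node (.leaf (nat_lit 96789623509550045755473942)) (.leaf
    (nat_lit 2308096981736499701971442663448))) (.node (.leaf (nat_lit 1221866561615364098)) (.leaf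
    (nat_lit 3701228385014936502274)))) (.node (.node (.leaf (nat_lit
    654645966782120392910851323122483228)) (.leaf (nat_lit
    3159523779231961089715747428774334562377))) (.leaf (nat_lit 1802747999202508805))))) (.node
    (.node (.node (.node (.leaf (nat_lit 104127364130127465207608836107)) (.leaf (nat_lit 0)))
    (.node (.leaf (nat_lit 947032523467325442)) (.leaf (nat_lit 863566242160771074)))) (.node
    (.node (.leaf (nat_lit 721266871768383513)) (.leaf (nat_lit 2585452865109757673439410716695)))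
    (.node (.leaf (nat_lit 0)) (.leaf (nat_lit 2066570759241730))))) (.node (.node (.node (.leaf
    (nat_lit 422637666959367)) (.leaf (nat_lit 0))) (.node (.leaf (nat_lit 0)) (.leaf (nat_lit
    1916779479826434)))) (.node (.node (.leaf (nat_lit 960217673634086931)) (.leaf (nat_lit
    1536109609793108515269896223846222890342609801695877660755))) (.leaf (nat_lit 0)))))) (.node
    (.node (.node (.node (.node (.leaf (nat_lit 29715448661370220224866353158)) (.leaf (nat_lit
    2248418664895772855959601))) (.node (.leaf (nat_lit 544341467436194155790376)) (.leaf (nat_lit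
    1576001157839437692930)))) (.node (.node (.leaf (nat_lit 649138913281245209)) (.leaf (nat_lit
    2970482699984371780))) (.node (.leaf (nat_lit 1136113893123489825)) (.leaf (nat_lit
    4182042032532160249858))))) (.node (.node (.node (.leaf (nat_lit 0)) (.leaf (nat_lit 0)))
    (.node (.leaf (nat_lit 1195635775123736953684017)) (.leaf (nat_lit 2035432246345730)))) (.node
    (.node (.leaf (nat_lit 829590804581515283)) (.leaf (nat_lit 3337322982382632173646))) (.leaf
    (nat_lit 0))))) (.node (.node (.node (.node (.leaf (nat_lit 241822942895545690985201680))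
    (.leaf (nat_lit 2081176033722792926599855931415))) (.node (.leaf (nat_lit 0)) (.leaf (nat_lit
    1395079526056394754)))) (.node (.node (.leaf (nat_lit 793394791600816153)) (.leaf (nat_lit
    3114923592610152516))) (.node (.leaf (nat_lit 1933442049905071835381822)) (.leaf (nat_lit
    3605955757604866))))) (.node (.node (.node (.leaf (nat_lit 0)) (.leaf (nat_lit
    2547294031801679904))) (.node (.leaf (nat_lit 572255953142814081078)) (.leaf (nat_lit
    337137319075315714)))) (.node (.node (.leaf (nat_lit 0)) (.leaf (nat_lit 3292934246105090)))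
    (.leaf (nat_lit 0))))))) (.node (.node (.node (.node (.node (.node (.leaf (nat_lit
    36042038403334147)) (.leaf (nat_lit 2289230453800967))) (.node (.leaf (nat_lit
    1025883003551746)) (.leaf (nat_lit 2782034782169792514)))) (.node (.node (.leaf (nat_lit
    485364695173779117981158539287)) (.leaf (nat_lit 0))) (.node (.leaf (nat_lit
    1166741510686882011392901176)) (.leaf (nat_lit 417226008166402))))) (.node (.node (.node (.leaf
    (nat_lit 0)) (.leaf (nat_lit 0))) (.node (.leaf (nat_lit 471986841190402)) (.leaf (nat_lit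
    2385964004918099970)))) (.node (.node (.leaf (nat_lit 602417988876804916717040178676957213))
    (.leaf (nat_lit 3523432182842167092712336457780))) (.leaf (nat_lit 806813901651970))))) (.node
    (.node (.node (.node (.leaf (nat_lit 162252907981504525)) (.leaf (nat_lit 0))) (.node (.leaf
    (nat_lit 0)) (.leaf (nat_lit 3548261461917698)))) (.node (.node (.leaf (nat_lit
    356613873170644881035225399319)) (.leaf (nat_lit 3377165291443949597094606227265617990)))
    (.node (.leaf (nat_lit 1794171705426640910)) (.leaf (nat_lit 1384925089628162))))) (.node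
    (.node (.node (.leaf (nat_lit 0)) (.leaf (nat_lit 3031968153804592772306277171224))) (.node
    (.leaf (nat_lit 1636192891200274467)) (.leaf (nat_lit 131198366121986)))) (.node (.node (.leaf
    (nat_lit 0)) (.leaf (nat_lit 890475058378768386))) (.leaf (nat_lit 0)))))) (.node (.node (.node
    (.node (.node (.leaf (nat_lit 0)) (.leaf (nat_lit 1079836382724098))) (.node (.leaf (nat_lit
    1275091282406080554)) (.leaf (nat_lit 3581986392254424809474)))) (.node (.node (.leaf (nat_lit
    386295391670376824107711266839)) (.leaf (nat_lit 3006714026186178572))) (.node (.leaf (nat_lit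
    1568806937385173050)) (.leaf (nat_lit 3860947965968386))))) (.node (.node (.node (.leaf
    (nat_lit 365113083469368131149380448682001)) (.leaf (nat_lit 0))) (.node (.leaf (nat_lit
    1191171202639758753071155)) (.leaf (nat_lit 2440104064974850)))) (.node (.node (.leaf (nat_lit
    904756079230548443170)) (.leaf (nat_lit 3440102243109892068850112504317673542))) (.leaf
    (nat_lit 0))))) (.node (.node (.node (.node (.leaf (nat_lit 207341749532819475)) (.leaf
    (nat_lit 0))) (.node (.leaf (nat_lit 1655195839297040597434780444704950059056)) (.leaf (nat_lit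
    1771437786529794)))) (.node (.node (.leaf (nat_lit 0)) (.leaf (nat_lit
    3547681342633265339163720110571591))) (.leaf (nat_lit 1180570545684482)))) (.node (.node (.node
    (.leaf (nat_lit 0)) (.leaf (nat_lit 0))) (.node (.leaf (nat_lit 0)) (.leaf (nat_lit
    571362750677319682)))) (.node (.node (.leaf (nat_lit 939057323660907242592796708)) (.leaf
    (nat_lit 886033542503661570))) (.leaf (nat_lit 815816153104386))))))))) (.node (.node (.node
    (.node (.node (.node (.node (.node (.leaf (nat_lit 1)) (.leaf (nat_lit 1836162943680514)))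
    (.node (.leaf (nat_lit 1041462280027570178)) (.leaf (nat_lit 3380972485738498)))) (.node (.node
    (.leaf (nat_lit 558688791813095451)) (.leaf (nat_lit
    3329502019918645650674744638057485277868364910650392643))) (.node (.leaf (nat_lit
    1771801320298196007977009)) (.leaf (nat_lit 4235279566307096105648130))))) (.node (.node (.node
    (.leaf (nat_lit 174250762427143473701715989)) (.leaf (nat_lit 0))) (.node (.leaf (nat_lit
    1032719805377085442)) (.leaf (nat_lit 2111187841454374914)))) (.node (.node (.leaf (nat_lit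
    836457765928986)) (.leaf (nat_lit 3117392634272132959742774935624))) (.leaf (nat_lit
    1785164609251115028))))) (.node (.node (.node (.node (.leaf (nat_lit 132253931667371510267914))
    (.leaf (nat_lit 930887639547238825656386))) (.node (.leaf (nat_lit 891339966432940392493))
    (.leaf (nat_lit 2529896124307931138)))) (.node (.node (.leaf (nat_lit 415026744261804057))
    (.leaf (nat_lit 2949581675560967))) (.node (.leaf (nat_lit 0)) (.leaf (nat_lit
    3755412029571074))))) (.node (.node (.node (.leaf (nat_lit 0)) (.leaf (nat_lit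
    2830645173589461393646042825097233))) (.node (.leaf (nat_lit 1536210907683308699682)) (.leaf
    (nat_lit 1828818549604354)))) (.node (.node (.leaf (nat_lit 982731265134493705)) (.leaf
    (nat_lit 3643086405142530059864369463378))) (.leaf (nat_lit 2187970451349247757713467))))))
    (.node (.node (.node (.node (.node (.leaf (nat_lit 27034864918396933)) (.leaf (nat_lit
    2210639769070408806236211))) (.node (.leaf (nat_lit 1210130909462251076212621351)) (.leaf
    (nat_lit 2228097104654565378)))) (.node (.node (.leaf (nat_lit 419459906425520153)) (.leaf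
    (nat_lit 2983625758041990610935115390910481))) (.node (.leaf (nat_lit 1577814102280175673))
    (.leaf (nat_lit 3741903717344149506))))) (.node (.node (.node (.leaf (nat_lit
    118856750922926427532236881943)) (.leaf (nat_lit 0))) (.node (.leaf (nat_lit 982160236478466))
    (.leaf (nat_lit 107198561187463170)))) (.node (.node (.leaf (nat_lit 489080811028482)) (.leaf
    (nat_lit 3162237133517297549389))) (.leaf (nat_lit 0))))) (.node (.node (.node (.node (.leaf
    (nat_lit 227349028093153934074839055)) (.leaf (nat_lit 0))) (.node (.leaf (nat_lit 0)) (.leaf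
    (nat_lit 2453117815881730)))) (.node (.node (.leaf (nat_lit 460133177999163417)) (.leaf
    (nat_lit 3069272067393388590))) (.node (.leaf (nat_lit 872114132142489547873583165)) (.leaf
    (nat_lit 3698306144403458))))) (.node (.node (.node (.leaf (nat_lit 0)) (.leaf (nat_lit
    2808388057252954180))) (.node (.leaf (nat_lit 1397304941885980716)) (.leaf (nat_lit
    332633706563043330)))) (.node (.node (.leaf (nat_lit 0)) (.leaf (nat_lit 2219037137431625730)))
    (.leaf (nat_lit 2161575435829250))))))) (.node (.node (.node (.node (.node (.node (.leaf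
    (nat_lit 0)) (.leaf (nat_lit 0))) (.node (.leaf (nat_lit 1034670506639362)) (.leaf (nat_lit
    1674136620862996482)))) (.node (.node (.leaf (nat_lit 589926643138567)) (.leaf (nat_lit 0)))
    (.node (.leaf (nat_lit 1019750527091127615543)) (.leaf (nat_lit 526378027723194370))))) (.node
    (.node (.node (.leaf (nat_lit 308176788520967)) (.leaf (nat_lit 0))) (.node (.leaf (nat_lit
    1342791460454402)) (.leaf (nat_lit 341306345045295106)))) (.node (.node (.leaf (nat_lit
    871676497756186)) (.leaf (nat_lit 2937250795347437023499927337344499786))) (.leaf (nat_lit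
    702003301316993427096179543900223))))) (.node (.node (.node (.node (.leaf (nat_lit
    135231310217281548)) (.leaf (nat_lit 1927252430107909674041393))) (.node (.leaf (nat_lit
    505696643501457454)) (.leaf (nat_lit 2967603358334978)))) (.node (.node (.leaf (nat_lit
    730801570447367)) (.leaf (nat_lit 0))) (.node (.leaf (nat_lit 1288932918324035597)) (.leaf
    (nat_lit 3649961992519682))))) (.node (.node (.node (.leaf (nat_lit 0)) (.leaf (nat_lit
    2703050552770567))) (.node (.leaf (nat_lit 1500608039726229330262884391)) (.leaf (nat_lit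
    82811264565250)))) (.node (.node (.leaf (nat_lit 0)) (.leaf (nat_lit 2628824927961090))) (.leaf
    (nat_lit 0)))))) (.node (.node (.node (.node (.node (.leaf (nat_lit 96864397557767)) (.leaf
    (nat_lit 1357946291082166274))) (.node (.leaf (nat_lit 573115722290287607849)) (.leaf (nat_lit
    1863332146454921218)))) (.node (.node (.leaf (nat_lit 660364106792967)) (.leaf (nat_lit
    3151057146265675202614442524696))) (.node (.leaf (nat_lit 1812208025449201699)) (.leaf (nat_lit
    3869735469056002))))) (.node (.node (.node (.leaf (nat_lit 118842295929790607935662391320))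
    (.leaf (nat_lit 0))) (.node (.leaf (nat_lit 901126027517034540)) (.leaf (nat_lit
    1978300591374338)))) (.node (.node (.leaf (nat_lit 820583579556970529)) (.leaf (nat_lit
    2994917183877637528118327853449296))) (.leaf (nat_lit 1592416487838125581404602383))))) (.node
    (.node (.node (.node (.leaf (nat_lit 36059828157874194)) (.leaf (nat_lit 0))) (.node (.leaf
    (nat_lit 654351098666954764622482393765838895)) (.leaf (nat_lit 1767039740018690)))) (.node
    (.node (.leaf (nat_lit 0)) (.leaf (nat_lit 3051257703243644931))) (.leaf (nat_lit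
    824328778285058)))) (.node (.node (.node (.leaf (nat_lit 0)) (.leaf (nat_lit
    2853274876427567172))) (.node (.leaf (nat_lit 1620100318887962)) (.leaf (nat_lit
    562355542832644098)))) (.node (.node (.leaf (nat_lit 1082988888719386)) (.leaf (nat_lit
    1282350279647494146))) (.leaf (nat_lit 760813659688423991872501204910144)))))))) (.node (.node
    (.node (.node (.node (.node (.node (.leaf (nat_lit 0)) (.leaf (nat_lit 2223191036657666)))
    (.node (.leaf (nat_lit 973917622875914242)) (.leaf (nat_lit 2727983348894072834)))) (.node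
    (.node (.leaf (nat_lit 0)) (.leaf (nat_lit 0))) (.node (.leaf (nat_lit 1672928416628762))
    (.leaf (nat_lit 4125139095388302868482))))) (.node (.node (.node (.leaf (nat_lit 0)) (.leaf
    (nat_lit 2901400261536446411786914531639313))) (.node (.leaf (nat_lit 1351570373607426)) (.leaf
    (nat_lit 1926571017287958530)))) (.node (.node (.leaf (nat_lit 0)) (.leaf (nat_lit
    3094871829250050))) (.leaf (nat_lit 1950263230652793249828569109))))) (.node (.node (.node
    (.node (.leaf (nat_lit 126180109022593029)) (.leaf (nat_lit 1136913163022133100585))) (.node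
    (.leaf (nat_lit 533422053392386)) (.leaf (nat_lit 1656204243343966210)))) (.node (.node (.leaf
    (nat_lit 0)) (.leaf (nat_lit 2992079496299370603867340734488))) (.node (.leaf (nat_lit 0))
    (.leaf (nat_lit 2207316837531650))))) (.node (.node (.node (.leaf (nat_lit
    395655704622322724940891810168849)) (.leaf (nat_lit 0))) (.node (.leaf (nat_lit
    1514461303275546)) (.leaf (nat_lit 2268623200714754)))) (.node (.node (.leaf (nat_lit 0))
    (.leaf (nat_lit 2349636922420428802))) (.leaf (nat_lit 0)))))) (.node (.node (.node (.node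
    (.node (.leaf (nat_lit 0)) (.leaf (nat_lit 1142356447281403688506490945))) (.node (.leaf
    (nat_lit 600197537605025794)) (.leaf (nat_lit 1271630148929837072386)))) (.node (.node (.leaf
    (nat_lit 0)) (.leaf (nat_lit 0))) (.node (.leaf (nat_lit 692455710401183518640439311)) (.leaf
    (nat_lit 4182051048639177162754))))) (.node (.node (.node (.leaf (nat_lit 0)) (.leaf (nat_lit
    2615003723202567))) (.node (.leaf (nat_lit 1551551085771730421787090419762)) (.leaf (nat_lit
    2954632557101058)))) (.node (.node (.leaf (nat_lit 838597978066452511)) (.leaf (nat_lit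
    2966560106352934957))) (.leaf (nat_lit 1685988746325065785))))) (.node (.node (.node (.node
    (.leaf (nat_lit 121739270306188843685492210270225)) (.leaf (nat_lit
    2764003040647130202905957040152))) (.node (.leaf (nat_lit 0)) (.leaf (nat_lit
    521390488360779778)))) (.node (.node (.leaf (nat_lit 0)) (.leaf (nat_lit 0))) (.node (.leaf
    (nat_lit 1862250575036418)) (.leaf (nat_lit 3658732315738114))))) (.node (.node (.node (.leaf
    (nat_lit 501879813570586)) (.leaf (nat_lit 0))) (.node (.leaf (nat_lit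
    1734198065548741170233393)) (.leaf (nat_lit 427209345982464002)))) (.node (.node (.leaf
    (nat_lit 0)) (.leaf (nat_lit 2682973517561135106))) (.leaf (nat_lit 2108258523434647557)))))))
    (.node (.node (.node (.node (.node (.node (.leaf (nat_lit 36916010590847369220)) (.leaf
    (nat_lit 2131680285931451150300676461428753))) (.node (.leaf (nat_lit
    446664236515709308211396702896145)) (.leaf (nat_lit 3572231516653185400834)))) (.node (.node
    (.leaf (nat_lit 356855823723544431640176951320)) (.leaf (nat_lit 0))) (.node (.leaf (nat_lit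
    1878585524576976210705219256372)) (.leaf (nat_lit 571351085546143746))))) (.node (.node (.node
    (.leaf (nat_lit 0)) (.leaf (nat_lit 2579784991375367))) (.node (.leaf (nat_lit
    942577817878530)) (.leaf (nat_lit 3669521372239036418)))) (.node (.node (.leaf (nat_lit
    594271607568735305455834768080926)) (.leaf (nat_lit 2754400057686956414336219152459))) (.leaf
    (nat_lit 1453326738784258))))) (.node (.node (.node (.node (.leaf (nat_lit 45066958693138446))
    (.leaf (nat_lit 0))) (.node (.leaf (nat_lit 0)) (.leaf (nat_lit 2136406927474690)))) (.node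
    (.node (.leaf (nat_lit 485374238993565889270097838104)) (.leaf (nat_lit 0))) (.node (.leaf
    (nat_lit 1838776693142257667)) (.leaf (nat_lit 3583948345180162))))) (.node (.node (.node
    (.leaf (nat_lit 0)) (.leaf (nat_lit 3023764120978016188112079063351313))) (.node (.leaf
    (nat_lit 1280629131633164341)) (.leaf (nat_lit 144392505655298)))) (.node (.node (.leaf
    (nat_lit 0)) (.leaf (nat_lit 1421899844473257986))) (.leaf (nat_lit
    2327768256380897934558232636)))))) (.node (.node (.node (.node (.node (.leaf (nat_lit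
    36059707898789896)) (.leaf (nat_lit 0))) (.node (.leaf (nat_lit 1166741492096435362820653099))
    (.leaf (nat_lit 2584938952130562)))) (.node (.node (.leaf (nat_lit
    425924183242155452820934295576)) (.leaf (nat_lit 0))) (.node (.leaf (nat_lit
    817626091173489269866555)) (.leaf (nat_lit 4050128390455298))))) (.node (.node (.node (.leaf
    (nat_lit 248094203123531801)) (.leaf (nat_lit 2650222455029767))) (.node (.leaf (nat_lit
    1611462148681395184402481)) (.leaf (nat_lit 2506083352576002)))) (.node (.node (.leaf (nat_lit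
    987089557428305955)) (.leaf (nat_lit 3804253463154074311440245733938757713))) (.leaf (nat_lit
    2118752159330926627))))) (.node (.node (.node (.node (.leaf (nat_lit 72088625176838164)) (.leaf
    (nat_lit 2509347527720967))) (.node (.leaf (nat_lit 510302257192042498)) (.leaf (nat_lit
    1780233879552002)))) (.node (.node (.leaf (nat_lit 0)) (.leaf (nat_lit 0))) (.leaf (nat_lit
    1475239661928450)))) (.node (.node (.node (.leaf (nat_lit 0)) (.leaf (nat_lit
    3121273236474000905442395881496))) (.node (.leaf (nat_lit 1117342944714752044)) (.leaf (nat_lit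
    1295275116128331104258)))) (.node (.node (.leaf (nat_lit
    1023521495876162537050055602835357733)) (.leaf (nat_lit 2358679151428435970))) (.leaf (nat_lit
    1172057920503810))))))))))

/-- Certificate data. -/
def te_rel : Trie :=
    (.node (.node (.node (.node (.node (.node (.node (.leaf (nat_lit 0)) (.leaf (nat_lit
    5501870277122))) (.leaf (nat_lit 21525561610))) (.node (.node (.leaf (nat_lit 50463235)) (.leaf
    (nat_lit 217581282346205702))) (.leaf (nat_lit 432632554043081987)))) (.node (.node (.node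
    (.leaf (nat_lit 2207697142022)) (.leaf (nat_lit 37889685794576088302085))) (.leaf (nat_lit
    17236743))) (.node (.leaf (nat_lit 328965)) (.leaf (nat_lit 17039875))))) (.node (.node (.node
    (.node (.leaf (nat_lit 217863852539642117)) (.leaf (nat_lit 9537544836831022024710))) (.leaf
    (nat_lit 146373597861316361))) (.node (.leaf (nat_lit 849935457322502)) (.leaf (nat_lit
    25937708292)))) (.node (.node (.node (.leaf (nat_lit 67240705)) (.leaf (nat_lit 12985633285)))
    (.leaf (nat_lit 34014215))) (.node (.leaf (nat_lit 217862753028014597)) (.leaf (nat_lit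
    43033757185)))))) (.node (.node (.node (.node (.node (.leaf (nat_lit 17281188357)) (.leaf
    (nat_lit 117507843))) (.leaf (nat_lit 1412876837455362))) (.node (.node (.leaf (nat_lit
    50463745)) (.leaf (nat_lit 6656565297162384464731174761732244744))) (.leaf (nat_lit
    432914024724759812)))) (.node (.node (.node (.leaf (nat_lit 67174660)) (.leaf (nat_lit
    166527359343866742017))) (.leaf (nat_lit 101123591))) (.node (.leaf (nat_lit
    23778285743587046000130)) (.leaf (nat_lit 1132522797073157))))) (.node (.node (.node (.node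
    (.leaf (nat_lit 33686018)) (.leaf (nat_lit 648808647576650757))) (.leaf (nat_lit 42983556102)))
    (.node (.leaf (nat_lit 578437682867538177)) (.leaf (nat_lit 1411798800729347)))) (.node (.node
    (.node (.leaf (nat_lit 286976913835526)) (.leaf (nat_lit 147719758843900004615))) (.leaf
    (nat_lit 9482204605709505921285))) (.node (.leaf (nat_lit 16974340)) (.leaf (nat_lit
    433191110262194696))))))) (.node (.node (.node (.node (.node (.node (.leaf (nat_lit 67568135))
    (.leaf (nat_lit 10659948108471577095498723785710045189))) (.leaf (nat_lit 16843780))) (.node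
    (.node (.leaf (nat_lit 50528770)) (.leaf (nat_lit 11994266671223481858633608495723055366)))
    (.leaf (nat_lit 6605693583617)))) (.node (.node (.node (.leaf (nat_lit 432632549748114692))
    (.leaf (nat_lit 432912933853399047))) (.leaf (nat_lit 1695459899016452))) (.node (.leaf
    (nat_lit 84346119)) (.leaf (nat_lit 1103907389957))))) (.node (.node (.node (.node (.leaf
    (nat_lit 526344)) (.leaf (nat_lit 129560399626128393992))) (.leaf (nat_lit 1412885427521028)))
    (.node (.leaf (nat_lit 578152905077885186)) (.leaf (nat_lit 21542341122)))) (.node (.node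
    (.node (.leaf (nat_lit 569572810096901)) (.leaf (nat_lit 216459784864532486))) (.leaf (nat_lit
    23777925456686370850305))) (.node (.leaf (nat_lit 33751810)) (.leaf (nat_lit
    74317116236629257)))))) (.node (.node (.node (.node (.node (.leaf (nat_lit 50790663)) (.leaf
    (nat_lit 11994388763063492601742407182183696646))) (.leaf (nat_lit 23759839558048198033924)))
    (.node (.leaf (nat_lit 849939769197317)) (.leaf (nat_lit 117704450)))) (.node (.node (.node
    (.leaf (nat_lit 67175170)) (.leaf (nat_lit 8674084362))) (.leaf (nat_lit 117769989))) (.node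
    (.leaf (nat_lit 23648872276089278825985)) (.leaf (nat_lit 1132514240692998))))) (.node (.node
    (.node (.node (.leaf (nat_lit 33686275)) (.leaf (nat_lit 28389612604329329689864))) (.leaf
    (nat_lit 25787237635))) (.node (.leaf (nat_lit 117573380)) (.leaf (nat_lit 33816835)))) (.node
    (.node (.node (.leaf (nat_lit 148080047900715976967)) (.leaf (nat_lit 9592739832375166436610)))
    (.leaf (nat_lit 6601381839362))) (.node (.leaf (nat_lit 33751300)) (.leaf (nat_lit
    1693273744016643))))))))

/-- Certificate data. -/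
def te_rc : Trie :=
    (.node (.node (.node (.node (.node (.node (.node (.leaf (nat_lit 42)) (.leaf (nat_lit 393223)))
    (.leaf (nat_lit 524329))) (.node (.node (.leaf (nat_lit 131076)) (.leaf (nat_lit 393230)))
    (.leaf (nat_lit 393232)))) (.node (.node (.node (.leaf (nat_lit 655367)) (.leaf (nat_lit
    524322))) (.leaf (nat_lit 262166))) (.node (.leaf (nat_lit 0)) (.leaf (nat_lit 131084)))))
    (.node (.node (.node (.node (.leaf (nat_lit 131089)) (.leaf (nat_lit 786466))) (.leaf (nat_lit
    917533))) (.node (.leaf (nat_lit 393227)) (.leaf (nat_lit 262184)))) (.node (.node (.node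
    (.leaf (nat_lit 12)) (.leaf (nat_lit 393257))) (.leaf (nat_lit 393239))) (.node (.leaf (nat_lit
    524304)) (.leaf (nat_lit 41)))))) (.node (.node (.node (.node (.node (.leaf (nat_lit 393256))
    (.leaf (nat_lit 393238))) (.leaf (nat_lit 524296))) (.node (.node (.leaf (nat_lit 131085))
    (.leaf (nat_lit 131108))) (.leaf (nat_lit 917520)))) (.node (.node (.node (.leaf (nat_lit
    393221)) (.leaf (nat_lit 31))) (.leaf (nat_lit 131091))) (.node (.leaf (nat_lit 1048611))
    (.leaf (nat_lit 786443))))) (.node (.node (.node (.node (.leaf (nat_lit 3)) (.leaf (nat_lit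
    393244))) (.leaf (nat_lit 131112))) (.node (.leaf (nat_lit 131100)) (.leaf (nat_lit 11))))
    (.node (.node (.node (.leaf (nat_lit 393225)) (.leaf (nat_lit 131102))) (.leaf (nat_lit 34)))
    (.node (.leaf (nat_lit 262157)) (.leaf (nat_lit 655389))))))) (.node (.node (.node (.node
    (.node (.node (.leaf (nat_lit 131095)) (.leaf (nat_lit 786468))) (.leaf (nat_lit 262149)))
    (.node (.node (.leaf (nat_lit 262148)) (.leaf (nat_lit 1179685))) (.leaf (nat_lit 7)))) (.node
    (.node (.node (.leaf (nat_lit 524305)) (.leaf (nat_lit 917532))) (.leaf (nat_lit 655371)))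
    (.node (.leaf (nat_lit 18)) (.leaf (nat_lit 262151))))) (.node (.node (.node (.node (.leaf
    (nat_lit 26)) (.leaf (nat_lit 786463))) (.leaf (nat_lit 524298))) (.node (.leaf (nat_lit
    786461)) (.leaf (nat_lit 524328)))) (.node (.node (.node (.leaf (nat_lit 786441)) (.leaf
    (nat_lit 524317))) (.leaf (nat_lit 524323))) (.node (.leaf (nat_lit 393220)) (.leaf (nat_lit
    262172)))))) (.node (.node (.node (.node (.node (.leaf (nat_lit 22)) (.leaf (nat_lit 1703973)))
    (.leaf (nat_lit 786465))) (.node (.leaf (nat_lit 131083)) (.leaf (nat_lit 262167)))) (.node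
    (.node (.node (.leaf (nat_lit 393229)) (.leaf (nat_lit 40))) (.leaf (nat_lit 131090))) (.node
    (.leaf (nat_lit 131106)) (.leaf (nat_lit 10))))) (.node (.node (.node (.node (.leaf (nat_lit
    4)) (.leaf (nat_lit 524321))) (.leaf (nat_lit 262185))) (.node (.leaf (nat_lit 23)) (.leaf
    (nat_lit 13)))) (.node (.node (.node (.leaf (nat_lit 917535)) (.leaf (nat_lit 1179682))) (.leaf
    (nat_lit 524294))) (.node (.leaf (nat_lit 393228)) (.leaf (nat_lit 131082))))))))

/-- Certificate data. -/
def te_lv : Trie :=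
    (.node (.node (.node (.leaf (nat_lit 0)) (.leaf (nat_lit 23))) (.node (.leaf (nat_lit 6))
    (.leaf (nat_lit 27)))) (.node (.node (.leaf (nat_lit 5)) (.leaf (nat_lit 26))) (.leaf (nat_lit
    22))))

/-- Certificate data. -/
def te_tb : Trie :=
    (.node (.node (.node (.node (.node (.node (.leaf (nat_lit 924)) (.leaf (nat_lit 7090))) (.leaf
    (nat_lit 5244))) (.node (.node (.leaf (nat_lit 1952)) (.leaf (nat_lit 5619))) (.leaf (nat_lit
    4392)))) (.node (.node (.node (.leaf (nat_lit 7088)) (.leaf (nat_lit 2329))) (.leaf (nat_lit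
    2175))) (.node (.leaf (nat_lit 4023)) (.leaf (nat_lit 1046))))) (.node (.node (.node (.node
    (.leaf (nat_lit 2960)) (.leaf (nat_lit 6056))) (.leaf (nat_lit 1141))) (.node (.leaf (nat_lit
    6058)) (.leaf (nat_lit 6275)))) (.node (.node (.node (.leaf (nat_lit 5037)) (.leaf (nat_lit
    3511))) (.leaf (nat_lit 1319))) (.node (.leaf (nat_lit 0)) (.leaf (nat_lit 25)))))) (.node
    (.node (.node (.node (.node (.leaf (nat_lit 1955)) (.leaf (nat_lit 5039))) (.leaf (nat_lit
    4215))) (.node (.node (.leaf (nat_lit 2956)) (.leaf (nat_lit 4317))) (.leaf (nat_lit 3369))))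
    (.node (.node (.node (.leaf (nat_lit 4005)) (.leaf (nat_lit 1304))) (.leaf (nat_lit 3))) (.node
    (.leaf (nat_lit 4954)) (.leaf (nat_lit 2075))))) (.node (.node (.node (.node (.leaf (nat_lit
    5947)) (.leaf (nat_lit 5))) (.leaf (nat_lit 6273))) (.node (.leaf (nat_lit 7078)) (.leaf
    (nat_lit 5250)))) (.node (.node (.node (.leaf (nat_lit 922)) (.leaf (nat_lit 6364))) (.leaf
    (nat_lit 2103))) (.node (.leaf (nat_lit 3186)) (.leaf (nat_lit 4020)))))))

/-- Certificate data. -/
def te_C : TC.Cert := ⟨7, 127, 10, 1023, 12127203654523055465628160, 1248, te_par, te_fact, te_just, te_rel, 83⟩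

/-- Certificate data. -/
def te_rs : List (List ℕ) := [[5, 5, 5], [1, 1, 1, 1], [3, 3, 2, 2], [5, 1, 1, 6, 2, 2], [6, 1, 5, 5, 2, 6, 2], [6, 3, 5, 5, 4, 6, 4], [1, 3, 2, 4], [1, 5, 3, 6, 2, 5, 4, 6], [5, 1, 6, 3, 5, 2, 6, 4], [7, 5, 7, 5], [7, 7], [7, 1, 7, 3], [7, 3, 7, 1], [8, 8, 8], [8, 1, 9, 5, 4, 2, 6, 7], [8, 7, 9, 7, 5, 4, 2, 6, 2], [8, 5, 1, 3, 6, 9, 5, 4, 2, 6], [5, 1, 6, 8, 5, 2, 6, 8, 2, 2], [5, 8, 5, 8, 5, 8, 5, 8, 5, 4, 2, 6, 4, 2, 2, 2], [10, 10], [10, 6, 4, 5, 2]]

/-- Certificate data. -/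
def te_gl : List ℕ := [1, 1795, 3589, 5383, 7176, 8970]

theorem te_h1 : allB te_C.factChk 476 = true := by decide +kernel

theorem te_h2 : te_C.finChk 476 7 te_lv te_tb te_gl = true := by decide +kernel

theorem te_h3 : TC.relChk te_C.ivc te_rs te_C.rel te_rc te_C.nrel = true := by decide +kernel

theorem te_bound {G : Type*} [Group G] {a b x y r z : G}
    (r0 : x * x * x = 1)
    (r1 : a * a * a * a = 1)
    (r2 : b * b * a⁻¹ * a⁻¹ = 1)
    (r3 : x * a * a * x⁻¹ * a⁻¹ * a⁻¹ = 1)
    (r4 : x⁻¹ * a * x * x * a⁻¹ * x⁻¹ * a⁻¹ = 1)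
    (r5 : x⁻¹ * b * x * x * b⁻¹ * x⁻¹ * b⁻¹ = 1)
    (r6 : a * b * a⁻¹ * b⁻¹ = 1)
    (r7 : a * x * b * x⁻¹ * a⁻¹ * x * b⁻¹ * x⁻¹ = 1)
    (r8 : x * a * x⁻¹ * b * x * a⁻¹ * x⁻¹ * b⁻¹ = 1)
    (r9 : y * x * y * x = 1)
    (r10 : y * y = 1)
    (r11 : y * a * y * b = 1)
    (r12 : y * b * y * a = 1)
    (r13 : r * r * r = 1)
    (r14 : r * a * r⁻¹ * x * b⁻¹ * a⁻¹ * x⁻¹ * y = 1)
    (r15 : r * y * r⁻¹ * y * x * b⁻¹ * a⁻¹ * x⁻¹ * a⁻¹ = 1)
    (r16 : r * x * a * b * x⁻¹ * r⁻¹ * x * b⁻¹ * a⁻¹ * x⁻¹ = 1)
    (r17 : x * a * x⁻¹ * r * x * a⁻¹ * x⁻¹ * r * a⁻¹ * a⁻¹ = 1)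
    (r18 : x * r * x * r * x * r * x * r * x * b⁻¹ * a⁻¹ * x⁻¹ * b⁻¹ * a⁻¹ * a⁻¹ * a⁻¹ = 1)
    (r19 : z * z = 1)
    (r20 : z * x⁻¹ * b⁻¹ * x * a⁻¹ = 1)
    (H : Subgroup G) [Finite H] (m5 : x ∈ H) (m7 : y ∈ H) (m10 : z ∈ H) :
    Finite (Subgroup.closure ({a, b, x, y, r, z} : Set G)) ∧
      Nat.card (Subgroup.closure ({a, b, x, y, r, z} : Set G)) ≤ 7 * Nat.card H := by
  have hL : TC.Lett (TC.lett [a, a⁻¹, b, b⁻¹, x, x⁻¹, y, r, r⁻¹, z]) te_C.ivc :=
    TC.lett_ok (show Nat.shiftRight te_C.ivc (8 * 11) = 0 by decide +kernel) (by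
      intro a ha
      change a < 11 at ha
      interval_cases a
      · exact inv_one.symm
      · rfl
      · exact (inv_inv _).symm
      · rfl
      · exact (inv_inv _).symm
      · rfl
      · exact (inv_inv _).symm
      · exact (inv_eq_of_mul_eq_one_right r10).symm
      · rfl
      · exact (inv_inv _).symm
      · exact (inv_eq_of_mul_eq_one_right r19).symm)
  have h := TC.card_le te_h1 te_h2 te_h3 (by decide) hL (by
    simp only [te_rs, List.forall_mem_cons]
    refine ⟨?_, ?_, ?_, ?_, ?_, ?_, ?_, ?_, ?_, ?_, ?_, ?_, ?_, ?_, ?_, ?_, ?_, ?_, ?_, ?_, ?_,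
    List.forall_mem_nil _⟩
    · show x * (x * (x * 1)) = 1
      simp only [mul_assoc, mul_one] at r0 ⊢
      exact r0
    · show a * (a * (a * (a * 1))) = 1
      simp only [mul_assoc, mul_one] at r1 ⊢
      exact r1
    · show b * (b * (a⁻¹ * (a⁻¹ * 1))) = 1
      simp only [mul_assoc, mul_one] at r2 ⊢
      exact r2
    · show x * (a * (a * (x⁻¹ * (a⁻¹ * (a⁻¹ * 1))))) = 1
      simp only [mul_assoc, mul_one] at r3 ⊢
      exact r3
    · show x⁻¹ * (a * (x * (x * (a⁻¹ * (x⁻¹ * (a⁻¹ * 1)))))) = 1
      simp only [mul_assoc, mul_one] at r4 ⊢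
      exact r4
    · show x⁻¹ * (b * (x * (x * (b⁻¹ * (x⁻¹ * (b⁻¹ * 1)))))) = 1
      simp only [mul_assoc, mul_one] at r5 ⊢
      exact r5
    · show a * (b * (a⁻¹ * (b⁻¹ * 1))) = 1
      simp only [mul_assoc, mul_one] at r6 ⊢
      exact r6
    · show a * (x * (b * (x⁻¹ * (a⁻¹ * (x * (b⁻¹ * (x⁻¹ * 1))))))) = 1
      simp only [mul_assoc, mul_one] at r7 ⊢
      exact r7
    · show x * (a * (x⁻¹ * (b * (x * (a⁻¹ * (x⁻¹ * (b⁻¹ * 1))))))) = 1
      simp only [mul_assoc, mul_one] at r8 ⊢
      exact r8
    · show y * (x * (y * (x * 1))) = 1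
      simp only [mul_assoc, mul_one] at r9 ⊢
      exact r9
    · show y * (y * 1) = 1
      simp only [mul_one] at r10 ⊢
      exact r10
    · show y * (a * (y * (b * 1))) = 1
      simp only [mul_assoc, mul_one] at r11 ⊢
      exact r11
    · show y * (b * (y * (a * 1))) = 1
      simp only [mul_assoc, mul_one] at r12 ⊢
      exact r12
    · show r * (r * (r * 1)) = 1
      simp only [mul_assoc, mul_one] at r13 ⊢
      exact r13
    · show r * (a * (r⁻¹ * (x * (b⁻¹ * (a⁻¹ * (x⁻¹ * (y * 1))))))) = 1
      simp only [mul_assoc, mul_one] at r14 ⊢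
      exact r14
    · show r * (y * (r⁻¹ * (y * (x * (b⁻¹ * (a⁻¹ * (x⁻¹ * (a⁻¹ * 1)))))))) = 1
      simp only [mul_assoc, mul_one] at r15 ⊢
      exact r15
    · show r * (x * (a * (b * (x⁻¹ * (r⁻¹ * (x * (b⁻¹ * (a⁻¹ * (x⁻¹ * 1))))))))) = 1
      simp only [mul_assoc, mul_one] at r16 ⊢
      exact r16
    · show x * (a * (x⁻¹ * (r * (x * (a⁻¹ * (x⁻¹ * (r * (a⁻¹ * (a⁻¹ * 1))))))))) = 1
      simp only [mul_assoc, mul_one] at r17 ⊢
      exact r17
    · show x * (r * (x * (r * (x * (r * (x * (r * (x * (b⁻¹ * (a⁻¹ * (x⁻¹ * (b⁻¹ * (a⁻¹ * (a⁻¹ *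
    (a⁻¹ * 1))))))))))))))) = 1
      simp only [mul_assoc, mul_one] at r18 ⊢
      exact r18
    · show z * (z * 1) = 1
      simp only [mul_one] at r19 ⊢
      exact r19
    · show z * (x⁻¹ * (b⁻¹ * (x * (a⁻¹ * 1)))) = 1
      simp only [mul_assoc, mul_one] at r20 ⊢
      exact r20) H
    (TC.forall_subs (K := 11) (by decide +kernel) (by
      intro a ha hb
      interval_cases a
      · exact absurd hb (by decide +kernel)
      · exact absurd hb (by decide +kernel)
      · exact absurd hb (by decide +kernel)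
      · exact absurd hb (by decide +kernel)
      · exact absurd hb (by decide +kernel)
      · exact m5
      · exact H.inv_mem m5
      · exact m7
      · exact absurd hb (by decide +kernel)
      · exact absurd hb (by decide +kernel)
      · exact m10))
  have e : {g₀ | ∃ ak ∈ te_gl, TC.lett [a, a⁻¹, b, b⁻¹, x, x⁻¹, y, r, r⁻¹, z] (ak % 256) = g₀} =
      {a, b, x, y, r, z} := by
    ext g₀
    simp only [te_gl, List.mem_cons, List.not_mem_nil, or_false, exists_eq_or_imp,
      exists_eq_left, Set.mem_ofPred_eq, Set.mem_insert_iff, Set.mem_singleton_iff]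
    exact or_congr eq_comm (or_congr eq_comm (or_congr eq_comm (or_congr eq_comm (or_congr eq_comm (eq_comm)))))
  rw [e] at h
  exact h

theorem te_card {G : Type*} [Group G] {a b x y r z : G}
    (e0 : x ^ 3 = 1)
    (e1 : a ^ 4 = 1)
    (e2 : b ^ 2 = a ^ 2)
    (e3 : x * a ^ 2 = a ^ 2 * x)
    (e4 : x⁻¹ * a * x = a * (x * a * x⁻¹))
    (e5 : x⁻¹ * b * x = b * (x * b * x⁻¹))
    (e6 : a * b = b * a)
    (e7 : a * (x * b * x⁻¹) = x * b * x⁻¹ * a)
    (e8 : x * a * x⁻¹ * b = b * (x * a * x⁻¹))
    (e9 : y * x * y⁻¹ = x⁻¹)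
    (e10 : y * y = 1)
    (e11 : y * a * y⁻¹ = b⁻¹)
    (e12 : y * b * y⁻¹ = a⁻¹)
    (e13 : r ^ 3 = 1)
    (e14 : r * a * r⁻¹ = y * ((x * a * x⁻¹) * (x * b * x⁻¹)))
    (e15 : r * y * r⁻¹ = a * ((x * a * x⁻¹) * (x * b * x⁻¹)) * y)
    (e16 : r * ((x * a * x⁻¹) * (x * b * x⁻¹)) * r⁻¹ = ((x * a * x⁻¹) * (x * b * x⁻¹)))
    (e17 : (x * a * x⁻¹) * r * (x * a * x⁻¹)⁻¹ * r = a ^ 2)
    (e18 : (x * r) ^ 4 = a ^ 2 * (a * b) * ((x * a * x⁻¹) * (x * b * x⁻¹)))
    (e19 : z * z = 1)
    (e20 : z = a * (x⁻¹ * b * x))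
    (H : Subgroup G) [Finite H] (mx : x ∈ H) (my : y ∈ H) (mz : z ∈ H) :
    Finite (Subgroup.closure ({a, b, x, y, r, z} : Set G)) ∧
      Nat.card (Subgroup.closure ({a, b, x, y, r, z} : Set G)) ≤ 7 * Nat.card H := by
  have iy : y⁻¹ = y := inv_eq_of_mul_eq_one_right e10
  have iz : z⁻¹ = z := inv_eq_of_mul_eq_one_right e19
  refine te_bound ?_ ?_ ?_ ?_ ?_ ?_ ?_ ?_ ?_ ?_ ?_ ?_ ?_ ?_ ?_ ?_ ?_ ?_ ?_ ?_ ?_ H mx my mz
  · have h := mul_inv_eq_one.mpr e0
    simp only [pow_succ, pow_zero, mul_inv_rev, inv_inv, inv_one, one_mul, mul_one, mul_assoc,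
      mul_inv_cancel_left, inv_mul_cancel_left, mul_inv_cancel, inv_mul_cancel, iy, iz] at h ⊢
    exact h
  · have h := mul_inv_eq_one.mpr e1
    simp only [pow_succ, pow_zero, mul_inv_rev, inv_inv, inv_one, one_mul, mul_one, mul_assoc,
      mul_inv_cancel_left, inv_mul_cancel_left, mul_inv_cancel, inv_mul_cancel, iy, iz] at h ⊢
    exact h
  · have h := mul_inv_eq_one.mpr e2
    simp only [pow_succ, pow_zero, mul_inv_rev, inv_inv, inv_one, one_mul, mul_one, mul_assoc,
      mul_inv_cancel_left, inv_mul_cancel_left, mul_inv_cancel, inv_mul_cancel, iy, iz] at h ⊢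
    exact h
  · have h := mul_inv_eq_one.mpr e3
    simp only [pow_succ, pow_zero, mul_inv_rev, inv_inv, inv_one, one_mul, mul_one, mul_assoc,
      mul_inv_cancel_left, inv_mul_cancel_left, mul_inv_cancel, inv_mul_cancel, iy, iz] at h ⊢
    exact h
  · have h := mul_inv_eq_one.mpr e4
    simp only [pow_succ, pow_zero, mul_inv_rev, inv_inv, inv_one, one_mul, mul_one, mul_assoc,
      mul_inv_cancel_left, inv_mul_cancel_left, mul_inv_cancel, inv_mul_cancel, iy, iz] at h ⊢
    exact h
  · have h := mul_inv_eq_one.mpr e5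
    simp only [pow_succ, pow_zero, mul_inv_rev, inv_inv, inv_one, one_mul, mul_one, mul_assoc,
      mul_inv_cancel_left, inv_mul_cancel_left, mul_inv_cancel, inv_mul_cancel, iy, iz] at h ⊢
    exact h
  · have h := mul_inv_eq_one.mpr e6
    simp only [pow_succ, pow_zero, mul_inv_rev, inv_inv, inv_one, one_mul, mul_one, mul_assoc,
      mul_inv_cancel_left, inv_mul_cancel_left, mul_inv_cancel, inv_mul_cancel, iy, iz] at h ⊢
    exact h
  · have h := mul_inv_eq_one.mpr e7
    simp only [pow_succ, pow_zero, mul_inv_rev, inv_inv, inv_one, one_mul, mul_one, mul_assoc,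
      mul_inv_cancel_left, inv_mul_cancel_left, mul_inv_cancel, inv_mul_cancel, iy, iz] at h ⊢
    exact h
  · have h := mul_inv_eq_one.mpr e8
    simp only [pow_succ, pow_zero, mul_inv_rev, inv_inv, inv_one, one_mul, mul_one, mul_assoc,
      mul_inv_cancel_left, inv_mul_cancel_left, mul_inv_cancel, inv_mul_cancel, iy, iz] at h ⊢
    exact h
  · have h := mul_inv_eq_one.mpr e9
    simp only [pow_succ, pow_zero, mul_inv_rev, inv_inv, inv_one, one_mul, mul_one, mul_assoc,
      mul_inv_cancel_left, inv_mul_cancel_left, mul_inv_cancel, inv_mul_cancel, iy, iz] at h ⊢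
    exact h
  · have h := mul_inv_eq_one.mpr e10
    simp only [pow_succ, pow_zero, mul_inv_rev, inv_inv, inv_one, one_mul, mul_one, mul_assoc,
      mul_inv_cancel_left, inv_mul_cancel_left, mul_inv_cancel, inv_mul_cancel, iy, iz] at h ⊢
    exact h
  · have h := mul_inv_eq_one.mpr e11
    simp only [pow_succ, pow_zero, mul_inv_rev, inv_inv, inv_one, one_mul, mul_one, mul_assoc,
      mul_inv_cancel_left, inv_mul_cancel_left, mul_inv_cancel, inv_mul_cancel, iy, iz] at h ⊢
    exact h
  · have h := mul_inv_eq_one.mpr e12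
    simp only [pow_succ, pow_zero, mul_inv_rev, inv_inv, inv_one, one_mul, mul_one, mul_assoc,
      mul_inv_cancel_left, inv_mul_cancel_left, mul_inv_cancel, inv_mul_cancel, iy, iz] at h ⊢
    exact h
  · have h := mul_inv_eq_one.mpr e13
    simp only [pow_succ, pow_zero, mul_inv_rev, inv_inv, inv_one, one_mul, mul_one, mul_assoc,
      mul_inv_cancel_left, inv_mul_cancel_left, mul_inv_cancel, inv_mul_cancel, iy, iz] at h ⊢
    exact h
  · have h := mul_inv_eq_one.mpr e14
    simp only [pow_succ, pow_zero, mul_inv_rev, inv_inv, inv_one, one_mul, mul_one, mul_assoc,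
      mul_inv_cancel_left, inv_mul_cancel_left, mul_inv_cancel, inv_mul_cancel, iy, iz] at h ⊢
    exact h
  · have h := mul_inv_eq_one.mpr e15
    simp only [pow_succ, pow_zero, mul_inv_rev, inv_inv, inv_one, one_mul, mul_one, mul_assoc,
      mul_inv_cancel_left, inv_mul_cancel_left, mul_inv_cancel, inv_mul_cancel, iy, iz] at h ⊢
    exact h
  · have h := mul_inv_eq_one.mpr e16
    simp only [pow_succ, pow_zero, mul_inv_rev, inv_inv, inv_one, one_mul, mul_one, mul_assoc,
      mul_inv_cancel_left, inv_mul_cancel_left, mul_inv_cancel, inv_mul_cancel, iy, iz] at h ⊢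
    exact h
  · have h := mul_inv_eq_one.mpr e17
    simp only [pow_succ, pow_zero, mul_inv_rev, inv_inv, inv_one, one_mul, mul_one, mul_assoc,
      mul_inv_cancel_left, inv_mul_cancel_left, mul_inv_cancel, inv_mul_cancel, iy, iz] at h ⊢
    exact h
  · have h := mul_inv_eq_one.mpr e18
    simp only [pow_succ, pow_zero, mul_inv_rev, inv_inv, inv_one, one_mul, mul_one, mul_assoc,
      mul_inv_cancel_left, inv_mul_cancel_left, mul_inv_cancel, inv_mul_cancel, iy, iz] at h ⊢
    exact h
  · have h := mul_inv_eq_one.mpr e19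
    simp only [pow_succ, pow_zero, mul_inv_rev, inv_inv, inv_one, one_mul, mul_one, mul_assoc,
      mul_inv_cancel_left, inv_mul_cancel_left, mul_inv_cancel, inv_mul_cancel, iy, iz] at h ⊢
    exact h
  · have h := mul_inv_eq_one.mpr e20
    simp only [pow_succ, pow_zero, mul_inv_rev, inv_inv, inv_one, one_mul, mul_one, mul_assoc,
      mul_inv_cancel_left, inv_mul_cancel_left, mul_inv_cancel, inv_mul_cancel, iy, iz] at h ⊢
    exact h

end Cfsg.Agent.H7.Asch
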