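import Cfsg.Agent.H7.Asch.Pres1
import Cfsg.Agent.H7.Asch.Gen
import Cfsg.Agent.H7.Asch.Elt

/-!
# Relations for the centralizer and the second parabolic subgroup
-/

set_option autoImplicit false

namespace Cfsg.Agent.H7.Asch

open Subgroup H5 Cfsg.Agent.H4

variable {G M : Type*} [Group G] [Group M]

/-- Relations for `2^(1+4) : 3`. -/
def RB (a b x : G) : Prop :=
  x ^ 3 = 1 ∧
  a ^ 4 = 1 ∧
  b ^ 2 = a ^ 2 ∧
  x * a ^ 2 = a ^ 2 * x ∧
  x⁻¹ * a * x = a * (x * a * x⁻¹) ∧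
  x⁻¹ * b * x = b * (x * b * x⁻¹) ∧
  a * b = b * a ∧
  a * (x * b * x⁻¹) = x * b * x⁻¹ * a ∧
  x * a * x⁻¹ * b = b * (x * a * x⁻¹)

instance instDecRB [DecidableEq G] (a b x : G) : Decidable (RB a b x) := by
  unfold RB; infer_instance

theorem RB.map (f : G →* M) {a b x : G} (h : RB a b x) : RB (f a) (f b) (f x) := by
  obtain ⟨e0, e1, e2, e3, e4, e5, e6, e7, e8⟩ := h
  exact ⟨by simpa only [map_mul, map_inv, map_pow, map_one] using congrArg f e0,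
    by simpa only [map_mul, map_inv, map_pow, map_one] using congrArg f e1,
    by simpa only [map_mul, map_inv, map_pow, map_one] using congrArg f e2,
    by simpa only [map_mul, map_inv, map_pow, map_one] using congrArg f e3,
    by simpa only [map_mul, map_inv, map_pow, map_one] using congrArg f e4,
    by simpa only [map_mul, map_inv, map_pow, map_one] using congrArg f e5,
    by simpa only [map_mul, map_inv, map_pow, map_one] using congrArg f e6,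
    by simpa only [map_mul, map_inv, map_pow, map_one] using congrArg f e7,
    by simpa only [map_mul, map_inv, map_pow, map_one] using congrArg f e8⟩

theorem RB.prod {a b x : G} {a' b' x' : M} (h : RB a b x) (h' : RB a' b' x') :
    RB (a, a') (b, b') (x, x') := by
  obtain ⟨e0, e1, e2, e3, e4, e5, e6, e7, e8⟩ := h
  obtain ⟨f0, f1, f2, f3, f4, f5, f6, f7, f8⟩ := h'
  exact ⟨Prod.ext e0 f0, Prod.ext e1 f1, Prod.ext e2 f2, Prod.ext e3 f3, Prod.ext e4 f4, Prod.ext e5 f5, Prod.ext e6 f6, Prod.ext e7 f7, Prod.ext e8 f8⟩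

/-- Relations for the centralizer of alternating type. -/
def RA (a b x y : G) : Prop :=
  RB a b x ∧
  y * x * y⁻¹ = x⁻¹ ∧
  y * y = 1 ∧
  y * a * y⁻¹ = b⁻¹ ∧
  y * b * y⁻¹ = a⁻¹

instance instDecRA [DecidableEq G] (a b x y : G) : Decidable (RA a b x y) := by
  unfold RA; infer_instance

theorem RA.map (f : G →* M) {a b x y : G} (h : RA a b x y) : RA (f a) (f b) (f x) (f y) := by
  obtain ⟨e0, e1, e2, e3, e4⟩ := h
  exact ⟨e0.map f,
    by simpa only [map_mul, map_inv, map_pow, map_one] using congrArg f e1,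
    by simpa only [map_mul, map_inv, map_pow, map_one] using congrArg f e2,
    by simpa only [map_mul, map_inv, map_pow, map_one] using congrArg f e3,
    by simpa only [map_mul, map_inv, map_pow, map_one] using congrArg f e4⟩

theorem RA.prod {a b x y : G} {a' b' x' y' : M} (h : RA a b x y) (h' : RA a' b' x' y') :
    RA (a, a') (b, b') (x, x') (y, y') := by
  obtain ⟨e0, e1, e2, e3, e4⟩ := h
  obtain ⟨f0, f1, f2, f3, f4⟩ := h'
  exact ⟨e0.prod f0, Prod.ext e1 f1, Prod.ext e2 f2, Prod.ext e3 f3, Prod.ext e4 f4⟩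

/-- Relations for the centralizer of Mathieu type. -/
def RM (a b x y : G) : Prop :=
  RB a b x ∧
  y * x * y⁻¹ = x⁻¹ ∧
  y * y = 1 ∧
  y * a * y⁻¹ = a⁻¹ ∧
  y * b * y⁻¹ = b⁻¹

instance instDecRM [DecidableEq G] (a b x y : G) : Decidable (RM a b x y) := by
  unfold RM; infer_instance

theorem RM.map (f : G →* M) {a b x y : G} (h : RM a b x y) : RM (f a) (f b) (f x) (f y) := by
  obtain ⟨e0, e1, e2, e3, e4⟩ := h
  exact ⟨e0.map f,
    by simpa only [map_mul, map_inv, map_pow, map_one] using congrArg f e1,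
    by simpa only [map_mul, map_inv, map_pow, map_one] using congrArg f e2,
    by simpa only [map_mul, map_inv, map_pow, map_one] using congrArg f e3,
    by simpa only [map_mul, map_inv, map_pow, map_one] using congrArg f e4⟩

theorem RM.prod {a b x y : G} {a' b' x' y' : M} (h : RM a b x y) (h' : RM a' b' x' y') :
    RM (a, a') (b, b') (x, x') (y, y') := by
  obtain ⟨e0, e1, e2, e3, e4⟩ := h
  obtain ⟨f0, f1, f2, f3, f4⟩ := h'
  exact ⟨e0.prod f0, Prod.ext e1 f1, Prod.ext e2 f2, Prod.ext e3 f3, Prod.ext e4 f4⟩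

/-- The second parabolic subgroup, alternating type. -/
def PA (a b x y r : G) : Prop :=
  r ^ 3 = 1 ∧
  r * a * r⁻¹ = y * ((x * a * x⁻¹) * (x * b * x⁻¹)) ∧
  r * y * r⁻¹ = a * ((x * a * x⁻¹) * (x * b * x⁻¹)) * y ∧
  r * ((x * a * x⁻¹) * (x * b * x⁻¹)) * r⁻¹ = ((x * a * x⁻¹) * (x * b * x⁻¹)) ∧
  (x * a * x⁻¹) * r * (x * a * x⁻¹)⁻¹ * r = a ^ 2

instance instDecPA [DecidableEq G] (a b x y r : G) : Decidable (PA a b x y r) := by
  unfold PA; infer_instance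

theorem PA.map (f : G →* M) {a b x y r : G} (h : PA a b x y r) : PA (f a) (f b) (f x) (f y) (f r) := by
  obtain ⟨e0, e1, e2, e3, e4⟩ := h
  exact ⟨by simpa only [map_mul, map_inv, map_pow, map_one] using congrArg f e0,
    by simpa only [map_mul, map_inv, map_pow, map_one] using congrArg f e1,
    by simpa only [map_mul, map_inv, map_pow, map_one] using congrArg f e2,
    by simpa only [map_mul, map_inv, map_pow, map_one] using congrArg f e3,
    by simpa only [map_mul, map_inv, map_pow, map_one] using congrArg f e4⟩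

theorem PA.prod {a b x y r : G} {a' b' x' y' r' : M} (h : PA a b x y r) (h' : PA a' b' x' y' r') :
    PA (a, a') (b, b') (x, x') (y, y') (r, r') := by
  obtain ⟨e0, e1, e2, e3, e4⟩ := h
  obtain ⟨f0, f1, f2, f3, f4⟩ := h'
  exact ⟨Prod.ext e0 f0, Prod.ext e1 f1, Prod.ext e2 f2, Prod.ext e3 f3, Prod.ext e4 f4⟩

/-- The second parabolic subgroup of the Mathieu group. -/
def PM (a b x y r : G) : Prop :=
  r ^ 3 = 1 ∧
  r * a * r⁻¹ = y * ((x * a * x⁻¹) * (x * b * x⁻¹)) ∧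
  r * y * r⁻¹ = ((x * a * x⁻¹) * (x * b * x⁻¹)) ∧
  r * ((x * a * x⁻¹) * (x * b * x⁻¹)) * r⁻¹ = a * y ∧
  (x * a * x⁻¹) * r * (x * a * x⁻¹)⁻¹ * r = a ^ 2

instance instDecPM [DecidableEq G] (a b x y r : G) : Decidable (PM a b x y r) := by
  unfold PM; infer_instance

theorem PM.map (f : G →* M) {a b x y r : G} (h : PM a b x y r) : PM (f a) (f b) (f x) (f y) (f r) := by
  obtain ⟨e0, e1, e2, e3, e4⟩ := h
  exact ⟨by simpa only [map_mul, map_inv, map_pow, map_one] using congrArg f e0,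
    by simpa only [map_mul, map_inv, map_pow, map_one] using congrArg f e1,
    by simpa only [map_mul, map_inv, map_pow, map_one] using congrArg f e2,
    by simpa only [map_mul, map_inv, map_pow, map_one] using congrArg f e3,
    by simpa only [map_mul, map_inv, map_pow, map_one] using congrArg f e4⟩

theorem PM.prod {a b x y r : G} {a' b' x' y' r' : M} (h : PM a b x y r) (h' : PM a' b' x' y' r') :
    PM (a, a') (b, b') (x, x') (y, y') (r, r') := by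
  obtain ⟨e0, e1, e2, e3, e4⟩ := h
  obtain ⟨f0, f1, f2, f3, f4⟩ := h'
  exact ⟨Prod.ext e0 f0, Prod.ext e1 f1, Prod.ext e2 f2, Prod.ext e3 f3, Prod.ext e4 f4⟩

/-- The second parabolic subgroup of the nonsplit extension. -/
def PE (a b x y r : G) : Prop :=
  r * a * r⁻¹ = y * ((x * a * x⁻¹) * (x * b * x⁻¹)) ∧
  r * y * r⁻¹ = ((x * a * x⁻¹) * (x * b * x⁻¹)) * y * ((x * a * x⁻¹) * (x * b * x⁻¹)) * a ∧
  r * ((x * a * x⁻¹) * (x * b * x⁻¹)) * r⁻¹ = ((x * a * x⁻¹) * (x * b * x⁻¹))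

instance instDecPE [DecidableEq G] (a b x y r : G) : Decidable (PE a b x y r) := by
  unfold PE; infer_instance

theorem PE.map (f : G →* M) {a b x y r : G} (h : PE a b x y r) : PE (f a) (f b) (f x) (f y) (f r) := by
  obtain ⟨e0, e1, e2⟩ := h
  exact ⟨by simpa only [map_mul, map_inv, map_pow, map_one] using congrArg f e0,
    by simpa only [map_mul, map_inv, map_pow, map_one] using congrArg f e1,
    by simpa only [map_mul, map_inv, map_pow, map_one] using congrArg f e2⟩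

theorem PE.prod {a b x y r : G} {a' b' x' y' r' : M} (h : PE a b x y r) (h' : PE a' b' x' y' r') :
    PE (a, a') (b, b') (x, x') (y, y') (r, r') := by
  obtain ⟨e0, e1, e2⟩ := h
  obtain ⟨f0, f1, f2⟩ := h'
  exact ⟨Prod.ext e0 f0, Prod.ext e1 f1, Prod.ext e2 f2⟩

theorem RB.of_map {f : G →* M} (hf : Function.Injective f) {a b x : G}
    (h : RB (f a) (f b) (f x)) : RB a b x := by
  simpa only [RB, ← map_mul, ← map_inv, ← map_pow, hf.eq_iff, map_eq_one_iff f hf] using h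

theorem RB.card_le {a b x : G} (h : RB a b x) :
    Finite (closure ({a, b, x} : Set G)) ∧ Nat.card (closure ({a, b, x} : Set G)) ≤ 96 := by
  obtain ⟨e0, e1, e2, e3, e4, e5, e6, e7, e8⟩ := h
  obtain ⟨h1, h2⟩ := TC.finite_zpowers_of_pow (by norm_num) e0
  obtain ⟨h3, h4⟩ := tb_card e0 e1 e2 e3 e4 e5 e6 e7 e8 (zpowers x) (mem_zpowers x)
  exact ⟨h3, by omega⟩

theorem RA.card_le {a b x y : G} (h : RA a b x y) :
    Finite (closure ({a, b, x, y} : Set G)) ∧ Nat.card (closure ({a, b, x, y} : Set G)) ≤ 192 := by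
  obtain ⟨h1, h2⟩ := h.1.card_le
  obtain ⟨⟨e0, e1, e2, e3, e4, e5, e6, e7, e8⟩, e9, e10, e11, e12⟩ := h
  obtain ⟨h3, h4⟩ := ta_card e0 e1 e2 e3 e4 e5 e6 e7 e8 e9 e10 e11 e12 (closure {a, b, x})
    (subset_closure (by simp)) (subset_closure (by simp)) (subset_closure (by simp))
  exact ⟨h3, by omega⟩

theorem RM.card_le {a b x y : G} (h : RM a b x y) :
    Finite (closure ({a, b, x, y} : Set G)) ∧ Nat.card (closure ({a, b, x, y} : Set G)) ≤ 192 := by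
  obtain ⟨h1, h2⟩ := h.1.card_le
  obtain ⟨⟨e0, e1, e2, e3, e4, e5, e6, e7, e8⟩, e9, e10, e11, e12⟩ := h
  obtain ⟨h3, h4⟩ := tm_card e0 e1 e2 e3 e4 e5 e6 e7 e8 e9 e10 e11 e12 (closure {a, b, x})
    (subset_closure (by simp)) (subset_closure (by simp)) (subset_closure (by simp))
  exact ⟨h3, by omega⟩

/-- A homomorphism from a model with prescribed values on a list of generators. -/
theorem exists_hom_of_list [Finite M] {l : List (G × M)} (hf : Finite (closure {p | p ∈ l}))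
    (hc : Nat.card (closure {p | p ∈ l}) ≤ Nat.card M)
    (ht : closure {m | m ∈ l.map Prod.snd} = ⊤) : ∃ φ : M →* G, ∀ p ∈ l, φ p.2 = p.1 := by
  obtain ⟨φ, hφ⟩ := TC.exists_hom_of_card_le hc (by
    rw [MonoidHom.map_closure, ← ht]
    congr 1
    ext m
    simp)
  exact ⟨φ, fun p hp => hφ _ _ (subset_closure hp)⟩

theorem inj_of_chk (φ : M →* G) {s : M} (hs : φ s ≠ 1) {l : List M}
    (h : ∀ k, k = 1 ∨ k = s ∨ ∃ c ∈ l, k * c * k⁻¹ * c⁻¹ = s ∨
      ∃ d ∈ l, k * c * k⁻¹ * c⁻¹ * d * (k * c * k⁻¹ * c⁻¹)⁻¹ * d⁻¹ = s) : Function.Injective φ := by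
  refine (injective_iff_map_eq_one φ).2 fun k hk => ?_
  rcases h k with h | rfl | ⟨c, -, h | ⟨d, -, h⟩⟩
  · exact h
  · exact absurd hk hs
  · exact absurd (by simp [← h, hk]) hs
  · exact absurd (by simp [← h, hk]) hs

/-- `φ` is an isomorphism onto the centralizer of `φ s`. -/
structure Emb (φ : M →* G) (s : M) : Prop where
  inj : Function.Injective φ
  cent : ∀ g, g * φ s = φ s * g → ∃ k, φ k = g
  comm : ∀ k, k * s = s * k

theorem Emb.of_card [Finite G] {φ : M →* G} {s : M} (hi : Function.Injective φ)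
    (hs : ∀ k, k * s = s * k) (hc : Nat.card (centralizer ({φ s} : Set G)) = Nat.card M) :
    Emb φ s := by
  refine ⟨hi, fun g hg => ?_, hs⟩
  have : φ.range = centralizer {φ s} := eq_of_le_of_card_le (by
    rintro _ ⟨k, rfl⟩
    exact mem_centralizer_singleton_iff.2 (by rw [← map_mul, hs, map_mul]))
    (by rw [hc]; exact (Nat.card_congr (MonoidHom.ofInjective hi).toEquiv).le)
  exact (this ▸ mem_centralizer_singleton_iff.2 hg : g ∈ φ.range)

theorem Emb.card {φ : M →* G} {s : M} (h : Emb φ s) :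
    Nat.card (centralizer ({φ s} : Set G)) = Nat.card M := by
  have : φ.range = centralizer {φ s} := le_antisymm (by
    rintro _ ⟨k, rfl⟩
    exact mem_centralizer_singleton_iff.2 (by rw [← map_mul, h.comm, map_mul]))
    fun g hg => h.cent g (mem_centralizer_singleton_iff.1 hg)
  rw [← this]
  exact (Nat.card_congr (MonoidHom.ofInjective h.inj).toEquiv).symm

theorem Emb.comm_iff {φ : M →* G} {s : M} (h : Emb φ s) {a b : M} :
    φ a * φ b = φ b * φ a ↔ a * b = b * a := by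
  rw [← map_mul, ← map_mul, h.inj.eq_iff]

theorem Emb.cent₂ {φ : M →* G} {s u : M} (h : Emb φ s) {g : G} (h1 : g * φ s = φ s * g)
    (h2 : g * φ u = φ u * g) : ∃ k, k * u = u * k ∧ φ k = g := by
  obtain ⟨k, rfl⟩ := h.cent g h1
  exact ⟨k, h.comm_iff.1 h2, rfl⟩

theorem surj_of_words [Finite G] [Finite M] {φ : M →* G} (hφ : Function.Injective φ) {l gs : List M}
    (h1 : (1 : M) ∈ l) (hm : ∀ a ∈ l, ∀ b ∈ l, a * b ∈ l) (hn : l.Nodup) {wd : M → List ℕ}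
    (hw : ∀ k ∈ l, ev gs (wd k) = k) {Q : Subgroup G} (hg : ∀ g ∈ gs, φ g ∈ Q)
    (hc : Nat.card Q = l.length) {q : G} : q ∈ Q ↔ ∃ k ∈ l, φ k = q := by
  have : (lsub l h1 hm).map φ = Q := eq_of_le_of_card_le (by
    rintro _ ⟨k, hk, rfl⟩
    rw [← hw k hk]
    exact ev_mem (H := Q.comap φ) hg _) (by rw [card_map_of_injective hφ, card_lsub hn, hc])
  rw [← this]
  rfl

theorem act_ev {φ : M →* G} {ρ : G} {gs As : List M}
    (h : List.Forall₂ (fun g A => ρ * φ g * ρ⁻¹ = φ A) gs As) (w : List ℕ) :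
    ρ * φ (ev gs w) * ρ⁻¹ = φ (ev As w) := by
  have : gs.map ((MulAut.conj ρ).toMonoidHom.comp φ) = As.map φ := by
    induction h with
    | nil => rfl
    | cons h _ ih => rw [List.map_cons, List.map_cons, ih]; exact congrArg (· :: _) h
  rw [map_ev φ As, ← this, ← map_ev]
  rfl

theorem act_of_words {φ : M →* G} {ρ : G} {gs As l : List M} {wd : M → List ℕ}
    (h : List.Forall₂ (fun g A => ρ * φ g * ρ⁻¹ = φ A) gs As) (hw : ∀ k ∈ l, ev gs (wd k) = k) :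
    ∀ k ∈ l, ρ * φ k * ρ⁻¹ = φ (ev As (wd k)) := fun k hk => by
  rw [← act_ev h, hw k hk]

theorem rel_of_act {φ : M →* G} (hφ : Function.Injective φ) {ρ : G} {gs As : List M}
    (h : List.Forall₂ (fun g A => ρ * φ g * ρ⁻¹ = φ A) gs As) {R : List (List ℕ)}
    (hR : ∀ w ∈ R, ev gs w = 1) : ∀ w ∈ R, ev As w = 1 := fun w hw =>
  hφ (by rw [← act_ev h, hR w hw]; simp)

theorem exists_rho {s u q q' : G} (hs : s * s = 1) (hu : u * u = 1) (hc : s * u = u * s)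
    (h1 : q * s * q⁻¹ = s) (h2 : q * u * q⁻¹ = u * s) (h3 : q' * u * q'⁻¹ = u)
    (h4 : q' * s * q'⁻¹ = s * u) (hT : ∀ g, g * s = s * g → g * u = u * g → g ^ 16 = 1) :
    ∃ ρ : G, ρ ^ 3 = 1 ∧ ρ * s * ρ⁻¹ = u ∧ ρ * u * ρ⁻¹ = s * u := by
  have k1 : q * q' * s * (q * q')⁻¹ = u := by
    calc _ = q * (q' * s * q'⁻¹) * q⁻¹ := by group
      _ = (q * s * q⁻¹) * (q * u * q⁻¹) := by rw [h4]; group
      _ = u := by rw [h1, h2, ← hc, ← mul_assoc, hs, one_mul]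
  have k2 : q * q' * u * (q * q')⁻¹ = s * u := by
    calc _ = q * (q' * u * q'⁻¹) * q⁻¹ := by group
      _ = _ := by rw [h3, h2, hc]
  generalize q * q' = g at k1 k2
  have k3 : g * (s * u) * g⁻¹ = s := by
    calc _ = (g * s * g⁻¹) * (g * u * g⁻¹) := by group
      _ = s := by rw [k1, k2, ← mul_assoc, ← hc, mul_assoc, hu, mul_one]
  have k4 : g ^ 3 * s = s * g ^ 3 := by
    rw [← conj_eq_iff_comm]
    calc _ = g * (g * (g * s * g⁻¹) * g⁻¹) * g⁻¹ := by simp only [pow_three, mul_inv_rev, mul_assoc]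
      _ = s := by rw [k1, k2, k3]
  have k5 : g ^ 3 * u = u * g ^ 3 := by
    rw [← conj_eq_iff_comm]
    calc _ = g * (g * (g * u * g⁻¹) * g⁻¹) * g⁻¹ := by simp only [pow_three, mul_inv_rev, mul_assoc]
      _ = u := by rw [k2, k3, k1]
  have k6 : ∀ v, g ^ 3 * v = v * g ^ 3 → g ^ 16 * v * (g ^ 16)⁻¹ = g * v * g⁻¹ := fun v hv => by
    have := conj_eq_iff_comm.2 (Commute.pow_left hv 5).eq
    calc _ = g * ((g ^ 3) ^ 5 * v * ((g ^ 3) ^ 5)⁻¹) * g⁻¹ := by group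
      _ = _ := by rw [this]
  exact ⟨g ^ 16, by rw [← pow_mul, mul_comm, pow_mul, hT _ k4 k5], by rw [k6 s k4, k1],
    by rw [k6 u k5, k2]⟩

/-- The reciprocity of fusion in the extraspecial group. -/
theorem exists_recip {φ : M →* G} {s u c d : M} (h : Emb φ s) (hs : s * s = 1) (hs1 : s ≠ 1)
    (hus : u ≠ s) (hf : Cj (φ s) (φ u)) (hc : c * c = 1) (hd : d * d = 1) (hcu : c * u = u * c)
    (hdu : d * u = u * d) (hcd : c * d * c⁻¹ * d⁻¹ = s) {l : List M}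
    (hq : ∀ c : M, c * c = 1 → ∀ d : M, d * d = 1 →
      c * d * c⁻¹ * d⁻¹ * (c * d * c⁻¹ * d⁻¹) = 1 → c * d * c⁻¹ * d⁻¹ = 1 ∨ c * d * c⁻¹ * d⁻¹ = s ∨
      ∃ q ∈ l, q * (c * d * c⁻¹ * d⁻¹) * q⁻¹ = c * d * c⁻¹ * d⁻¹ * s) :
    ∃ q' : G, q' * φ u * q'⁻¹ = φ u ∧ q' * φ s * q'⁻¹ = φ s * φ u := by
  obtain ⟨g, hg⟩ := hf
  obtain ⟨c', hc'⟩ := h.cent (g⁻¹ * φ c * g) (comm_of_conj (by rw [hg, h.comm_iff, hcu]))
  obtain ⟨d', hd'⟩ := h.cent (g⁻¹ * φ d * g) (comm_of_conj (by rw [hg, h.comm_iff, hdu]))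
  have e : φ (c' * d' * c'⁻¹ * d'⁻¹) = g⁻¹ * φ s * g := by
    simp only [← hcd, map_mul, map_inv, hc', hd']
    group
  have sq : ∀ {a a' : M}, φ a' = g⁻¹ * φ a * g → a * a = 1 → a' * a' = 1 := fun {a a'} h1 h2 =>
    h.inj (by
      rw [map_mul, h1, map_one]
      simpa using conj_mul_self_eq_one (show φ a * φ a = 1 by rw [← map_mul, h2, map_one]) g⁻¹)
  rcases hq c' (sq hc' hc) d' (sq hd' hd) (sq e hs) with k | k | ⟨q, -, k⟩
  · rw [k, map_one] at e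
    exact absurd (h.inj (by rw [map_one, ← conj_eq_one_iff (a := g⁻¹), inv_inv, e])) hs1
  · rw [k] at e
    refine absurd (h.inj ?_) hus
    rw [← hg]
    nth_rewrite 1 [e]
    group
  · have k2 := congrArg φ k
    rw [map_mul, map_mul, map_mul φ _ s, e, map_inv] at k2
    refine ⟨g * φ q * g⁻¹, ?_, ?_⟩
    · rw [← hg]
      calc _ = g * (φ q * φ s) * (φ q)⁻¹ * g⁻¹ := by group
        _ = _ := by rw [h.comm_iff.2 (h.comm q)]; group
    · calc _ = g * (φ q * (g⁻¹ * φ s * g) * (φ q)⁻¹) * g⁻¹ := by group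
        _ = _ := by rw [k2, ← hg]; group

/-- The constraints on the action of `ρ`. -/
abbrev Cond1 (al : M → M) (s u g0 g1 g2 A0 A1 A2 : M) : Prop :=
  al u = s * u ∧ al (al A0) = g0 ∧ al (al A1) = g1 ∧ al (al A2) = g2

/-- The constraints on the element `q ρ q⁻¹ ρ`. -/
abbrev Cond2 (al : M → M) (s u q g0 g1 g2 t : M) : Prop :=
  q * t * q⁻¹ * (al t)⁻¹ = s * u ∧ t * al (al t) * al t = 1 ∧
    q * al (q⁻¹ * g0 * q) * q⁻¹ = t * al (al g0) * t⁻¹ ∧
    q * al (q⁻¹ * g1 * q) * q⁻¹ = t * al (al g1) * t⁻¹ ∧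
    q * al (q⁻¹ * g2 * q) * q⁻¹ = t * al (al g2) * t⁻¹

/-- The action of the conjugate of `ρ` by `τ`. -/
def cal (al : M → M) (τ k : M) : M := τ * al (τ⁻¹ * k * τ) * τ⁻¹

/-- The element `q ρ q⁻¹ ρ` for the conjugate of `ρ` by `τ`. -/
def ct3 (al : M → M) (q t τ : M) : M :=
  q * τ * q⁻¹ * t * al (al (q * τ⁻¹ * q⁻¹ * τ)) * τ⁻¹

theorem enum_generic {φ : M →* G} {s u q g0 g1 g2 : M} (h : Emb φ s) (hs : s * s = 1)
    (hu : u * u = 1) {T : List M} (hT : ∀ k, k ∈ T ↔ k * u = u * k) {wd : M → List ℕ}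
    (hw : ∀ k ∈ T, ev [g0, g1, g2] (wd k) = k) (h0 : g0 ∈ T) (h1 : g1 ∈ T) (h2 : g2 ∈ T)
    (hg : g0 * g0 = s) (hq : q * u * q⁻¹ = u * s) (hqq : q * q = s) {R2 R3 : List (List ℕ)}
    (hR2 : ∀ w ∈ R2, ev [g0, g1] w = 1) (hR3 : ∀ w ∈ R3, ev [g0, g1, g2] w = 1)
    {C : (M → M) → M → Prop}
    (hE : ∀ A0 ∈ T, A0 * A0 = u → ∀ A1 ∈ T, (∀ w ∈ R2, ev [A0, A1] w = 1) → ∀ A2 ∈ T,
      (∀ w ∈ R3, ev [A0, A1, A2] w = 1) →
      Cond1 (fun k => ev [A0, A1, A2] (wd k)) s u g0 g1 g2 A0 A1 A2 → ∀ t ∈ T,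
      Cond2 (fun k => ev [A0, A1, A2] (wd k)) s u q g0 g1 g2 t → ∃ τ ∈ T,
      C (cal (fun k => ev [A0, A1, A2] (wd k)) τ) (ct3 (fun k => ev [A0, A1, A2] (wd k)) q t τ))
    {ρ : G} (r3 : ρ ^ 3 = 1) (rs : ρ * φ s * ρ⁻¹ = φ u) (ru : ρ * φ u * ρ⁻¹ = φ s * φ u) :
    ∃ (ρ : G) (al : M → M) (t : M), ρ ^ 3 = 1 ∧ (∀ k ∈ T, ρ * φ k * ρ⁻¹ = φ (al k)) ∧
      φ q * ρ * (φ q)⁻¹ * ρ = φ t ∧ C al t := by
  have su : φ s * φ u = φ u * φ s := h.comm_iff.2 (h.comm u).symm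
  have ss : φ s * φ s = 1 := by rw [← map_mul, hs, map_one]
  have uu : φ u * φ u = 1 := by rw [← map_mul, hu, map_one]
  have rsu : ρ * (φ s * φ u) * ρ⁻¹ = φ s := by
    calc _ = (ρ * φ s * ρ⁻¹) * (ρ * φ u * ρ⁻¹) := by group
      _ = _ := by rw [rs, ru, ← mul_assoc, ← su, mul_assoc, uu, mul_one]
  have ri : ρ⁻¹ = ρ * ρ := inv_eq_of_mul_eq_one_right (by rw [← r3, pow_three])
  have hρ : ∀ k ∈ T, ∃ A ∈ T, ρ * φ k * ρ⁻¹ = φ A := fun k hk => by
    have c1 : φ k * φ s = φ s * φ k := h.comm_iff.2 (h.comm k)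
    have c2 : φ k * φ u = φ u * φ k := h.comm_iff.2 ((hT k).1 hk)
    obtain ⟨A, hA, e⟩ := h.cent₂ (g := ρ * φ k * ρ⁻¹) (u := u)
      (rsu ▸ comm_conj (Commute.mul_right c1 c2).eq) (rs ▸ comm_conj c1)
    exact ⟨A, (hT A).2 hA, e.symm⟩
  obtain ⟨A0, a0, b0⟩ := hρ g0 h0
  obtain ⟨A1, a1, b1⟩ := hρ g1 h1
  obtain ⟨A2, a2, b2⟩ := hρ g2 h2
  have f2 : List.Forall₂ (fun g A => ρ * φ g * ρ⁻¹ = φ A) [g0, g1] [A0, A1] :=
    .cons b0 (.cons b1 .nil)
  have f3 : List.Forall₂ (fun g A => ρ * φ g * ρ⁻¹ = φ A) [g0, g1, g2] [A0, A1, A2] :=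
    .cons b0 (.cons b1 (.cons b2 .nil))
  have hal : ∀ k ∈ T, ρ * φ k * ρ⁻¹ = φ ((fun k => ev [A0, A1, A2] (wd k)) k) :=
    act_of_words f3 hw
  have hE' := hE A0 a0 (h.inj (by
    rw [map_mul, ← b0, ← rs, ← hg, map_mul]; group)) A1 a1 (rel_of_act h.inj f2 hR2) A2 a2
    (rel_of_act h.inj f3 hR3)
  generalize (fun k => ev [A0, A1, A2] (wd k)) = al at hE' hal
  have hin : ∀ k ∈ T, al k ∈ T := fun k hk => by
    obtain ⟨A, hA, e⟩ := hρ k hk
    rwa [h.inj ((hal k hk).symm.trans e)]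
  have hal2 : ∀ k ∈ T, φ (al (al k)) = ρ⁻¹ * φ k * ρ := fun k hk => by
    rw [← hal _ (hin k hk), ← hal k hk]
    calc _ = ρ * ρ * φ k * (ρ * ρ)⁻¹ := by group
      _ = _ := by rw [← ri, inv_inv]
  have hb : ∀ {g A}, A ∈ T → ρ * φ g * ρ⁻¹ = φ A → al (al A) = g := fun hA e =>
    h.inj (by rw [hal2 _ hA, ← e]; group)
  have uT : u ∈ T := (hT u).2 rfl
  have hqs : φ q * φ s * (φ q)⁻¹ = φ s := conj_eq_iff_comm.2 (h.comm_iff.2 (h.comm q))
  have hqu : φ q * φ u * (φ q)⁻¹ = φ u * φ s := by simpa using congrArg φ hq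
  have hqu' : (φ q)⁻¹ * φ u * φ q = φ s * φ u := by
    have : φ q * (φ s * φ u) * (φ q)⁻¹ = φ u := by
      calc _ = (φ q * φ s * (φ q)⁻¹) * (φ q * φ u * (φ q)⁻¹) := by group
        _ = _ := by rw [hqs, hqu, ← su, ← mul_assoc, ss, one_mul]
    nth_rewrite 1 [← this]
    group
  obtain ⟨t, ht, et⟩ := h.cent₂ (g := φ q * ρ * (φ q)⁻¹ * ρ) (u := u) (by
    rw [← conj_eq_iff_comm]
    calc _ = φ q * (ρ * ((φ q)⁻¹ * (ρ * φ s * ρ⁻¹) * φ q) * ρ⁻¹) * (φ q)⁻¹ := by group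
      _ = _ := by rw [rs, hqu', rsu, hqs]) (by
    rw [← conj_eq_iff_comm]
    calc _ = φ q * (ρ * ((φ q)⁻¹ * (ρ * φ u * ρ⁻¹) * φ q) * ρ⁻¹) * (φ q)⁻¹ := by group
      _ = φ q * (ρ * (((φ q)⁻¹ * (φ q * φ s * (φ q)⁻¹) * φ q) * ((φ q)⁻¹ * φ u * φ q)) * ρ⁻¹) *
        (φ q)⁻¹ := by rw [ru, hqs]; group
      _ = φ q * (ρ * φ u * ρ⁻¹) * (φ q)⁻¹ := by
        rw [hqu', show (φ q)⁻¹ * (φ q * φ s * (φ q)⁻¹) * φ q = φ s by group, ← mul_assoc (φ s), ss,
          one_mul]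
      _ = (φ q * φ s * (φ q)⁻¹) * (φ q * φ u * (φ q)⁻¹) := by rw [ru]; group
      _ = _ := by rw [hqs, hqu, ← su, ← mul_assoc, ss, one_mul])
  have tT := (hT t).2 ht
  have hqT : ∀ {k}, k ∈ T → q⁻¹ * k * q ∈ T ∧ q * k * q⁻¹ ∈ T := fun {k} hk => by
    have c1 : φ k * φ s = φ s * φ k := h.comm_iff.2 (h.comm k)
    have c2 : φ k * φ u = φ u * φ k := h.comm_iff.2 ((hT k).1 hk)
    rw [hT, hT, ← h.comm_iff, ← h.comm_iff]
    simp only [map_mul, map_inv]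
    refine ⟨comm_of_conj (hqu ▸ (Commute.mul_right c2 c1).eq), ?_⟩
    simpa using comm_of_conj (g := (φ q)⁻¹) (a := φ k) (b := φ u)
      (by rw [inv_inv, hqu']; exact (Commute.mul_right c1 c2).eq)
  have hm : ∀ {a b}, a ∈ T → b ∈ T → a * b ∈ T := fun ha hb =>
    (hT _).2 (Commute.mul_left ((hT _).1 ha) ((hT _).1 hb)).eq
  have hi : ∀ {a}, a ∈ T → a⁻¹ ∈ T := fun ha => (hT _).2 (Commute.inv_left ((hT _).1 ha)).eq
  have c6 : ∀ {g}, g ∈ T → q * al (q⁻¹ * g * q) * q⁻¹ = t * al (al g) * t⁻¹ := fun hg' =>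
    h.inj (by
      simp only [map_mul, map_inv, hal2 _ hg', ← hal _ (hqT hg').1, et]
      group)
  obtain ⟨τ, hτ, hC⟩ := hE' ⟨h.inj (by rw [← hal u uT, ru, map_mul]), hb a0 b0, hb a1 b1, hb a2 b2⟩
    t tT ⟨h.inj (by
      simp only [map_mul, map_inv, ← hal t tT, et]
      calc _ = (φ q * φ q) * (ρ * (φ q * φ q)⁻¹ * ρ⁻¹) := by group
        _ = _ := by
          rw [← map_mul, hqq, inv_eq_of_mul_eq_one_left ss, rs]), h.inj (by
      simp only [map_mul, map_one, hal2 t tT, ← hal t tT, et]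
      calc _ = φ q * ρ * ρ * (φ q)⁻¹ * ρ ^ 3 * φ q * ρ * (φ q)⁻¹ := by
            simp only [pow_three, mul_assoc, inv_mul_cancel_left, mul_inv_cancel_left, mul_inv_cancel,
              mul_one]
        _ = φ q * ρ ^ 3 * (φ q)⁻¹ := by
            rw [r3, mul_one, inv_mul_cancel_right, ← r3, pow_three]; simp only [mul_assoc]
        _ = 1 := by rw [r3]; group), c6 h0, c6 h1, c6 h2⟩
  refine ⟨φ τ * ρ * (φ τ)⁻¹, _, _, by rw [conj_pow, r3]; group, fun k hk => ?_, ?_, hC⟩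
  · simp only [cal, map_mul, map_inv, ← hal _ (hm (hm (hi hτ) hk) hτ)]
    group
  · simp only [ct3, map_mul, map_inv, hal2 _ (hm (hqT (hi hτ)).2 hτ), et]
    group

end Cfsg.Agent.H7.Asch
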