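import Cfsg.Agent.H7.Asch.ModA
import Cfsg.Agent.H7.Asch.ModM

/-!
# The second parabolic subgroup
-/

set_option autoImplicit false
set_option maxRecDepth 100000

namespace Cfsg.Agent.H7.Asch

open Subgroup H5

variable {G : Type*} [Group G] [Finite G]

theorem HA.rot {a b x y : G} (h : HA a b x y) : HA (x⁻¹ * a * x) (x * b * x⁻¹) x y := by
  obtain ⟨φ, -, rfl, rfl, rfl, rfl⟩ := h.emb
  have e : ((φ Ax)⁻¹ * φ Aa * φ Ax) ^ 2 = φ Aa ^ 2 := by simpa using congrArg φ A_rel'.2.2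
  exact ⟨by simpa using A_rel'.1.map φ, e ▸ h.ne, e ▸ h.card⟩

theorem HA.sy {a b x y : G} (h : HA a b x y) : HA a b x (y * a ^ 2) := by
  obtain ⟨φ, -, rfl, rfl, rfl, rfl⟩ := h.emb
  exact ⟨by simpa using A_rel'.2.1.map φ, h.ne, h.card⟩

theorem HM.sy {a b x y : G} (h : HM a b x y) : HM a b x (y * a ^ 2) := by
  obtain ⟨φ, -, rfl, rfl, rfl, rfl⟩ := h.emb
  exact ⟨by simpa using M_rel'.map φ, h.ne, h.card⟩

theorem HA.step {a b x y : G} (h : HA a b x y) (hf : Cj (a ^ 2) (a * b)) :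
    ∃ ρ, PA a b x y ρ ∨ PA a b x (y * a ^ 2) ρ := by
  obtain ⟨φ, hφ, rfl, rfl, rfl, rfl⟩ := h.emb
  obtain ⟨l1, l2, l3, -, l5, -⟩ := A_lit
  obtain ⟨m1, m2, m3, m4, m5, m6, m7, m8, m9, n1, n2, n3, n4, n5, n6, n7, n8, n9⟩ := Amisc
  rw [← map_pow, ← map_mul, ← l1, ← l2] at hf
  obtain ⟨q', q1, q2⟩ := exists_recip hφ m1 m2 m3 hf m5 m6 m7 m8 m9
    fun c hc d hd => Arecip c (AI_all c (Aall c) hc) d (AI_all d (Aall d) hd)
  obtain ⟨ρ, r1, r2, r3⟩ := exists_rho (s := φ As) (u := φ Au) (q := φ Aa1)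
    (by rw [← map_mul, m1, map_one]) (by rw [← map_mul, m4, map_one])
    (hφ.comm_iff.2 (hφ.comm _).symm) (conj_eq_iff_comm.2 (hφ.comm_iff.2 (hφ.comm _)))
    (by simpa using congrArg φ n5) q1 q2 fun g g1 g2 => by
      obtain ⟨k, hk, rfl⟩ := hφ.cent₂ g1 g2
      rw [← map_pow, AT_pow k ((AT_iff k (Aall k)).2 hk), map_one]
  obtain ⟨ρ, al, t, r1, hal, ht, rfl, c1, c2⟩ := enum_generic hφ m1 m4 (fun k => AT_iff k (Aall k))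
    AT_wd n1 n2 n3 n4 n5 n6 n8 n9 Aenum r1 r2 r3
  have k1 := hal _ n1
  have k3 := hal _ n3
  rw [c1] at k3
  refine ⟨ρ, c2.imp (fun c => ?_) fun c => ?_⟩
  · have k2 := hal _ n2
    rw [c.1] at k1
    rw [c.2] at k2
    simp only [l1, l3, l5, map_mul, map_inv, map_pow] at k1 k2 k3 ht
    exact ⟨r1, k1, k2, k3, ht⟩
  · have k2 := hal _ n7
    rw [c.1] at k1
    rw [c.2] at k2
    simp only [l1, l3, l5, map_mul, map_inv, map_pow] at k1 k2 k3 ht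
    exact ⟨r1, k1, k2, k3, ht⟩

theorem HM.step {a b x y : G} (h : HM a b x y) (hf : Cj (a ^ 2) (a * b)) :
    ∃ ρ, ∃ z ∈ [y, y * a ^ 2], PM a b x z ρ ∨ PE a b x z ρ := by
  obtain ⟨φ, hφ, rfl, rfl, rfl, rfl⟩ := h.emb
  obtain ⟨l1, l2, l3, -, l5, -⟩ := M_lit
  obtain ⟨m1, m2, m3, m4, m5, m6, m7, m8, m9, n1, n2, n3, n4, n5, n6, n7, n8, n9⟩ := Mmisc
  rw [← map_pow, ← map_mul, ← l1, ← l2] at hf
  obtain ⟨q', q1, q2⟩ := exists_recip hφ m1 m2 m3 hf m5 m6 m7 m8 m9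
    fun c hc d hd => Mrecip c (MI_all c (Mall c) hc) d (MI_all d (Mall d) hd)
  obtain ⟨ρ, r1, r2, r3⟩ := exists_rho (s := φ Ms) (u := φ Mu) (q := φ Ma1)
    (by rw [← map_mul, m1, map_one]) (by rw [← map_mul, m4, map_one])
    (hφ.comm_iff.2 (hφ.comm _).symm) (conj_eq_iff_comm.2 (hφ.comm_iff.2 (hφ.comm _)))
    (by simpa using congrArg φ n5) q1 q2 fun g g1 g2 => by
      obtain ⟨k, hk, rfl⟩ := hφ.cent₂ g1 g2
      rw [← map_pow, MT_pow k ((MT_iff k (Mall k)).2 hk), map_one]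
  obtain ⟨ρ, al, t, r1, hal, ht, z, hz, c1, c2⟩ := enum_generic hφ m1 m4 (fun k => MT_iff k (Mall k))
    MT_wd n1 n2 n3 n4 n5 n6 n8 n9 Menum r1 r2 r3
  have k1 := hal _ n1
  have k2 := hal z (by rcases List.mem_pair.1 hz with rfl | rfl; exacts [n2, n7])
  have k3 := hal _ n3
  rw [c1] at k1
  refine ⟨ρ, φ z, by rcases List.mem_pair.1 hz with rfl | rfl <;> simp [l1],
    c2.imp (fun c => ?_) fun c => ?_⟩
  · rw [c.1] at k2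
    rw [c.2.1] at k3
    rw [c.2.2] at ht
    simp only [l1, l3, l5, map_mul, map_inv, map_pow] at k1 k2 k3 ht
    exact ⟨r1, k1, k2, k3, ht⟩
  · rw [c.1] at k2
    rw [c.2] at k3
    simp only [l5, map_mul, map_inv] at k1 k2 k3
    exact ⟨k1, k2, k3⟩

omit [Finite G] in
theorem PA.act {φ : E AK →* G} {ρ : G} (h : PA (φ Aa) (φ Ab) (φ Ax) (φ Ay) ρ) :
    ∀ k ∈ AT, ρ * φ k * ρ⁻¹ = φ (Aal k) := by
  obtain ⟨-, e1, e2, e3, -⟩ := h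
  refine act_of_words (.cons ?_ (.cons ?_ (.cons ?_ .nil))) AT_wd <;>
    simp only [A_lit.2.2.2.2.1, map_mul, map_inv, e1, e2, e3]

theorem HA.enormal {a b x y ρ : G} (h : HA a b x y) (hρ : PA a b x y ρ)
    (h1 : ¬ Cj (a ^ 2) (x⁻¹ * a * x * (x * b * x⁻¹)))
    (h2 : ¬ Cj (a ^ 2) (x * a * x⁻¹ * (x⁻¹ * b * x))) : Concl G := by
  obtain ⟨φ, hφ, rfl, rfl, rfl, rfl⟩ := h.emb
  obtain ⟨l1, -, -, -, -, -, l7, l8, -⟩ := A_lit
  refine enormal_of_model hφ Acard Aall Adata hρ.act ?_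
  simp only [List.forall_mem_cons, l1, l7, l8, map_mul, map_inv, map_pow]
  exact ⟨h1, h2, by simp⟩

theorem M_unf : ∃ c ∈ MQ, c * c = 1 ∧ c * Mt = Mt * c ∧ ∃ d ∈ MQ, d * d = 1 ∧ d * Mt = Mt * d ∧
    c * d * c⁻¹ * d⁻¹ = Ms := by decide +kernel

theorem M_unf' : Mt ≠ Ms ∧ Mt * Mt = 1 ∧ (∀ k ∈ ME, k * Mt = Mt * k → k ∈ MQ) ∧
    ∀ c ∈ MQ, ∀ d ∈ MQ, c * d * c⁻¹ * d⁻¹ ≠ Ms * Mt := by decide +kernel

omit [Finite G] in
theorem M_unfused {φ : E MK →* G} (hφ : Emb φ Ms) : ¬ Cj (φ Ms) (φ Mt) := fun hf => by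
  obtain ⟨c, -, c1, c2, d, -, d1, d2, e⟩ := M_unf
  obtain ⟨k1, k2, k3, k4⟩ := M_unf'
  obtain ⟨q, q1, q2⟩ := exists_recip hφ Mmisc.1 Mmisc.2.1 k1 hf c1 d1 c2 d2 e
    fun c hc d hd => Mrecip c (MI_all c (Mall c) hc) d (MI_all d (Mall d) hd)
  have q3 : q * (φ Ms * φ Mt) * q⁻¹ = φ Ms := by
    calc _ = (q * φ Ms * q⁻¹) * (q * φ Mt * q⁻¹) := by group
      _ = _ := by rw [q1, q2, mul_assoc, ← map_mul, k2, map_one, mul_one]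
  have key : ∀ c, c * Mt = Mt * c → ∃ c' ∈ MQ, φ c' = q * φ c * q⁻¹ := fun c hc => by
    have h1 := hφ.comm_iff.2 hc
    obtain ⟨c', h2, h3⟩ := hφ.cent₂ (g := q * φ c * q⁻¹) (u := Mt)
      (q3 ▸ comm_conj (Commute.mul_right (hφ.comm_iff.2 (hφ.comm c)) h1).eq) (q1 ▸ comm_conj h1)
    exact ⟨c', k3 c' (Mall _) h2, h3⟩
  obtain ⟨c', c3, c4⟩ := key c c2
  obtain ⟨d', d3, d4⟩ := key d d2
  refine k4 c' c3 d' d3 (hφ.inj ?_)
  rw [map_mul φ Ms, ← q2, ← e]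
  simp only [map_mul, map_inv, c4, d4]
  group

theorem HM.enormal {a b x y ρ : G} (h : HM a b x y) (hρ : PE a b x y ρ) : Concl G := by
  obtain ⟨φ, hφ, rfl, rfl, rfl, rfl⟩ := h.emb
  obtain ⟨e1, e2, e3⟩ := hρ
  refine enormal_of_model (ρ := ρ) hφ Mcard Mall Mdata ?_ (by simpa using M_unfused hφ)
  refine act_of_words (.cons ?_ (.cons ?_ (.cons ?_ .nil))) MT_wd <;>
    simp only [M_lit.2.2.2.2.1, map_mul, map_inv, e1, e2, e3]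

end Cfsg.Agent.H7.Asch
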